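import Cfsg.Agent.Lib.OEightPlusThree.Counting

/-!
Two centres, one in the core of the other: the elementary subgroup of order 81.
-/

set_option autoImplicit false

namespace CfsgLib.O8T

open Subgroup

universe u

variable {G : Type u} [Group G]

theorem mem_sup_comm {A B : Subgroup G} (h : ∀ a ∈ A, ∀ b ∈ B, a * b = b * a) {x : G} (hx : x ∈ A ⊔ B) :
    ∃ a ∈ A, ∃ b ∈ B, x = a * b := by
  let φ : A × B →* G := MonoidHom.noncommCoprod A.subtype B.subtype fun a b => h a a.2 b b.2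
  have hr : φ.range = A ⊔ B := (MonoidHom.noncommCoprod_range _ _ _).trans (by rw [range_subtype, range_subtype])
  rw [← hr] at hx
  obtain ⟨⟨a, b⟩, rfl⟩ := hx
  exact ⟨a, a.2, b, b.2, rfl⟩

theorem zpowers_three {X : Type*} [Group X] {v x : X} (h3 : v * v * v = 1) (hx : x ∈ zpowers v) :
    x = 1 ∨ x = v ∨ x = v * v := by
  obtain ⟨n, rfl⟩ := mem_zpowers_iff.1 hx
  have hv : v ^ (3 : ℤ) = 1 := by
    rw [show (3 : ℤ) = ((3 : ℕ) : ℤ) from rfl, zpow_natCast, pow_succ, pow_two, h3]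
  have e : v ^ n = v ^ (n % 3) := by
    conv_lhs => rw [← Int.mul_ediv_add_emod n 3, zpow_add, zpow_mul, hv, one_zpow, one_mul]
  rw [e]
  rcases (show n % 3 = 0 ∨ n % 3 = 1 ∨ n % 3 = 2 by omega) with h | h | h <;> rw [h]
  · exact .inl (zpow_zero v)
  · exact .inr (.inl (zpow_one v))
  · exact .inr (.inr (zpow_two v))

/-- One centre in the core of the other. -/
structure Adj (D D' : Setting G) : Prop where
  /-- in the core -/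
  x_Q : D'.z ∈ D.Q
  /-- not central -/
  x_nZ : D'.z ∉ D.Zc

namespace Setting

variable (D : Setting G)

/-- The centralizer of a second centre in the core. -/
abbrev P (D' : Setting G) : Subgroup G := D.Q ⊓ D'.Ct

/-- The elements of the core centralized modulo the centre by the other core. -/
def J0 (D' : Setting G) : Subgroup G where
  carrier := {a | a ∈ D.Q ∧ ∀ c ∈ D'.P D, c * a * c⁻¹ * a⁻¹ ∈ D.Zc}
  one_mem' := ⟨one_mem _, fun c _ => by simp⟩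
  mul_mem' := fun {a b} ⟨ha, ha'⟩ ⟨hb, hb'⟩ => ⟨mul_mem ha hb, fun c hc => by
    have e : c * (a * b) * c⁻¹ * (a * b)⁻¹ = (c * a * c⁻¹ * a⁻¹) * (a * (c * b * c⁻¹ * b⁻¹) * a⁻¹) := by group
    rw [e, D.conj_Zc (D.Q_le_Ct ha) (hb' c hc)]
    exact mul_mem (ha' c hc) (hb' c hc)⟩
  inv_mem' := fun {a} ⟨ha, ha'⟩ => ⟨inv_mem ha, fun c hc => by
    have e : c * a⁻¹ * c⁻¹ * a⁻¹⁻¹ = a⁻¹ * (c * a * c⁻¹ * a⁻¹)⁻¹ * a⁻¹⁻¹ := by group
    rw [e, D.conj_Zc (D.Q_le_Ct (inv_mem ha)) (inv_mem (ha' c hc))]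
    exact inv_mem (ha' c hc)⟩

/-- The elementary subgroup of order 81. -/
def J (D' : Setting G) : Subgroup G := D.J0 D' ⊔ D'.J0 D

theorem J_symm (D' : Setting G) : D'.J D = D.J D' := sup_comm _ _

theorem P_le (D' : Setting G) : D.P D' ≤ D.Q := inf_le_left

theorem J0_le (D' : Setting G) : D.J0 D' ≤ D.Q := fun _ h => h.1

end Setting

namespace Adj

variable {D D' : Setting G} (A : Adj D D')

include A

theorem disj {a : G} (h1 : a ∈ D.Zc) (h2 : a ∈ D'.Zc) : a = 1 := by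
  by_contra hne
  refine A.x_nZ ?_
  rcases D'.mem_Zc.1 h2 with rfl | rfl | rfl
  · exact absurd rfl hne
  · exact h1
  · have h' := inv_mem h1
    rwa [inv_eq_of_mul_eq_one_left (a := D'.z) (b := D'.z * D'.z) (by
      rw [← mul_assoc]; exact D'.cube D'.z_Q)] at h'

theorem x_ne : D'.z ≠ 1 := D'.z_ne

variable [Finite G]

theorem card_P : Nat.card (D.P D') = 81 := D.card_centQ A.x_Q A.x_nZ

theorem P_isP : IsPGroup 3 (D.P D') := D.Q_isP.to_le inf_le_left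

theorem P_inf : D.P D' ⊓ D'.Q = D.Q ⊓ D'.Q :=
  le_antisymm (fun _ ha => ⟨ha.1.1, ha.2⟩) fun a ha =>
    ⟨⟨ha.1, mem_centralizer_singleton_iff.2 (D'.Q_z a ha.2)⟩, ha.2⟩

theorem E_comm : ∀ a ∈ D.Q ⊓ D'.Q, ∀ b ∈ D.Q ⊓ D'.Q, a * b = b * a := fun a ha b hb =>
  mul_inv_eq_iff_eq_mul.1 (mul_inv_eq_one.1 (A.disj (D.Q_comm a ha.1 b hb.1) (D'.Q_comm a ha.2 b hb.2)))

theorem E_card : Nat.card (D.Q ⊓ D'.Q : Subgroup G) = 27 := by
  refine le_antisymm (D.abelian_Q inf_le_left A.E_comm) ?_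
  have := D'.inter_index A.P_isP inf_le_right
  rw [A.P_inf, A.card_P] at this
  omega

/-- The relation is symmetric. -/
theorem symm : Adj D' D := by
  obtain ⟨a, ha, b, hb, hab⟩ : ∃ a ∈ D.P D', ∃ b ∈ D.P D', a * b ≠ b * a := by
    by_contra h
    push Not at h
    have := D.abelian_Q (B := D.P D') inf_le_left h
    rw [A.card_P] at this
    omega
  have hc1 := D.Q_comm a ha.1 b hb.1
  have hc2 := D'.comm_mem_Q A.P_isP inf_le_right ha hb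
  refine ⟨?_, fun h => D.z_ne (A.disj (mem_zpowers _) h)⟩
  rcases D.mem_Zc.1 hc1 with e | e | e <;> rw [e] at hc2
  · exact absurd (mul_inv_eq_iff_eq_mul.1 (mul_inv_eq_one.1 e)) hab
  · exact hc2
  · have := mul_mem hc2 hc2
    have h3 : D.z * D.z * (D.z * D.z) = D.z := by
      have := D.z_cube
      rw [pow_succ, pow_two] at this
      rw [← mul_assoc, this, one_mul]
    rwa [h3] at this

theorem exists_out : ∃ p ∈ D.P D', p ∉ D'.Q := by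
  by_contra h
  push Not at h
  have := Subgroup.card_le_of_le (show D.P D' ≤ D.Q ⊓ D'.Q from fun p hp => ⟨hp.1, h p hp⟩)
  rw [A.card_P, A.E_card] at this
  omega

theorem ψ_out {p : G} (hp : p ∈ D.P D') (hn : p ∉ D'.Q) :
    ∃ m : SL23, m * m * m = 1 ∧ m ≠ 1 ∧ D'.ψ ⟨p, hp.2⟩ = (m, 1) := by
  obtain ⟨⟨m, e⟩, he⟩ : ∃ v, D'.ψ ⟨p, hp.2⟩ = v := ⟨_, rfl⟩
  have h3 : ((m, e) : SX) ^ 3 = 1 := by
    rw [← he, ← map_pow, show (⟨p, hp.2⟩ : D'.Ct) ^ 3 = 1 from Subtype.ext (D.Q_exp p hp.1), map_one]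
  rw [Prod.pow_mk, Prod.mk_eq_one] at h3
  have he1 : e = 1 := by
    have := h3.2
    rwa [pow_succ, pow_two, mul2_sq, one_mul] at this
  subst he1
  refine ⟨m, ?_, fun h1 => hn ((D'.ψ_ker ⟨p, hp.2⟩).1 (by rw [he, h1]; rfl)), he⟩
  have := h3.1
  rwa [pow_succ, pow_two] at this

theorem range_P {p q : G} (hp : p ∈ D.P D') (hn : p ∉ D'.Q) (hq : q ∈ D.P D') :
    D'.ψ ⟨q, hq.2⟩ = 1 ∨ D'.ψ ⟨q, hq.2⟩ = D'.ψ ⟨p, hp.2⟩ ∨
      D'.ψ ⟨q, hq.2⟩ = D'.ψ ⟨p, hp.2⟩ * D'.ψ ⟨p, hp.2⟩ := by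
  obtain ⟨m, hm3, hm1, hm⟩ := A.ψ_out hp hn
  let f : D.P D' →* SX := D'.ψ.comp (inclusion inf_le_right)
  have hcard : Nat.card f.range ≤ 3 :=
    Base.three_SX (A.P_isP.of_surjective f.rangeRestrict f.rangeRestrict_surjective)
  have hv3 : D'.ψ ⟨p, hp.2⟩ * D'.ψ ⟨p, hp.2⟩ * D'.ψ ⟨p, hp.2⟩ = 1 := by
    rw [hm, Prod.mk_mul_mk, Prod.mk_mul_mk, hm3, mul_one, mul_one]; rfl
  have hord : orderOf (D'.ψ ⟨p, hp.2⟩) = 3 := orderOf_eq_prime (by rw [pow_succ, pow_two, hv3]) fun h => hm1 (by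
    rw [hm] at h; exact congrArg Prod.fst h)
  have hle : zpowers (D'.ψ ⟨p, hp.2⟩) ≤ f.range := zpowers_le.2 ⟨⟨p, hp⟩, rfl⟩
  have he := eq_of_le_of_card_ge hle (by rw [Nat.card_zpowers, hord]; exact hcard)
  exact zpowers_three hv3 (he.ge ⟨⟨q, hq⟩, rfl⟩)

theorem x_nQ2 : D'.z ∉ D.Q2 := by
  intro h2
  obtain ⟨I, hI4, hI⟩ := D.exists_lift4 mI sl_rels.2.2.2.2.2.2.1
  have hIc : (I : G) * D'.z = D'.z * I := D.quat_comm hI4 (by rw [hI]) h2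
  have hIC : (I : G) ∈ D'.Ct := D'.mem_Ct.2 hIc
  obtain ⟨p, hp, hpn⟩ := A.exists_out
  have hq : (I : G) * p * (I : G)⁻¹ ∈ D.P D' :=
    mem_inf.2 ⟨D.conj_Q I.2 hp.1, mul_mem (mul_mem hIC hp.2) (inv_mem hIC)⟩
  obtain ⟨m, hm3, hm1, hm⟩ := A.ψ_out hp hpn
  obtain ⟨⟨k, e⟩, hk⟩ : ∃ v, D'.ψ ⟨I, hIC⟩ = v := ⟨_, rfl⟩
  have hk4 : k * k * k * k = 1 := by
    have h := congrArg D'.ψ (show (⟨I, hIC⟩ : D'.Ct) ^ 4 = 1 from Subtype.ext hI4)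
    rw [map_pow, hk, map_one, Prod.pow_mk, Prod.mk_eq_one] at h
    have := h.1
    rwa [pow_succ, pow_succ, pow_two] at this
  have hkm : k * m * k⁻¹ = m ∨ k * m * k⁻¹ = m * m := by
    have hc : D'.ψ ⟨_, hq.2⟩ = ((k * m * k⁻¹, 1) : SX) := by
      rw [show (⟨_, hq.2⟩ : D'.Ct) = ⟨I, hIC⟩ * ⟨p, hp.2⟩ * (⟨I, hIC⟩ : D'.Ct)⁻¹ from rfl, map_mul, map_mul, map_inv,
        hk, hm]
      exact Prod.ext rfl (by simp)
    rcases A.range_P hp hpn hq with h | h | h <;> rw [hc] at h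
    · exact absurd (by simpa using congrArg Prod.fst h) hm1
    · rw [hm] at h; exact .inl (congrArg Prod.fst h)
    · rw [hm] at h; exact .inr (congrArg Prod.fst h)
  have hkk := sl_norm m hm3 hm1 k hk4 hkm
  have hII : (I : G) * I ∈ D'.Q := (D'.ψ_ker (⟨I, hIC⟩ * ⟨I, hIC⟩)).1 (by
    rw [map_mul, hk, Prod.mk_mul_mk, hkk, mul2_sq]; rfl)
  have h1 : (I : G) * I = 1 := by
    refine eq_one_sq_cube ?_ (D'.Q_exp _ hII)
    have := hI4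
    rwa [pow_succ, pow_succ, pow_two, mul_assoc] at this
  have := congrArg D.ψ (show I * I = 1 from Subtype.ext h1)
  rw [map_mul, hI, map_one, Prod.mk_mul_mk, sl_rels.1] at this
  exact sl_rels.2.2.2.2.2.1 (congrArg Prod.fst this)

theorem exists_move : ∃ c ∈ D'.P D, c ∉ D.Q ∧ ∃ y ∈ D.Q ⊓ D'.Q, c * y ≠ y * c := by
  by_contra h
  push Not at h
  obtain ⟨c, hc, hcQ⟩ := A.symm.exists_out
  have hle : (D.Q ⊓ D'.Q) ⊔ zpowers c ≤ D'.Q := sup_le inf_le_right (zpowers_le.2 hc.1)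
  have h1 := D'.abelian_Q hle (comm_sup A.E_comm
    (fun a ha b hb => by
      obtain ⟨i, rfl⟩ := mem_zpowers_iff.1 ha
      obtain ⟨j, rfl⟩ := mem_zpowers_iff.1 hb
      exact ((Commute.refl c).zpow_zpow i j).eq)
    (fun a ha b hb => by
      obtain ⟨j, rfl⟩ := mem_zpowers_iff.1 hb
      exact ((show Commute a c from (h c hc hcQ a ha).symm).zpow_right j).eq))
  have := eq_of_le_of_card_ge (le_sup_left : D.Q ⊓ D'.Q ≤ (D.Q ⊓ D'.Q) ⊔ zpowers c) (by rw [A.E_card]; exact h1)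
  exact hcQ ((this.symm ▸ mem_sup_right (mem_zpowers c) : c ∈ D.Q ⊓ D'.Q)).1

theorem move_comm {c y : G} (hc : c ∈ D'.P D) (hy : y ∈ D.Q ⊓ D'.Q) (h : c * y ≠ y * c) :
    ∀ T : Subgroup G, c * y * c⁻¹ * y⁻¹ ∈ T → D'.z ∈ T := by
  intro T hT
  rcases D'.mem_Zc.1 (D'.Q_comm c hc.1 y hy.2) with e | e | e <;> rw [e] at hT
  · exact absurd (mul_inv_eq_iff_eq_mul.1 (mul_inv_eq_one.1 e)) h
  · exact hT
  · have := mul_mem hT hT
    have h3 : D'.z * D'.z * (D'.z * D'.z) = D'.z := by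
      have := D'.z_cube
      rw [pow_succ, pow_two] at this
      rw [← mul_assoc, this, one_mul]
    rwa [h3] at this

theorem x_nQ1 : D'.z ∉ D.Q1 := by
  intro h1
  obtain ⟨c, hc, -, y, hy, hne⟩ := A.exists_move
  obtain ⟨b, hb, d, hd, rfl⟩ := D.exists_decomp hy.1
  -- the centralizer of the conjugate in the first part
  have hbx : b * D'.z = D'.z * b := by
    have h := D'.Q_z _ hy.2
    refine mul_right_cancel (b := d) ?_
    calc b * D'.z * d = b * d * D'.z := by rw [mul_assoc, D.Q1_comm_Q2 h1 hd, mul_assoc]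
      _ = D'.z * (b * d) := h
      _ = D'.z * b * d := by rw [mul_assoc]
  set F : Subgroup G := D.Q1 ⊓ centralizer ({D'.z} : Set G) with hF
  have hFA : Nat.card F ≤ 9 := by
    by_contra hgt
    have hd' : Nat.card F ∣ 3 ^ 3 := by
      have := Subgroup.card_dvd_of_le (inf_le_left : F ≤ D.Q1)
      rwa [D.card_Q1] at this
    obtain ⟨n, hn, e⟩ := (Nat.dvd_prime_pow Nat.prime_three).1 hd'
    have e2 : F = D.Q1 := eq_of_le_of_card_ge inf_le_left (by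
      rw [D.card_Q1, e]; interval_cases n <;> omega)
    exact A.x_nZ (D.centre_Q1 h1 fun a ha => (mem_centralizer_singleton_iff.1 (e2.ge ha).2).symm)
  have hA : D.Zc ⊔ D'.Zc ≤ F := sup_le
    (fun a ha => ⟨D.Zc_le_Q1 ha, mem_centralizer_singleton_iff.2 (D.comm_Zc (D.Q_z _ A.x_Q) ha).symm⟩)
    (zpowers_le.2 ⟨h1, mem_centralizer_singleton_iff.2 rfl⟩)
  have hAc : Nat.card (D.Zc ⊔ D'.Zc : Subgroup G) = 9 := by
    have := card_sup_comm D.Zc D'.Zc fun a ha b hb =>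
      (D.comm_Zc (D.Q_z _ ((zpowers_le.2 A.x_Q) hb)) ha).symm
    rw [D.card_Zc, D'.card_Zc, (eq_bot_iff.2 fun a ha => mem_bot.2 (A.disj ha.1 ha.2) : D.Zc ⊓ D'.Zc = ⊥),
      card_bot, mul_one] at this
    exact this.symm
  have hbA : b ∈ D.Zc ⊔ D'.Zc :=
    (eq_of_le_of_card_ge hA (hAc.symm ▸ hFA)).ge ⟨hb, mem_centralizer_singleton_iff.2 hbx⟩
  have hcb : c * b = b * c := by
    have : D.Zc ⊔ D'.Zc ≤ centralizer ({c} : Set G) := sup_le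
      (zpowers_le.2 (mem_centralizer_singleton_iff.2 (D.mem_Ct.1 hc.2).symm))
      (zpowers_le.2 (mem_centralizer_singleton_iff.2 (D'.Q_z c hc.1).symm))
    exact (mem_centralizer_singleton_iff.1 (this hbA)).symm
  refine A.x_nQ2 (A.move_comm hc hy hne D.Q2 ?_)
  have hcd := mul_mem (D.conj_Q2 hc.2 hd) (inv_mem hd)
  have e : c * (b * d) * c⁻¹ * (b * d)⁻¹ = b * (c * d * c⁻¹ * d⁻¹) * b⁻¹ := by
    calc c * (b * d) * c⁻¹ * (b * d)⁻¹ = (c * b) * d * c⁻¹ * d⁻¹ * b⁻¹ := by group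
      _ = b * (c * d * c⁻¹ * d⁻¹) * b⁻¹ := by rw [hcb]; group
  rw [e, D.Q1_comm_Q2 hb hcd, mul_inv_cancel_right]
  exact hcd

/-- The other core moves both parts modulo the centre. -/
theorem moves : (∃ a ∈ D.Q1, a ∉ D.J0 D') ∧ (∃ a ∈ D.Q2, a ∉ D.J0 D') := by
  obtain ⟨c, hc, -, y, hy, hne⟩ := A.exists_move
  obtain ⟨b, hb, d, hd, rfl⟩ := D.exists_decomp hy.1
  have e : c * (b * d) * c⁻¹ * (b * d)⁻¹ = (c * b * c⁻¹ * b⁻¹) * (b * (c * d * c⁻¹ * d⁻¹) * b⁻¹) := by group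
  constructor <;> by_contra h <;> push Not at h
  · refine A.x_nQ2 (A.move_comm hc hy hne D.Q2 ?_)
    have hcd := mul_mem (D.conj_Q2 hc.2 hd) (inv_mem hd)
    rw [e, D.Q1_comm_Q2 hb hcd, mul_inv_cancel_right]
    exact mul_mem (D.Zc_le_Q2 ((h b hb).2 c hc)) hcd
  · refine A.x_nQ1 (A.move_comm hc hy hne D.Q1 ?_)
    rw [e, D.conj_Zc (D.Q_le_Ct hb.1) ((h d hd).2 c hc)]
    exact mul_mem (mul_mem (D.conj_Q1 hc.2 hb) (inv_mem hb)) (D.Zc_le_Q1 ((h d hd).2 c hc))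

theorem mem_J0_of {a c : G} (ha : a ∈ D.Q) (hc : c ∈ D'.P D) (hcQ : c ∉ D.Q)
    (h : c * a * c⁻¹ * a⁻¹ ∈ D.Zc) : a ∈ D.J0 D' := by
  refine ⟨ha, ?_⟩
  let S : Subgroup G :=
    { carrier := {d | d ∈ D.Ct ∧ d * a * d⁻¹ * a⁻¹ ∈ D.Zc}
      one_mem' := ⟨one_mem _, by simp⟩
      mul_mem' := fun {d e} ⟨hd, hd'⟩ ⟨he, he'⟩ => ⟨mul_mem hd he, by
        have e1 : d * e * a * (d * e)⁻¹ * a⁻¹ = (d * (e * a * e⁻¹ * a⁻¹) * d⁻¹) * (d * a * d⁻¹ * a⁻¹) := by group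
        rw [e1, D.conj_Zc hd he']
        exact mul_mem he' hd'⟩
      inv_mem' := fun {d} ⟨hd, hd'⟩ => ⟨inv_mem hd, by
        have e1 : d⁻¹ * a * d⁻¹⁻¹ * a⁻¹ = d⁻¹ * (d * a * d⁻¹ * a⁻¹)⁻¹ * d⁻¹⁻¹ := by group
        rw [e1, D.conj_Zc (inv_mem hd) (inv_mem hd')]
        exact inv_mem hd'⟩ }
  have hle : (D.Q ⊓ D'.Q) ⊔ zpowers c ≤ D'.P D ⊓ S := by
    refine le_inf (sup_le (fun e he => ⟨he.2, D.Q_le_Ct he.1⟩) (zpowers_le.2 hc))
      (sup_le (fun e he => ⟨D.Q_le_Ct he.1, D.Q_comm e he.1 a ha⟩) (zpowers_le.2 ⟨hc.2, h⟩))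
  have hbig : Nat.card (D'.P D) ≤ Nat.card ((D.Q ⊓ D'.Q) ⊔ zpowers c : Subgroup G) := by
    obtain ⟨n, hn, e⟩ := D'.dvd_243 ((hle.trans inf_le_left).trans inf_le_left)
    have hlt : 27 < Nat.card ((D.Q ⊓ D'.Q) ⊔ zpowers c : Subgroup G) := by
      refine A.E_card.symm.trans_lt (lt_of_le_of_ne (card_le_of_le le_sup_left) fun e => hcQ ?_)
      exact ((eq_of_le_of_card_ge le_sup_left e.ge).ge (mem_sup_right (mem_zpowers c))).1
    rw [A.symm.card_P]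
    rw [e] at hlt ⊢
    interval_cases n <;> omega
  exact fun d hd => (hle ((eq_of_le_of_card_ge (hle.trans inf_le_left) hbig).ge hd)).2.2

theorem A_le_J0 : D.Zc ⊔ D'.Zc ≤ D.J0 D' := by
  refine sup_le (fun a ha => ⟨D.Zc_le_Q ha, fun c hc => ?_⟩) (zpowers_le.2 ⟨A.x_Q, fun c hc => ?_⟩)
  · rw [D.conj_Zc hc.2 ha, mul_inv_cancel]; exact one_mem _
  · rw [D'.Q_z c hc.1, mul_inv_cancel_right, mul_inv_cancel]; exact one_mem _

theorem card_A : Nat.card (D.Zc ⊔ D'.Zc : Subgroup G) = 9 := by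
  have := card_sup_comm D.Zc D'.Zc fun a ha b hb =>
    (D.comm_Zc (D.Q_z _ ((zpowers_le.2 A.x_Q) hb)) ha).symm
  rw [D.card_Zc, D'.card_Zc, (eq_bot_iff.2 fun a ha => mem_bot.2 (A.disj ha.1 ha.2) : D.Zc ⊓ D'.Zc = ⊥),
    card_bot, mul_one] at this
  exact this.symm

/-- The components of the conjugate are centralized modulo the centre. -/
theorem components {b d : G} (hb : b ∈ D.Q1) (hd : d ∈ D.Q2) (h : b * d ∈ D.J0 D') :
    b ∈ D.J0 D' ∧ d ∈ D.J0 D' := by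
  obtain ⟨c, hc, hcQ⟩ := A.symm.exists_out
  have hcb := mul_mem (D.conj_Q1 hc.2 hb) (inv_mem hb)
  have hcd := mul_mem (D.conj_Q2 hc.2 hd) (inv_mem hd)
  have e : c * (b * d) * c⁻¹ * (b * d)⁻¹ = (c * b * c⁻¹ * b⁻¹) * (c * d * c⁻¹ * d⁻¹) := by
    calc c * (b * d) * c⁻¹ * (b * d)⁻¹ = (c * b * c⁻¹ * b⁻¹) * (b * (c * d * c⁻¹ * d⁻¹) * b⁻¹) := by group
      _ = _ := by rw [D.Q1_comm_Q2 hb hcd, mul_inv_cancel_right]
  have hz := h.2 c hc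
  rw [e] at hz
  have hb' : c * b * c⁻¹ * b⁻¹ ∈ D.Zc := by
    rw [← D.Q1_inf_Q2]
    refine mem_inf.2 ⟨hcb, ?_⟩
    have : c * b * c⁻¹ * b⁻¹ = (c * b * c⁻¹ * b⁻¹) * (c * d * c⁻¹ * d⁻¹) * (c * d * c⁻¹ * d⁻¹)⁻¹ := by group
    rw [this]
    exact mul_mem (D.Zc_le_Q2 hz) (inv_mem hcd)
  exact ⟨A.mem_J0_of hb.1 hc hcQ hb', A.mem_J0_of (D.Q2_le hd) hc hcQ ((mul_mem_cancel_left hb').1 hz)⟩

theorem card_parts :
    Nat.card (D.J0 D' ⊓ D.Q1 : Subgroup G) = 9 ∧ Nat.card (D.J0 D' ⊓ D.Q2 : Subgroup G) = 9 := by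
  obtain ⟨b, hb, d, hd, e⟩ := D.exists_decomp A.x_Q
  obtain ⟨hbJ, hdJ⟩ := A.components hb hd (e ▸ A.A_le_J0 (mem_sup_right (mem_zpowers _)))
  obtain ⟨h1, h2⟩ := A.moves
  have key : ∀ (T : Subgroup G) (a : G), Nat.card T = 27 → D.Zc ≤ T → a ∈ T → a ∈ D.J0 D' → a ∉ D.Zc →
      (∃ m ∈ T, m ∉ D.J0 D') → Nat.card (D.J0 D' ⊓ T : Subgroup G) = 9 := by
    intro T a hT hZ haT haJ haZ ⟨m, hm, hmJ⟩
    have hd' : Nat.card (D.J0 D' ⊓ T : Subgroup G) ∣ 3 ^ 3 := by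
      have := Subgroup.card_dvd_of_le (inf_le_right : D.J0 D' ⊓ T ≤ T)
      rwa [hT] at this
    obtain ⟨n, hn, e⟩ := (Nat.dvd_prime_pow Nat.prime_three).1 hd'
    have hle : D.Zc ≤ D.J0 D' ⊓ T := le_inf (le_sup_left.trans A.A_le_J0) hZ
    have hgt : 3 < Nat.card (D.J0 D' ⊓ T : Subgroup G) := by
      refine D.card_Zc.symm.trans_lt (lt_of_le_of_ne (card_le_of_le hle) fun e => haZ ?_)
      rw [eq_of_le_of_card_ge hle e.ge]; exact ⟨haJ, haT⟩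
    have hne : Nat.card (D.J0 D' ⊓ T : Subgroup G) ≠ 27 := fun e =>
      hmJ ((eq_of_le_of_card_ge inf_le_right (by rw [hT, e])).ge hm : m ∈ D.J0 D' ⊓ T).1
    rw [e] at hgt hne ⊢
    interval_cases n <;> omega
  refine ⟨key _ b D.card_Q1 D.Zc_le_Q1 hb hbJ (fun h => A.x_nQ2 ?_) h1,
    key _ d D.card_Q2 D.Zc_le_Q2 hd hdJ (fun h => A.x_nQ1 ?_) h2⟩
  · rw [e]; exact mul_mem (D.Zc_le_Q2 h) hd
  · rw [e]; exact mul_mem hb (D.Zc_le_Q1 h)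

theorem J0_eq : D.J0 D' = (D.J0 D' ⊓ D.Q1) ⊔ (D.J0 D' ⊓ D.Q2) := by
  refine le_antisymm (fun a ha => ?_) (sup_le inf_le_left inf_le_left)
  obtain ⟨b, hb, d, hd, rfl⟩ := D.exists_decomp ha.1
  obtain ⟨h1, h2⟩ := A.components hb hd ha
  exact mul_mem (mem_sup_left ⟨h1, hb⟩) (mem_sup_right ⟨h2, hd⟩)

theorem J0_comm : ∀ a ∈ D.J0 D', ∀ b ∈ D.J0 D', a * b = b * a := by
  rw [A.J0_eq]
  exact comm_sup (comm_of_card_nine A.card_parts.1) (comm_of_card_nine A.card_parts.2)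
    fun a ha b hb => D.Q1_comm_Q2 ha.2 hb.2

theorem card_J0 : Nat.card (D.J0 D') = 27 := by
  have h := card_sup_comm (D.J0 D' ⊓ D.Q1) (D.J0 D' ⊓ D.Q2) fun a ha b hb => D.Q1_comm_Q2 ha.2 hb.2
  have he : (D.J0 D' ⊓ D.Q1) ⊓ (D.J0 D' ⊓ D.Q2) = D.Zc := by
    refine le_antisymm (fun a ha => D.Q1_inf_Q2.le ⟨ha.1.2, ha.2.2⟩) ?_
    exact le_inf (le_inf (le_sup_left.trans A.A_le_J0) D.Zc_le_Q1) (le_inf (le_sup_left.trans A.A_le_J0) D.Zc_le_Q2)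
  rw [← A.J0_eq, he, A.card_parts.1, A.card_parts.2, D.card_Zc] at h
  omega

theorem J0_le_P : D.J0 D' ≤ D.P D' := fun a ha =>
  ⟨ha.1, D'.mem_Ct.2 (A.J0_comm a ha _ (A.A_le_J0 (mem_sup_right (mem_zpowers _))))⟩

theorem J0_inf : D.J0 D' ⊓ D'.Q = D.Zc ⊔ D'.Zc := by
  have hA : D.Zc ⊔ D'.Zc ≤ D.J0 D' ⊓ D'.Q :=
    le_inf A.A_le_J0 (sup_le (zpowers_le.2 A.symm.x_Q) (zpowers_le.2 D'.z_Q))
  refine (eq_of_le_of_card_ge hA ?_).symm
  rw [A.card_A]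
  by_contra hgt
  have hle : D.J0 D' ⊓ D'.Q ≤ D.Q ⊓ D'.Q := inf_le_inf_right _ (D.J0_le D')
  have hd : Nat.card (D.J0 D' ⊓ D'.Q : Subgroup G) ∣ 3 ^ 3 := by
    have := Subgroup.card_dvd_of_le hle
    rwa [A.E_card] at this
  obtain ⟨n, hn, e⟩ := (Nat.dvd_prime_pow Nat.prime_three).1 hd
  have heq := eq_of_le_of_card_ge hle (by rw [A.E_card]; rw [e] at hgt ⊢; interval_cases n <;> omega)
  obtain ⟨c, hc, -, y, hy, hne⟩ := A.exists_move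
  exact hne (mul_inv_eq_iff_eq_mul.1 (mul_inv_eq_one.1
    (A.disj ((heq.ge hy).1.2 c hc) (D'.Q_comm c hc.1 y hy.2))))

theorem J_comm : ∀ a ∈ D.J D', ∀ b ∈ D.J D', a * b = b * a := by
  refine comm_sup A.J0_comm A.symm.J0_comm fun a ha b hb => ?_
  refine (mul_inv_eq_iff_eq_mul.1 (mul_inv_eq_one.1 (A.disj (ha.2 b (A.symm.J0_le_P hb)) ?_))).symm
  have h := inv_mem (hb.2 a (A.J0_le_P ha))
  have e : (a * b * a⁻¹ * b⁻¹)⁻¹ = b * a * b⁻¹ * a⁻¹ := by group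
  rwa [e] at h

theorem J0_le_J : D.J0 D' ≤ D.J D' := le_sup_left

theorem card_J : Nat.card (D.J D') = 81 := by
  have h := card_sup_comm (D.J0 D') (D'.J0 D) fun a ha b hb => A.J_comm a (le_sup_left (a := D.J0 D') ha) b (le_sup_right (b := D'.J0 D) hb)
  have he : D.J0 D' ⊓ D'.J0 D = D.Zc ⊔ D'.Zc := le_antisymm
    ((inf_le_inf_left _ (D'.J0_le D)).trans A.J0_inf.le) (le_inf A.A_le_J0 (sup_comm D.Zc D'.Zc ▸ A.symm.A_le_J0))
  rw [A.card_J0, A.symm.card_J0, he, A.card_A] at h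
  change Nat.card (D.J0 D' ⊔ D'.J0 D : Subgroup G) = 81
  omega

theorem J_exp {a : G} (ha : a ∈ D.J D') : a ^ 3 = 1 := by
  obtain ⟨b, hb, d, hd, rfl⟩ := mem_sup_comm
    (fun a ha b hb => A.J_comm a (mem_sup_left ha) b (mem_sup_right hb)) ha
  rw [(show Commute b d from A.J_comm b (mem_sup_left hb) d (mem_sup_right hd)).mul_pow, D.Q_exp b hb.1,
    D'.Q_exp d hd.1, one_mul]

theorem exists_J_out : ∃ w ∈ D'.J0 D, w ∉ D.Q := by
  by_contra h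
  push Not at h
  have := Subgroup.card_le_of_le (show D'.J0 D ≤ D'.Zc ⊔ D.Zc from fun w hw => A.symm.J0_inf.le ⟨hw, h w hw⟩)
  rw [A.symm.card_J0, A.symm.card_A] at this
  omega

end Adj

end CfsgLib.O8T
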