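import Cfsg.Agent.Lib.OEightPlusThree.Unique
import Mathlib.Data.ZMod.Basic

/-!
Coordinates on the elementary subgroup of order 81 and the action of its normalizer.
-/

set_option autoImplicit false

namespace CfsgLib.O8T

open Subgroup

universe u

/-- Coordinates. -/
abbrev V4 := ZMod 3 × ZMod 3 × ZMod 3 × ZMod 3

/-- A linear map, given by the images of the basis. -/
abbrev M4 := V4 × V4 × V4 × V4

/-- Application. -/
def app (M : M4) (v : V4) : V4 :=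
  (v.1 * M.1.1 + v.2.1 * M.2.1.1 + v.2.2.1 * M.2.2.1.1 + v.2.2.2 * M.2.2.2.1,
    v.1 * M.1.2.1 + v.2.1 * M.2.1.2.1 + v.2.2.1 * M.2.2.1.2.1 + v.2.2.2 * M.2.2.2.2.1,
    v.1 * M.1.2.2.1 + v.2.1 * M.2.1.2.2.1 + v.2.2.1 * M.2.2.1.2.2.1 + v.2.2.2 * M.2.2.2.2.2.1,
    v.1 * M.1.2.2.2 + v.2.1 * M.2.1.2.2.2 + v.2.2.1 * M.2.2.1.2.2.2 + v.2.2.2 * M.2.2.2.2.2.2)

/-- Composition. -/
def comp (M N : M4) : M4 := (app M N.1, app M N.2.1, app M N.2.2.1, app M N.2.2.2)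

/-- The identity. -/
def idM : M4 := ((1, 0, 0, 0), (0, 1, 0, 0), (0, 0, 1, 0), (0, 0, 0, 1))

theorem app_idM (v : V4) : app idM v = v := by
  simp [app, idM]

theorem app_comp (M N : M4) (v : V4) : app (comp M N) v = app M (app N v) := by
  simp only [app, comp]
  ext <;> simp only [] <;> ring

theorem app_add (M : M4) (v u : V4) : app M (v + u) = app M v + app M u := by
  simp only [app]
  ext <;> simp only [Prod.fst_add, Prod.snd_add] <;> ring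

theorem app_basis (M : M4) : app M (1, 0, 0, 0) = M.1 ∧ app M (0, 1, 0, 0) = M.2.1 ∧
    app M (0, 0, 1, 0) = M.2.2.1 ∧ app M (0, 0, 0, 1) = M.2.2.2 := by
  refine ⟨?_, ?_, ?_, ?_⟩ <;> simp [app]

variable {G : Type u} [Group G]

/-- The first steps in the choice of the coordinates. -/
structure Pre (D D' : Setting G) (w y : G) : Prop where
  w_J : w ∈ D'.J0 D
  w_Q : w ∉ D.Q
  y_E : y ∈ D.Q ⊓ D'.Q
  y_w : y * w * y⁻¹ * w⁻¹ = D'.z

namespace Adj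

variable {D D' : Setting G} (A : Adj D D')

include A

variable [Finite G]

theorem exists_pre : ∃ w y : G, Pre D D' w y := by
  obtain ⟨w, hw, hwQ⟩ := A.exists_J_out
  obtain ⟨y, hy, hne⟩ : ∃ y ∈ D.Q ⊓ D'.Q, y * w * y⁻¹ * w⁻¹ ≠ 1 := by
    by_contra h
    push Not at h
    have hle : D.Q ⊓ D'.Q ≤ D.Zc ⊔ D'.Zc := fun y hy => A.J0_inf.le ⟨A.mem_J0_of hy.1 (A.w_P hw) hwQ (by
      have := mul_inv_eq_iff_eq_mul.1 (mul_inv_eq_one.1 (h y hy))
      rw [← this, mul_inv_cancel_right, mul_inv_cancel]; exact one_mem _), hy.2⟩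
    have := Subgroup.card_le_of_le hle
    rw [A.E_card, A.card_A] at this
    omega
  rcases D'.mem_Zc.1 (D'.Q_comm y hy.2 w hw.1) with e | e | e
  · exact absurd e hne
  · exact ⟨w, y, hw, hwQ, hy, e⟩
  · refine ⟨w, y * y, hw, hwQ, mul_mem hy hy, ?_⟩
    have hy0 : y * D'.z = D'.z * y := D'.Q_z y hy.2
    have e1 : y * y * w * (y * y)⁻¹ * w⁻¹ = y * (y * w * y⁻¹ * w⁻¹) * y⁻¹ * (y * w * y⁻¹ * w⁻¹) := by group
    rw [e1, e, ← mul_assoc y, hy0, mul_assoc D'.z y, hy0]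
    calc D'.z * (D'.z * y) * y⁻¹ * (D'.z * D'.z) = D'.z * D'.z * D'.z * D'.z := by group
      _ = D'.z := by rw [D'.cube D'.z_Q, one_mul]

end Adj

/-- The choice of the coordinates. -/
structure Basis (G : Type u) [Group G] where
  /-- the first setting -/
  D : Setting G
  /-- the second setting -/
  D' : Setting G
  /-- adjacent -/
  adj : Adj D D'
  /-- the last basis element -/
  w : G
  /-- an element of the first part -/
  a : G
  /-- an element of the second part -/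
  b : G
  /-- a basis element in the first part -/
  q : G
  /-- a basis element in the second part -/
  x : G
  w_J : w ∈ D'.J0 D
  w_Q : w ∉ D.Q
  a_Q : a ∈ D.Q1
  b_Q : b ∈ D.Q2
  q_J : q ∈ D.J0 D'
  x_J : x ∈ D.J0 D'
  q_Q : q ∈ D.Q1
  x_Q : x ∈ D.Q2
  q_nZ : q ∉ D.Zc
  x_nZ : x ∉ D.Zc
  x0_eq : D'.z = q * x
  a_w : a * w * a⁻¹ = q * w
  b_w : b * w * b⁻¹ = x * w
  a_q : a * q * a⁻¹ = q * (D.z * D.z)
  b_x : b * x * b⁻¹ = x * D.z
  ab_Q : a * b ∈ D'.Q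

namespace Adj

variable {D D' : Setting G} (A : Adj D D')

include A

variable [Finite G]

theorem pre_parts {w y : G} (P : Pre D D' w y) {a b : G} (ha : a ∈ D.Q1) (hb : b ∈ D.Q2) (hy : y = a * b) :
    let q := a * w * a⁻¹ * w⁻¹
    let x := b * w * b⁻¹ * w⁻¹
    q ∈ D.J0 D' ∧ x ∈ D.J0 D' ∧ q ∈ D.Q1 ∧ x ∈ D.Q2 ∧ q ∉ D.Zc ∧ x ∉ D.Zc ∧ D'.z = q * x ∧
      a * q * a⁻¹ * q⁻¹ ∈ D.Zc ∧ a * q * a⁻¹ * q⁻¹ ≠ 1 := by
  intro q x
  have hwC : w ∈ D.Ct := (A.w_P P.w_J).2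
  have hq : q ∈ D.Q1 := by
    have e : q = a * (w * a⁻¹ * w⁻¹) := by simp only [q]; group
    rw [e]; exact mul_mem ha (D.conj_Q1 hwC (inv_mem ha))
  have hx : x ∈ D.Q2 := by
    have e : x = b * (w * b⁻¹ * w⁻¹) := by simp only [x]; group
    rw [e]; exact mul_mem hb (D.conj_Q2 hwC (inv_mem hb))
  have he : D'.z = q * x := by
    rw [← P.y_w, hy]
    have e : a * b * w * (a * b)⁻¹ * w⁻¹ = (a * x * a⁻¹) * q := by simp only [q, x]; group
    rw [e, D.Q1_comm_Q2 ha hx, mul_inv_cancel_right, D.Q1_comm_Q2 hq hx]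
  obtain ⟨hqJ, hxJ⟩ := A.components hq hx (he ▸ A.A_le_J0 (mem_sup_right (mem_zpowers _)))
  have hqz : q ∉ D.Zc := fun h => A.x_nQ2 (he ▸ mul_mem (D.Zc_le_Q2 h) hx)
  have hxz : x ∉ D.Zc := fun h => A.x_nQ1 (he ▸ mul_mem hq (D.Zc_le_Q1 h))
  refine ⟨hqJ, hxJ, hq, hx, hqz, hxz, he, D.Q_comm a ha.1 q hq.1, fun h1 => ?_⟩
  have hcom : a * q = q * a := mul_inv_eq_iff_eq_mul.1 (mul_inv_eq_one.1 h1)
  have hle : (D.J0 D' ⊓ D.Q1) ⊔ zpowers a ≤ D.Q1 ⊓ centralizer ({q} : Set G) := sup_le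
    (fun c hc => ⟨hc.2, mem_centralizer_singleton_iff.2 (A.J0_comm c hc.1 q hqJ)⟩)
    (zpowers_le.2 ⟨ha, mem_centralizer_singleton_iff.2 hcom⟩)
  have hd : Nat.card ((D.J0 D' ⊓ D.Q1) ⊔ zpowers a : Subgroup G) ∣ 3 ^ 3 := by
    have := Subgroup.card_dvd_of_le (hle.trans inf_le_left)
    rwa [D.card_Q1] at this
  obtain ⟨n, hn, e⟩ := (Nat.dvd_prime_pow Nat.prime_three).1 hd
  have hgt : 9 < Nat.card ((D.J0 D' ⊓ D.Q1) ⊔ zpowers a : Subgroup G) := by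
    refine A.card_parts.1.symm.trans_lt (lt_of_le_of_ne (card_le_of_le le_sup_left) fun e => ?_)
    have haJ : a ∈ D.J0 D' := ((eq_of_le_of_card_ge le_sup_left e.ge).ge (mem_sup_right (mem_zpowers a))).1
    refine hqz ?_
    have := A.J_comm a (A.J0_le_J haJ) w (mem_sup_right P.w_J)
    simp only [q]
    rw [this, mul_inv_cancel_right, mul_inv_cancel]
    exact one_mem _
  have heq := eq_of_le_of_card_ge (hle.trans inf_le_left) (by rw [D.card_Q1, e]; rw [e] at hgt; interval_cases n <;> omega)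
  refine hqz (D.centre_Q1 hq fun c hc => ?_)
  exact (mem_centralizer_singleton_iff.1 (hle (heq.ge hc)).2).symm

theorem exists_basis : ∃ B : Basis G, B.D = D ∧ B.D' = D' := by
  obtain ⟨w, y, P⟩ := A.exists_pre
  obtain ⟨a, ha, b, hb, hy⟩ := D.exists_decomp P.y_E.1
  obtain ⟨hqJ, hxJ, hq, hx, hqz, hxz, he, hcz, hc1⟩ := A.pre_parts P ha hb hy
  -- normalize the sign
  obtain ⟨w, y, P, a, ha, b, hb, hy, hs⟩ : ∃ w y, Pre D D' w y ∧ ∃ a ∈ D.Q1, ∃ b ∈ D.Q2, y = a * b ∧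
      a * (a * w * a⁻¹ * w⁻¹) * a⁻¹ * (a * w * a⁻¹ * w⁻¹)⁻¹ = D.z * D.z := by
    set q := a * w * a⁻¹ * w⁻¹ with hqd
    rcases D.mem_Zc.1 hcz with e | e | e
    · exact absurd e hc1
    · have hy' : y⁻¹ = a⁻¹ * b⁻¹ := by
        rw [hy, mul_inv_rev]
        exact (D.Q1_comm_Q2 (inv_mem ha) (inv_mem hb)).symm
      have hwJ : w ∈ D.J D' := mem_sup_right P.w_J
      refine ⟨w⁻¹, y⁻¹, ⟨inv_mem P.w_J, fun h => P.w_Q (inv_mem_iff.1 h), inv_mem P.y_E, ?_⟩,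
        a⁻¹, inv_mem ha, b⁻¹, inv_mem hb, hy', ?_⟩
      · have e1 : y⁻¹ * w⁻¹ * y⁻¹⁻¹ * w⁻¹⁻¹ = (w * y)⁻¹ * (y * w * y⁻¹ * w⁻¹) * (w * y) := by group
        rw [e1, P.y_w]
        have hc : (w * y) * D'.z = D'.z * (w * y) := by
          rw [mul_assoc, D'.Q_z y P.y_E.2, ← mul_assoc, D'.Q_z w P.w_J.1, mul_assoc]
        rw [mul_assoc, ← hc, inv_mul_cancel_left]
      · have hzJ : D.z ∈ D.J0 D' := A.A_le_J0 (mem_sup_left (mem_zpowers _))
        have haz : a * D.z = D.z * a := D.Q_z a ha.1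
        have e2 : a⁻¹ * q * a = q * (D.z * D.z) := by
          have : a * q * a⁻¹ = D.z * q := by rw [← e]; group
          calc a⁻¹ * q * a = a⁻¹ * (D.z⁻¹ * (a * q * a⁻¹)) * a := by rw [this, inv_mul_cancel_left]
            _ = D.z⁻¹ * q := by
              rw [show a⁻¹ * (D.z⁻¹ * (a * q * a⁻¹)) * a = (a⁻¹ * D.z⁻¹ * a) * q by group,
                show a⁻¹ * D.z⁻¹ * a = D.z⁻¹ from by
                  rw [mul_assoc, ← (show Commute a D.z⁻¹ from (show Commute a D.z from haz).inv_right).eq,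
                    inv_mul_cancel_left]]
            _ = q * (D.z * D.z) := by
              rw [← D.inv_eq_sq D.z_Q]
              exact A.J0_comm _ (inv_mem hzJ) q hqJ
        have hqJ' : a⁻¹ * q * a ∈ D.J D' := by rw [e2]; exact A.J0_le_J (mul_mem hqJ (mul_mem hzJ hzJ))
        have e3 : a⁻¹ * w⁻¹ * a⁻¹⁻¹ * w⁻¹⁻¹ = w⁻¹ * (a⁻¹ * q * a) * w := by simp only [hqd]; group
        have e4 : w⁻¹ * (a⁻¹ * q * a) * w = a⁻¹ * q * a := by
          rw [mul_assoc, A.J_comm _ hqJ' w hwJ, inv_mul_cancel_left]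
        rw [e3, e4, e2]
        calc a⁻¹ * (q * (D.z * D.z)) * a⁻¹⁻¹ * (q * (D.z * D.z))⁻¹
            = (a⁻¹ * q * a) * (a⁻¹ * (D.z * D.z) * a) * (q * (D.z * D.z))⁻¹ := by group
          _ = q * (D.z * D.z) * (D.z * D.z) * (q * (D.z * D.z))⁻¹ := by
            rw [e2, show a⁻¹ * (D.z * D.z) * a = D.z * D.z from by
              rw [mul_assoc, ← (show Commute a (D.z * D.z) from (show Commute a D.z from haz).mul_right haz).eq,
                inv_mul_cancel_left]]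
          _ = D.z * D.z := by
            rw [A.J0_comm _ (mul_mem hqJ (mul_mem hzJ hzJ)) _ (mul_mem hzJ hzJ), mul_inv_cancel_right]
    · exact ⟨w, y, P, a, ha, b, hb, hy, e⟩
  obtain ⟨hqJ, hxJ, hq, hx, hqz, hxz, he, hcz, hc1⟩ := A.pre_parts P ha hb hy
  set q := a * w * a⁻¹ * w⁻¹ with hqd
  set x := b * w * b⁻¹ * w⁻¹ with hxd
  have hzJ : D.z ∈ D.J0 D' := A.A_le_J0 (mem_sup_left (mem_zpowers _))
  have haq : a * q * a⁻¹ = q * (D.z * D.z) := by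
    rw [← A.J0_comm _ (mul_mem hzJ hzJ) q hqJ, ← hs]; group
  refine ⟨{ D := D, D' := D', adj := A, w := w, a := a, b := b, q := q, x := x, w_J := P.w_J, w_Q := P.w_Q,
            a_Q := ha, b_Q := hb, q_J := hqJ, x_J := hxJ, q_Q := hq, x_Q := hx, q_nZ := hqz, x_nZ := hxz,
            x0_eq := he, a_w := by simp [hqd, mul_assoc], b_w := by simp [hxd, mul_assoc], a_q := haq,
            b_x := ?_, ab_Q := hy ▸ P.y_E.2 }, rfl, rfl⟩
  -- the element of the intersection fixes the conjugate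
  have hy0 : a * b * (q * x) = q * x * (a * b) := by rw [← he, ← hy]; exact D'.Q_z y P.y_E.2
  have h1 : (a * q * a⁻¹) * (b * x * b⁻¹) = q * x := by
    calc (a * q * a⁻¹) * (b * x * b⁻¹) = a * (b * q * b⁻¹) * a⁻¹ * (b * x * b⁻¹) := by
          rw [← D.Q1_comm_Q2 hq hb, mul_inv_cancel_right]
      _ = a * (b * q * b⁻¹) * (b * x * b⁻¹) * a⁻¹ := by
          rw [mul_assoc (a * (b * q * b⁻¹)), D.Q1_comm_Q2 (inv_mem ha) (D.conj_Q2 (D.Q_le_Ct (D.Q2_le hb)) hx),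
            ← mul_assoc]
      _ = a * b * (q * x) * (a * b)⁻¹ := by group
      _ = q * x := by rw [hy0, mul_inv_cancel_right]
  rw [haq, mul_assoc] at h1
  have h2 : D.z * D.z * (b * x * b⁻¹) = x := mul_left_cancel h1
  calc b * x * b⁻¹ = D.z * (D.z * D.z * (b * x * b⁻¹)) := by
        rw [← mul_assoc D.z, ← mul_assoc D.z D.z D.z, D.cube D.z_Q, one_mul]
    _ = x * D.z := by rw [h2]; exact A.J0_comm _ hzJ x hxJ

end Adj

namespace Basis

variable [Finite G] (B : Basis G)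

theorem z_J : B.D.z ∈ B.D.J B.D' := B.adj.J0_le_J (B.adj.A_le_J0 (mem_sup_left (mem_zpowers _)))

theorem w_mem : B.w ∈ B.D.J B.D' := mem_sup_right B.w_J

theorem q_mem : B.q ∈ B.D.J B.D' := B.adj.J0_le_J B.q_J

theorem x_mem : B.x ∈ B.D.J B.D' := B.adj.J0_le_J B.x_J

/-- The element with given coordinates. -/
def el (v : V4) : G := B.D.z ^ v.1.val * B.q ^ v.2.1.val * B.x ^ v.2.2.1.val * B.w ^ v.2.2.2.val

theorem el_mem (v : V4) : B.el v ∈ B.D.J B.D' :=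
  mul_mem (mul_mem (mul_mem (pow_mem B.z_J _) (pow_mem B.q_mem _)) (pow_mem B.x_mem _)) (pow_mem B.w_mem _)

theorem el_basis : B.el (1, 0, 0, 0) = B.D.z ∧ B.el (0, 1, 0, 0) = B.q ∧ B.el (0, 0, 1, 0) = B.x ∧
    B.el (0, 0, 0, 1) = B.w := by
  have h1 : (1 : ZMod 3).val = 1 := rfl
  have h0 : (0 : ZMod 3).val = 0 := rfl
  refine ⟨?_, ?_, ?_, ?_⟩ <;> simp [el, h1, h0]

theorem pow_val {c : G} (hc : c ^ 3 = 1) (i j : ZMod 3) : c ^ (i + j).val = c ^ i.val * c ^ j.val := by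
  rw [← pow_add, ZMod.val_add]
  exact (pow_eq_pow_mod _ hc).symm

theorem el_add (v u : V4) : B.el (v + u) = B.el v * B.el u := by
  have hJ := B.adj.J_comm
  have e : ∀ c ∈ B.D.J B.D', ∀ i j : ZMod 3, c ^ (i + j).val = c ^ i.val * c ^ j.val := fun c hc =>
    pow_val (B.adj.J_exp hc)
  simp only [el, Prod.fst_add, Prod.snd_add]
  rw [e _ B.z_J, e _ B.q_mem, e _ B.x_mem, e _ B.w_mem]
  have c4 : ∀ a b c d : B.D.J B.D', a * b * (c * d) = a * c * (b * d) := by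
    letI : CommGroup (B.D.J B.D') := { (inferInstance : Group (B.D.J B.D')) with
      mul_comm := fun a b => Subtype.ext (hJ a a.2 b b.2) }
    exact fun a b c d => mul_mul_mul_comm a b c d
  have m4 : ∀ a ∈ B.D.J B.D', ∀ b ∈ B.D.J B.D', ∀ c ∈ B.D.J B.D', ∀ d ∈ B.D.J B.D',
      a * b * (c * d) = a * c * (b * d) := fun a ha b hb c hc d hd =>
    congrArg Subtype.val (c4 ⟨a, ha⟩ ⟨b, hb⟩ ⟨c, hc⟩ ⟨d, hd⟩)
  have pz := fun n : ℕ => pow_mem B.z_J n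
  have pq := fun n : ℕ => pow_mem B.q_mem n
  have px := fun n : ℕ => pow_mem B.x_mem n
  have pw := fun n : ℕ => pow_mem B.w_mem n
  rw [m4 _ (pz _) _ (pz _) _ (pq _) _ (pq _),
    m4 _ (mul_mem (pz _) (pq _)) _ (mul_mem (pz _) (pq _)) _ (px _) _ (px _),
    m4 _ (mul_mem (mul_mem (pz _) (pq _)) (px _)) _ (mul_mem (mul_mem (pz _) (pq _)) (px _)) _ (pw _) _ (pw _)]

theorem el_zero : B.el 0 = 1 := by simp [el]

theorem el_inj {v u : V4} (h : B.el v = B.el u) : v = u := by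
  have key : ∀ v : V4, B.el v = 1 → v = 0 := by
    rintro ⟨i, j, k, l⟩ hv
    have hJ0 : B.D.z ^ i.val * B.q ^ j.val * B.x ^ k.val ∈ B.D.Q :=
      mul_mem (mul_mem (pow_mem B.D.z_Q _) (pow_mem B.q_Q.1 _)) (pow_mem (B.D.Q2_le B.x_Q) _)
    have hw : B.w ^ l.val ∈ B.D.Q := by
      have : B.w ^ l.val = (B.D.z ^ i.val * B.q ^ j.val * B.x ^ k.val)⁻¹ := eq_inv_of_mul_eq_one_right hv
      rw [this]; exact inv_mem hJ0
    have hpow : ∀ {S : Subgroup G} {c : G}, c ^ 3 = 1 → c ∉ S → ∀ i : ZMod 3, c ^ i.val ∈ S → i = 0 := by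
      intro S c h3 hc i hi
      have hlt := ZMod.val_lt i
      rw [← ZMod.val_eq_zero]
      by_contra hne
      rcases (show i.val = 1 ∨ i.val = 2 by omega) with e | e <;> rw [e] at hi
      · exact hc (by rwa [pow_one] at hi)
      · have : c = (c ^ 2)⁻¹ := eq_inv_of_mul_eq_one_left (by rw [← pow_succ']; exact h3)
        exact hc (this ▸ inv_mem hi)
    obtain rfl := hpow (B.adj.J_exp B.w_mem) B.w_Q l hw
    simp only [el, ZMod.val_zero, pow_zero, mul_one] at hv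
    have hk : B.x ^ k.val ∈ B.D.Zc := by
      rw [← B.D.Q1_inf_Q2]
      refine mem_inf.2 ⟨?_, pow_mem B.x_Q _⟩
      have e : B.x ^ k.val = (B.D.z ^ i.val * B.q ^ j.val)⁻¹ := eq_inv_of_mul_eq_one_right hv
      rw [e]
      exact inv_mem (mul_mem (pow_mem (B.D.Zc_le_Q1 (mem_zpowers _)) _) (pow_mem B.q_Q _))
    obtain rfl := hpow (B.D.Q_exp _ (B.D.Q2_le B.x_Q)) B.x_nZ k hk
    simp only [ZMod.val_zero, pow_zero, mul_one] at hv
    have hj : B.q ^ j.val ∈ B.D.Zc := by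
      have e : B.q ^ j.val = (B.D.z ^ i.val)⁻¹ := eq_inv_of_mul_eq_one_right hv
      rw [e]; exact inv_mem (pow_mem (mem_zpowers _) _)
    obtain rfl := hpow (B.D.Q_exp _ B.q_Q.1) B.q_nZ j hj
    simp only [ZMod.val_zero, pow_zero, mul_one] at hv
    obtain rfl := hpow (S := ⊥) B.D.z_cube (fun h => B.D.z_ne h) i (by rw [hv]; exact one_mem _)
    rfl
  have := key (v - u) (by
    have e := B.el_add (v - u) u
    rw [sub_add_cancel, h] at e
    exact mul_eq_right.1 e.symm)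
  exact sub_eq_zero.1 this

theorem el_surj {a : G} (ha : a ∈ B.D.J B.D') : ∃ v, B.el v = a := by
  let f : V4 → B.D.J B.D' := fun v => ⟨B.el v, B.el_mem v⟩
  have hf : Function.Injective f := fun v u h => B.el_inj (congrArg Subtype.val h)
  obtain ⟨v, hv⟩ := ((Nat.bijective_iff_injective_and_card f).2 ⟨hf, by
    rw [B.adj.card_J, Nat.card_eq_fintype_card]; decide⟩).2 ⟨a, ha⟩
  exact ⟨v, congrArg Subtype.val hv⟩

/-- The normalizer of `J`, as a predicate. -/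
abbrev Norm (n : G) : Prop := ∀ a, a ∈ B.D.J B.D' → n * a * n⁻¹ ∈ B.D.J B.D'

/-- `M` is the matrix of the action of `n`. -/
abbrev Acts (n : G) (M : M4) : Prop := ∀ v, n * B.el v * n⁻¹ = B.el (app M v)

theorem acts_of {n : G} {M : M4} (h1 : n * B.D.z * n⁻¹ = B.el M.1) (h2 : n * B.q * n⁻¹ = B.el M.2.1)
    (h3 : n * B.x * n⁻¹ = B.el M.2.2.1) (h4 : n * B.w * n⁻¹ = B.el M.2.2.2) : B.Acts n M := by
  rintro ⟨i, j, k, l⟩
  have hp : ∀ (v : V4) (m : ℕ), B.el v ^ m = B.el (m • v) := by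
    intro v m
    induction m with
    | zero => rw [pow_zero, zero_smul, B.el_zero]
    | succ m ih => rw [pow_succ, ih, succ_nsmul, B.el_add]
  have e : n * B.el (i, j, k, l) * n⁻¹ = (n * B.D.z * n⁻¹) ^ i.val * (n * B.q * n⁻¹) ^ j.val *
      (n * B.x * n⁻¹) ^ k.val * (n * B.w * n⁻¹) ^ l.val := by
    rw [conj_pow, conj_pow, conj_pow, conj_pow, el]; group
  rw [e, h1, h2, h3, h4, hp, hp, hp, hp, ← B.el_add, ← B.el_add, ← B.el_add]
  congr 1
  simp only [app, nsmul_eq_mul, Prod.smul_fst, Prod.smul_snd, Prod.ext_iff, Prod.fst_add, Prod.snd_add,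
    Prod.fst_mul, Prod.snd_mul, Prod.fst_natCast, Prod.snd_natCast, ZMod.natCast_zmod_val, and_self]

theorem acts_norm {n : G} {M : M4} (h : B.Acts n M) : B.Norm n := fun a ha => by
  obtain ⟨v, rfl⟩ := B.el_surj ha
  rw [h]; exact B.el_mem _

theorem norm_acts {n : G} (h : B.Norm n) : ∃ M, B.Acts n M := by
  obtain ⟨a, ha⟩ := B.el_surj (h _ B.z_J)
  obtain ⟨b, hb⟩ := B.el_surj (h _ B.q_mem)
  obtain ⟨c, hc⟩ := B.el_surj (h _ B.x_mem)
  obtain ⟨d, hd⟩ := B.el_surj (h _ B.w_mem)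
  exact ⟨(a, b, c, d), B.acts_of ha.symm hb.symm hc.symm hd.symm⟩

theorem acts_mul {n m : G} {M N : M4} (hn : B.Acts n M) (hm : B.Acts m N) : B.Acts (n * m) (comp M N) := fun v => by
  rw [app_comp, ← hn, ← hm]; group

theorem acts_unique {n : G} {M N : M4} (hM : B.Acts n M) (hN : B.Acts n N) : M = N := by
  have e : ∀ v, app M v = app N v := fun v => B.el_inj ((hM v).symm.trans (hN v))
  obtain ⟨a1, a2, a3, a4⟩ := app_basis M
  obtain ⟨b1, b2, b3, b4⟩ := app_basis N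
  obtain ⟨M1, M2, M3, M4'⟩ := M
  obtain ⟨N1, N2, N3, N4⟩ := N
  simp only [e] at a1 a2 a3 a4
  simp only [Prod.mk.injEq]
  exact ⟨a1.symm.trans b1, a2.symm.trans b2, a3.symm.trans b3, a4.symm.trans b4⟩

/-- The matrix of `a`. -/
def mA : M4 := ((1, 0, 0, 0), (2, 1, 0, 0), (0, 0, 1, 0), (0, 1, 0, 1))

/-- The matrix of `b`. -/
def mB : M4 := ((1, 0, 0, 0), (0, 1, 0, 0), (1, 0, 1, 0), (0, 0, 1, 1))

theorem acts_a : B.Acts B.a mA := by
  obtain ⟨e1, e2, e3, e4⟩ := B.el_basis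
  refine B.acts_of ?_ ?_ ?_ ?_ <;> simp only [mA]
  · rw [e1]; exact mul_inv_eq_iff_eq_mul.2 (B.D.Q_z _ B.a_Q.1)
  · rw [show ((2, 1, 0, 0) : V4) = (0, 1, 0, 0) + ((1, 0, 0, 0) + (1, 0, 0, 0)) by decide, B.el_add, B.el_add,
      e1, e2, B.a_q]
  · rw [e3, B.D.Q1_comm_Q2 B.a_Q B.x_Q, mul_inv_cancel_right]
  · rw [show ((0, 1, 0, 1) : V4) = (0, 1, 0, 0) + (0, 0, 0, 1) by decide, B.el_add, e2, e4, B.a_w]

theorem acts_b : B.Acts B.b mB := by
  obtain ⟨e1, e2, e3, e4⟩ := B.el_basis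
  refine B.acts_of ?_ ?_ ?_ ?_ <;> simp only [mB]
  · rw [e1]; exact mul_inv_eq_iff_eq_mul.2 (B.D.Q_z _ (B.D.Q2_le B.b_Q))
  · rw [e2, ← B.D.Q1_comm_Q2 B.q_Q B.b_Q, mul_inv_cancel_right]
  · rw [show ((1, 0, 1, 0) : V4) = (0, 0, 1, 0) + (1, 0, 0, 0) by decide, B.el_add, e3, e1, B.b_x]
  · rw [show ((0, 0, 1, 1) : V4) = (0, 0, 1, 0) + (0, 0, 0, 1) by decide, B.el_add, e3, e4, B.b_w]

end Basis

end CfsgLib.O8T
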