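import Cfsg.Agent.Lib.OEightPlusThree.EvenPart
import Cfsg.Agent.S0077
import Mathlib.GroupTheory.Transfer

/-!
The centralizer modulo `t` of an element of order four lying in one quaternion factor is contained in `K₀`.
-/

set_option autoImplicit false
set_option synthInstance.maxSize 4096
set_option maxRecDepth 8000

namespace CfsgLib.O8T

open Subgroup

universe u

/-- The vectors of the first plane. -/
def zxC (i j : ZMod 3) : V4 := (i, i, i, j)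

theorem zx_facts : (∀ i j i' j', zxC i j + zxC i' j' = zxC (i + i') (j + j')) ∧ zxC 0 0 = 0 ∧
    (∀ i j i' j', zxC i j = zxC i' j' → i = i' ∧ j = j') ∧ zxC 1 0 = zv4 ∧ zxC 0 1 = xv4 ∧
    (∀ i j, app pT (zxC i j) = zxC i j) ∧
    (∀ c : V4, app pT c = c → tr c (e1 0 1) = e1 0 1 → ∃ i j, c = zxC i j) ∧
    (∀ i j, wt (zxC i j) = 3 → j = 0) ∧
    (∀ i j, zxC i j = i.val • zv4 + j.val • xv4) := by decide +kernel

theorem cube_move : ∀ i j : ZMod 3, ∀ k : Fin 3, k ≠ 0 →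
    ∃ v : V4, v + zxC i j + -app (powM pB k.val) v = 0 := by decide +kernel

theorem even_fix : ∀ i j : Fin 2, ∀ l : Fin 3, ∀ p : Fin 2,
    (app (comp (matIx ((evI i j).1, (evI i j).2.1, (evI i j).2.2, l, 0)) (powM pT p.val)) zv4 = zv4 → i = 0 ∧ j = 0) ∧
    app (comp (matIx ((evI i j).1, (evI i j).2.1, (evI i j).2.2, l, 0)) (powM pT p.val)) zv4 ≠ -zv4 := by
  decide +kernel

theorem x_move : ∀ i j : ZMod 3, j ≠ 0 → ∃ a b c : Fin 2, ∃ l : Fin 3,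
    app (matIx (a, b, c, l, 0)) xv4 = zxC i j ∨ app (matIx (a, b, c, l, 0)) xv4 = -zxC i j := by decide +kernel

theorem mat_pB : (∀ l : Fin 3, ∀ p : Fin 2, comp (matIx (0, 0, 0, l, 0)) (powM pT p.val) = comp (powM pB l.val) (powM pT p.val)) ∧
    app rM zv4 = -zv4 ∧ (∀ x : Ix, x.2.2.2.2 = 0 → comp (powM (nM 0) x.1.val) (comp (powM (nM 2) x.2.1.val)
      (comp (powM (nM 3) x.2.2.1.val) (powM pB x.2.2.2.1.val))) = matIx x) := by decide +kernel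

theorem one_move : ∀ k a : Fin 4, a ≠ 0 → ∃ x : Fin 2 × Fin 2 × Fin 2, ∃ c : V4, app pT c = c ∧
    tr c (fIx (x.1, x.2.1, x.2.2, 0, 0) (e1 0 1)) = e1 k a := by decide +kernel

theorem e1_dg : ∀ k l : Fin 4, ∀ a : Fin 4, dg (e1 k a) l = if l = k then a else 0 := by decide +kernel

variable {G : Type u} [Group G]

namespace Frame

variable [Finite G] (F : Frame G)

theorem is_rep (k a : Fin 4) : F.Is (F.rep k a) (e1 k a) := by
  refine ⟨Pi.mulSingle k (F.rep k a), F.comp_single (F.rep_mem k a), (wp_single k _).symm, fun l => ?_⟩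
  rw [e1_dg]
  by_cases h : l = k
  · subst h; rw [Pi.mulSingle_eq_same, if_pos rfl]; exact Sim.refl F _
  · rw [Pi.mulSingle_eq_of_ne h, if_neg h, show F.rep l 0 = 1 from if_pos rfl]; exact Sim.refl F _

theorem rep_xa : F.rep 0 1 = F.xa := by
  rw [rep, if_neg (by decide), show dv 0 1 = 0 from zero_nsmul _, F.e_zero, one_mul, inv_one, mul_one]
  rfl

theorem cent_zt {g : G} (hg : g ∈ F.Kt) (hz : g * F.D.z = F.D.z * g) :
    ∃ q ∈ F.Quat, ∃ n ∈ F.CN, Commute n F.D.z ∧ g = q * n := by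
  obtain ⟨m, hm3, hm1, hmv⟩ := F.exists_m
  have hgC : g ∈ F.D.Ct := F.D.mem_Ct.2 hz
  obtain ⟨s, hs⟩ := sl_quat_part m hm3 hm1 (F.D.ψ ⟨g, hgC⟩).1
  obtain ⟨q, hq, e⟩ := F.exists_quP hs
  have hqC : q ∈ F.D.Ct := F.D.mem_Ct.2 hq.2.1
  have hwC : F.w ∈ F.D.Ct := F.w_Ct
  have hg' : (q⁻¹ * g) * (F.w ^ s.val)⁻¹ ∈ F.D.Ct := mul_mem (mul_mem (inv_mem hqC) hgC) (inv_mem (pow_mem hwC _))
  have h1 : (F.D.ψ ⟨_, hg'⟩).1 = 1 := by
    have e' : (⟨_, hg'⟩ : F.D.Ct) = (⟨q, hqC⟩ : F.D.Ct)⁻¹ * ⟨g, hgC⟩ * (⟨F.w, hwC⟩ ^ s.val)⁻¹ := Subtype.ext rfl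
    rw [e', map_mul, map_mul, map_inv, map_inv, map_pow, show F.D.ψ ⟨F.w, hwC⟩ = (m, 1) from hmv, Prod.fst_mul,
      Prod.fst_mul, Prod.fst_inv, Prod.fst_inv, Prod.pow_fst, e]
    group
  have h2 : q⁻¹ * g ∈ F.N := by
    have := mul_mem (F.mem_N_of_norm (F.norm_of_image (by rw [F.central_image (.inl h1)]; exact mem_zpowers _)))
      (pow_mem (F.J_le_N F.w_mem) s.val)
    rwa [inv_mul_cancel_right] at this
  exact ⟨q, hq, q⁻¹ * g, ⟨h2, (mul_mem (inv_mem (F.mem_Kt.2 hq.2.2.2)) hg : q⁻¹ * g ∈ F.Kt)⟩,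
    F.D.mem_Ct.1 (mul_mem (inv_mem hqC) hgC), (mul_inv_cancel_left q g).symm⟩

theorem mem_Q2_form {a : G} (h : a ∈ F.D.Q2) : ∃ i j : ZMod 3, ∃ k : Fin 3, a = F.e (zxC i j) * F.b ^ k.val := by
  have hmem : ∀ i j : ZMod 3, ∀ k : Fin 3, F.e (zxC i j) * F.b ^ k.val ∈ F.D.Q2 := fun i j k => by
    rw [zx_facts.2.2.2.2.2.2.2.2, F.e_add, ← F.e_pow, F.x_pow, show F.e zv4 = F.D.z from F.e_z]
    exact mul_mem (mul_mem (pow_mem (F.D.Zc_le_Q2 (mem_zpowers _)) _) (pow_mem F.x4_Q2 _)) (pow_mem F.b_Q2 _)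
  let f : ZMod 3 × ZMod 3 × Fin 3 → F.D.Q2 := fun p => ⟨_, hmem p.1 p.2.1 p.2.2⟩
  have hf : Function.Bijective f := by
    refine (Nat.bijective_iff_injective_and_card f).2 ⟨fun p p' e => ?_, by simp [F.D.card_Q2]⟩
    have e' : F.e (zxC p.1 p.2.1) * F.b ^ p.2.2.val = F.e (zxC p'.1 p'.2.1) * F.b ^ p'.2.2.val := congrArg Subtype.val e
    have hA : ∀ p : ZMod 3 × ZMod 3 × Fin 3, F.Act (F.e (zxC p.1 p.2.1) * F.b ^ p.2.2.val) (powM pB p.2.2.val) := by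
      intro p
      have h := F.act_mul (F.act_J (F.e_mem (zxC p.1 p.2.1))) (F.act_pow F.act_b p.2.2.val)
      have key : ∀ l : Fin 3, comp idM (powM pB l.val) = powM pB l.val := by decide +kernel
      rwa [key] at h
    have key : ∀ l l' : Fin 3, powM pB l.val = powM pB l'.val → l = l' := by decide +kernel
    have hk := key _ _ (F.act_unique (hA p) (e' ▸ hA p'))
    rw [hk, mul_left_inj] at e'
    obtain ⟨h1, h2⟩ := zx_facts.2.2.1 _ _ _ _ (F.e_inj e')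
    exact Prod.ext h1 (Prod.ext h2 hk)
  obtain ⟨p, hp⟩ := hf.2 ⟨a, h⟩
  exact ⟨_, _, _, (congrArg Subtype.val hp).symm⟩

theorem Q2_P81 : F.D.Q2 ≤ F.P81 := fun a ha => by
  obtain ⟨i, j, k, rfl⟩ := F.mem_Q2_form ha
  exact mul_mem (mem_sup_left (F.e_Jt.2 (zx_facts.2.2.2.2.2.1 i j))) (mem_sup_right (pow_mem (mem_zpowers _) _))

theorem Quat_Q2_mem {g : G} (h : g ∈ F.Quat ⊔ F.D.Q2) : ∃ q ∈ F.Quat, ∃ p ∈ F.D.Q2, g = q * p :=
  mem_sup_comm (fun _ hq _ hp => QuP.q2 hq hp) h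

theorem QQ_K0 : F.Quat ⊔ F.D.Q2 ≤ F.K0 := sup_le (F.Quat_le_W.trans F.W_le_K0) (F.Q2_P81.trans F.P81_le_K0)

/-- The centralizer of an element of the first plane lies in `K₀`. -/
theorem cent_plane {i j : ZMod 3} (h : ¬ (i = 0 ∧ j = 0)) {g : G} (hg : g ∈ F.Kt)
    (hc : Commute g (F.e (zxC i j))) : g ∈ F.K0 := by
  by_cases hj : j = 0
  · subst hj
    have hz : g * F.D.z = F.D.z * g := by
      have hi : i = 1 ∨ i = -1 := by
        have key : ∀ i : ZMod 3, i ≠ 0 → i = 1 ∨ i = -1 := by decide +kernel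
        exact key i fun e => h ⟨e, rfl⟩
      have e' : ∀ i : ZMod 3, i = -1 → zxC i 0 = -zv4 := by decide +kernel
      rcases hi with hi | hi
      · rw [hi, zx_facts.2.2.2.1, show F.e zv4 = F.D.z from F.e_z] at hc
        exact hc.eq
      · rw [e' i hi, F.e_neg, show F.e zv4 = F.D.z from F.e_z] at hc
        exact (Commute.inv_right_iff.1 hc).eq
    obtain ⟨q, hq, n, hn, -, rfl⟩ := F.cent_zt hg hz
    exact mul_mem (F.W_le_K0 (F.Quat_le_W hq)) (F.CN_le_K0 hn)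
  obtain ⟨a, b, c, l, hm⟩ := x_move i j hj
  have hy : F.Lift (F.inPart (a, b, c, l, 0)) (matIx (a, b, c, l, 0)) := mat_pB.2.2 (a, b, c, l, 0) rfl ▸
    F.lift_mul (F.lift_pow (F.nR_lift 0) _) (F.lift_mul (F.lift_pow (F.nR_lift 2) _)
      (F.lift_mul (F.lift_pow (F.nR_lift 3) _) (F.lift_pow F.dR_lift _)))
  set y := F.inPart (a, b, c, l, 0)
  have hyT : Commute y F.nT := ((F.nR_nT 0).pow_left _).mul_left (((F.nR_nT 2).pow_left _).mul_left
    (((F.nR_nT 3).pow_left _).mul_left (F.mv_dR.1.pow_left _)))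
  have hyK : y ∈ F.CN := ⟨F.mem_N hy.1, F.mem_Kt.2 hyT⟩
  have hcx : Commute g (F.e (app (matIx (a, b, c, l, 0)) xv4)) := by
    rcases hm with e | e <;> rw [e]
    · exact hc
    · rw [F.e_neg]; exact hc.inv_right
  rw [← hy.1 xv4] at hcx
  have hg' : y⁻¹ * g * y ∈ F.Cx := F.mem_Cx.2 (by
    have := hcx.conj y⁻¹
    rw [inv_inv, show y⁻¹ * (y * F.e xv4 * y⁻¹) * y = F.e xv4 by group] at this
    exact this.eq)
  obtain ⟨q, hq, n, hn, e⟩ := F.mem_Ux (F.cent_xt hg' ((hyT.inv_left.mul_left (F.mem_Kt.1 hg)).mul_left hyT))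
  have h0 : y⁻¹ * g * y ∈ F.K0 := e ▸ mul_mem (F.W_le_K0 (F.Q01_le_W hq))
    (F.CN_le_K0 ⟨(F.mem_CNx.1 hn).1, F.mem_Kt.2 (F.mem_CNx.1 hn).2.2⟩)
  have := mul_mem (mul_mem (F.CN_le_K0 hyK) h0) (inv_mem (F.CN_le_K0 hyK))
  rwa [show y * (y⁻¹ * g * y) * y⁻¹ = g by group] at this

section Even

variable {F}
variable (E : F.Even)

/-- The centralizer modulo `t` of the element of order four inside the even subgroup. -/
noncomputable abbrev Even.La : Subgroup G := F.simCent E.K1 E.le F.xa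

theorem Even.Quat_La : F.Quat ≤ E.La := fun q hq =>
  ⟨E.W_le (F.Quat_le_W hq), by
    rcases F.W_comm (F.Quat_le_W hq) (F.Quat_le_W F.xa_Quat) with e | e
    · exact .inl (by rw [e, mul_inv_cancel_right])
    · refine .inr ?_
      rw [e, mul_assoc _ F.nT, ← (F.W_nT (F.Quat_le_W hq)).inv_left.eq]; group⟩

theorem Even.Q2_La : F.D.Q2 ≤ E.La := fun p hp =>
  ⟨E.P81_le (F.Q2_P81 hp), .inl (by rw [← (QuP.q2 F.xa_Quat hp), mul_inv_cancel_right])⟩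

theorem Even.norm_z {g : G} (hg : g ∈ E.La) (hz : g * F.D.z * g⁻¹ ∈ F.D.Zc) :
    g * F.D.z = F.D.z * g ∧ g ∈ F.Quat ⊔ F.D.Q2 := by
  have hgK : g ∈ F.Kt := E.le hg.1
  have hez : F.e zv4 = F.D.z := F.e_z
  rcases F.D.mem_Zc.1 hz with h | h | h
  · exact absurd (conj_eq_one_iff.1 h) F.D.z_ne
  · have hc : g * F.D.z = F.D.z * g := mul_inv_eq_iff_eq_mul.1 h
    refine ⟨hc, ?_⟩
    obtain ⟨q, hq, n, hn, hnz, rfl⟩ := F.cent_zt hgK hc
    have hnL : n ∈ E.La := by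
      have := mul_mem (inv_mem (E.Quat_La hq)) hg
      rwa [inv_mul_cancel_left] at this
    obtain ⟨i, j, l, p, hA⟩ := E.form n hnL.1 hn
    obtain ⟨rfl, rfl⟩ := (even_fix i j l p).1 (F.e_inj (by rw [← hA, hez, hnz.eq, mul_inv_cancel_right]))
    have hm : F.Act (F.b ^ l.val * F.nT ^ p.val) (comp (powM pB l.val) (powM pT p.val)) :=
      F.act_mul (F.act_pow F.act_b _) (F.lift_pow F.lift_nT _).1
    set m := F.b ^ l.val * F.nT ^ p.val with hmd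
    rw [show ((evI 0 0).1, (evI 0 0).2.1, (evI 0 0).2.2, l, (0 : Fin 2)) = ((0, 0, 0, l, 0) : Ix) from rfl,
      mat_pB.1 l p] at hA
    have hmQ : m ∈ F.Quat ⊔ F.D.Q2 :=
      mul_mem (mem_sup_right (pow_mem F.b_Q2 _)) (mem_sup_left (pow_mem F.nT_Quat _))
    have hmL : m ∈ E.La := sup_le E.Quat_La E.Q2_La hmQ
    obtain ⟨c, hce⟩ := F.e_surj (F.mem_J_of_act (n := n * m⁻¹) (by
      obtain ⟨M', hM'⟩ := F.exists_act (inv_mem (F.mem_N hm))
      have hid : comp (comp (powM pB l.val) (powM pT p.val)) M' = idM :=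
        F.act_unique (F.act_mul hm hM') (by rw [mul_inv_cancel]; exact F.act_one)
      rw [← hid]
      exact F.act_mul hA hM'))
    have hcL : F.e c ∈ E.La := hce ▸ mul_mem hnL (inv_mem hmL)
    have hcf : app pT c = c := F.e_Jt.1 ⟨F.e_mem c, E.le hcL.1⟩
    have his : F.Is F.xa (e1 0 1) := F.rep_xa ▸ F.is_rep 0 1
    obtain ⟨a, b, rfl⟩ := zx_facts.2.2.2.2.2.2.1 c hcf (Is.unique F (Is.conj_e F his hcf) his hcL.2)
    have hcQ : F.e (zxC a b) ∈ F.D.Q2 := by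
      rw [zx_facts.2.2.2.2.2.2.2.2, F.e_add, ← F.e_pow, F.x_pow, hez]
      exact mul_mem (pow_mem (F.D.Zc_le_Q2 (mem_zpowers _)) _) (pow_mem F.x4_Q2 _)
    have e : n = F.e (zxC a b) * m := by rw [hce, inv_mul_cancel_right]
    exact mul_mem (mem_sup_left hq) (e ▸ mul_mem (mem_sup_right hcQ) hmQ)
  · exfalso
    have hr : F.rho * F.D.z * F.rho⁻¹ = F.D.z⁻¹ := by rw [← hez, F.rho_lift.1, mat_pB.2.1, F.e_neg]
    have hzz : F.D.z * F.D.z = F.D.z⁻¹ := eq_inv_of_mul_eq_one_left (by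
      have := F.D.z_cube
      rwa [pow_succ, pow_two] at this)
    rw [hzz] at h
    have hc : g * F.rho * F.D.z = F.D.z * (g * F.rho) := by
      rw [← mul_inv_eq_iff_eq_mul, show g * F.rho * F.D.z * (g * F.rho)⁻¹ = g * (F.rho * F.D.z * F.rho⁻¹) * g⁻¹ by group,
        hr, show g * F.D.z⁻¹ * g⁻¹ = (g * F.D.z * g⁻¹)⁻¹ by group, h, inv_inv]
    have hρ : F.rho ∈ F.CN := ⟨F.mem_N F.rho_lift.1, F.mem_Kt.2 F.rho_nT⟩
    obtain ⟨q, hq, n, hn, hnz, e⟩ := F.cent_zt (mul_mem hgK hρ.2) hc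
    have hnr : n * F.rho = q⁻¹ * g := by
      rw [eq_inv_mul_iff_mul_eq, ← mul_assoc, ← e, mul_assoc, F.rho_sq, mul_one]
    obtain ⟨i, j, l, p, hA⟩ := E.form (n * F.rho) (hnr ▸ mul_mem (inv_mem (E.W_le (F.Quat_le_W hq))) hg.1)
      (mul_mem hn hρ)
    refine (even_fix i j l p).2 (F.e_inj ?_)
    rw [← hA, hez, show n * F.rho * F.D.z * (n * F.rho)⁻¹ = n * (F.rho * F.D.z * F.rho⁻¹) * n⁻¹ by group, hr,
      F.e_neg, hez, hnz.inv_right.eq, mul_inv_cancel_right]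

theorem weak_z {g : G} (h : g * F.D.z * g⁻¹ ∈ F.D.Q2) : g * F.D.z * g⁻¹ ∈ F.D.Zc := by
  obtain ⟨i, j, k, e⟩ := F.mem_Q2_form h
  have hez : F.e zv4 = F.D.z := F.e_z
  by_cases hk : k = 0
  · subst hk
    rw [show ((0 : Fin 3) : ℕ) = 0 from rfl, pow_zero, mul_one] at e
    obtain rfl := zx_facts.2.2.2.2.2.2.2.1 i j (F.zconj_iff.1 ⟨g, e⟩)
    rw [e, zx_facts.2.2.2.2.2.2.2.2, show (0 : ZMod 3).val • xv4 = 0 from zero_smul _ _, add_zero, ← F.e_pow, hez]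
    exact pow_mem (mem_zpowers _) _
  · exfalso
    obtain ⟨v, hv⟩ := cube_move i j k hk
    refine F.no_fuse (g := F.e v * g) (k := k.val) (i := 0) (by have := k.isLt; have := Fin.val_ne_zero_iff.2 hk; omega) ?_
    rw [pow_zero, mul_one, show F.e v * g * F.D.z * (F.e v * g)⁻¹ = F.e v * (g * F.D.z * g⁻¹) * (F.e v)⁻¹ by group, e]
    have h2 : F.b ^ k.val * (F.e v)⁻¹ = F.e (-app (powM pB k.val) v) * F.b ^ k.val := by
      rw [F.e_neg, ← F.act_pow F.act_b k.val v]; group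
    calc F.e v * (F.e (zxC i j) * F.b ^ k.val) * (F.e v)⁻¹
        = F.e v * F.e (zxC i j) * (F.b ^ k.val * (F.e v)⁻¹) := by group
      _ = _ := by rw [h2, ← mul_assoc, ← F.e_add, ← F.e_add, hv, F.e_zero, one_mul]

theorem Even.Q2_max {P : Subgroup G} (hP : P ≤ E.La) (h3 : IsPGroup 3 P) (hle : F.D.Q2 ≤ P) : P ≤ F.D.Q2 := by
  haveI : Fact (Nat.Prime 3) := ⟨Nat.prime_three⟩
  by_contra hne
  haveI := h3.isNilpotent
  have hlt : F.D.Q2.subgroupOf P < ⊤ := lt_top_iff_ne_top.2 fun e => hne (subgroupOf_eq_top.1 e)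
  obtain ⟨g, hgn, hgJ⟩ := SetLike.exists_of_lt (normalizerCondition_of_isNilpotent _ hlt)
  have h1 : (g : G) * F.D.z * (g : G)⁻¹ ∈ F.D.Q2 := mem_subgroupOf.1 ((mem_normalizer_iff.1 hgn
    ⟨F.D.z, hle (F.D.Zc_le_Q2 (mem_zpowers _))⟩).1 (mem_subgroupOf.2 (F.D.Zc_le_Q2 (mem_zpowers _))))
  obtain ⟨-, hQ⟩ := E.norm_z (hP g.2) (F.weak_z h1)
  obtain ⟨q, hq, p, hp, e⟩ := F.Quat_Q2_mem hQ
  obtain ⟨n, hn⟩ := h3 g
  have hgn' : (g : G) ^ 3 ^ n = 1 := by simpa using congrArg Subtype.val hn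
  refine hgJ (mem_subgroupOf.2 ?_)
  have hqP : q ∈ P := by
    have := mul_mem g.2 (inv_mem (hle hp))
    rwa [e, mul_inv_cancel_right] at this
  obtain ⟨m, hm⟩ := h3 ⟨q, hqP⟩
  have hd := Nat.dvd_gcd (orderOf_dvd_of_pow_eq_one (show q ^ 3 ^ m = 1 from congrArg Subtype.val hm))
    (orderOf_dvd_of_pow_eq_one (show q ^ 4 = 1 from hq.1))
  rw [Nat.Coprime.gcd_eq_one (Nat.Coprime.pow_left m (by norm_num)), Nat.dvd_one, orderOf_eq_one_iff] at hd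
  rw [e, hd, one_mul]
  exact hp

/-- The closure of the commutator subgroup and the centre meets the Sylow subgroup in the centre. -/
theorem Even.exists_L2 : ∃ L2 : Subgroup G, L2 ≤ E.La ∧ F.D.Zc ≤ L2 ∧
    (∀ g ∈ E.La, ∀ a ∈ L2, g * a * g⁻¹ ∈ L2) ∧ ∀ a ∈ L2, a ∈ F.D.Q2 → a ∈ F.D.Zc := by
  haveI : Fact (Nat.Prime 3) := ⟨Nat.prime_three⟩
  set L := E.La
  have hQ2 : IsPGroup 3 F.D.Q2 := F.P81_isP.to_le F.Q2_P81
  obtain ⟨P, hP⟩ := (hQ2.of_equiv (subgroupOfEquivOfLe E.Q2_La).symm).exists_le_sylow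
  have hPeq : (P : Subgroup L) = F.D.Q2.subgroupOf L := by
    refine le_antisymm (fun a ha => mem_subgroupOf.2 ?_) hP
    exact E.Q2_max (map_subtype_le _) (P.2.map _) (fun b hb => ⟨⟨b, E.Q2_La hb⟩, hP (mem_subgroupOf.2 hb), rfl⟩)
      ⟨a, ha, rfl⟩
  have hzL : F.D.Zc ≤ L := F.D.Zc_le_Q2.trans E.Q2_La
  set Z : Subgroup L := F.D.Zc.subgroupOf L
  have hZP : Z ≤ (P : Subgroup L) := hPeq.symm ▸ fun a ha => mem_subgroupOf.2 (F.D.Zc_le_Q2 (mem_subgroupOf.1 ha))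
  have hcent : Z ≤ centralizer ((P : Subgroup L) : Set L) := fun a ha b hb => Subtype.ext (by
    rw [SetLike.mem_coe, hPeq] at hb
    exact F.D.comm_Zc (F.D.mem_Ct.1 (F.D.Q_le_Ct (F.D.Q2_le (mem_subgroupOf.1 hb)))) (mem_subgroupOf.1 ha))
  have hW : Cfsg.IsWeaklyClosed Z (P : Subgroup L) := by
    refine ⟨hZP, fun g hg => eq_of_le_of_card_ge ?_ (le_of_eq
      (card_map_of_injective (f := (MulAut.conj g).toMonoidHom) (MulAut.conj g).injective).symm)⟩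
    have h1 : (g : G) * F.D.z * (g : G)⁻¹ ∈ F.D.Zc := F.weak_z (by
      have := hg ⟨⟨F.D.z, hzL (mem_zpowers _)⟩, mem_subgroupOf.2 (mem_zpowers _), rfl⟩
      rw [hPeq] at this
      exact mem_subgroupOf.1 this)
    rintro _ ⟨a, ha, rfl⟩
    refine mem_subgroupOf.2 ?_
    obtain ⟨k, hk⟩ := mem_zpowers_iff.1 (mem_subgroupOf.1 ha)
    show (g : G) * (a : G) * (g : G)⁻¹ ∈ F.D.Zc
    rw [← hk, ← conj_zpow]
    exact zpow_mem h1 k
  have key := Cfsg.Agent.S0077.result P Z hcent hW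
  have hN : ∀ g : L, g ∈ normalizer (Z : Set L) → (g : G) ∈ F.Quat ⊔ F.D.Q2 := fun g hg =>
    (E.norm_z g.2 (mem_subgroupOf.1 ((mem_normalizer_iff.1 hg ⟨F.D.z, hzL (mem_zpowers _)⟩).1
      (mem_subgroupOf.2 (mem_zpowers _))))).2
  have hcomm : ∀ a : L, a ∈ commutator L → (a : G) ∈ F.D.Q2 → (a : G) ∈ F.D.Zc := by
    intro a ha haQ
    have h1 : a ∈ commutator L ⊓ (P : Subgroup L) := ⟨ha, hPeq.symm ▸ mem_subgroupOf.2 haQ⟩
    rw [key] at h1
    have hT : ⁅normalizer (Z : Set L), normalizer (Z : Set L)⁆ ≤ (F.Quat ⊔ F.D.Zc).subgroupOf L := by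
      refine commutator_le.2 fun g hg h hh => mem_subgroupOf.2 ?_
      obtain ⟨q, hq, p, hp, eg⟩ := F.Quat_Q2_mem (hN g hg)
      obtain ⟨q', hq', p', hp', eh⟩ := F.Quat_Q2_mem (hN h hh)
      rw [commutatorElement_def, coe_mul, coe_mul, coe_mul, coe_inv, coe_inv, eg, eh]
      have c1 : Commute p q' := (show Commute q' p from QuP.q2 hq' hp).symm
      have c2 : Commute p q⁻¹ := (show Commute q p from QuP.q2 hq hp).symm.inv_right
      have c3 : Commute p' q⁻¹ := (show Commute q p' from QuP.q2 hq hp').symm.inv_right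
      have c4 : Commute p' q'⁻¹ := (show Commute q' p' from QuP.q2 hq' hp').symm.inv_right
      have e : q * p * (q' * p') * (q * p)⁻¹ * (q' * p')⁻¹ = q * q' * q⁻¹ * q'⁻¹ * (p * p' * p⁻¹ * p'⁻¹) := by
        calc q * p * (q' * p') * (q * p)⁻¹ * (q' * p')⁻¹ = q * (p * q') * (p' * p⁻¹ * q⁻¹) * (p'⁻¹ * q'⁻¹) := by group
          _ = q * q' * ((p * p' * p⁻¹) * q⁻¹) * (p'⁻¹ * q'⁻¹) := by rw [c1.eq]; group
          _ = q * q' * (q⁻¹ * (p * p' * p⁻¹)) * (q'⁻¹ * p'⁻¹) := by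
            rw [((c2.mul_left c3).mul_left c2.inv_left).eq, c4.inv_left.eq]
          _ = q * q' * q⁻¹ * ((p * p' * p⁻¹) * q'⁻¹) * p'⁻¹ := by group
          _ = _ := by
            rw [((c1.inv_right.mul_left c4).mul_left c1.inv_right.inv_left).eq]; group
      rw [e]
      exact mul_mem (mem_sup_left (mul_mem (mul_mem (mul_mem hq hq') (inv_mem hq)) (inv_mem hq')))
        (mem_sup_right (F.D.Q_comm _ (F.D.Q2_le hp) _ (F.D.Q2_le hp')))
    obtain ⟨q, hq, p, hp, e⟩ := mem_sup_comm (fun x hx y hy => QuP.q2 hx (F.D.Zc_le_Q2 hy)) (mem_subgroupOf.1 (hT h1.1))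
    have hqQ : q ∈ F.D.Q2 := by
      have := mul_mem haQ (inv_mem (F.D.Zc_le_Q2 hp))
      rwa [e, mul_inv_cancel_right] at this
    have hq1 : q = 1 := orderOf_eq_one_iff.1 (Nat.dvd_one.1 (by
      have := Nat.dvd_gcd (orderOf_dvd_of_pow_eq_one (show q ^ 3 = 1 from F.D.Q_exp _ (F.D.Q2_le hqQ)))
        (orderOf_dvd_of_pow_eq_one (show q ^ 4 = 1 from hq.1))
      simpa using this))
    rw [e, hq1, one_mul]; exact hp
  refine ⟨(commutator L ⊔ Z).map L.subtype, map_subtype_le _,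
    fun a ha => ⟨⟨a, hzL ha⟩, mem_sup_right (mem_subgroupOf.2 ha), rfl⟩, ?_, ?_⟩
  · rintro g hg _ ⟨a, ha, rfl⟩
    refine ⟨⟨g, hg⟩ * a * (⟨g, hg⟩ : L)⁻¹, ?_, rfl⟩
    have h1 : (⟨g, hg⟩ : L) * a * (⟨g, hg⟩ : L)⁻¹ * a⁻¹ ∈ commutator L := by
      rw [_root_.commutator_def, ← commutatorElement_def]
      exact commutator_mem_commutator (mem_top _) (mem_top _)
    have := mul_mem (mem_sup_left (T := Z) h1) ha
    rwa [inv_mul_cancel_right] at this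
  · rintro _ ⟨a, ha, rfl⟩ haQ
    haveI : (commutator L).Normal := inferInstance
    rw [SetLike.mem_coe, mem_sup_of_normal_left] at ha
    obtain ⟨c, hc, z, hz, rfl⟩ := ha
    have hzZ := mem_subgroupOf.1 hz
    have hcQ : (c : G) ∈ F.D.Q2 := by
      have := mul_mem haQ (inv_mem (F.D.Zc_le_Q2 hzZ))
      rwa [show L.subtype (c * z) = (c : G) * z from rfl, mul_inv_cancel_right] at this
    exact mul_mem (hcomm c hc hcQ) hzZ

theorem Even.La_le : E.La ≤ F.K0 := by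
  haveI : Fact (Nat.Prime 3) := ⟨Nat.prime_three⟩
  obtain ⟨L2, hL2, hzL, hn, hQ⟩ := E.exists_L2
  have hZ3 : IsPGroup 3 F.D.Zc := IsPGroup.of_card (n := 1) (by rw [F.D.card_Zc, pow_one])
  have hmax : ∀ P : Subgroup G, P ≤ L2 → IsPGroup 3 P → F.D.Zc ≤ P → P ≤ F.D.Zc := by
    intro P hP h3 hle
    obtain ⟨k, hk, hkP⟩ := conj_into E.Q2_La (F.P81_isP.to_le F.Q2_P81) (fun R a b c => E.Q2_max a b c)
      (hP.trans hL2) h3
    have hc : P.map (MulAut.conj k).toMonoidHom ≤ F.D.Zc := by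
      rintro _ ⟨a, ha, rfl⟩
      exact hQ _ (hn k hk a (hP ha)) (hkP a ha)
    have := card_le_of_le hc
    rw [card_map_of_injective (f := (MulAut.conj k).toMonoidHom) (MulAut.conj k).injective] at this
    exact (eq_of_le_of_card_ge hle this).ge
  obtain ⟨P, hP⟩ := (hZ3.of_equiv (subgroupOfEquivOfLe hzL).symm).exists_le_sylow
  have hPeq : (P : Subgroup L2) = F.D.Zc.subgroupOf L2 := le_antisymm (fun a ha => mem_subgroupOf.2
    (hmax _ (map_subtype_le _) (P.2.map _) (fun b hb => ⟨⟨b, hzL hb⟩, hP (mem_subgroupOf.2 hb), rfl⟩) ⟨a, ha, rfl⟩)) hP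
  have hNC : normalizer ((P : Subgroup L2) : Set L2) ≤ centralizer ((P : Subgroup L2) : Set L2) := by
    intro g hg b hb
    rw [SetLike.mem_coe, hPeq] at hb
    rw [hPeq] at hg
    obtain ⟨hgz, -⟩ := E.norm_z (hL2 g.2) (mem_subgroupOf.1
      ((mem_normalizer_iff.1 hg ⟨F.D.z, hzL (mem_zpowers _)⟩).1 (mem_subgroupOf.2 (mem_zpowers _))))
    exact Subtype.ext (F.D.comm_Zc hgz (mem_subgroupOf.1 hb)).symm
  set f := MonoidHom.transferSylow P hNC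
  set O : Subgroup G := f.ker.map L2.subtype with hO
  have hcop : (Nat.card O).Coprime 3 := by
    rw [hO, card_map_of_injective (f := L2.subtype) L2.subtype_injective]
    exact ((Nat.Prime.coprime_iff_not_dvd Nat.prime_three).2 (MonoidHom.not_dvd_card_ker_transferSylow P hNC)).symm
  let A : Subgroup G :=
    { carrier := {x | ∃ i j : ZMod 3, x = F.e (zxC i j)}
      one_mem' := ⟨0, 0, by rw [zx_facts.2.1, F.e_zero]⟩
      mul_mem' := by
        rintro _ _ ⟨i, j, rfl⟩ ⟨i', j', rfl⟩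
        exact ⟨_, _, by rw [← F.e_add, zx_facts.1]⟩
      inv_mem' := by
        rintro _ ⟨i, j, rfl⟩
        exact ⟨-i, -j, inv_eq_of_mul_eq_one_right (by
          rw [← F.e_add, zx_facts.1, add_neg_cancel, add_neg_cancel, zx_facts.2.1, F.e_zero])⟩ }
  haveI : IsMulCommutative A := ⟨⟨by
    rintro ⟨_, i, j, rfl⟩ ⟨_, i', j', rfl⟩
    exact Subtype.ext (F.e_comm _ _)⟩⟩
  have hA9 : Nat.card A = 9 := by
    let g : ZMod 3 × ZMod 3 → A := fun p => ⟨F.e (zxC p.1 p.2), p.1, p.2, rfl⟩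
    have hg : Function.Bijective g :=
      ⟨fun p p' h => by
          obtain ⟨a, b⟩ := zx_facts.2.2.1 _ _ _ _ (F.e_inj (congrArg Subtype.val h))
          exact Prod.ext a b,
        fun ⟨x, i, j, hx⟩ => ⟨(i, j), Subtype.ext hx.symm⟩⟩
    rw [← Nat.card_eq_of_bijective g hg, Nat.card_prod, Nat.card_zmod]
  have hAc : ¬ IsCyclic A := by
    intro hc
    obtain ⟨g, hg⟩ := IsCyclic.exists_ofOrder_eq_natCard (α := A)
    rw [hA9] at hg
    obtain ⟨i, j, e⟩ := g.2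
    have h3 : orderOf g ∣ 3 := orderOf_dvd_of_pow_eq_one (Subtype.ext (e ▸ F.e_cube _ : (g : G) ^ 3 = 1))
    rw [hg] at h3
    norm_num at h3
  have hAL : A ≤ E.La := by
    rintro _ ⟨i, j, rfl⟩
    refine E.Q2_La ?_
    rw [zx_facts.2.2.2.2.2.2.2.2, F.e_add, ← F.e_pow, F.x_pow, show F.e zv4 = F.D.z from F.e_z]
    exact mul_mem (pow_mem (F.D.Zc_le_Q2 (mem_zpowers _)) _) (pow_mem F.x4_Q2 _)
  have hinv : ∀ x ∈ A, ∀ a ∈ O, x * a * x⁻¹ ∈ O := by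
    rintro x hx _ ⟨a, ha, rfl⟩
    refine ⟨⟨x * a * x⁻¹, hn x (hAL hx) a a.2⟩, ?_, rfl⟩
    have h1 : orderOf (⟨x * a * x⁻¹, hn x (hAL hx) a a.2⟩ : L2) = orderOf a := by
      rw [← orderOf_submonoid, ← orderOf_submonoid a]
      exact orderOf_injective (MulAut.conj x).toMonoidHom (MulAut.conj x).injective (a : G)
    have h2 : (orderOf a).Coprime 3 := by
      refine Nat.Coprime.coprime_dvd_left ?_ (show (Nat.card f.ker).Coprime 3 from
        ((Nat.Prime.coprime_iff_not_dvd Nat.prime_three).2 (MonoidHom.not_dvd_card_ker_transferSylow P hNC)).symm)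
      rw [show orderOf a = orderOf (⟨a, ha⟩ : f.ker) from (Subgroup.orderOf_mk a ha).symm]
      exact orderOf_dvd_natCard _
    refine MonoidHom.mem_ker.2 ?_
    obtain ⟨n, hn'⟩ := P.2 (f ⟨x * a * x⁻¹, hn x (hAL hx) a a.2⟩)
    have hd := Nat.dvd_gcd (orderOf_dvd_of_pow_eq_one hn')
      ((orderOf_map_dvd f _).trans (dvd_of_eq h1))
    rw [Nat.Coprime.gcd_eq_one (h2.symm.pow_left n), Nat.dvd_one, orderOf_eq_one_iff] at hd
    exact hd
  have hOK : O ≤ F.K0 := by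
    rw [← CfsgLib.coprime_generated_by_centralizers hAc (K := O) (fun x hx => mem_normalizer_iff.2 fun a =>
      ⟨hinv x hx a, fun h => by
        have := hinv x⁻¹ (inv_mem hx) _ h
        rwa [inv_inv, show x⁻¹ * (x * a * x⁻¹) * x = a by group] at this⟩)
      (by rw [hA9, show 9 = 3 ^ 2 by norm_num]; exact hcop.symm.pow_left 2)]
    refine iSup₂_le fun x hx a ha => ?_
    obtain ⟨⟨i, j, rfl⟩, hne⟩ := hx
    have haK : a ∈ F.Kt := by
      obtain ⟨⟨a', -, rfl⟩, -⟩ := ha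
      exact E.le (hL2 a'.2).1
    refine F.cent_plane (fun h => hne ?_) haK (mem_centralizer_singleton_iff.1 ha.2)
    rw [h.1, h.2, zx_facts.2.1, F.e_zero]
  have hL2K : L2 ≤ F.K0 := fun a ha => by
    have htop := (MonoidHom.ker_transferSylow_isComplement' P hNC).sup_eq_top
    have hle : f.ker ⊔ (P : Subgroup L2) ≤ F.K0.subgroupOf L2 :=
      sup_le (fun b hb => mem_subgroupOf.2 (hOK ⟨b, hb, rfl⟩)) (hPeq.symm ▸ fun b hb =>
        mem_subgroupOf.2 (F.QQ_K0 (mem_sup_right (F.D.Zc_le_Q2 (mem_subgroupOf.1 hb)))))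
    exact mem_subgroupOf.1 ((htop.symm.le.trans hle) (mem_top (⟨a, ha⟩ : L2)))
  intro g hg
  have hg1 : F.D.Zc.map (MulAut.conj g).toMonoidHom ≤ L2 := by
    rintro _ ⟨a, ha, rfl⟩
    exact hn g hg a (hzL ha)
  obtain ⟨k, hk, hkz⟩ := conj_into hzL hZ3 hmax hg1 (hZ3.map _)
  have h1 := hkz _ ⟨F.D.z, mem_zpowers _, rfl⟩
  have h2 := (E.norm_z (mul_mem (hL2 hk) hg) (by
    rw [show k * g * F.D.z * (k * g)⁻¹ = k * (g * F.D.z * g⁻¹) * k⁻¹ by group]; exact h1)).2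
  have := mul_mem (inv_mem (hL2K hk)) (F.QQ_K0 h2)
  rwa [inv_mul_cancel_left] at this

end Even

/-- Elements centralizing modulo `t` an element of order four with one component lie in `K₀`. -/
theorem cent_one {g w : G} {s : Fin 256} (hg : g ∈ F.Kt) (hs : swt s = 1) (hw : F.Is w s)
    (h : F.Sim (g * w * g⁻¹) w) : g ∈ F.K0 := by
  have base : ∀ g ∈ F.Kt, F.Sim (g * F.xa * g⁻¹) F.xa → g ∈ F.K0 := by
    intro g hg h
    obtain ⟨E⟩ := F.exists_Even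
    obtain ⟨r, f, hr, hm, hf, hgr⟩ := E.split g hg
    have hra : F.Sim (r * F.xa * r⁻¹) F.xa :=
      Is.sim F (hf ▸ hm.2 _ _ (F.rep_xa ▸ F.is_rep 0 1)) (F.rep_xa ▸ F.is_rep 0 1)
    have hmem : g * r ∈ E.La := ⟨hgr, by
      have := Sim.trans F (Sim.conj F hra (F.mem_Kt.1 hg)) h
      rwa [show g * r * F.xa * (g * r)⁻¹ = g * (r * F.xa * r⁻¹) * g⁻¹ by group]⟩
    have := mul_mem (E.La_le hmem) (inv_mem hr)
    rwa [mul_inv_cancel_right] at this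
  obtain ⟨k, a, ha, rfl⟩ := one_forms.1 s hs
  obtain ⟨x, c, hc, e⟩ := one_move k a ha
  have hm := Mv.mul F (F.mv_e hc) (F.npr_mv x)
  set y := F.e c * F.npr x
  have hy : y ∈ F.K0 := mul_mem ((le_sup_left : F.Jt ≤ F.P81).trans F.P81_le_K0 (F.e_Jt.2 hc))
    (F.P2_le (F.P16_le (F.npr_P16 x)))
  have hyw : F.Sim (y * F.xa * y⁻¹) w := Is.sim F (e ▸ hm.2 _ _ (F.rep_xa ▸ F.is_rep 0 1)) hw
  have hyT : Commute y F.nT := hm.1
  have h0 := base (y⁻¹ * g * y) (mul_mem (mul_mem (inv_mem (F.K0_le_Kt hy)) hg) (F.K0_le_Kt hy)) (by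
    have h1 := Sim.conj F (Sim.trans F (Sim.trans F (Sim.conj F hyw (F.mem_Kt.1 hg)) h) (Sim.symm F hyw)) hyT.inv_left
    rwa [inv_inv, show y⁻¹ * (g * (y * F.xa * y⁻¹) * g⁻¹) * y = y⁻¹ * g * y * F.xa * (y⁻¹ * g * y)⁻¹ by group,
      show y⁻¹ * (y * F.xa * y⁻¹) * y = F.xa by group] at h1)
  have := mul_mem (mul_mem hy h0) (inv_mem hy)
  rwa [show y * (y⁻¹ * g * y) * y⁻¹ = g by group] at this

end Frame

end CfsgLib.O8T
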