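import Cfsg.Agent.Lib.OEightPlusThree.NoFuse

/-!
The centralizer of an element of weight two: fusion into the normalizer.
-/

set_option autoImplicit false
set_option synthInstance.maxSize 4096

namespace CfsgLib.O8T

open Subgroup

universe u

/-- The vector of `q`. -/
def qv : V4 := (1, 2, 0, 0)

/-- Words for the stabilizer of the weight-two vector. -/
def stabWords : List (M4 × List (Fin 4)) := [
  (((0, 2, 0, 0), (2, 0, 0, 0), (0, 0, 0, 1), (0, 0, 1, 0)), [1, 0, 1, 0, 2]),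
  (((0, 2, 0, 0), (2, 0, 0, 0), (0, 0, 0, 2), (0, 0, 2, 0)), [1, 1, 0, 0, 2, 1]),
  (((0, 2, 0, 0), (2, 0, 0, 0), (0, 0, 1, 0), (0, 0, 0, 1)), [1, 0, 0, 0, 1, 1]),
  (((0, 2, 0, 0), (2, 0, 0, 0), (0, 0, 2, 0), (0, 0, 0, 2)), [0, 3, 2, 1, 0]),
  (((1, 0, 0, 0), (0, 1, 0, 0), (0, 0, 0, 1), (0, 0, 1, 0)), [0, 1, 0, 1, 0, 1]),
  (((1, 0, 0, 0), (0, 1, 0, 0), (0, 0, 0, 2), (0, 0, 2, 0)), [3, 0, 2, 2, 0, 0, 0]),
  (((1, 0, 0, 0), (0, 1, 0, 0), (0, 0, 1, 0), (0, 0, 0, 1)), []),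
  (((1, 0, 0, 0), (0, 1, 0, 0), (0, 0, 2, 0), (0, 0, 0, 2)), [0, 2, 0]),
  (((2, 1, 1, 1), (1, 2, 1, 1), (1, 1, 1, 2), (2, 2, 1, 2)), [0, 0, 3, 2, 0, 0]),
  (((2, 1, 1, 1), (1, 2, 1, 1), (1, 1, 2, 1), (2, 2, 2, 1)), [2, 2]),
  (((2, 1, 1, 1), (1, 2, 1, 1), (2, 2, 1, 2), (1, 1, 1, 2)), [1, 0, 1, 0]),
  (((2, 1, 1, 1), (1, 2, 1, 1), (2, 2, 2, 1), (1, 1, 2, 1)), [0, 3, 1, 0, 2, 0, 0]),
  (((2, 1, 1, 2), (1, 2, 1, 2), (1, 1, 1, 1), (1, 1, 2, 2)), [2, 0, 1, 0, 1, 0, 1]),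
  (((2, 1, 1, 2), (1, 2, 1, 2), (1, 1, 2, 2), (1, 1, 1, 1)), [2]),
  (((2, 1, 1, 2), (1, 2, 1, 2), (2, 2, 1, 1), (2, 2, 2, 2)), [2, 0, 2, 0]),
  (((2, 1, 1, 2), (1, 2, 1, 2), (2, 2, 2, 2), (2, 2, 1, 1)), [1, 0, 0, 2, 1, 0]),
  (((2, 1, 2, 1), (1, 2, 2, 1), (1, 1, 1, 1), (1, 1, 2, 2)), [0, 2, 0, 2]),
  (((2, 1, 2, 1), (1, 2, 2, 1), (1, 1, 2, 2), (1, 1, 1, 1)), [0, 3, 0, 0, 1, 0]),
  (((2, 1, 2, 1), (1, 2, 2, 1), (2, 2, 1, 1), (2, 2, 2, 2)), [2, 0, 3, 2, 1, 0]),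
  (((2, 1, 2, 1), (1, 2, 2, 1), (2, 2, 2, 2), (2, 2, 1, 1)), [3, 0, 2, 1, 0, 0]),
  (((2, 1, 2, 2), (1, 2, 2, 2), (1, 1, 1, 2), (2, 2, 1, 2)), [0, 2, 0, 2, 2]),
  (((2, 1, 2, 2), (1, 2, 2, 2), (1, 1, 2, 1), (2, 2, 2, 1)), [2, 0, 3, 0, 0, 1, 0]),
  (((2, 1, 2, 2), (1, 2, 2, 2), (2, 2, 1, 2), (1, 1, 1, 2)), [1, 0, 3, 0]),
  (((2, 1, 2, 2), (1, 2, 2, 2), (2, 2, 2, 1), (1, 1, 2, 1)), [1, 1, 0, 0, 1])]

/-- The stabilizer of the weight-two vector. -/
def stabQ : List M4 := stabWords.map Prod.fst ++ stabWords.map (fun p => comp p.1 pO)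

theorem stabQ_complete : gam.all (fun M => decide (app M qv = qv → M ∈ stabQ)) = true := by decide +kernel

theorem stabQ_complete_one : gamOne.all (fun M => decide (app M qv = qv → M ∈ stabWords.map Prod.fst)) = true := by
  decide +kernel

theorem stabWords_check : stabWords.all (fun p => decide (pword p.2 = p.1 ∧ app p.1 qv = qv)) = true := by
  decide +kernel

theorem three_conj : stabQ.all (fun M => decide (comp M (comp M M) = idM → M ≠ idM →
    stabWords.any (fun p => decide (comp p.1 M = comp pB p.1) || decide (comp p.1 M = comp (comp pB pB) p.1)) =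
      true)) = true := by decide +kernel

theorem cube_one : ∀ c : V4, c + app pB c + app (comp pB pB) c = 0 →
    (∃ (d : V4) (i : Fin 3), c + d - app pB d = i.val • qv) ∧
    (∃ (d : V4) (i : Fin 3), c + d - app (comp pB pB) d = i.val • qv) := by decide +kernel

theorem qv_from : app fromP qv = (0, 1, 0, 0) := by decide

theorem word_gen : pgen 2 = pB := rfl

variable {G : Type u} [Group G]

namespace Frame

variable [Finite G] (F : Frame G)

theorem e_qv : F.e qv = F.q := by rw [e, qv_from, F.el_basis.2.1]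

/-- The centralizer of `q`. -/
abbrev Cq : Subgroup G := centralizer ({F.q} : Set G)

theorem mem_Cq {g : G} : g ∈ F.Cq ↔ g * F.q = F.q * g := mem_centralizer_singleton_iff

theorem J_le_Cq : F.Jg ≤ F.Cq := fun _ ha => F.mem_Cq.2 (F.adj.J_comm _ ha _ F.q_mem)

theorem Q_le_Cq_b : F.b ∈ F.Cq := F.mem_Cq.2 (F.D.Q1_comm_Q2 F.q_Q F.b_Q).symm

theorem stab_act {g : G} (hN : g ∈ F.N) (hg : g ∈ F.Cq) {M : M4} (hM : F.Act g M) :
    M ∈ stabQ ∧ (F.Inner → M ∈ stabWords.map Prod.fst) := by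
  obtain ⟨M', hM', hA, hin⟩ := F.act_gam hN
  obtain rfl := F.act_unique hM hA
  have hfix : app M qv = qv := F.e_inj (by
    rw [← hM, F.e_qv, F.mem_Cq.1 hg, mul_inv_cancel_right])
  refine ⟨?_, fun h => ?_⟩
  · have := List.all_eq_true.1 stabQ_complete M hM'
    simp only [decide_eq_true_eq] at this
    exact this hfix
  · have := List.all_eq_true.1 stabQ_complete_one M (hin h)
    simp only [decide_eq_true_eq] at this
    exact this hfix

theorem word_Cq {p : M4 × List (Fin 4)} (hp : p ∈ stabWords) : F.word p.2 ∈ F.Cq ∧ F.Act (F.word p.2) p.1 := by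
  have := List.all_eq_true.1 stabWords_check p hp
  simp only [decide_eq_true_eq] at this
  have hA : F.Act (F.word p.2) p.1 := this.1 ▸ F.act_word p.2
  refine ⟨F.mem_Cq.2 (mul_inv_eq_iff_eq_mul.1 ?_), hA⟩
  rw [← F.e_qv, hA, this.2]

/-- An element of the centralizer of `q` mapping a conjugate of the centre from `J` into `J`. -/
theorem norm_of_fuse {g : G} (hg : g ∈ F.Cq) {u : V4} (hu : wt u = 3) (h : g⁻¹ * F.e u * g ∈ F.Jg) : g ∈ F.N := by
  set T : Subgroup G := F.Jg.map (MulAut.conj g).toMonoidHom with hT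
  have hcard : Nat.card T = 81 := by
    rw [hT, card_map_of_injective (f := (MulAut.conj g).toMonoidHom) (MulAut.conj g).injective, F.adj.card_J]
  have hTc : ∀ a ∈ T, ∀ b ∈ T, a * b = b * a := by
    rintro _ ⟨a, ha, rfl⟩ _ ⟨b, hb, rfl⟩
    rw [← map_mul, ← map_mul, F.adj.J_comm a ha b hb]
  have hcomm : ∀ a ∈ T, ∀ c : G, g⁻¹ * c * g ∈ F.Jg → a * c = c * a := by
    rintro _ ⟨a, ha, rfl⟩ c hc
    show g * a * g⁻¹ * c = c * (g * a * g⁻¹)
    calc g * a * g⁻¹ * c = g * (a * (g⁻¹ * c * g)) * g⁻¹ := by group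
      _ = g * ((g⁻¹ * c * g) * a) * g⁻¹ := by rw [F.adj.J_comm a ha _ hc]
      _ = c * (g * a * g⁻¹) := by group
  have hq : g⁻¹ * F.q * g = F.q := by rw [mul_assoc, ← F.mem_Cq.1 hg, inv_mul_cancel_left]
  have hTN : T ≤ F.N := fun a ha => F.cent_pair hu (c := qv) (by decide) (hcomm a ha _ h) (by
    rw [F.e_qv]; exact hcomm a ha _ (hq.symm ▸ F.q_mem))
  have e := F.unique81 hcard hTc hTN hu fun a ha => hcomm a ha _ h
  refine F.mem_N_of_norm fun a ha => ?_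
  exact e.le ⟨a, ha, rfl⟩

/-- A conjugate of the centre in the normalizer, under the centralizer of `q`, lies in `J`. -/
theorem no_perm {g : G} (hg : g ∈ F.Cq) (hN : g * F.D.z * g⁻¹ ∈ F.N) : g * F.D.z * g⁻¹ ∈ F.Jg := by
  set h := g * F.D.z * g⁻¹ with hh
  have hh3 : h * (h * h) = 1 := by
    rw [hh]
    calc g * F.D.z * g⁻¹ * (g * F.D.z * g⁻¹ * (g * F.D.z * g⁻¹)) = g * (F.D.z * F.D.z * F.D.z) * g⁻¹ := by group
      _ = 1 := by rw [F.D.cube F.D.z_Q, mul_one, mul_inv_cancel]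
  have hzq : F.D.z ∈ F.Cq := F.mem_Cq.2 (F.D.Q_z _ F.q_Q.1).symm
  have hhq : h ∈ F.Cq := mul_mem (mul_mem hg hzq) (inv_mem hg)
  obtain ⟨M, hM⟩ := F.exists_act hN
  by_cases hid : M = idM
  · exact F.mem_J_of_act (hid ▸ hM)
  exfalso
  have hM3 : comp M (comp M M) = idM :=
    F.act_unique (F.act_mul hM (F.act_mul hM hM)) (by rw [hh3]; exact F.act_one)
  have h3 := List.all_eq_true.1 three_conj M (F.stab_act hN hhq hM).1
  simp only [decide_eq_true_eq] at h3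
  obtain ⟨p, hp, hp'⟩ := List.any_eq_true.1 (h3 hM3 hid)
  simp only [Bool.or_eq_true, decide_eq_true_eq] at hp'
  obtain ⟨hpq, hpA⟩ := F.word_Cq hp
  obtain ⟨k, hk, hkM⟩ : ∃ k : ℕ, (k = 1 ∨ k = 2) ∧ comp p.1 M = comp (powM pB k) p.1 := by
    rcases hp' with h | h
    · exact ⟨1, .inl rfl, by rw [h, show powM pB 1 = pB by decide +kernel]⟩
    · exact ⟨2, .inr rfl, by rw [h, show powM pB 2 = comp pB pB by decide +kernel]⟩
  -- conjugate to a translate of a power of the standard element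
  set n := F.word p.2
  set h' := n * h * n⁻¹ with hh'
  have hA' : F.Act h' (powM pB k) := fun c => by
    obtain ⟨W, hW⟩ := F.exists_act (inv_mem (F.word_N p.2))
    have hid : comp p.1 W = idM := F.act_unique (F.act_mul hpA hW) (by rw [mul_inv_cancel]; exact F.act_one)
    rw [hh', F.act_mul (F.act_mul hpA hM) hW c, hkM, ← comp_assoc, hid]
    congr 2
    obtain ⟨b1, b2, b3, b4⟩ := app_basis (powM pB k)
    simp only [comp, idM, b1, b2, b3, b4]
  have hbA : F.Act (F.b ^ k) (powM pB k) := by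
    have hpow : ∀ m : ℕ, F.Act (F.b ^ m) (powM pB m) := by
      intro m
      induction m with
      | zero => rw [pow_zero]; exact F.act_one
      | succ m ih => rw [pow_succ]; exact F.act_mul ih F.act_b
    exact hpow k
  obtain ⟨c, hc⟩ := F.e_surj (F.mem_J_of_act (n := h' * (F.b ^ k)⁻¹) (fun v => by
    obtain ⟨W, hW⟩ := F.exists_act (inv_mem (F.mem_N hbA))
    rw [F.act_mul hA' hW v, F.act_unique (F.act_mul hbA hW) (by rw [mul_inv_cancel]; exact F.act_one)]))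
  have e1 : h' = F.e c * F.b ^ k := by rw [hc, inv_mul_cancel_right]
  have hb3 : F.b ^ k * (F.b ^ k * F.b ^ k) = 1 := by
    rw [← pow_add, ← pow_add, show k + (k + k) = 3 * k by omega, pow_mul, F.D.Q_exp _ (F.D.Q2_le F.b_Q), one_pow]
  have hcube : F.e (c + app (powM pB k) c + app (comp (powM pB k) (powM pB k)) c) = 1 := by
    have e3 : h' * (h' * h') = 1 := by
      rw [hh']
      calc n * h * n⁻¹ * (n * h * n⁻¹ * (n * h * n⁻¹)) = n * (h * (h * h)) * n⁻¹ := by group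
        _ = 1 := by rw [hh3, mul_one, mul_inv_cancel]
    rw [F.e_add, F.e_add, ← hbA c, app_comp, ← hbA (app (powM pB k) c), ← hbA c]
    calc F.e c * (F.b ^ k * F.e c * (F.b ^ k)⁻¹) *
          (F.b ^ k * (F.b ^ k * F.e c * (F.b ^ k)⁻¹) * (F.b ^ k)⁻¹)
        = (F.e c * F.b ^ k) * ((F.e c * F.b ^ k) * (F.e c * F.b ^ k)) * (F.b ^ k * (F.b ^ k * F.b ^ k))⁻¹ := by group
      _ = 1 := by rw [← e1, e3, hb3, inv_one, mul_one]
  have hc0 : c + app pB c + app (comp pB pB) c = 0 := by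
    have h0 := F.e_inj (hcube.trans F.e_zero.symm)
    have hB : powM pB 1 = pB ∧ powM pB 2 = comp pB pB ∧ comp (comp pB pB) (comp pB pB) = pB := by decide +kernel
    rcases hk with rfl | rfl
    · rwa [hB.1] at h0
    · rw [hB.2.1, hB.2.2] at h0
      rw [← h0, add_right_comm]
  obtain ⟨d, i, hd⟩ : ∃ (d : V4) (i : Fin 3), c + d - app (powM pB k) d = i.val • qv := by
    have hB : powM pB 1 = pB ∧ powM pB 2 = comp pB pB := by decide +kernel
    rcases hk with rfl | rfl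
    · rw [hB.1]; exact (cube_one c hc0).1
    · rw [hB.2]; exact (cube_one c hc0).2
  refine F.no_fuse (g := F.e d * n * g) (k := k) (i := i.val) (by omega) ?_
  have e4 : F.e d * h' * (F.e d)⁻¹ = F.e (c + d - app (powM pB k) d) * F.b ^ k := by
    rw [e1, ← F.e_neg, show c + d - app (powM pB k) d = d + c + app (powM pB k) (-d) by
      rw [show app (powM pB k) (-d) = -app (powM pB k) d from eq_neg_of_add_eq_zero_left (by
        rw [← app_add, neg_add_cancel, show app (powM pB k) 0 = 0 by simp [app]])]; abel,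
      F.e_add, F.e_add, ← hbA (-d)]
    group
  calc F.e d * n * g * F.D.z * (F.e d * n * g)⁻¹ = F.e d * h' * (F.e d)⁻¹ := by rw [hh', hh]; group
    _ = F.q ^ i.val * F.b ^ k := by rw [e4, hd, ← F.e_pow, F.e_qv]
    _ = F.b ^ k * F.q ^ i.val := F.D.Q1_comm_Q2 (pow_mem F.q_Q _) (pow_mem F.b_Q _)

end Frame

end CfsgLib.O8T
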