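import Cfsg.Agent.Lib.OEightPlusThree.CentTransfer
import Mathlib.GroupTheory.Transfer

/-!
Inside SL(2,3): two applications of Burnside's transfer put the centralizer of `q` into the normalizer.
-/

set_option autoImplicit false
set_option synthInstance.maxSize 4096

namespace CfsgLib.O8T

open Subgroup

universe u

theorem eM_group : (∀ s t : Fin 8, comp (eM s) (eM t) = comp (eM t) (eM s) ∧ (∃ u : Fin 8, comp (eM s) (eM t) = eM u) ∧
    (eM s = eM t → s = t)) ∧ eM 0 = idM ∧ (∀ k : Fin 3, ∃ s : Fin 8, eM s = sgM k) ∧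
    (∀ k l : Fin 3, sgM k = sgM l → k = l) := by decide +kernel

theorem eM_cases : ∀ s : Fin 8, eM s ≠ idM →
    (∃ l : Fin 3, eM s = sgM l) ∨ (∃ l : Fin 3, eM s = repM l 3) ∨ eM s = eM 7 := by decide +kernel

theorem eM_fix : ∀ c : V4, (∀ k : Fin 3, app (sgM k) c = c) ↔ InQ c := by decide +kernel

theorem double_facts : ∀ l : Fin 3, Fintype.card {c : V4 // app (repM l 3) c = c} = 9 ∧
    (∃ c : V4, app (repM l 3) c = c ∧ ¬ InQ c) := by decide +kernel

theorem double_comm : ∀ l : Fin 3, stabWords.all (fun p => decide (comp p.1 (repM l 3) = comp (repM l 3) p.1 →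
    comp p.1 p.1 = idM)) = true := by decide +kernel

theorem single_comm : ∀ l : Fin 3, stabWords.all (fun p => decide (comp p.1 (sgM l) = comp (sgM l) p.1 →
    comp p.1 (comp p.1 p.1) = idM → p.1 = idM)) = true := by decide +kernel

variable {G : Type u} [Group G]

namespace Frame

variable [Finite G] (F : Frame G)

/-- The lifts of the products of sign changes. -/
def eGroup : Subgroup G where
  carrier := {n | ∃ s : Fin 8, F.Lift n (eM s)}
  one_mem' := ⟨0, by rw [eM_group.2.1]; exact F.lift_one⟩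
  mul_mem' := by
    rintro n m ⟨s, hn⟩ ⟨t, hm⟩
    obtain ⟨u, hu⟩ := (eM_group.1 s t).2.1
    exact ⟨u, hu ▸ F.lift_mul hn hm⟩
  inv_mem' := by
    rintro n ⟨s, hn⟩
    exact ⟨s, by rwa [inv_eq_of_mul_eq_one_right (F.lift_invol hn (eM_facts s).2.1)]⟩

theorem eGroup_facts : F.eGroup ≤ F.Cq ∧ Nat.card F.eGroup = 8 ∧ (∀ n ∈ F.eGroup, n * n = 1) ∧
    (∀ n ∈ F.eGroup, ∀ m ∈ F.eGroup, n * m = m * n) := by
  choose n hn hnq using fun s : Fin 8 => F.exists_lift_mat (eM_facts s).1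
  refine ⟨?_, ?_, ?_, ?_⟩
  · rintro m ⟨s, hm⟩
    rw [F.lift_unique hm (hn s)]; exact hnq s
  · let f : Fin 8 → F.eGroup := fun s => ⟨n s, s, hn s⟩
    have hf : Function.Bijective f := by
      refine ⟨fun s t h => ?_, fun ⟨m, s, hm⟩ => ⟨s, Subtype.ext (F.lift_unique (hn s) hm)⟩⟩
      have h' : n s = n t := congrArg Subtype.val h
      exact (eM_group.1 s t).2.2 (F.act_unique (hn s).1 (h' ▸ (hn t).1))
    rw [← Nat.card_eq_of_bijective f hf, Nat.card_fin]
  · rintro m ⟨s, hm⟩; exact F.lift_invol hm (eM_facts s).2.1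
  · rintro m ⟨s, hm⟩ m' ⟨t, hm'⟩; exact F.lift_comm hm hm' (eM_group.1 s t).1

/-- The fixed points in `J` of an element with known action. -/
theorem fix_of_comm {n : G} {M : M4} (hn : F.Act n M) {c : V4} (h : F.e c * n = n * F.e c) : app M c = c :=
  F.e_inj (by rw [← hn, ← h, mul_inv_cancel_right])

/-- The normalizer of the elementary abelian group of sign changes, away from the permutation part. -/
theorem norm_eGroup (hin : F.Inner) {K : Subgroup G} (hK : K ≤ F.Cq)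
    (hKN : ∀ g ∈ K, g ∈ F.N → ∃ s : Fin 8, F.Act g (eM s)) {g : G} (hg : g ∈ K)
    (hgE : ∀ n ∈ F.eGroup, g * n * g⁻¹ ∈ F.eGroup) : ∃ i : ℕ, ∃ n ∈ F.eGroup, g = F.q ^ i * n := by
  classical
  obtain ⟨hEq, -, hE2, hEc⟩ := F.eGroup_facts
  choose S hS using eM_group.2.2.1
  choose n hn hnq using fun k : Fin 3 => F.exists_lift_mat (sgM_facts k).2.2.1
  have hnE : ∀ k, n k ∈ F.eGroup := fun k => ⟨S k, (hS k).symm ▸ hn k⟩
  choose t ht using fun k => hgE _ (hnE k)
  have hgq : g ∈ F.Cq := hK hg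
  suffices hgN : g ∈ F.N by
    obtain ⟨s, hs⟩ := hKN g hg hgN
    obtain ⟨m, hm, hmq⟩ := F.exists_lift_mat (eM_facts s).1
    obtain ⟨c, hc⟩ := F.e_surj (F.mem_J_of_act (n := g * m⁻¹) (by
      rw [inv_eq_of_mul_eq_one_right (F.lift_invol hm (eM_facts s).2.1), ← (eM_facts s).2.1]
      exact F.act_mul hs hm.1))
    have hmE : m ∈ F.eGroup := ⟨s, hm⟩
    have hgm : g = F.e c * m := by rw [hc, inv_mul_cancel_right]
    have hfix : ∀ k, app (sgM k) c = c := fun k => by
      have h1 := ht k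
      have e : g * n k * g⁻¹ = F.e (c - app (sgM k) c) * n k := by
        have hcm : m * n k * m⁻¹ = n k := by rw [hEc _ hmE _ (hnE k), mul_inv_cancel_right]
        calc g * n k * g⁻¹ = F.e c * (m * n k * m⁻¹) * (F.e c)⁻¹ := by rw [hgm]; group
          _ = F.e c * (n k * F.e (-c)) := by rw [hcm, F.e_neg, mul_assoc]
          _ = _ := by
            rw [F.lift_e (hn k), ← mul_assoc, ← F.e_add]
            congr 2
            rw [sub_eq_add_neg]
            congr 1
            exact eq_neg_of_add_eq_zero_left (by rw [← app_add, neg_add_cancel]; simp [app])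
      rw [e] at h1
      obtain ⟨h2, -, -⟩ := F.aff_unique (hn k) h1 (c := c - app (sgM k) c) (d := 0) (by
        rw [F.e_zero, one_mul])
      exact (sub_eq_zero.1 h2).symm
    obtain ⟨i, rfl⟩ := (inQ_smul c).1 ((eM_fix c).1 hfix)
    exact ⟨i.val, m, hmE, by rw [hgm, F.q_pow]⟩
  by_cases hsingle : ∃ k l : Fin 3, eM (t k) = sgM l
  · obtain ⟨k, l, hkl⟩ := hsingle
    obtain ⟨c₀, hc₀, hc₀m⟩ := (sgM_facts k).2.2.2.2
    set a := g * F.e c₀ * g⁻¹ with ha
    have hm : F.Lift (g * n k * g⁻¹) (sgM l) := hkl ▸ ht k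
    have haq : a ∈ F.Cq := mul_mem (mul_mem hgq (F.J_le_Cq (F.e_mem _))) (inv_mem hgq)
    have hcomm : a * (g * n k * g⁻¹) = (g * n k * g⁻¹) * a := by
      have hc : F.e c₀ * n k = n k * F.e c₀ := by rw [F.lift_e (hn k), hc₀]
      calc g * F.e c₀ * g⁻¹ * (g * n k * g⁻¹) = g * (F.e c₀ * n k) * g⁻¹ := by group
        _ = g * n k * g⁻¹ * (g * F.e c₀ * g⁻¹) := by rw [hc]; group
    have haN := F.cent_sign hin hm haq hcomm
    obtain ⟨M, hM⟩ := F.exists_act haN
    obtain ⟨p, hp, rfl⟩ := List.mem_map.1 ((F.stab_act haN haq hM).2 hin)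
    have h := List.all_eq_true.1 (single_comm l) p hp
    simp only [decide_eq_true_eq] at h
    have h2 := F.act_mul hM hm.1
    rw [hcomm] at h2
    have ha3 : a * (a * a) = 1 := by
      rw [ha, ← pow_two, ← pow_succ', conj_pow, F.e_cube, mul_one, mul_inv_cancel]
    have hid := h (F.act_unique h2 (F.act_mul hm.1 hM))
      (F.act_unique (F.act_mul hM (F.act_mul hM hM)) (by rw [ha3]; exact F.act_one))
    have haJ : a ∈ F.Jg := F.mem_J_of_act (hid ▸ hM)
    exact inv_mem_iff.1 (F.fuse_wt3 (g := g⁻¹) (inv_mem hgq) hc₀m (by rw [inv_inv]; exact haJ))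
  exfalso
  push Not at hsingle
  have hinj : ∀ k l, eM (t k) = eM (t l) → k = l := fun k l h => by
    have e : g * n k * g⁻¹ = g * n l * g⁻¹ := F.lift_unique (ht k) (h.symm ▸ ht l)
    have e' : n k = n l := mul_left_cancel (mul_right_cancel e)
    exact eM_group.2.2.2 k l (F.act_unique (hn k).1 (e' ▸ (hn l).1))
  obtain ⟨k, l, hkl⟩ : ∃ k l : Fin 3, eM (t k) = repM l 3 := by
    by_contra hne
    push Not at hne
    have h7 : ∀ k, eM (t k) = eM 7 := fun k => by
      rcases eM_cases (t k) (fun h1 => by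
          have e : g * n k * g⁻¹ = 1 := F.lift_unique (h1 ▸ ht k) F.lift_one
          exact (sgM_facts k).2.1 (F.act_unique (hn k).1 (by rw [conj_eq_one_iff.1 e]; exact F.act_one))) with
        ⟨l, hl⟩ | ⟨l, hl⟩ | h
      exacts [absurd hl (hsingle k l), absurd hl (hne k l), h]
    exact absurd (hinj 0 1 ((h7 0).trans (h7 1).symm)) (by decide)
  set d := g * n k * g⁻¹ with hd
  have hdl : F.Lift d (repM l 3) := hkl ▸ ht k
  set C : Subgroup G := F.Cq ⊓ centralizer ({d} : Set G) with hC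
  let Q : Subgroup G :=
    { carrier := {x | ∃ c, app (repM l 3) c = c ∧ x = F.e c}
      one_mem' := ⟨0, by simp [app], F.e_zero.symm⟩
      mul_mem' := by
        rintro _ _ ⟨c, hc, rfl⟩ ⟨c', hc', rfl⟩
        exact ⟨c + c', by rw [app_add, hc, hc'], (F.e_add c c').symm⟩
      inv_mem' := by
        rintro _ ⟨c, hc, rfl⟩
        refine ⟨c + c, by rw [app_add, hc], ?_⟩
        rw [F.e_add, inv_eq_iff_mul_eq_one, ← pow_two, ← pow_succ']
        exact F.e_cube c }
  have hQC : Q ≤ C := by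
    rintro _ ⟨c, hc, rfl⟩
    exact ⟨F.J_le_Cq (F.e_mem c), mem_centralizer_singleton_iff.2 (by rw [F.lift_e hdl, hc])⟩
  have hQcard : Nat.card Q = 9 := by
    let f : {c : V4 // app (repM l 3) c = c} → Q := fun c => ⟨F.e c.1, c.1, c.2, rfl⟩
    have hf : Function.Bijective f :=
      ⟨fun c c' h => Subtype.ext (F.e_inj (congrArg Subtype.val h)),
        fun ⟨x, c, hc, hx⟩ => ⟨⟨c, hc⟩, Subtype.ext hx.symm⟩⟩
    rw [← Nat.card_eq_of_bijective f hf, Nat.card_eq_fintype_card, (double_facts l).1]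
  -- the image of the fixed points of the single sign change
  let f : {c : V4 // app (sgM k) c = c} → C := fun c => ⟨g * F.e c.1 * g⁻¹,
    F.Cq.mul_mem (F.Cq.mul_mem hgq (F.J_le_Cq (F.e_mem _))) (F.Cq.inv_mem hgq), mem_centralizer_singleton_iff.2 (by
      have hc : F.e c.1 * n k = n k * F.e c.1 := by rw [F.lift_e (hn k), c.2]
      calc g * F.e c.1 * g⁻¹ * (g * n k * g⁻¹) = g * (F.e c.1 * n k) * g⁻¹ := by group
        _ = g * n k * g⁻¹ * (g * F.e c.1 * g⁻¹) := by rw [hc]; group)⟩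
  let R : Subgroup C :=
    { carrier := Set.range f
      one_mem' := ⟨⟨0, by simp [app]⟩, Subtype.ext (show g * F.e 0 * g⁻¹ = 1 by
        rw [F.e_zero, mul_one, mul_inv_cancel])⟩
      mul_mem' := by
        rintro _ _ ⟨c, rfl⟩ ⟨c', rfl⟩
        refine ⟨⟨c.1 + c'.1, by rw [app_add, c.2, c'.2]⟩, Subtype.ext ?_⟩
        show g * F.e (c.1 + c'.1) * g⁻¹ = g * F.e c.1 * g⁻¹ * (g * F.e c'.1 * g⁻¹)
        rw [F.e_add]; group
      inv_mem' := by
        rintro _ ⟨c, rfl⟩
        refine ⟨⟨-c.1, by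
          rw [show app (sgM k) (-c.1) = -app (sgM k) c.1 from eq_neg_of_add_eq_zero_left (by
            rw [← app_add, neg_add_cancel]; simp [app]), c.2]⟩, Subtype.ext ?_⟩
        show g * F.e (-c.1) * g⁻¹ = (g * F.e c.1 * g⁻¹)⁻¹
        rw [F.e_neg]; group }
  have hRcard : Nat.card R = 27 := by
    have hf : Function.Injective f := fun c c' h => Subtype.ext
      (F.e_inj (mul_left_cancel (mul_right_cancel (congrArg Subtype.val h))))
    rw [show Nat.card R = Nat.card (Set.range f) from rfl, Nat.card_range_of_injective hf,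
      Nat.card_eq_fintype_card, fix_count]
  haveI : Fact (Nat.Prime 3) := ⟨Nat.prime_three⟩
  obtain ⟨P₁, hP₁⟩ := (IsPGroup.of_card (n := 3) (by rw [hRcard]; rfl) : IsPGroup 3 R).exists_le_sylow
  obtain ⟨P, hP⟩ := (IsPGroup.of_card (n := 2)
    (by rw [Nat.card_congr (subgroupOfEquivOfLe hQC).toEquiv, hQcard]; rfl) :
      IsPGroup 3 (Q.subgroupOf C)).exists_le_sylow
  have hlt : (Q.subgroupOf C).subgroupOf (P : Subgroup C) < ⊤ := by
    refine lt_top_iff_ne_top.2 fun h => ?_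
    have h1 : Nat.card (P : Subgroup C) ≤ Nat.card (Q.subgroupOf C) := card_le_of_le (subgroupOf_eq_top.1 h)
    have h2 : 27 ≤ Nat.card (P₁ : Subgroup C) := hRcard ▸ card_le_of_le hP₁
    rw [Nat.card_congr (subgroupOfEquivOfLe hQC).toEquiv, hQcard] at h1
    have h3 : Nat.card P₁ = Nat.card P := by rw [P₁.card_eq_multiplicity, P.card_eq_multiplicity]
    omega
  haveI : Group.IsNilpotent (P : Subgroup C) := P.2.isNilpotent
  obtain ⟨x, hxn, hxQ⟩ := SetLike.exists_of_lt (Group.normalizerCondition_of_isNilpotent _ hlt)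
  obtain ⟨c₁, hc₁, hc₁q⟩ := (double_facts l).2
  have h1 := (mem_normalizer_iff.1 hxn
    ⟨⟨F.e c₁, hQC ⟨c₁, hc₁, rfl⟩⟩, hP (show F.e c₁ ∈ Q from ⟨c₁, hc₁, rfl⟩)⟩).1
    (show F.e c₁ ∈ Q from ⟨c₁, hc₁, rfl⟩)
  obtain ⟨c₂, -, hc₂⟩ := h1
  set y : G := ((x : C) : G) with hy
  have hyC : y ∈ C := (x : C).2
  have hyN : y ∈ F.N := inv_mem_iff.1 (F.fuse_all hin (g := y⁻¹) (inv_mem hyC.1) hc₁q (by
    rw [inv_inv, show y * F.e c₁ * y⁻¹ = F.e c₂ from hc₂]; exact F.e_mem _))
  obtain ⟨M, hM⟩ := F.exists_act hyN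
  obtain ⟨p, hp, rfl⟩ := List.mem_map.1 ((F.stab_act hyN hyC.1 hM).2 hin)
  have h := List.all_eq_true.1 (double_comm l) p hp
  simp only [decide_eq_true_eq] at h
  have hyd : y * d = d * y := mem_centralizer_singleton_iff.1 hyC.2
  have hM2 := F.act_mul hM hdl.1
  rw [hyd] at hM2
  have hsq := h (F.act_unique hM2 (F.act_mul hdl.1 hM))
  have hyy : y * y ∈ Q := by
    obtain ⟨c, hc⟩ := F.e_surj (F.mem_J_of_act (n := y * y) (hsq ▸ F.act_mul hM hM))
    refine ⟨c, F.fix_of_comm hdl.1 ?_, hc.symm⟩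
    rw [hc, mul_assoc, hyd, ← mul_assoc, hyd, mul_assoc]
  obtain ⟨e, he⟩ := P.2 x
  obtain ⟨m, hm⟩ : ∃ m, 3 ^ e = 2 * m + 1 := Odd.pow (by decide : Odd 3)
  rw [hm] at he
  refine hxQ (show y ∈ Q from mem_of_sq_mem (m := m) ?_ hyy)
  exact congrArg (fun v : (P : Subgroup C) => ((v : C) : G)) he

end Frame

end CfsgLib.O8T
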