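import Cfsg.Agent.S3805

/-!
A central quotient with an elementary abelian section of order nine and a four-group as automizer.
-/

set_option autoImplicit false

namespace CfsgLib.O8T

open Subgroup

/-- A self-centralizing subgroup of order nine with a four-group as automizer and local centralizers is normal. -/
theorem nine_top {X : Type*} [Group X] [Finite X] (T : Subgroup X) (hcard : Nat.card T = 9)
    (hexp : ∀ t ∈ T, t ^ 3 = 1) (hab : ∀ s ∈ T, ∀ t ∈ T, s * t = t * s)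
    (hself : centralizer (T : Set X) ≤ T) (hN : Nat.card (normalizer (T : Set X)) = 36)
    (hsq : ∀ x ∈ normalizer (T : Set X), x * x ∈ T)
    (hloc : ∀ t ∈ T, t ≠ 1 → centralizer ({t} : Set X) ≤ normalizer (T : Set X)) :
    normalizer (T : Set X) = ⊤ := by
  haveI : Fact (Nat.Prime 3) := ⟨Nat.prime_three⟩
  haveI : Fact (Nat.Prime 2) := ⟨Nat.prime_two⟩
  obtain ⟨P, hP⟩ := (IsPGroup.of_card (n := 2) (by rw [hcard]; norm_num) : IsPGroup 3 T).exists_le_sylow
  have hPT : (P : Subgroup X) = T := by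
    refine le_antisymm ?_ hP
    by_contra hle
    haveI : Group.IsNilpotent (P : Subgroup X) := P.2.isNilpotent
    have hlt : T.subgroupOf (P : Subgroup X) < ⊤ :=
      lt_top_iff_ne_top.mpr fun h => hle (subgroupOf_eq_top.mp h)
    obtain ⟨x, hxn, hxT⟩ := SetLike.exists_of_lt (Group.normalizerCondition_of_isNilpotent _ hlt)
    refine hxT ?_
    have hxN : (x : X) ∈ normalizer (T : Set X) := by
      rw [mem_normalizer_iff]
      intro y
      constructor
      · intro hy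
        exact (mem_normalizer_iff.mp hxn ⟨y, hP hy⟩).mp hy
      · intro hy
        have hyP : y ∈ (P : Subgroup X) := by
          have := mul_mem (mul_mem (inv_mem x.2) (hP hy)) x.2
          simpa [mul_assoc] using this
        exact (mem_normalizer_iff.mp hxn ⟨y, hyP⟩).mpr hy
    obtain ⟨n, hn⟩ := P.2 x
    obtain ⟨m, hm⟩ : ∃ m, 3 ^ n = 2 * m + 1 := Odd.pow (by decide : Odd 3)
    have e : (x : X) = (((x : X) * x) ^ m)⁻¹ := by
      refine eq_inv_of_mul_eq_one_right ?_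
      rw [← pow_two, ← pow_mul, ← pow_succ, ← hm]
      exact congrArg Subtype.val hn
    show (x : X) ∈ T
    rw [e]
    exact inv_mem (pow_mem (hsq _ hxN) _)
  subst hPT
  have hea : Cfsg.IsElementaryAbelian 3 (P : Subgroup X) :=
    ⟨⟨⟨fun a b => Subtype.ext (hab a a.2 b b.2)⟩⟩, hexp⟩
  haveI hn : ((P : Subgroup X).subgroupOf (normalizer ((P : Subgroup X) : Set X))).Normal :=
    normal_in_normalizer
  have hC : centralizer ((P : Subgroup X) : Set X) = P :=
    le_antisymm hself fun a ha => mem_centralizer_iff.mpr fun b hb => hab b hb a ha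
  have hidx : ((P : Subgroup X).subgroupOf (normalizer ((P : Subgroup X) : Set X))).index = 4 := by
    have h := ((P : Subgroup X).subgroupOf (normalizer ((P : Subgroup X) : Set X))).card_mul_index
    rw [Nat.card_congr (subgroupOfEquivOfLe le_normalizer).toEquiv, hcard, hN] at h
    omega
  have hK : IsKleinFour (↥(normalizer ((P : Subgroup X) : Set X)) ⧸
      (P : Subgroup X).subgroupOf (normalizer ((P : Subgroup X) : Set X))) := by
    refine ⟨hidx, ?_⟩
    haveI : Nontrivial (↥(normalizer ((P : Subgroup X) : Set X)) ⧸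
        (P : Subgroup X).subgroupOf (normalizer ((P : Subgroup X) : Set X))) :=
      Finite.one_lt_card_iff_nontrivial.mp (by rw [← index_eq_card, hidx]; norm_num)
    refine Monoid.exponent_eq_prime_iff Nat.prime_two |>.mpr fun g hg => ?_
    refine orderOf_eq_prime ?_ hg
    obtain ⟨x, rfl⟩ := QuotientGroup.mk_surjective g
    rw [← QuotientGroup.mk_pow, QuotientGroup.eq_one_iff, mem_subgroupOf, pow_two]
    exact hsq x x.2
  exact Cfsg.Agent.S3805.result P hea (by rw [hcard]) hC hK hloc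

/-- Membership in a product with a central subgroup. -/
def InProd {G : Type*} [Group G] (A P : Subgroup G) (c : G) : Prop := ∃ a ∈ A, a⁻¹ * c ∈ P

/-- The central quotient version. -/
theorem central_nine {G : Type*} [Group G] [Finite G] (C P A : Subgroup G) (hPC : P ≤ C)
    (hcen : ∀ p ∈ P, ∀ c ∈ C, c * p = p * c) (hAC : A ≤ C) (hA3 : ∀ a ∈ A, a ^ 3 = 1)
    (hAab : ∀ a ∈ A, ∀ b ∈ A, a * b = b * a) (hcard : Nat.card A = 9 * Nat.card (P ⊓ A : Subgroup G))
    (hcube : ∀ a ∈ A, ∀ p ∈ P, (a * p) ^ 3 = 1 → a * p ∈ A)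
    (hself : ∀ c ∈ C, (∀ a ∈ A, c * a * c⁻¹ * a⁻¹ ∈ P) → InProd A P c)
    (r : Fin 4 → G) (hrC : ∀ i, r i ∈ C) (hrN : ∀ i, ∀ a ∈ A, r i * a * (r i)⁻¹ ∈ A)
    (hr2 : ∀ i, InProd A P (r i * r i))
    (hrex : ∀ c ∈ C, (∀ a ∈ A, c * a * c⁻¹ ∈ A) → ∃ i, InProd A P ((r i)⁻¹ * c))
    (hrinj : ∀ i j, InProd A P ((r i)⁻¹ * r j) → i = j)
    (hloc : ∀ c ∈ C, ∀ a ∈ A, a ∉ P → c * a * c⁻¹ * a⁻¹ ∈ P → ∀ b ∈ A, c * b * c⁻¹ ∈ A) :
    ∀ c ∈ C, ∀ a ∈ A, c * a * c⁻¹ ∈ A := by
  haveI hn : (P.subgroupOf C).Normal := ⟨fun p hp c => by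
    rw [mem_subgroupOf] at hp ⊢
    rw [coe_mul, coe_mul, coe_inv, hcen _ hp _ c.2, mul_inv_cancel_right]
    exact hp⟩
  set π := QuotientGroup.mk' (P.subgroupOf C) with hπ
  set T := (A.subgroupOf C).map π with hT
  have hker : π.ker = P.subgroupOf C := QuotientGroup.ker_mk' _
  have hcardT : Nat.card T = 9 := by
    have h := Subgroup.card_dvd_of_le (show P ⊓ A ≤ A from inf_le_right)
    have e := (π.domRestrict (A.subgroupOf C)).ker.card_mul_index
    rw [Subgroup.index_ker, MonoidHom.domRestrict_range, ← hT,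
      Nat.card_congr (subgroupOfEquivOfLe hAC).toEquiv, hcard] at e
    have ek : Nat.card (π.domRestrict (A.subgroupOf C)).ker = Nat.card (P ⊓ A : Subgroup G) := by
      rw [MonoidHom.ker_domRestrict, hker]
      refine Nat.card_congr ⟨fun x => ⟨((x : A.subgroupOf C) : C), x.2, x.1.2⟩,
        fun x => ⟨⟨⟨x, hAC x.2.2⟩, x.2.2⟩, x.2.1⟩, fun x => rfl, fun x => rfl⟩
    rw [ek, mul_comm 9] at e
    exact Nat.eq_of_mul_eq_mul_left Nat.card_pos e
  have hmemT : ∀ c : C, π c ∈ T ↔ InProd A P (c : G) := by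
    intro c
    constructor
    · rintro ⟨a, ha, e⟩
      exact ⟨a, ha, (QuotientGroup.eq (s := P.subgroupOf C)).mp e⟩
    · rintro ⟨a, ha, hp⟩
      exact ⟨⟨a, hAC ha⟩, ha, QuotientGroup.eq.mpr hp⟩
  have hnorm : ∀ c : C, π c ∈ normalizer (T : Set (C ⧸ P.subgroupOf C)) ↔
      ∀ a ∈ A, (c : G) * a * (c : G)⁻¹ ∈ A := by
    intro c
    constructor
    · intro hc a ha
      have h1 : π (c * ⟨a, hAC ha⟩ * c⁻¹) ∈ T := by
        rw [map_mul, map_mul, map_inv]
        exact (mem_normalizer_iff.mp hc _).mp ⟨⟨a, hAC ha⟩, ha, rfl⟩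
      obtain ⟨a', ha', hp⟩ := (hmemT _).mp h1
      simp only [coe_mul, coe_inv] at hp
      have h2 := hcube a' ha' _ hp (by rw [mul_inv_cancel_left, conj_pow, hA3 a ha, mul_one, mul_inv_cancel])
      rwa [mul_inv_cancel_left] at h2
    · intro hc
      have hT' : T.map (MulAut.conj (π c)).toMonoidHom ≤ T := by
        rintro _ ⟨_, ⟨a, ha, rfl⟩, rfl⟩
        show π c * π a * (π c)⁻¹ ∈ T
        rw [← map_inv, ← map_mul, ← map_mul]
        exact ⟨_, hc _ ha, rfl⟩
      have e := eq_of_le_of_card_ge hT'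
        (by rw [card_map_of_injective (f := (MulAut.conj (π c)).toMonoidHom) (MulAut.conj (π c)).injective])
      rw [mem_normalizer_iff]
      intro y
      refine ⟨fun hy => hT' ⟨y, hy, rfl⟩, fun hy => ?_⟩
      rw [← e] at hy
      obtain ⟨y', hy', e'⟩ := hy
      rwa [← (MulAut.conj (π c)).injective e']
  have hN : Nat.card (normalizer (T : Set (C ⧸ P.subgroupOf C))) = 36 := by
    set NT := normalizer (T : Set (C ⧸ P.subgroupOf C)) with hNT
    have h4 : (T.subgroupOf NT).index = 4 := by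
      let f : Fin 4 → NT ⧸ T.subgroupOf NT := fun i =>
        QuotientGroup.mk ⟨π ⟨r i, hrC i⟩, (hnorm _).mpr (hrN i)⟩
      have hrel : ∀ (i : Fin 4) (x : C) (hx : π x ∈ NT), f i = QuotientGroup.mk ⟨π x, hx⟩ ↔
          InProd A P ((r i)⁻¹ * x) := by
        intro i x hx
        rw [QuotientGroup.eq, mem_subgroupOf]
        exact hmemT (⟨r i, hrC i⟩⁻¹ * x)
      have hf : Function.Bijective f := by
        refine ⟨fun i j h => hrinj i j ((hrel i ⟨r j, hrC j⟩ _).mp h), fun y => ?_⟩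
        obtain ⟨⟨x, hx⟩, rfl⟩ := QuotientGroup.mk_surjective y
        obtain ⟨c, rfl⟩ := QuotientGroup.mk'_surjective (P.subgroupOf C) x
        obtain ⟨i, hi⟩ := hrex c c.2 ((hnorm c).mp hx)
        exact ⟨i, (hrel i c hx).mpr hi⟩
      rw [index_eq_card, ← Nat.card_eq_of_bijective f hf, Nat.card_fin]
    rw [← (T.subgroupOf NT).card_mul_index, h4, Nat.card_congr (subgroupOfEquivOfLe (le_normalizer)).toEquiv, hcardT]
  have hsq : ∀ x ∈ normalizer (T : Set (C ⧸ P.subgroupOf C)), x * x ∈ T := by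
    intro x hx
    obtain ⟨c, rfl⟩ := QuotientGroup.mk'_surjective (P.subgroupOf C) x
    obtain ⟨i, hi⟩ := hrex c c.2 ((hnorm c).mp hx)
    have hs : π (⟨r i, hrC i⟩⁻¹ * c) ∈ T := (hmemT _).mpr hi
    have hr : π (⟨r i, hrC i⟩ * ⟨r i, hrC i⟩) ∈ T := (hmemT _).mpr (hr2 i)
    have hri := (hnorm ⟨r i, hrC i⟩).mpr (hrN i)
    simp only [map_mul, map_inv] at hs hr
    set y := π ⟨r i, hrC i⟩
    have := mul_mem (mul_mem ((mem_normalizer_iff.mp hri _).mp hs) hr) hs
    rwa [show y * (y⁻¹ * π c) * y⁻¹ * (y * y) * (y⁻¹ * π c) = π c * π c by group] at this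
  have htop := nine_top T hcardT
    (by rintro _ ⟨a, ha, rfl⟩; rw [← map_pow, show a ^ 3 = 1 from Subtype.ext (hA3 _ ha), map_one])
    (by
      rintro _ ⟨a, ha, rfl⟩ _ ⟨b, hb, rfl⟩
      rw [← map_mul, ← map_mul]
      exact congrArg π (Subtype.ext (hAab _ ha _ hb)))
    (by
      intro x hx
      obtain ⟨c, rfl⟩ := QuotientGroup.mk'_surjective (P.subgroupOf C) x
      refine (hmemT c).mpr (hself c c.2 fun a ha => ?_)
      have e := mem_centralizer_iff.mp hx (π ⟨a, hAC ha⟩) ⟨_, ha, rfl⟩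
      have e2 : π (c * ⟨a, hAC ha⟩ * c⁻¹ * ⟨a, hAC ha⟩⁻¹) = 1 := by
        simp only [map_mul, map_inv]
        rw [mul_inv_eq_one, mul_inv_eq_iff_eq_mul]; exact e.symm
      exact (QuotientGroup.eq_one_iff (N := P.subgroupOf C) _).mp e2)
    hN hsq
    (by
      rintro _ ⟨a, ha, rfl⟩ ha1 x hx
      obtain ⟨c, rfl⟩ := QuotientGroup.mk'_surjective (P.subgroupOf C) x
      refine (hnorm c).mpr (hloc c c.2 a ha (fun h => ha1 ((QuotientGroup.eq_one_iff _).mpr h)) ?_)
      have e2 : π (c * a * c⁻¹ * a⁻¹) = 1 := by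
        simp only [map_mul, map_inv]
        rw [mul_inv_eq_one, mul_inv_eq_iff_eq_mul]; exact mem_centralizer_singleton_iff.mp hx
      exact (QuotientGroup.eq_one_iff (N := P.subgroupOf C) _).mp e2)
  intro c hc
  exact (hnorm ⟨c, hc⟩).mp (htop ▸ mem_top _)

end CfsgLib.O8T
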