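import Cfsg.Agent.Lib.OEightPlusThree.CentPair
import Cfsg.Agent.Lib.OEightPlusThree.QuotNine

/-!
Inside SL(2,3): centralizers in the centralizer of `q` of single supports, and complete fusion into `N`.
-/

set_option autoImplicit false
set_option synthInstance.maxSize 4096

namespace CfsgLib.O8T

open Subgroup

universe u

/-- A vector of single support. -/
def e1v : V4 := (1, 0, 0, 0)

/-- The stabilizer of both plane generators. -/
def fourW (i : Fin 4) : M4 × List (Fin 4) := [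
  (((1, 0, 0, 0), (0, 1, 0, 0), (0, 0, 1, 0), (0, 0, 0, 1)), []),
  (((1, 0, 0, 0), (0, 1, 0, 0), (0, 0, 0, 1), (0, 0, 1, 0)), [0, 1, 0, 1, 0, 1]),
  (((1, 0, 0, 0), (0, 1, 0, 0), (0, 0, 0, 2), (0, 0, 2, 0)), [3, 0, 2, 2, 0, 0, 0]),
  (((1, 0, 0, 0), (0, 1, 0, 0), (0, 0, 2, 0), (0, 0, 0, 2)), [0, 2, 0])].getD i.val (idM, [])

theorem four_facts : ∀ i : Fin 4, fourW i ∈ stabWords ∧ comp (fourW i).1 (fourW i).1 = idM ∧
    app (fourW i).1 e1v = e1v ∧ ∀ j : Fin 4, (fourW i).1 = (fourW j).1 → i = j := by decide +kernel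

theorem four_complete : stabWords.all (fun p => decide (app p.1 e1v = e1v → ∃ i : Fin 4, p.1 = (fourW i).1)) = true := by
  decide +kernel

theorem four_faithful : ∀ i : Fin 4, (∀ c : V4, (app (fourW i).1 c).2.2 = c.2.2) → i = 0 := by decide +kernel

theorem four_zero : (fourW 0).1 = idM := by decide +kernel

theorem plane_cover : ∀ c : V4, c.2.2 = 0 → ∃ i j : Fin 3, c = i.val • e1v + j.val • qv := by decide +kernel

theorem plane_meets : ∀ c : V4, c.2.2 ≠ 0 → ∃ i j : Fin 3, Meets (c + (i.val • e1v + j.val • qv)) := by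
  decide +kernel

theorem plane_self : ∀ i j : Fin 3, (i.val • e1v + j.val • qv : V4).2.2 = 0 := by decide +kernel

theorem single_reduce : ∀ v : V4, ¬ InQ v → ¬ Meets v →
    stabWords.any (fun p => decide (∃ i k : Fin 3, k.val • (app p.1 v + i.val • qv) = e1v)) = true := by
  decide +kernel

theorem single_faithful : stabWords.all (fun p => decide (∀ v : V4, ¬ InQ v → ¬ Meets v → app p.1 v = v →
    comp p.1 (comp p.1 p.1) = idM → p.1 = idM)) = true := by decide +kernel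

variable {G : Type u} [Group G]

namespace Frame

variable [Finite G] (F : Frame G)

/-- The plane of `e1v` and `q`. -/
def plane12 : Subgroup G where
  carrier := {x | ∃ c : V4, c.2.2 = 0 ∧ x = F.e c}
  one_mem' := ⟨0, rfl, F.e_zero.symm⟩
  mul_mem' := by
    rintro _ _ ⟨c, hc, rfl⟩ ⟨d, hd, rfl⟩
    exact ⟨c + d, by rw [Prod.snd_add, Prod.snd_add, hc, hd, add_zero], (F.e_add c d).symm⟩
  inv_mem' := by
    rintro _ ⟨c, hc, rfl⟩
    exact ⟨-c, by rw [Prod.snd_neg, Prod.snd_neg, hc, neg_zero], (F.e_neg c).symm⟩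

theorem mem_plane12 {c : V4} : F.e c ∈ F.plane12 ↔ c.2.2 = 0 :=
  ⟨fun ⟨d, hd, h⟩ => by rw [F.e_inj h]; exact hd, fun h => ⟨c, h, rfl⟩⟩

theorem card_plane12 : Nat.card F.plane12 = 9 := by
  let f : ZMod 3 × ZMod 3 → F.plane12 := fun p => ⟨F.e (p.1, p.2, 0, 0), (p.1, p.2, 0, 0), rfl, rfl⟩
  have hf : Function.Bijective f := by
    refine ⟨fun p p' h => ?_, fun ⟨x, c, hc, hx⟩ => ⟨(c.1, c.2.1), Subtype.ext ?_⟩⟩
    · have h' := F.e_inj (congrArg Subtype.val h)
      exact Prod.ext (congrArg (fun c : V4 => c.1) h') (congrArg (fun c : V4 => c.2.1) h')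
    · show F.e (c.1, c.2.1, 0, 0) = x
      rw [hx]
      congr 1
      exact Prod.ext rfl (Prod.ext rfl hc.symm)
  rw [← Nat.card_eq_of_bijective f hf, Nat.card_prod, Nat.card_zmod]

/-- The centralizer of `q` and `e1v` lies in the normalizer. -/
theorem cent_e1 (hin : F.Inner) {g : G} (hg : g ∈ F.Cq) (he : g * F.e e1v = F.e e1v * g) : g ∈ F.N := by
  set C : Subgroup G := F.Cq ⊓ centralizer ({F.e e1v} : Set G) with hC
  have hgC : g ∈ C := ⟨hg, mem_centralizer_singleton_iff.2 he⟩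
  have hJC : F.Jg ≤ C := fun a ha => ⟨F.J_le_Cq ha, mem_centralizer_singleton_iff.2 (F.adj.J_comm a ha _ (F.e_mem _))⟩
  have hcomm : ∀ c ∈ C, ∀ i j : Fin 3, c * F.e (i.val • e1v + j.val • qv) = F.e (i.val • e1v + j.val • qv) * c := by
    intro c hc i j
    rw [F.e_add, ← F.e_pow]
    exact (((show Commute c (F.e e1v) from mem_centralizer_singleton_iff.1 hc.2).pow_right i.val).mul_right
      (F.Cq_comm hc.1 j.val)).eq
  have hact : ∀ c ∈ C, c ∈ F.N → ∃ i : Fin 4, F.Act c (fourW i).1 := by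
    intro c hc hN
    obtain ⟨M, hM⟩ := F.exists_act hN
    obtain ⟨p, hp, rfl⟩ := List.mem_map.1 ((F.stab_act hN hc.1 hM).2 hin)
    have h := List.all_eq_true.1 four_complete p hp
    simp only [decide_eq_true_eq] at h
    obtain ⟨i, hi⟩ := h (F.e_inj (by rw [← hM, mem_centralizer_singleton_iff.1 hc.2, mul_inv_cancel_right]))
    exact ⟨i, hi ▸ hM⟩
  choose n hn hnq using fun i => F.exists_lift_stab (four_facts i).1
  have hnC : ∀ i, n i ∈ C := fun i => ⟨hnq i, mem_centralizer_singleton_iff.2 (mul_inv_eq_iff_eq_mul.1 (by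
    rw [(hn i).1, (four_facts i).2.2.1]))⟩
  have hJnorm : ∀ c ∈ F.N, ∀ a ∈ F.Jg, c * a * c⁻¹ ∈ F.Jg := fun c hc a ha => (hc a).2 ha
  have hin' : ∀ c, InProd F.Jg F.plane12 c ↔ c ∈ F.Jg := by
    intro c
    refine ⟨fun ⟨a, ha, hp⟩ => ?_, fun h => ⟨c, h, by rw [inv_mul_cancel]; exact one_mem _⟩⟩
    obtain ⟨d, -, hd⟩ := hp
    rw [← mul_inv_cancel_left a c, hd]
    exact mul_mem ha (F.e_mem d)
  have hinf : F.plane12 ⊓ F.Jg = F.plane12 := inf_eq_left.2 (by rintro _ ⟨d, -, rfl⟩; exact F.e_mem d)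
  refine F.mem_N_of_norm (central_nine C F.plane12 F.Jg ?_ ?_ hJC (fun a ha => F.adj.J_exp ha) F.adj.J_comm ?_ ?_ ?_
    n hnC (fun i => hJnorm _ (F.mem_N (hn i).1)) ?_ ?_ ?_ ?_ g hgC)
  · rintro _ ⟨d, -, rfl⟩; exact hJC (F.e_mem d)
  · rintro _ ⟨d, hd, rfl⟩ c hc
    obtain ⟨i, j, rfl⟩ := plane_cover d hd
    exact hcomm c hc i j
  · rw [hinf, F.adj.card_J, F.card_plane12]
  · rintro a ha _ ⟨d, -, rfl⟩ -
    exact mul_mem ha (F.e_mem d)
  · intro c hc h
    have hcN : c ∈ F.N := F.mem_N_of_norm fun a ha => by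
      obtain ⟨d, -, hd⟩ := h a ha
      rw [mul_inv_eq_iff_eq_mul.1 hd]
      exact mul_mem (F.e_mem d) ha
    obtain ⟨i, hi⟩ := hact c hc hcN
    rw [hin']
    refine F.mem_J_of_act (four_zero ▸ (four_faithful i fun v => ?_) ▸ hi)
    obtain ⟨d, hd, hd'⟩ := h _ (F.e_mem v)
    rw [hi, ← F.e_neg, ← F.e_add] at hd'
    rw [← F.e_inj hd', Prod.snd_add, Prod.snd_add, Prod.snd_neg, Prod.snd_neg, ← sub_eq_add_neg] at hd
    exact sub_eq_zero.1 hd
  · intro i
    rw [hin', F.lift_invol (hn i) (four_facts i).2.1]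
    exact one_mem _
  · intro c hc h
    obtain ⟨i, hi⟩ := hact c hc (F.mem_N_of_norm h)
    refine ⟨i, (hin' _).2 (F.mem_J_of_act fun v => ?_)⟩
    have hni : (n i)⁻¹ = n i := inv_eq_of_mul_eq_one_right (F.lift_invol (hn i) (four_facts i).2.1)
    rw [hni, F.act_mul (hn i).1 hi, (four_facts i).2.1]
  · intro i j h
    have hA : F.Act ((n i)⁻¹ * n j) idM := F.act_J ((hin' _).1 h)
    have h2 := F.act_mul (hn i).1 hA
    rw [mul_inv_cancel_left, show comp (fourW i).1 idM = (fourW i).1 by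
      obtain ⟨b1, b2, b3, b4⟩ := app_basis (fourW i).1
      simp only [comp, idM, b1, b2, b3, b4]] at h2
    exact (four_facts i).2.2.2 j (F.act_unique h2 (hn j).1)
  · intro c hc a ha haP hp b hb
    obtain ⟨v, rfl⟩ := F.e_surj ha
    obtain ⟨i, j, hij⟩ := plane_meets v (fun h => haP (F.mem_plane12.2 h))
    obtain ⟨d, hd, hd'⟩ := hp
    obtain ⟨i', j', rfl⟩ := plane_cover d hd
    refine hJnorm c (F.fuse_wt3 hc.1 hij ?_) b hb
    have e1 : c⁻¹ * F.e v * c = (F.e (i'.val • e1v + j'.val • qv))⁻¹ * F.e v := by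
      calc c⁻¹ * F.e v * c = c⁻¹ * ((F.e (i'.val • e1v + j'.val • qv))⁻¹ * (c * F.e v * c⁻¹)) * c := by
            rw [mul_inv_eq_iff_eq_mul.1 hd']; group
        _ = (c⁻¹ * ((F.e (i'.val • e1v + j'.val • qv))⁻¹ * c)) * F.e v := by group
        _ = _ := by rw [← (show Commute c _ from hcomm c hc i' j').inv_right.eq, inv_mul_cancel_left]
    rw [F.e_add, show c⁻¹ * (F.e v * F.e (i.val • e1v + j.val • qv)) * c =
      (c⁻¹ * F.e v * c) * (c⁻¹ * (F.e (i.val • e1v + j.val • qv) * c)) by group, ← hcomm c hc i j,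
      inv_mul_cancel_left, e1]
    exact mul_mem (mul_mem (inv_mem (F.e_mem _)) (F.e_mem _)) (F.e_mem _)

/-- The centralizer of `q` and an element of `J` outside its span lies in the normalizer. -/
theorem cent_all (hin : F.Inner) {g : G} (hg : g ∈ F.Cq) {v : V4} (hv : ¬ InQ v) (h : g * F.e v = F.e v * g) :
    g ∈ F.N := by
  by_cases hm : Meets v
  · exact F.cent_wt3 hg hm h
  obtain ⟨p, hp, hp'⟩ := List.any_eq_true.1 (single_reduce v hv hm)
  simp only [decide_eq_true_eq] at hp'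
  obtain ⟨i, k, hik⟩ := hp'
  obtain ⟨hq, hA⟩ := F.word_Cq hp
  set n := F.word p.2
  suffices n * g * n⁻¹ ∈ F.N by
    have h2 := mul_mem (mul_mem (inv_mem (F.word_N p.2)) this) (F.word_N p.2)
    change n⁻¹ * (n * g * n⁻¹) * n ∈ F.N at h2
    rwa [show n⁻¹ * (n * g * n⁻¹) * n = g by group] at h2
  have hq' : n * g * n⁻¹ ∈ F.Cq := mul_mem (mul_mem hq hg) (inv_mem hq)
  refine F.cent_e1 hin hq' ?_
  have hc : Commute (n * g * n⁻¹) (F.e (app p.1 v)) := by
    show n * g * n⁻¹ * F.e (app p.1 v) = F.e (app p.1 v) * (n * g * n⁻¹)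
    rw [← hA v]
    calc n * g * n⁻¹ * (n * F.e v * n⁻¹) = n * (g * F.e v) * n⁻¹ := by group
      _ = n * F.e v * n⁻¹ * (n * g * n⁻¹) := by rw [h]; group
  rw [← hik, ← F.e_pow, F.e_add]
  exact ((hc.mul_right (F.Cq_comm hq' i.val)).pow_right k.val).eq

/-- Fusion of any element of `J` outside the span of `q`. -/
theorem fuse_all (hin : F.Inner) {g : G} (hg : g ∈ F.Cq) {v : V4} (hv : ¬ InQ v) (h : g⁻¹ * F.e v * g ∈ F.Jg) :
    g ∈ F.N := by
  by_cases hm : Meets v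
  · exact F.fuse_wt3 hg hm h
  refine F.mem_N_of_norm fun a ha => ?_
  set t := g * a * g⁻¹ with ht
  have htq : t ∈ F.Cq := mul_mem (mul_mem hg (F.J_le_Cq ha)) (inv_mem hg)
  have hcomm : t * F.e v = F.e v * t := by
    calc g * a * g⁻¹ * F.e v = g * (a * (g⁻¹ * F.e v * g)) * g⁻¹ := by group
      _ = g * ((g⁻¹ * F.e v * g) * a) * g⁻¹ := by rw [F.adj.J_comm a ha _ h]
      _ = F.e v * (g * a * g⁻¹) := by group
  have hN := F.cent_all hin htq hv hcomm
  obtain ⟨M, hM⟩ := F.exists_act hN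
  obtain ⟨p, hp, rfl⟩ := List.mem_map.1 ((F.stab_act hN htq hM).2 hin)
  have hs := List.all_eq_true.1 single_faithful p hp
  simp only [decide_eq_true_eq] at hs
  have h3 : t * (t * t) = 1 := by
    rw [ht, ← pow_two, ← pow_succ', conj_pow, F.adj.J_exp ha, mul_one, mul_inv_cancel]
  have hid := hs v hv hm (F.e_inj (by rw [← hM, hcomm, mul_inv_cancel_right]))
    (F.act_unique (F.act_mul hM (F.act_mul hM hM)) (by rw [h3]; exact F.act_one))
  exact F.mem_J_of_act (hid ▸ hM)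

end Frame

end CfsgLib.O8T
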