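import Cfsg.Agent.Lib.OEightPlusThree.CentBurnside

/-!
Inside SL(2,3): the centralizer of `q` lies in the normalizer of `J`.
-/

set_option autoImplicit false
set_option synthInstance.maxSize 4096

namespace CfsgLib.O8T

open Subgroup

universe u

variable {G : Type u} [Group G]

/-- A `p`-subgroup whose normalizer has only it as a `p`-part is a Sylow subgroup. -/
theorem sylow_of_norm {X : Type*} [Group X] [Finite X] {p : ℕ} [Fact p.Prime] (E : Subgroup X) (hE : IsPGroup p E)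
    (h : ∀ x : X, (∃ n, x ^ p ^ n = 1) → (∀ y ∈ E, x * y * x⁻¹ ∈ E) → x ∈ E) :
    ∃ P : Sylow p X, (P : Subgroup X) = E := by
  obtain ⟨P, hP⟩ := hE.exists_le_sylow
  refine ⟨P, le_antisymm ?_ hP⟩
  by_contra hle
  haveI : Group.IsNilpotent (P : Subgroup X) := P.2.isNilpotent
  have hlt : E.subgroupOf (P : Subgroup X) < ⊤ :=
    lt_top_iff_ne_top.mpr fun h' => hle (subgroupOf_eq_top.mp h')
  obtain ⟨x, hxn, hxE⟩ := SetLike.exists_of_lt (Group.normalizerCondition_of_isNilpotent _ hlt)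
  obtain ⟨n, hn⟩ := P.2 x
  refine hxE (h (x : X) ⟨n, congrArg Subtype.val hn⟩ fun y hy => ?_)
  exact (mem_normalizer_iff.mp hxn ⟨y, hP hy⟩).mp hy

namespace Frame

variable [Finite G] (F : Frame G)

set_option maxHeartbeats 1000000 in
theorem inner_Cq_le (hin : F.Inner) : F.Cq ≤ F.N := by
  classical
  haveI : Fact (Nat.Prime 2) := ⟨Nat.prime_two⟩
  haveI : Fact (Nat.Prime 3) := ⟨Nat.prime_three⟩
  obtain ⟨K, hK, -, hKb, hJK, hKinv, hKN⟩ := F.exists_inner_kernel hin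
  obtain ⟨hEq, hEcard, hE2, hEc⟩ := F.eGroup_facts
  have hEK : F.eGroup ≤ K := fun n hn => hKinv n (hEq hn) (hE2 n hn)
  have hq3 : F.q ^ 3 = 1 := F.D.Q_exp _ F.q_Q.1
  have hqE : ∀ i : ℕ, ∀ n ∈ F.eGroup, Commute (F.q ^ i) n := fun i n hn =>
    ((show Commute n F.q from F.mem_Cq.1 (hEq hn)).pow_right i).symm
  have hnorm : ∀ x : K, (∀ y ∈ F.eGroup.subgroupOf K, x * y * x⁻¹ ∈ F.eGroup.subgroupOf K) →
      ∃ i : ℕ, ∃ n ∈ F.eGroup, (x : G) = F.q ^ i * n := fun x hx =>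
    F.norm_eGroup hin hK hKN x.2 fun n hn => hx ⟨n, hEK hn⟩ hn
  obtain ⟨P, hP⟩ := sylow_of_norm (p := 2) (F.eGroup.subgroupOf K)
    (IsPGroup.of_card (n := 3) (by rw [Nat.card_congr (subgroupOfEquivOfLe hEK).toEquiv, hEcard]; rfl))
    fun x hx hxE => by
      obtain ⟨i, n, hn, hxn⟩ := hnorm x hxE
      obtain ⟨e, he⟩ := hx
      have h1 : (F.q ^ i * n) ^ 2 ^ (e + 1) = 1 := by
        rw [← hxn, pow_succ, pow_mul, show (x : G) ^ 2 ^ e = 1 from congrArg Subtype.val he, one_pow]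
      rw [(hqE i n hn).mul_pow, show 2 ^ (e + 1) = 2 * 2 ^ e by ring, pow_mul n, pow_two, hE2 n hn, one_pow,
        mul_one] at h1
      have hq1 : F.q ^ i = 1 := by
        have h3 : (F.q ^ i) ^ 3 = 1 := by rw [← pow_mul, mul_comm, pow_mul, hq3, one_pow]
        have := pow_gcd_eq_one.2 ⟨h3, h1⟩
        rwa [show Nat.gcd 3 (2 * 2 ^ e) = 1 from Nat.Coprime.mul_right (by norm_num)
          ((show Nat.Coprime 3 2 by norm_num).pow_right e), pow_one] at this
      show (x : G) ∈ F.eGroup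
      rw [hxn, hq1, one_mul]; exact hn
  have hburn : normalizer ((P : Subgroup K) : Set K) ≤ centralizer ((P : Subgroup K) : Set K) := by
    intro x hx
    rw [hP] at hx ⊢
    obtain ⟨i, n, hn, hxn⟩ := hnorm x fun y hy => (mem_normalizer_iff.1 hx y).1 hy
    refine mem_centralizer_iff.2 fun y hy => Subtype.ext ?_
    show (y : G) * (x : G) = (x : G) * (y : G)
    rw [hxn]
    exact (((hqE i (y : G) hy).symm).mul_right (hEc (y : G) hy n hn)).eq
  have hcomp := MonoidHom.ker_transferSylow_isComplement' P hburn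
  have hodd := MonoidHom.not_dvd_card_ker_transferSylow P hburn
  set N2 := (MonoidHom.transferSylow P hburn).ker with hN2
  set M2 : Subgroup G := N2.map K.subtype with hM2
  have hM2K : M2 ≤ K := map_subtype_le _
  have hcard2 : Nat.card M2 = Nat.card N2 := card_map_of_injective K.subtype_injective
  have hsq : ∀ y ∈ M2, y * y = 1 → y = 1 := fun y hy h => by
    have h2 : orderOf y ∣ 2 := orderOf_dvd_of_pow_eq_one (by rw [pow_two, h])
    have h3 : orderOf y ∣ Nat.card N2 := hcard2 ▸ M2.orderOf_dvd_natCard hy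
    have h4 := Nat.dvd_gcd h2 h3
    rwa [(Nat.Prime.coprime_iff_not_dvd Nat.prime_two).2 hodd |>.gcd_eq_one, Nat.dvd_one, orderOf_eq_one_iff] at h4
  have hJ2 : F.Jg ≤ M2 := by
    intro a ha
    refine ⟨⟨a, hJK ha⟩, ?_, rfl⟩
    rw [SetLike.mem_coe, hN2, MonoidHom.mem_ker]
    obtain ⟨e, he⟩ := P.2 (MonoidHom.transferSylow P hburn ⟨a, hJK ha⟩)
    have h3 : (MonoidHom.transferSylow P hburn ⟨a, hJK ha⟩) ^ 3 = 1 := by
      rw [← map_pow, show (⟨a, hJK ha⟩ : K) ^ 3 = 1 from Subtype.ext (F.adj.J_exp ha), map_one]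
    have := pow_gcd_eq_one.2 ⟨h3, he⟩
    rwa [show Nat.gcd 3 (2 ^ e) = 1 from ((show Nat.Coprime 3 2 by norm_num).pow_right e), pow_one] at this
  have hMN : ∀ y ∈ M2, y ∈ F.N → y ∈ F.Jg := fun y hy hyN => by
    obtain ⟨s, hs⟩ := hKN y (hM2K hy) hyN
    obtain ⟨n, hn, -⟩ := F.exists_lift_mat (eM_facts s).1
    have hnE : n ∈ F.eGroup := ⟨s, hn⟩
    have hyn : y * n ∈ F.Jg := F.mem_J_of_act ((eM_facts s).2.1 ▸ F.act_mul hs hn.1)
    have hn2 : n ∈ M2 := by
      have := mul_mem (inv_mem hy) (hJ2 hyn)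
      rwa [inv_mul_cancel_left] at this
    rwa [hsq n hn2 (hE2 n hnE), mul_one] at hyn
  have hJnorm : ∀ x : M2, (∀ y ∈ F.Jg.subgroupOf M2, x * y * x⁻¹ ∈ F.Jg.subgroupOf M2) → (x : G) ∈ F.Jg := fun x hx =>
    hMN _ x.2 (F.mem_N_of_norm fun a ha => hx ⟨a, hJ2 ha⟩ ha)
  obtain ⟨T, hT⟩ := sylow_of_norm (p := 3) (F.Jg.subgroupOf M2)
    (IsPGroup.of_card (n := 4) (by rw [Nat.card_congr (subgroupOfEquivOfLe hJ2).toEquiv, F.adj.card_J]; rfl))
    fun x _ hx => hJnorm x hx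
  have hburn3 : normalizer ((T : Subgroup M2) : Set M2) ≤ centralizer ((T : Subgroup M2) : Set M2) := by
    intro x hx
    rw [hT] at hx ⊢
    have hxJ := hJnorm x fun y hy => (mem_normalizer_iff.1 hx y).1 hy
    exact mem_centralizer_iff.2 fun y hy => Subtype.ext (F.adj.J_comm _ hy _ hxJ)
  have hcomp3 := MonoidHom.ker_transferSylow_isComplement' T hburn3
  have h3 := MonoidHom.not_dvd_card_ker_transferSylow T hburn3
  set L := (MonoidHom.transferSylow T hburn3).ker with hL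
  have hbot : L.map M2.subtype = ⊥ := F.signalizer ((map_subtype_le _).trans (hM2K.trans hK))
    (by
      rw [card_map_of_injective M2.subtype_injective]
      exact ((Nat.Prime.coprime_iff_not_dvd Nat.prime_three).2 h3).symm)
    (by
      intro a ha
      rw [mem_normalizer_iff]
      have hmem : ∀ g : M2, ∀ y ∈ L.map M2.subtype, (g : G) * y * (g : G)⁻¹ ∈ L.map M2.subtype := by
        rintro g _ ⟨l, hl, rfl⟩
        rw [SetLike.mem_coe, hL, MonoidHom.mem_ker] at hl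
        refine Subgroup.mem_map.2 ⟨g * l * g⁻¹, ?_, ?_⟩
        · rw [hL, MonoidHom.mem_ker, map_mul, map_mul, map_inv, hl, mul_one, mul_inv_cancel]
        · simp only [Subgroup.subtype_apply, Subgroup.coe_mul, Subgroup.coe_inv]
      refine fun y => ⟨hmem ⟨a, hJ2 ha⟩ y, fun hy => ?_⟩
      have := hmem ⟨a, hJ2 ha⟩⁻¹ _ hy
      simpa [mul_assoc] using this)
  have hcardM2 : Nat.card M2 = 81 := by
    rw [← hcomp3.card_mul, show L = ⊥ from (map_eq_bot_iff_of_injective _ M2.subtype_injective).1 hbot, card_bot,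
      one_mul, hT, Nat.card_congr (subgroupOfEquivOfLe hJ2).toEquiv, F.adj.card_J]
  have hJM : M2 = F.Jg := (eq_of_le_of_card_ge hJ2 (by rw [hcardM2, F.adj.card_J])).symm
  have hKle : K ≤ F.N := fun k hk => F.mem_N_of_norm fun a ha => by
    show k * a * k⁻¹ ∈ F.Jg
    change a ∈ F.Jg at ha
    rw [← hJM] at ha ⊢
    obtain ⟨v, hv, rfl⟩ := ha
    rw [SetLike.mem_coe, hN2, MonoidHom.mem_ker] at hv
    refine Subgroup.mem_map.2 ⟨⟨k, hk⟩ * v * ⟨k, hk⟩⁻¹, ?_, ?_⟩
    · rw [hN2, MonoidHom.mem_ker, map_mul, map_mul, map_inv, hv, mul_one, mul_inv_cancel]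
    · simp only [Subgroup.subtype_apply, Subgroup.coe_mul, Subgroup.coe_inv]
  intro g hg
  obtain ⟨j, hj⟩ := hKb g hg
  have := mul_mem (hKle hj) (inv_mem (F.mem_N (F.act_bpow j)))
  rwa [mul_inv_cancel_right] at this

end Frame

end CfsgLib.O8T
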