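import Mathlib

/-!
Elements of order three commuting with a product of three disjoint three-cycles in `Sym(9)`.
-/

set_option autoImplicit false

namespace CfsgLib.O8T

open Equiv

/-- The product of three three-cycles. -/
def sig9 : Perm (Fin 9) :=
  swap (0 : Fin 9) 1 * swap 1 2 * swap 3 4 * swap 4 5 * swap 6 7 * swap 7 8

/-- The three cycles. -/
def cyc9 (r : Fin 3) : Perm (Fin 9) :=
  [swap (0 : Fin 9) 1 * swap 1 2, swap (3 : Fin 9) 4 * swap 4 5, swap (6 : Fin 9) 7 * swap 7 8].getD r.val 1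

/-- The map determined by the images of three representatives. -/
def nine (a b c : Fin 9) (i : Fin 9) : Fin 9 :=
  (⇑sig9)^[i.val % 3] ([a, b, c].getD (i.val / 3) 0)

theorem nine_check : ∀ a b c : Fin 9, (∀ i, nine a b c (nine a b c (nine a b c i)) = i) →
    (∃ p, nine a b c p = p) → ∀ r : Fin 3, ∀ i, nine a b c (cyc9 r i) = cyc9 r (nine a b c i) := by decide +kernel

theorem sig9_point : ∀ i : Fin 9, (⇑sig9)^[i.val % 3] ⟨3 * (i.val / 3), by omega⟩ = i := by decide +kernel

theorem cyc9_facts : (∀ r s : Fin 3, cyc9 r * cyc9 s = cyc9 s * cyc9 r) ∧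
    (∀ r : Fin 3, cyc9 r ^ 3 = 1 ∧ cyc9 r * sig9 = sig9 * cyc9 r) ∧
    (∀ p p' : Fin 3 × Fin 3 × Fin 3, cyc9 0 ^ p.1.val * cyc9 1 ^ p.2.1.val * cyc9 2 ^ p.2.2.val =
      cyc9 0 ^ p'.1.val * cyc9 1 ^ p'.2.1.val * cyc9 2 ^ p'.2.2.val → p = p') ∧
    (∀ i, sig9 i ≠ i) ∧ sig9 ^ 3 = 1 ∧ sig9 ≠ 1 := by decide +kernel

/-- An element of order dividing three with a fixed point commuting with `sig9` commutes with each cycle. -/
theorem comm_cyc9 {x : Perm (Fin 9)} (h3 : x ^ 3 = 1) (hc : x * sig9 = sig9 * x) {p : Fin 9} (hp : x p = p)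
    (r : Fin 3) : x * cyc9 r = cyc9 r * x := by
  have hit : ∀ m i, x ((⇑sig9)^[m] i) = (⇑sig9)^[m] (x i) := fun m i =>
    ((show Function.Semiconj x sig9 sig9 from fun j => DFunLike.congr_fun hc j).iterate_right m) i
  have e : ∀ i, nine (x 0) (x 3) (x 6) i = x i := fun i => by
    conv_rhs => rw [← sig9_point i, hit]
    unfold nine
    congr 1
    fin_cases i <;> rfl
  ext i
  rw [Perm.mul_apply, Perm.mul_apply, ← e, ← e i]
  refine congrArg Fin.val (nine_check _ _ _ (fun j => ?_) ⟨p, by rw [e]; exact hp⟩ r i)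
  rw [e, e, e]
  exact DFunLike.congr_fun h3 j

/-- An element of order three without fixed points is conjugate to `sig9`. -/
theorem isConj_sig9 {x : Perm (Fin 9)} (h3 : x ^ 3 = 1) (hfree : ∀ i, x i ≠ i) : IsConj sig9 x := by
  haveI : Fact (Nat.Prime 3) := ⟨Nat.prime_three⟩
  have key : ∀ y : Perm (Fin 9), y ^ 3 = 1 → (∀ i, y i ≠ i) → y.cycleType = Multiset.replicate 3 3 := by
    intro y hy hf
    have hy1 : y ≠ 1 := fun h => hf 0 (by rw [h]; rfl)
    obtain ⟨n, hn⟩ := Perm.cycleType_prime_order (σ := y) (by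
      rw [orderOf_eq_prime hy hy1]; exact Nat.prime_three)
    rw [orderOf_eq_prime hy hy1] at hn
    have hs : y.support = Finset.univ := Finset.eq_univ_iff_forall.2 fun i => Perm.mem_support.2 (hf i)
    have hsum := y.sum_cycleType
    rw [hn, Multiset.sum_replicate, hs, Finset.card_univ, Fintype.card_fin, smul_eq_mul] at hsum
    rw [hn, show n + 1 = 3 by omega]
  rw [Perm.isConj_iff_cycleType_eq, key x h3 hfree, key sig9 cyc9_facts.2.2.2.2.1 cyc9_facts.2.2.2.1]

/-- The centralizer order determines the product of three three-cycles. -/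
theorem free_of_centralizer {x : Perm (Fin 9)} (h3 : x ^ 3 = 1) (h1 : x ≠ 1)
    (hc : Nat.card (Subgroup.centralizer ({x} : Set (Perm (Fin 9)))) = 162) : ∀ i, x i ≠ i := by
  haveI : Fact (Nat.Prime 3) := ⟨Nat.prime_three⟩
  obtain ⟨n, hn⟩ := Perm.cycleType_prime_order (σ := x) (by
    rw [orderOf_eq_prime h3 h1]; exact Nat.prime_three)
  rw [orderOf_eq_prime h3 h1] at hn
  have hsum := x.sum_cycleType
  rw [hn, Multiset.sum_replicate, smul_eq_mul] at hsum
  have hle : x.support.card ≤ 9 := x.support.card_le_univ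
  have hcard := Perm.nat_card_centralizer x
  rw [hc, hn, Fintype.card_fin, Multiset.sum_replicate, smul_eq_mul] at hcard
  have h2 : n = 2 := by
    rcases (show n = 0 ∨ n = 1 ∨ n = 2 by omega) with rfl | rfl | rfl
    · exact absurd hcard (by decide)
    · exact absurd hcard (by decide)
    · rfl
  intro i
  rw [← Perm.mem_support, (Finset.card_eq_iff_eq_univ x.support).1 (by rw [Fintype.card_fin]; omega)]
  exact Finset.mem_univ i

end CfsgLib.O8T
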