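import Cfsg.Agent.Lib.OEightPlusThree.CentPair
import Cfsg.Agent.Lib.OEightPlusThree.NineCycles
import Cfsg.Agent.S3343
import Cfsg.Agent.S3376

/-!
Outside SL(2,3): the centralizer of `q` lies in the normalizer of `J`, by recognizing `Sym(9)` and excluding it.
-/

set_option autoImplicit false
set_option synthInstance.maxSize 4096

namespace CfsgLib.O8T

open Subgroup

universe u

/-- The stabilizer of the centre modulo `q`. -/
def zst (i : Fin 6) : M4 := comp (powM pB (i.val % 3)) (powM pO (i.val / 3))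

/-- Representatives modulo `qv`. -/
def rep3 (r : ZMod 3 × ZMod 3 × ZMod 3) : V4 := (0, r.1, r.2.1, r.2.2)

theorem zst_facts : ∀ i : Fin 6, zst i ∈ stabQ ∧ InQ (app (zst i) (1, 1, 1, 0) - (1, 1, 1, 0)) ∧
    (∀ j : Fin 6, zst i = zst j → i = j) ∧ (3 ≤ i.val → comp (zst i) (zst i) = idM) ∧
    ((∀ c : V4, InQ (app (zst i) c - c)) → i = 0) ∧ (i.val < 3 → zst i = powM pB i.val) := by decide +kernel

theorem zst_complete : stabQ.all (fun M => decide (InQ (app M (1, 1, 1, 0) - (1, 1, 1, 0)) →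
    ∃ i : Fin 6, M = zst i)) = true := by decide +kernel

theorem stabQ_faithful : stabQ.all (fun M => decide ((∀ c : V4, InQ (app M c - c)) → M = idM)) = true := by
  decide +kernel

theorem zst_fixed : ∀ k : Fin 3, k ≠ 0 → ∀ c : V4, InQ (app (powM pB k.val) c - c) →
    ∃ a j : Fin 3, c = a.val • (1, 1, 1, 0) + j.val • qv := by decide +kernel

theorem zst_cube : ∀ i : Fin 6, comp (zst i) (comp (zst i) (zst i)) = idM → i.val < 3 := by decide +kernel

theorem zst_zero : zst 0 = idM := by decide +kernel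

theorem zv_meets : Meets ((1, 1, 1, 0) : V4) := by decide +kernel

theorem uA_modq : ∀ i j i' j' : ZMod 3, InQ (-uA i j + uA i' j') → (i, j) = (i', j') := by decide +kernel

theorem rep3_facts : (∀ c : V4, ∃ r, ∃ i : Fin 3, c = rep3 r + i.val • qv) ∧
    (∀ r r', InQ (rep3 r - rep3 r') → r = r') ∧ ¬ InQ (1, 1, 1, 0) := by decide +kernel

variable {G : Type u} [Group G]

namespace Frame

variable [Finite G] (F : Frame G)

theorem exists_lift_outer (hout : ¬ F.Inner) {M : M4} (h : M ∈ stabQ) : ∃ n, F.Lift n M ∧ n ∈ F.Cq := by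
  have hfix : app pO qv = qv := by decide
  unfold Inner at hout
  push Not at hout
  obtain ⟨o, ho, -, -⟩ := F.exists_o hout
  have hoA : F.Act (o : G) pO := F.act_of ho p_facts.2.2.2.2.2.2.1
  rcases List.mem_append.1 h with h | h
  · obtain ⟨p, hp, rfl⟩ := List.mem_map.1 h
    exact F.exists_lift_stab hp
  · obtain ⟨p, hp, rfl⟩ := List.mem_map.1 h
    obtain ⟨hq, hA⟩ := F.word_Cq hp
    obtain ⟨c, hc⟩ := F.split (F.act_mul hA hoA)
    exact ⟨_, hc, F.mem_Cq_of_act hc.1 (by rw [app_comp, hfix, F.Cq_act hq hA])⟩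

/-- The subgroup generated by `q` inside its centralizer. -/
abbrev Zq : Subgroup F.Cq := (zpowers F.q).subgroupOf F.Cq

instance Zq_normal : F.Zq.Normal := ⟨fun p hp c => by
  rw [mem_subgroupOf] at hp ⊢
  obtain ⟨m, hm⟩ := mem_zpowers_iff.1 hp
  rw [coe_mul, coe_mul, coe_inv, ← hm,
    ((show Commute (c : G) F.q from F.mem_Cq.1 c.2).zpow_right m).eq, mul_inv_cancel_right]
  exact zpow_mem (mem_zpowers _) m⟩

/-- The element of the quotient. -/
noncomputable abbrev bar {g : G} (hg : g ∈ F.Cq) : F.Cq ⧸ F.Zq := QuotientGroup.mk ⟨g, hg⟩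

theorem bar_eq {g h : G} (hg : g ∈ F.Cq) (hh : h ∈ F.Cq) : F.bar hg = F.bar hh ↔ g⁻¹ * h ∈ zpowers F.q :=
  QuotientGroup.eq

theorem z_Cq : F.D.z ∈ F.Cq := F.mem_Cq.2 (F.D.Q_z _ F.q_Q.1).symm

/-- An element commuting modulo `q` with an element of `J` whose coset meets weight three. -/
theorem comm_modq {g : G} (hg : g ∈ F.Cq) {v : V4} (hv : Meets v)
    (h : g * F.e v * g⁻¹ * (F.e v)⁻¹ ∈ zpowers F.q) : g ∈ F.N := by
  have hJ : g * F.e v * g⁻¹ ∈ F.Jg := by
    have := mul_mem ((zpowers_le.2 F.q_mem : zpowers F.q ≤ F.Jg) h) (F.e_mem v)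
    rwa [inv_mul_cancel_right] at this
  exact inv_mem_iff.1 (F.fuse_wt3 (g := g⁻¹) (inv_mem hg) hv (by rwa [inv_inv]))

theorem outer_data (hout : ¬ F.Inner) (x : F.Cq ⧸ F.Zq) (hx : x = F.bar F.z_Cq) :
    Nonempty (centralizer ({x} : Set (F.Cq ⧸ F.Zq)) ≃* centralizer ({sig9} : Set (Equiv.Perm (Fin 9)))) ∧
    Nat.card (centralizer ({x} : Set (F.Cq ⧸ F.Zq))) = 162 ∧
    ((∀ y, y * x = x * y → ∃ (i : Fin 6) (g : G) (hg : g ∈ F.Cq), y = F.bar hg ∧ F.Act g (zst i))) := by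
  classical
  haveI : Fact (Nat.Prime 3) := ⟨Nat.prime_three⟩
  haveI : Fact (Nat.Prime 2) := ⟨Nat.prime_two⟩
  set Cx := centralizer ({x} : Set (F.Cq ⧸ F.Zq)) with hCx
  choose n hn hnq using fun i : Fin 6 => F.exists_lift_outer hout (zst_facts i).1
  have hz : F.D.z = F.e (1, 1, 1, 0) := F.e_z.symm
  have hzm : Meets (1, 1, 1, 0) := zv_meets
  have hin : ∀ {g : G} (hg : g ∈ F.Cq), F.bar hg ∈ Cx ↔ g * F.D.z * g⁻¹ * F.D.z⁻¹ ∈ zpowers F.q := by
    intro g hg
    rw [mem_centralizer_singleton_iff, hx, eq_comm, show F.bar F.z_Cq * F.bar hg = F.bar (mul_mem F.z_Cq hg) from rfl,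
      show F.bar hg * F.bar F.z_Cq = F.bar (mul_mem hg F.z_Cq) from rfl, F.bar_eq]
    constructor
    · intro h
      have : g * ((F.D.z * g)⁻¹ * (g * F.D.z)) * g⁻¹ ∈ zpowers F.q := by
        obtain ⟨m, hm⟩ := mem_zpowers_iff.1 h
        rw [← hm, ((show Commute g F.q from F.mem_Cq.1 hg).zpow_right m).eq, mul_inv_cancel_right]
        exact zpow_mem (mem_zpowers _) m
      have e : g * ((F.D.z * g)⁻¹ * (g * F.D.z)) * g⁻¹ = F.D.z⁻¹ * (g * F.D.z * g⁻¹) := by group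
      rw [e] at this
      obtain ⟨m, hm⟩ := mem_zpowers_iff.1 this
      have hzq : Commute F.D.z (F.q ^ m) := (show Commute F.D.z F.q from F.mem_Cq.1 F.z_Cq).zpow_right m
      rw [show g * F.D.z * g⁻¹ = F.D.z * F.q ^ m by rw [hm]; group, hzq.eq, mul_inv_cancel_right]
      exact zpow_mem (mem_zpowers _) m
    · intro h
      obtain ⟨m, hm⟩ := mem_zpowers_iff.1 h
      have hzq : Commute g (F.q ^ m) := (show Commute g F.q from F.mem_Cq.1 hg).zpow_right m
      have hzz : Commute F.D.z (F.q ^ m) := (show Commute F.D.z F.q from F.mem_Cq.1 F.z_Cq).zpow_right m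
      have e : g * F.D.z = F.D.z * g * F.q ^ m := by
        calc g * F.D.z = (g * F.D.z * g⁻¹ * F.D.z⁻¹) * (F.D.z * g) := by group
          _ = F.q ^ m * (F.D.z * g) := by rw [hm]
          _ = _ := ((hzz.mul_left hzq).symm).eq
      rw [e, inv_mul_cancel_left]
      exact zpow_mem (mem_zpowers _) m
  have hact : ∀ {g : G} (hg : g ∈ F.Cq), F.bar hg ∈ Cx → ∃ i : Fin 6, F.Act g (zst i) := by
    intro g hg h
    have h' := (hin hg).1 h
    rw [hz] at h'
    have hN := F.comm_modq hg hzm h'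
    obtain ⟨M, hM⟩ := F.exists_act hN
    have hd : InQ (app M (1, 1, 1, 0) - (1, 1, 1, 0)) := by
      rw [← F.mem_zq, sub_eq_add_neg, F.e_add, F.e_neg, ← hM]
      exact h'
    have hc := List.all_eq_true.1 zst_complete M (F.stab_act hN hg hM).1
    simp only [decide_eq_true_eq] at hc
    obtain ⟨i, hi⟩ := hc hd
    exact ⟨i, hi ▸ hM⟩
  have hmem : ∀ {g : G} (hg : g ∈ F.Cq) (i : Fin 6), F.Act g (zst i) → F.bar hg ∈ Cx := by
    intro g hg i hA
    rw [hin hg, hz, hA, ← F.e_neg, ← F.e_add, ← sub_eq_add_neg, F.mem_zq]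
    exact (zst_facts i).2.1
  let f : Fin 6 × (ZMod 3 × ZMod 3 × ZMod 3) → Cx := fun p =>
    ⟨F.bar (g := F.e (rep3 p.2) * n p.1) (mul_mem (F.J_le_Cq (F.e_mem _)) (hnq p.1)),
      hmem _ p.1 (F.act_id_left (hn p.1).1 _ (F.e_mem _))⟩
  have hf : Function.Bijective f := by
    constructor
    · rintro ⟨i, r⟩ ⟨i', r'⟩ h
      have h' := (F.bar_eq _ _).1 (congrArg Subtype.val h)
      obtain ⟨m, hm⟩ := (isOfFinOrder_of_finite F.q).mem_powers_iff_mem_zpowers.2 h'
      have e : F.e (rep3 r') * n i' = F.e (rep3 r + m • qv) * n i := by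
        have e1 : F.e (rep3 r') * n i' = F.e (rep3 r) * n i * F.q ^ m := by
          rw [show F.q ^ m = _ from hm, mul_inv_cancel_left]
        have hq : n i * F.q ^ m = F.q ^ m * n i := ((show Commute (n i) F.q from F.mem_Cq.1 (hnq i)).pow_right m).eq
        rw [e1, mul_assoc, hq, ← mul_assoc, F.e_add, F.q_pow]
      obtain ⟨h1, h2, -⟩ := F.aff_unique (hn i') (hn i) e
      obtain rfl := (zst_facts i').2.2.1 i h2
      obtain rfl := rep3_facts.2.1 r' r (by
        rw [h1, add_sub_cancel_left, ← F.mem_zq, F.q_pow]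
        exact pow_mem (mem_zpowers _) m)
      rfl
    · rintro ⟨y, hy⟩
      obtain ⟨⟨g, hg⟩, rfl⟩ := QuotientGroup.mk_surjective y
      obtain ⟨i, hi⟩ := hact hg hy
      obtain ⟨M, m, c, hm, hgc, hgM⟩ := F.exists_aff (F.mem_N hi)
      obtain rfl := F.act_unique hgM hi
      obtain rfl := F.lift_unique hm (hn i)
      obtain ⟨r, j, hc⟩ := rep3_facts.1 c
      refine ⟨⟨i, r⟩, Subtype.ext ((F.bar_eq _ hg).2 ?_)⟩
      have hq : Commute (n i) (F.q ^ j.val) := (show Commute (n i) F.q from F.mem_Cq.1 (hnq i)).pow_right j.val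
      show (F.e (rep3 r) * n i)⁻¹ * g ∈ zpowers F.q
      rw [hgc, hc, F.e_add, F.q_pow, mul_assoc (F.e (rep3 r)) (F.q ^ j.val), ← hq.eq,
        ← mul_assoc (F.e (rep3 r)), inv_mul_cancel_left]
      exact pow_mem (mem_zpowers _) _
  have hcard : Nat.card Cx = 162 := by
    rw [← Nat.card_eq_of_bijective f hf, Nat.card_prod, Nat.card_prod, Nat.card_prod, Nat.card_zmod, Nat.card_fin]
  refine ⟨?_, hcard, fun y hy => ?_⟩
  · set J1 : Subgroup Cx := ((F.Jg.subgroupOf F.Cq).map (QuotientGroup.mk' F.Zq)).subgroupOf Cx with hJ1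
    have hJmem : ∀ {g : G} (hg : g ∈ F.Cq) (h : F.bar hg ∈ Cx), (⟨F.bar hg, h⟩ : Cx) ∈ J1 ↔ g ∈ F.Jg := by
      intro g hg h
      constructor
      · rintro ⟨⟨a, ha⟩, haJ, e⟩
        have e' := (F.bar_eq ha hg).1 e
        have := mul_mem (show a ∈ F.Jg from haJ) ((zpowers_le.2 F.q_mem : zpowers F.q ≤ F.Jg) e')
        rwa [mul_inv_cancel_left] at this
      · intro hgJ
        exact ⟨⟨g, hg⟩, hgJ, rfl⟩
    have hforms : ∀ y : Cx, ∃ (g : G) (hg : g ∈ F.Cq) (h : F.bar hg ∈ Cx) (i : Fin 6),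
        y = ⟨F.bar hg, h⟩ ∧ F.Act g (zst i) := by
      rintro ⟨y, hy⟩
      obtain ⟨⟨g, hg⟩, rfl⟩ := QuotientGroup.mk_surjective y
      obtain ⟨i, hi⟩ := hact hg hy
      exact ⟨g, hg, hy, i, rfl, hi⟩
    haveI hn1 : J1.Normal := ⟨fun a ha y => by
      obtain ⟨g, hg, hgx, i, rfl, hi⟩ := hforms y
      obtain ⟨a', ha', hax, i', rfl, -⟩ := hforms a
      have haJ := (hJmem ha' hax).1 ha
      exact (hJmem (mul_mem (mul_mem hg ha') (inv_mem hg)) (mul_mem (mul_mem hgx hax) (inv_mem hgx))).2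
        ((F.mem_N hi _).2 haJ)⟩
    have hc1 : ∀ a ∈ J1, ∀ b ∈ J1, a * b = b * a := by
      intro a ha b hb
      obtain ⟨g, hg, hgx, i, rfl, -⟩ := hforms a
      obtain ⟨g', hg', hgx', i', rfl, -⟩ := hforms b
      refine Subtype.ext ?_
      show F.bar hg * F.bar hg' = F.bar hg' * F.bar hg
      exact congrArg QuotientGroup.mk (Subtype.ext (F.adj.J_comm _ ((hJmem hg hgx).1 ha) _ ((hJmem hg' hgx').1 hb)))
    have he1 : ∀ a ∈ J1, a ^ 3 = 1 := by
      intro a ha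
      obtain ⟨g, hg, hgx, i, rfl, -⟩ := hforms a
      refine Subtype.ext ?_
      show F.bar hg ^ 3 = 1
      rw [← QuotientGroup.mk_pow, show (⟨g, hg⟩ : F.Cq) ^ 3 = 1 from Subtype.ext (F.adj.J_exp ((hJmem hg hgx).1 ha))]
      rfl
    have hcard1 : Nat.card J1 = 27 := by
      let k : (ZMod 3 × ZMod 3 × ZMod 3) → J1 := fun r =>
        ⟨⟨F.bar (F.J_le_Cq (F.e_mem (rep3 r))), hmem _ 0 (zst_zero.symm ▸ F.act_J (F.e_mem _))⟩,
          (hJmem _ _).2 (F.e_mem _)⟩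
      have hk : Function.Bijective k := by
        refine ⟨fun r r' h => ?_, ?_⟩
        · have h' := (F.bar_eq _ _).1 (congrArg (fun v : J1 => ((v : Cx) : F.Cq ⧸ F.Zq)) h)
          rw [← F.e_neg, ← F.e_add, F.mem_zq, neg_add_eq_sub] at h'
          exact (rep3_facts.2.1 r' r h').symm
        · rintro ⟨a, ha⟩
          obtain ⟨g, hg, hgx, i, rfl, -⟩ := hforms a
          obtain ⟨c, rfl⟩ := F.e_surj ((hJmem hg hgx).1 ha)
          obtain ⟨r, j, rfl⟩ := rep3_facts.1 c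
          refine ⟨r, Subtype.ext (Subtype.ext ((F.bar_eq _ hg).2 ?_))⟩
          rw [F.e_add, inv_mul_cancel_left, F.q_pow]
          exact pow_mem (mem_zpowers _) _
      rw [← Nat.card_eq_of_bijective k hk, Nat.card_prod, Nat.card_prod, Nat.card_zmod]
    have hfaith : ∀ {g : G} (hg : g ∈ F.Cq) (h : F.bar hg ∈ Cx) {i : Fin 6}, F.Act g (zst i) →
        (∀ a ∈ J1, (⟨F.bar hg, h⟩ : Cx) * a = a * ⟨F.bar hg, h⟩) → i = 0 := by
      intro g hg h i hA hcom
      refine (zst_facts i).2.2.2.2.1 fun c => ?_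
      have e := congrArg Subtype.val (hcom _ ((hJmem (F.J_le_Cq (F.e_mem c))
        (hmem _ 0 (zst_zero.symm ▸ F.act_J (F.e_mem c)))).2 (F.e_mem c)))
      have e2 := (F.bar_eq (mul_mem (F.J_le_Cq (F.e_mem c)) hg) (mul_mem hg (F.J_le_Cq (F.e_mem c)))).1 e.symm
      rw [← F.mem_zq, sub_eq_add_neg, F.e_add, F.e_neg, ← hA]
      obtain ⟨m, hm⟩ := mem_zpowers_iff.1 e2
      have hgq : Commute g (F.q ^ m) := (show Commute g F.q from F.mem_Cq.1 hg).zpow_right m
      have hcq : Commute (F.e c) (F.q ^ m) := F.adj.J_comm _ (F.e_mem c) _ (zpow_mem F.q_mem m)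
      have e3 : g * F.e c = F.e c * g * F.q ^ m := by rw [hm, mul_inv_cancel_left]
      rw [e3, ((hcq.mul_left hgq)).eq, show F.q ^ m * (F.e c * g) * g⁻¹ * (F.e c)⁻¹ = F.q ^ m by group]
      exact zpow_mem (mem_zpowers _) m
    obtain ⟨S⟩ := (inferInstance : Nonempty (Sylow 3 Cx))
    obtain ⟨T⟩ := (inferInstance : Nonempty (Sylow 2 Cx))
    have hS : Nat.card (S : Subgroup Cx) = 81 := by
      rw [S.card_eq_multiplicity, hcard, show (162 : ℕ) = 3 ^ 4 * 2 by norm_num, Nat.factorization_mul (by norm_num)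
        (by norm_num), Finsupp.add_apply, Nat.Prime.factorization_pow (by norm_num),
        Nat.factorization_eq_zero_of_not_dvd (by norm_num : ¬ 3 ∣ 2)]
      simp
    have hJS : J1 ≤ (S : Subgroup Cx) := by
      have h2 := S.3 ((IsPGroup.of_card (n := 3) (by rw [hcard1]; rfl) : IsPGroup 3 J1).to_sup_of_normal_left S.2)
        le_sup_right
      exact h2 ▸ le_sup_left
    have hmul1 : ∀ {g : G} (hg : g ∈ F.Cq) (h : F.bar hg ∈ Cx) {i : Fin 6}, F.Act g (zst i) → i = 0 →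
        (⟨F.bar hg, h⟩ : Cx) ∈ J1 := by
      intro g hg h i hA hi
      subst hi
      exact (hJmem hg h).2 (F.mem_J_of_act (zst_zero ▸ hA))
    set x1 : Cx := ⟨x, mem_centralizer_singleton_iff.2 rfl⟩ with hx1
    have hx1J : x1 ∈ J1 := by
      have : x1 = ⟨F.bar F.z_Cq, hx ▸ x1.2⟩ := Subtype.ext hx
      rw [this]
      exact (hJmem _ _).2 (hz ▸ F.e_mem _)
    have hx1c : ∀ y : Cx, y * x1 = x1 * y := fun y => Subtype.ext (mem_centralizer_singleton_iff.1 y.2)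
    have hx1ne : x1 ≠ 1 := fun h => by
      have h' := congrArg Subtype.val h
      rw [hx1] at h'
      change x = 1 at h'
      rw [hx, QuotientGroup.eq_one_iff, mem_subgroupOf] at h'
      exact rep3_facts.2.2 (F.mem_zq.1 (hz ▸ h'))
    -- an element of the Sylow subgroup permuting the supports
    obtain ⟨s, hsS, hsJ⟩ : ∃ s ∈ (S : Subgroup Cx), s ∉ J1 := by
      by_contra h
      push Not at h
      have := card_le_of_le (show (S : Subgroup Cx) ≤ J1 from h)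
      rw [hS, hcard1] at this
      omega
    obtain ⟨g, hg, hgx, i, rfl, hgi⟩ := hforms s
    have hi3 : i.val < 3 := by
      by_contra hlt
      obtain ⟨e, he⟩ := S.2 ⟨_, hsS⟩
      obtain ⟨m, hm⟩ : ∃ m, 3 ^ e = 2 * m + 1 := Odd.pow (by decide : Odd 3)
      rw [hm] at he
      refine hsJ (mem_of_sq_mem (m := m) (by simpa using congrArg Subtype.val he) ?_)
      exact hmul1 (mul_mem hg hg) (mul_mem hgx hgx) (i := 0)
        (zst_zero.symm ▸ (zst_facts i).2.2.2.1 (by omega) ▸ F.act_mul hgi hgi) rfl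
    have hi0 : i ≠ 0 := fun h => hsJ (hmul1 hg hgx hgi h)
    have hZ : ((S : Subgroup Cx) ⊓ centralizer ((S : Subgroup Cx) : Set Cx)) = zpowers x1 := by
      refine le_antisymm ?_ (zpowers_le.2 ⟨hJS hx1J, mem_centralizer_iff.2 fun y _ => hx1c y⟩)
      rintro w ⟨-, hwc⟩
      obtain ⟨g', hg', hgx', i', rfl, hgi'⟩ := hforms w
      obtain rfl := hfaith hg' hgx' hgi' fun a ha => (mem_centralizer_iff.1 hwc a (hJS ha)).symm
      obtain ⟨c, rfl⟩ := F.e_surj ((hJmem hg' hgx').1 (hmul1 hg' hgx' hgi' rfl))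
      have e := congrArg Subtype.val (mem_centralizer_iff.1 hwc _ hsS)
      have e2 := (F.bar_eq (mul_mem hg' hg) (mul_mem hg hg')).1 e.symm
      have hd : InQ (app (zst i) c - c) := by
        rw [← F.mem_zq, sub_eq_add_neg, F.e_add, F.e_neg, ← hgi]
        obtain ⟨m, hm⟩ := mem_zpowers_iff.1 e2
        have hgq : Commute g (F.q ^ m) := (show Commute g F.q from F.mem_Cq.1 hg).zpow_right m
        have hcq : Commute (F.e c) (F.q ^ m) := F.adj.J_comm _ (F.e_mem c) _ (zpow_mem F.q_mem m)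
        have e3 : g * F.e c = F.e c * g * F.q ^ m := by rw [hm, mul_inv_cancel_left]
        rw [e3, (hcq.mul_left hgq).eq, show F.q ^ m * (F.e c * g) * g⁻¹ * (F.e c)⁻¹ = F.q ^ m by group]
        exact zpow_mem (mem_zpowers _) m
      rw [(zst_facts i).2.2.2.2.2 hi3] at hd
      obtain ⟨a, j, hc⟩ := zst_fixed ⟨i.val, hi3⟩ (fun h => hi0 (Fin.ext (congrArg Fin.val h :))) c hd
      refine mem_zpowers_iff.2 ⟨(a.val : ℕ), Subtype.ext ?_⟩
      rw [zpow_natCast, SubgroupClass.coe_pow]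
      show x ^ a.val = F.bar hg'
      rw [hx, ← QuotientGroup.mk_pow]
      refine (F.bar_eq (pow_mem F.z_Cq a.val) hg').2 ?_
      rw [hc, F.e_add, ← F.e_pow, ← hz, inv_mul_cancel_left, F.q_pow]
      exact pow_mem (mem_zpowers _) _
    refine Cfsg.Agent.S3376.result hcard S T J1 ⟨⟨fun a b => Subtype.ext (hc1 a a.2 b b.2)⟩⟩ he1 hcard1 _ rfl
      (by rw [hZ, Nat.card_zpowers]; exact orderOf_eq_prime (he1 _ hx1J) hx1ne)
      (by rw [hZ, zpowers_le]; exact mem_centralizer_iff.2 fun y _ => hx1c y) ?_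
    intro hall
    have hT : Nat.card (T : Subgroup Cx) = 2 := by
      rw [T.card_eq_multiplicity, hcard, show (162 : ℕ) = 2 * 81 by norm_num, Nat.factorization_mul (by norm_num)
        (by norm_num), Finsupp.add_apply, Nat.Prime.factorization_self (by norm_num),
        Nat.factorization_eq_zero_of_not_dvd (by norm_num : ¬ 2 ∣ 81)]
      rfl
    obtain ⟨⟨w, hwT⟩, hw⟩ := exists_prime_orderOf_dvd_card' (G := (T : Subgroup Cx)) 2 (by rw [hT])
    rw [orderOf_mk] at hw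
    obtain ⟨g', hg', hgx', i', rfl, hgi'⟩ := hforms w
    have hi' := hfaith hg' hgx' hgi' fun a ha => by
      have h' := (hall.ge (hJS ha)).2
      exact mem_centralizer_iff.1 h' _ hwT
    have hwJ := hmul1 hg' hgx' hgi' hi'
    have := orderOf_dvd_of_pow_eq_one (he1 _ hwJ)
    rw [hw] at this
    norm_num at this
  · obtain ⟨⟨g, hg⟩, rfl⟩ := QuotientGroup.mk_surjective y
    obtain ⟨i, hi⟩ := hact hg (mem_centralizer_singleton_iff.2 hy)
    exact ⟨i, g, hg, rfl, hi⟩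

theorem outer_Cq_le (hout : ¬ F.Inner) : F.Cq ≤ F.N := by
  classical
  haveI : Fact (Nat.Prime 3) := ⟨Nat.prime_three⟩
  set x := F.bar F.z_Cq with hx
  obtain ⟨heC, hcard, hforms⟩ := F.outer_data hout x hx
  have hz : F.D.z = F.e (1, 1, 1, 0) := F.e_z.symm
  have hx3 : orderOf x = 3 := orderOf_eq_prime (by
      rw [hx, ← QuotientGroup.mk_pow, show (⟨F.D.z, F.z_Cq⟩ : F.Cq) ^ 3 = 1 from Subtype.ext (by
        show F.D.z ^ 3 = 1
        rw [hz, F.e_cube]), QuotientGroup.mk_one])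
    fun h => by
      rw [hx, QuotientGroup.eq_one_iff, mem_subgroupOf] at h
      exact rep3_facts.2.2 (F.mem_zq.1 (hz ▸ h))
  set J0 : Subgroup (F.Cq ⧸ F.Zq) := (F.Jg.subgroupOf F.Cq).map (QuotientGroup.mk' F.Zq) with hJ0
  have hJ0mem : ∀ {g : G} (hg : g ∈ F.Cq), F.bar hg ∈ J0 ↔ g ∈ F.Jg := by
    intro g hg
    constructor
    · rintro ⟨⟨a, ha⟩, haJ, e⟩
      have e' := (F.bar_eq ha hg).1 e
      have := mul_mem (show a ∈ F.Jg from haJ) ((zpowers_le.2 F.q_mem : zpowers F.q ≤ F.Jg) e')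
      rwa [mul_inv_cancel_left] at this
    · intro hgJ
      exact ⟨⟨g, hg⟩, hgJ, rfl⟩
  have hJ0e : ∀ j ∈ J0, j ^ 3 = 1 := by
    rintro _ ⟨a, ha, rfl⟩
    rw [← map_pow, show a ^ 3 = 1 from Subtype.ext (F.adj.J_exp ha), map_one]
  have hJ0c : ∀ a ∈ J0, ∀ b ∈ J0, a * b = b * a := by
    rintro _ ⟨a, ha, rfl⟩ _ ⟨b, hb, rfl⟩
    rw [← map_mul, ← map_mul]
    exact congrArg _ (Subtype.ext (F.adj.J_comm _ ha _ hb))
  have hJ0card : Nat.card J0 = 27 := by
    have e := ((QuotientGroup.mk' F.Zq).domRestrict (F.Jg.subgroupOf F.Cq)).ker.card_mul_index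
    rw [Subgroup.index_ker, MonoidHom.domRestrict_range, ← hJ0, MonoidHom.ker_domRestrict, QuotientGroup.ker_mk',
      Nat.card_congr (subgroupOfEquivOfLe F.J_le_Cq).toEquiv, F.adj.card_J] at e
    have hq : orderOf F.q = 3 := orderOf_eq_prime (F.D.Q_exp _ F.q_Q.1)
      (fun h => absurd (F.e_inj ((F.e_qv.trans h).trans F.e_zero.symm)) (by decide))
    have ek : Nat.card (F.Zq.subgroupOf (F.Jg.subgroupOf F.Cq)) = 3 := by
      rw [Nat.card_congr (subgroupOfEquivOfLe (show F.Zq ≤ F.Jg.subgroupOf F.Cq from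
        fun v hv => (zpowers_le.2 F.q_mem : zpowers F.q ≤ F.Jg) hv)).toEquiv,
        Nat.card_congr (subgroupOfEquivOfLe (zpowers_le.2 (F.J_le_Cq F.q_mem))).toEquiv, Nat.card_zpowers, hq]
    rw [ek] at e
    omega
  have hsig : ∀ L : Subgroup (F.Cq ⧸ F.Zq), (Nat.card L).Coprime 3 →
      (∀ j ∈ J0, L.map (MulAut.conj j).toMonoidHom = L) → L = ⊥ := by
    intro L hcop hL
    let A0 : Subgroup (F.Cq ⧸ F.Zq) := (F.planeA.subgroupOf F.Cq).map (QuotientGroup.mk' F.Zq)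
    have hA0J : A0 ≤ J0 := Subgroup.map_mono fun v hv => by
      obtain ⟨i, j, h⟩ := hv
      exact (show (v : G) ∈ F.Jg from (show (v : G) = _ from h) ▸ F.e_mem _)
    have hAq : ∀ (i j : ZMod 3), F.e (uA i j) ∈ F.Cq := fun i j => F.J_le_Cq (F.e_mem _)
    haveI : IsMulCommutative A0 := ⟨⟨fun a b => Subtype.ext (hJ0c a (hA0J a.2) b (hA0J b.2))⟩⟩
    have hA0card : Nat.card A0 = 9 := by
      let k : ZMod 3 × ZMod 3 → A0 := fun p => ⟨F.bar (hAq p.1 p.2), ⟨_, ⟨p.1, p.2, rfl⟩, rfl⟩⟩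
      have hk : Function.Bijective k := by
        refine ⟨fun p p' h => ?_, ?_⟩
        · have h' := (F.bar_eq _ _).1 (congrArg Subtype.val h)
          rw [← F.e_neg, ← F.e_add, F.mem_zq] at h'
          exact uA_modq _ _ _ _ h'
        · rintro ⟨_, ⟨v, hv⟩, ⟨i, j, h⟩, rfl⟩
          exact ⟨(i, j), Subtype.ext (congrArg QuotientGroup.mk (Subtype.ext (show F.e (uA i j) = v from h.symm)))⟩
      rw [← Nat.card_eq_of_bijective k hk, Nat.card_prod, Nat.card_zmod]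
    have hnc : ¬ IsCyclic A0 := by
      intro hc
      obtain ⟨g, hg⟩ := IsCyclic.exists_ofOrder_eq_natCard (α := A0)
      rw [hA0card] at hg
      have h3 : orderOf g ∣ 3 := orderOf_dvd_of_pow_eq_one (Subtype.ext (hJ0e g (hA0J g.2)))
      rw [hg] at h3
      norm_num at h3
    have hnorm : J0 ≤ normalizer (L : Set (F.Cq ⧸ F.Zq)) := by
      intro j hj
      rw [mem_normalizer_iff]
      intro y
      refine ⟨fun hy => (hL j hj).le ⟨y, hy, rfl⟩, fun hy => ?_⟩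
      obtain ⟨y', hy', e⟩ := (hL j hj).ge hy
      rwa [← (MulAut.conj j).injective e]
    have hdisj : ∀ y ∈ L, y ∈ J0 → y = 1 := fun y hy hyJ => by
      have h1 : orderOf y ∣ 3 := orderOf_dvd_of_pow_eq_one (hJ0e y hyJ)
      have h2 : orderOf y ∣ Nat.card L := L.orderOf_dvd_natCard hy
      have h3 := Nat.dvd_gcd h2 h1
      rwa [hcop.gcd_eq_one, Nat.dvd_one, orderOf_eq_one_iff] at h3
    rw [eq_bot_iff, ← CfsgLib.coprime_generated_by_centralizers hnc (hA0J.trans hnorm)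
      (by rw [hA0card, show 9 = 3 ^ 2 by norm_num]; exact hcop.symm.pow_left 2)]
    refine iSup₂_le fun a ha y hy => ?_
    obtain ⟨⟨⟨v, hv⟩, ⟨i, j, hij⟩, rfl⟩, ha1⟩ := ha
    obtain ⟨hyL, hya⟩ := hy
    change v = F.e (uA i j) at hij
    subst hij
    have hne : (i, j) ≠ 0 := fun h => ha1 (by
      rw [Prod.mk_eq_zero] at h
      refine (QuotientGroup.eq_one_iff _).2 ?_
      show F.e (uA i j) ∈ zpowers F.q
      rw [h.1, h.2, uA_facts.2.2.2.2, F.mem_zq]
      exact .inl rfl)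
    obtain ⟨⟨g, hg⟩, rfl⟩ := QuotientGroup.mk_surjective y
    have hcm : g * F.e (uA i j) * g⁻¹ * (F.e (uA i j))⁻¹ ∈ zpowers F.q := by
      have e := (F.bar_eq (mul_mem hv hg) (mul_mem hg hv)).1 (mem_centralizer_singleton_iff.1 hya).symm
      obtain ⟨m, hm⟩ := mem_zpowers_iff.1 e
      have hgq : Commute g (F.q ^ m) := (show Commute g F.q from F.mem_Cq.1 hg).zpow_right m
      have hcq : Commute (F.e (uA i j)) (F.q ^ m) := F.adj.J_comm _ (F.e_mem _) _ (zpow_mem F.q_mem m)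
      have e3 : g * F.e (uA i j) = F.e (uA i j) * g * F.q ^ m := by rw [hm, mul_inv_cancel_left]
      rw [e3, (hcq.mul_left hgq).eq,
        show F.q ^ m * (F.e (uA i j) * g) * g⁻¹ * (F.e (uA i j))⁻¹ = F.q ^ m by group]
      exact zpow_mem (mem_zpowers _) m
    have hgN := F.comm_modq hg (uA_facts.2.1 i j hne) hcm
    obtain ⟨M, hM⟩ := F.exists_act hgN
    refine mem_bot.2 (hdisj _ hyL ((hJ0mem hg).2 (F.mem_J_of_act ?_)))
    have hs := List.all_eq_true.1 stabQ_faithful M (F.stab_act hgN hg hM).1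
    simp only [decide_eq_true_eq] at hs
    rw [← hs fun c => ?_]
    · exact hM
    · have hcq := F.J_le_Cq (F.e_mem c)
      have hcJ := (hJ0mem hcq).2 (F.e_mem c)
      have hcq' : F.e (app M c) ∈ F.Cq := F.J_le_Cq (F.e_mem _)
      have e : F.bar hcq * F.bar hg * (F.bar hcq)⁻¹ * (F.bar hg)⁻¹ = 1 := hdisj _
        (mul_mem ((mem_normalizer_iff.1 (hnorm hcJ) _).1 hyL) (inv_mem hyL))
        (by
          have e1 : F.bar hcq * F.bar hg * (F.bar hcq)⁻¹ * (F.bar hg)⁻¹ =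
              F.bar (mul_mem hcq (mul_mem (mul_mem hg (inv_mem hcq)) (inv_mem hg))) := by
            rw [mul_assoc, mul_assoc, ← mul_assoc (F.bar hg)]; rfl
          rw [e1, hJ0mem]
          exact mul_mem (F.e_mem c) ((hgN _).2 (inv_mem (F.e_mem c))))
      have e2 : F.bar hcq * (F.bar hcq')⁻¹ = 1 := by
        rw [← e, mul_assoc (F.bar hcq * F.bar hg), mul_assoc (F.bar hcq), ← mul_inv_rev]
        congr 1
        refine congrArg QuotientGroup.mk (Subtype.ext ?_)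
        show (F.e (app M c))⁻¹ = g * ((g * F.e c)⁻¹)
        rw [← hM]; group
      rw [mul_inv_eq_one] at e2
      rw [← F.mem_zq, sub_eq_add_neg, F.e_add, F.e_comm, F.e_neg]
      exact (F.bar_eq hcq hcq').1 e2
  have hxJ : J0 ≤ centralizer ({x} : Set (F.Cq ⧸ F.Zq)) := fun j hj => mem_centralizer_singleton_iff.2
    (hJ0c j hj x ((hJ0mem F.z_Cq).2 (hz ▸ F.e_mem _)))
  rcases Cfsg.Agent.S3343.result x hx3 heC.some J0 hxJ ⟨⟨fun a b => Subtype.ext (hJ0c a a.2 b b.2)⟩⟩ hJ0e hJ0card hsig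
    with hJn | ⟨⟨φ⟩⟩
  · intro g hg
    refine F.mem_N_of_norm fun a ha => ?_
    exact (hJ0mem (mul_mem (mul_mem hg (F.J_le_Cq ha)) (inv_mem hg))).1
      (hJn.conj_mem _ ((hJ0mem (F.J_le_Cq ha)).2 ha) (F.bar hg))
  exfalso
  -- the symmetric group is excluded by fusion
  have hφ3 : φ x ^ 3 = 1 := by rw [← map_pow, ← hx3, pow_orderOf_eq_one, map_one]
  have hφ1 : φ x ≠ 1 := fun h => by
    rw [← map_one φ] at h
    have := φ.injective h
    rw [this, orderOf_one] at hx3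
    omega
  have hφc : Nat.card (centralizer ({φ x} : Set (Equiv.Perm (Fin 9)))) = 162 := by
    rw [← hcard]
    refine (Nat.card_congr (φ.toEquiv.subtypeEquiv fun y => ?_)).symm
    show y ∈ centralizer ({x} : Set (F.Cq ⧸ F.Zq)) ↔ φ y ∈ centralizer ({φ x} : Set (Equiv.Perm (Fin 9)))
    rw [mem_centralizer_singleton_iff, mem_centralizer_singleton_iff, ← map_mul, ← map_mul, φ.injective.eq_iff]
  obtain ⟨γ, hγ⟩ := isConj_iff.1 (isConj_sig9 hφ3 (free_of_centralizer hφ3 hφ1 hφc)).symm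
  let ψ : (F.Cq ⧸ F.Zq) ≃* Equiv.Perm (Fin 9) := φ.trans (MulAut.conj γ)
  have hψx : ψ x = sig9 := hγ
  set β := ψ (F.bar F.Q_le_Cq_b) with hβ
  have hb3 : β ^ 3 = 1 := by
    rw [hβ, ← map_pow, ← QuotientGroup.mk_pow, show (⟨F.b, F.Q_le_Cq_b⟩ : F.Cq) ^ 3 = 1 from
      Subtype.ext (F.D.Q_exp _ (F.D.Q2_le F.b_Q)), QuotientGroup.mk_one, map_one]
  have hbz : β * sig9 = sig9 * β := by
    rw [← hψx, hβ, ← map_mul, ← map_mul]
    refine congrArg ψ (congrArg QuotientGroup.mk (Subtype.ext ?_))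
    exact F.D.Q_z _ (F.D.Q2_le F.b_Q)
  by_cases hfree : ∀ i, β i ≠ i
  · obtain ⟨δ, hδ⟩ := isConj_iff.1 (isConj_sig9 hb3 hfree)
    obtain ⟨⟨g, hg⟩, hgδ⟩ := QuotientGroup.mk_surjective (ψ.symm δ)
    have e : F.bar hg * x * (F.bar hg)⁻¹ = F.bar F.Q_le_Cq_b := ψ.injective (by
      rw [map_mul, map_mul, map_inv, hψx, show ψ (F.bar hg) = δ by
        rw [show F.bar hg = ψ.symm δ from hgδ, MulEquiv.apply_symm_apply], hδ])
    rw [hx] at e
    have e2 := (F.bar_eq F.Q_le_Cq_b (mul_mem (mul_mem hg F.z_Cq) (inv_mem hg))).1 e.symm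
    obtain ⟨m, hm⟩ := (isOfFinOrder_of_finite F.q).mem_powers_iff_mem_zpowers.2 e2
    refine F.no_fuse (g := g) (k := 1) (i := m) (by norm_num) ?_
    rw [pow_one, show F.q ^ m = _ from hm, mul_inv_cancel_left]
  push Not at hfree
  obtain ⟨p, hp⟩ := hfree
  let w : Fin 3 × Fin 3 × Fin 3 → Equiv.Perm (Fin 9) := fun r =>
    cyc9 0 ^ r.1.val * cyc9 1 ^ r.2.1.val * cyc9 2 ^ r.2.2.val
  have hwc : ∀ r, Commute (w r) sig9 ∧ Commute (w r) β ∧ w r ^ 3 = 1 := by
    intro r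
    have h1 : ∀ s, Commute (cyc9 s) β := fun s => (comm_cyc9 hb3 hbz hp s).symm
    have h2 : ∀ s, Commute (cyc9 s) sig9 := fun s => (cyc9_facts.2.1 s).2
    have h3 : ∀ s s', Commute (cyc9 s) (cyc9 s') := cyc9_facts.1
    refine ⟨(((h2 0).pow_left _).mul_left ((h2 1).pow_left _)).mul_left ((h2 2).pow_left _),
      (((h1 0).pow_left _).mul_left ((h1 1).pow_left _)).mul_left ((h1 2).pow_left _), ?_⟩
    rw [(((h3 0 2).pow_pow _ _).mul_left ((h3 1 2).pow_pow _ _)).mul_pow, ((h3 0 1).pow_pow _ _).mul_pow,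
      ← pow_mul, ← pow_mul, ← pow_mul, mul_comm _ 3, mul_comm _ 3, mul_comm _ 3, pow_mul, pow_mul, pow_mul,
      (cyc9_facts.2.1 0).1, (cyc9_facts.2.1 1).1, (cyc9_facts.2.1 2).1, one_pow, one_pow, one_pow, one_mul, one_mul]
  have hsmall : ∀ r, ∃ a i : Fin 3, ψ.symm (w r) = x ^ a.val * F.bar F.Q_le_Cq_b ^ i.val := by
    intro r
    obtain ⟨h1, h2, h3⟩ := hwc r
    set y := ψ.symm (w r) with hy
    have hyx : y * x = x * y := ψ.injective (by rw [map_mul, map_mul, hy, MulEquiv.apply_symm_apply, hψx]; exact h1.eq)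
    have hyb : y * F.bar F.Q_le_Cq_b = F.bar F.Q_le_Cq_b * y := ψ.injective (by
      rw [map_mul, map_mul, hy, MulEquiv.apply_symm_apply]; exact h2.eq)
    have hy3 : y ^ 3 = 1 := by rw [hy, ← map_pow, h3, map_one]
    obtain ⟨i, g, hg, hyg, hgi⟩ := hforms y hyx
    rw [hyg, ← QuotientGroup.mk_pow, QuotientGroup.eq_one_iff] at hy3
    have hi3 : i.val < 3 := zst_cube i (F.act_unique (F.act_mul hgi (F.act_mul hgi hgi)) (F.act_J (by
      rw [← pow_two, ← pow_succ']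
      exact (zpowers_le.2 F.q_mem : zpowers F.q ≤ F.Jg) hy3)))
    rw [(zst_facts i).2.2.2.2.2 hi3] at hgi
    have hbk : F.Act (F.b ^ i.val) (powM pB i.val) := F.act_bpow _
    have hbq : F.b ^ i.val ∈ F.Cq := pow_mem F.Q_le_Cq_b _
    obtain ⟨W, hW⟩ := F.exists_act (inv_mem (F.mem_N hbk))
    obtain ⟨c, hc⟩ := F.e_surj (F.mem_J_of_act (n := g * (F.b ^ i.val)⁻¹) (fun v => by
      rw [F.act_mul hgi hW v, F.act_unique (F.act_mul hbk hW) (by rw [mul_inv_cancel]; exact F.act_one)]))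
    have hcq : F.e c ∈ F.Cq := F.J_le_Cq (F.e_mem c)
    have hgc : y = F.bar hcq * F.bar F.Q_le_Cq_b ^ i.val := by
      rw [hyg, ← QuotientGroup.mk_pow]
      exact congrArg QuotientGroup.mk (Subtype.ext (show g = F.e c * F.b ^ i.val by rw [hc, inv_mul_cancel_right]))
    rw [hgc] at hyb
    have hcb : F.bar hcq * F.bar F.Q_le_Cq_b = F.bar F.Q_le_Cq_b * F.bar hcq := by
      rw [mul_assoc, ← pow_succ, pow_succ', ← mul_assoc, ← mul_assoc] at hyb
      exact mul_right_cancel hyb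
    have hd : InQ (app (powM pB 1) c - c) := by
      have e := (F.bar_eq (mul_mem hcq F.Q_le_Cq_b) (mul_mem F.Q_le_Cq_b hcq)).1 hcb
      obtain ⟨m, hm⟩ := mem_zpowers_iff.1 e
      have hgq : Commute F.b (F.q ^ m) := (show Commute F.b F.q from F.mem_Cq.1 F.Q_le_Cq_b).zpow_right m
      have hcq2 : Commute (F.e c) (F.q ^ m) := F.adj.J_comm _ (F.e_mem c) _ (zpow_mem F.q_mem m)
      rw [← F.mem_zq, sub_eq_add_neg, F.e_add, F.e_neg, show powM pB 1 = pB by decide +kernel, ← F.act_b]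
      have e3 : F.b * F.e c = F.e c * F.b * F.q ^ m := by rw [hm, mul_inv_cancel_left]
      rw [e3, (hcq2.mul_left hgq).eq, show F.q ^ m * (F.e c * F.b) * F.b⁻¹ * (F.e c)⁻¹ = F.q ^ m by group]
      exact zpow_mem (mem_zpowers _) m
    obtain ⟨a, j, hcaj⟩ := zst_fixed 1 (by decide) c hd
    refine ⟨a, ⟨i.val, hi3⟩, ?_⟩
    rw [hgc, hx, ← QuotientGroup.mk_pow F.Zq (⟨F.D.z, F.z_Cq⟩ : F.Cq) a.val]
    congr 1
    refine ((F.bar_eq (pow_mem F.z_Cq a.val) hcq).2 ?_).symm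
    rw [hcaj, F.e_add, ← F.e_pow, ← hz, inv_mul_cancel_left, F.q_pow]
    exact pow_mem (mem_zpowers _) _
  choose A I hAI using hsmall
  have hinj : Function.Injective fun r => (A r, I r) := fun r r' h => by
    simp only [Prod.mk.injEq] at h
    have e : ψ.symm (w r) = ψ.symm (w r') := by rw [hAI, hAI, h.1, h.2]
    exact cyc9_facts.2.2.1 r r' (ψ.symm.injective e)
  have := Nat.card_le_card_of_injective _ hinj
  rw [Nat.card_prod, Nat.card_prod, Nat.card_fin] at this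
  omega

end Frame

end CfsgLib.O8T
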