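import Cfsg.Agent.Lib.OEightPlusThree.CentBase
import Cfsg.Agent.Lib.CoprimeGen

/-!
Elements of the centralizer of `q` commuting with an element whose coset modulo `q` meets the conjugates of the
centre; lifts of the stabilizer; signalizers.
-/

set_option autoImplicit false
set_option synthInstance.maxSize 4096

namespace CfsgLib.O8T

open Subgroup

universe u

/-- Membership in the span of `qv`. -/
abbrev InQ (v : V4) : Prop := v = 0 ∨ v = qv ∨ v = qv + qv

/-- The coset modulo `qv` meets weight three. -/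
abbrev Meets (v : V4) : Prop := ∃ i : Fin 3, wt (v + i.val • qv) = 3

/-- The parameter of the plane without single supports. -/
def uA (i j : ZMod 3) : V4 := (i + j, 0, i + j, j)

theorem uA_facts : (∀ i j i' j', uA i j + uA i' j' = uA (i + i') (j + j')) ∧
    (∀ i j, (i, j) ≠ 0 → Meets (uA i j)) ∧ (∀ i j i' j', uA i j = uA i' j' → (i, j) = (i', j')) ∧
    (∀ i j, InQ (uA i j) → (i, j) = 0) ∧ uA 0 0 = 0 := by decide +kernel

theorem inQ_smul : ∀ v : V4, InQ v ↔ ∃ i : Fin 3, i.val • qv = v := by decide +kernel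

variable {G : Type u} [Group G]

/-- An element of odd order is a power of its square. -/
theorem mem_of_sq_mem {H : Subgroup G} {x : G} {m : ℕ} (hm : x ^ (2 * m + 1) = 1) (h : x * x ∈ H) : x ∈ H := by
  rw [show x = ((x * x) ^ m)⁻¹ from eq_inv_of_mul_eq_one_right (by rw [← pow_two, ← pow_mul, ← pow_succ]; exact hm)]
  exact inv_mem (pow_mem h m)

namespace Frame

variable [Finite G] (F : Frame G)

theorem q_pow (i : ℕ) : F.e (i • qv) = F.q ^ i := by rw [← F.e_pow, F.e_qv]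

theorem mem_zq {c : V4} : F.e c ∈ zpowers F.q ↔ InQ c := by
  rw [inQ_smul]
  constructor
  · intro h
    obtain ⟨n, hn⟩ := (isOfFinOrder_of_finite F.q).mem_powers_iff_mem_zpowers.2 h
    refine ⟨⟨n % 3, Nat.mod_lt _ (by norm_num)⟩, F.e_inj ?_⟩
    rw [F.q_pow, ← show F.q ^ n = F.e c from hn]
    conv_rhs => rw [← Nat.mod_add_div n 3, pow_add, pow_mul, F.D.Q_exp _ F.q_Q.1, one_pow, mul_one]
  · rintro ⟨i, rfl⟩
    rw [F.q_pow]
    exact pow_mem (mem_zpowers _) _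

theorem Cq_comm {g : G} (hg : g ∈ F.Cq) (i : ℕ) : g * F.e (i • qv) = F.e (i • qv) * g := by
  rw [F.q_pow]; exact ((show Commute g F.q from F.mem_Cq.1 hg).pow_right i).eq

theorem mem_Cq_of_act {g : G} {M : M4} (hA : F.Act g M) (h : app M qv = qv) : g ∈ F.Cq :=
  F.mem_Cq.2 (mul_inv_eq_iff_eq_mul.1 (by rw [← F.e_qv, hA, h]))

theorem Cq_act {g : G} (hg : g ∈ F.Cq) {M : M4} (hA : F.Act g M) : app M qv = qv :=
  F.e_inj (by rw [← hA, F.e_qv, F.mem_Cq.1 hg, mul_inv_cancel_right])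

/-- Commuting with an element whose coset meets weight three. -/
theorem cent_wt3 {g : G} (hg : g ∈ F.Cq) {v : V4} (hv : Meets v) (h : g * F.e v = F.e v * g) : g ∈ F.N := by
  obtain ⟨i, hi⟩ := hv
  refine F.cent_pair hi (c := qv) (by decide) ?_ (by rw [F.e_qv]; exact F.mem_Cq.1 hg)
  rw [F.e_add, ← mul_assoc, h, mul_assoc, F.Cq_comm hg, mul_assoc]

/-- Fusing an element whose coset meets weight three. -/
theorem fuse_wt3 {g : G} (hg : g ∈ F.Cq) {v : V4} (hv : Meets v) (h : g⁻¹ * F.e v * g ∈ F.Jg) : g ∈ F.N := by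
  obtain ⟨i, hi⟩ := hv
  refine F.norm_of_fuse hg hi ?_
  rw [F.e_add, show g⁻¹ * (F.e v * F.e (i.val • qv)) * g = (g⁻¹ * F.e v * g) * (g⁻¹ * (F.e (i.val • qv) * g)) by
    group, ← F.Cq_comm hg, inv_mul_cancel_left]
  exact mul_mem h (F.e_mem _)

/-- A lift of a matrix in the stabilizer. -/
theorem exists_lift_stab {p : M4 × List (Fin 4)} (hp : p ∈ stabWords) : ∃ n, F.Lift n p.1 ∧ n ∈ F.Cq := by
  obtain ⟨hq, hA⟩ := F.word_Cq hp
  obtain ⟨c, hc⟩ := F.split hA
  exact ⟨_, hc, F.mem_Cq_of_act hc.1 (F.Cq_act hq hA)⟩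

theorem act_id_left {n : G} {M : M4} (h : F.Act n M) (c : G) (hc : c ∈ F.Jg) : F.Act (c * n) M := fun v => by
  rw [F.act_mul (F.act_J hc) h, app_comp, app_idM]

theorem act_bpow (k : ℕ) : F.Act (F.b ^ k) (powM pB k) := by
  induction k with
  | zero => rw [pow_zero]; exact F.act_one
  | succ m ih => rw [pow_succ]; exact F.act_mul ih F.act_b

theorem lift_invol {n : G} {M : M4} (h : F.Lift n M) (hM : comp M M = idM) : n * n = 1 :=
  F.lift_unique (hM ▸ F.lift_mul h h) F.lift_one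

/-- The plane of `J` without single supports. -/
def planeA : Subgroup G where
  carrier := {x | ∃ i j : ZMod 3, x = F.e (uA i j)}
  one_mem' := ⟨0, 0, by rw [uA_facts.2.2.2.2, F.e_zero]⟩
  mul_mem' := by
    rintro _ _ ⟨i, j, rfl⟩ ⟨i', j', rfl⟩
    exact ⟨i + i', j + j', by rw [← F.e_add, uA_facts.1]⟩
  inv_mem' := by
    rintro _ ⟨i, j, rfl⟩
    refine ⟨-i, -j, inv_eq_of_mul_eq_one_right ?_⟩
    rw [← F.e_add, uA_facts.1, add_neg_cancel, add_neg_cancel, uA_facts.2.2.2.2, F.e_zero]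

theorem card_planeA : Nat.card F.planeA = 9 := by
  let f : ZMod 3 × ZMod 3 → F.planeA := fun p => ⟨F.e (uA p.1 p.2), p.1, p.2, rfl⟩
  have hf : Function.Bijective f :=
    ⟨fun p p' h => uA_facts.2.2.1 _ _ _ _ (F.e_inj (congrArg Subtype.val h)),
      fun ⟨x, i, j, hx⟩ => ⟨(i, j), Subtype.ext hx.symm⟩⟩
  rw [← Nat.card_eq_of_bijective f hf, Nat.card_prod, Nat.card_zmod]

/-- No non-trivial subgroup of the centralizer of `q` of order prime to three is normalized by `J`. -/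
theorem signalizer {K : Subgroup G} (hK : K ≤ F.Cq) (hcop : (Nat.card K).Coprime 3)
    (hJ : F.Jg ≤ normalizer (K : Set G)) : K = ⊥ := by
  haveI : IsMulCommutative F.planeA := ⟨⟨by
    rintro ⟨_, i, j, rfl⟩ ⟨_, i', j', rfl⟩
    exact Subtype.ext (F.e_comm _ _)⟩⟩
  have hdisj : ∀ y ∈ K, y ∈ F.Jg → y = 1 := fun y hy hyJ => by
    have h1 : orderOf y ∣ 3 := orderOf_dvd_of_pow_eq_one (F.adj.J_exp hyJ)
    have h2 : orderOf y ∣ Nat.card K := K.orderOf_dvd_natCard hy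
    have h3 := Nat.dvd_gcd h2 h1
    rwa [hcop.gcd_eq_one, Nat.dvd_one, orderOf_eq_one_iff] at h3
  have hle : F.planeA ≤ F.Jg := by
    rintro _ ⟨i, j, rfl⟩; exact F.e_mem _
  have hnc : ¬ IsCyclic F.planeA := by
    intro hc
    obtain ⟨g, hg⟩ := IsCyclic.exists_ofOrder_eq_natCard (α := F.planeA)
    rw [F.card_planeA] at hg
    have h3 : orderOf g ∣ 3 := orderOf_dvd_of_pow_eq_one (Subtype.ext (F.adj.J_exp (hle g.2)))
    rw [hg] at h3
    norm_num at h3
  rw [eq_bot_iff, ← CfsgLib.coprime_generated_by_centralizers hnc (hle.trans hJ)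
    (by rw [F.card_planeA, show 9 = 3 ^ 2 by norm_num]; exact hcop.symm.pow_left 2)]
  refine iSup₂_le fun a ha x hx => ?_
  obtain ⟨⟨i, j, rfl⟩, ha1⟩ := ha
  obtain ⟨hxK, hxa⟩ := hx
  have hne : (i, j) ≠ 0 := fun h => ha1 (by
    rw [Prod.mk_eq_zero] at h; rw [h.1, h.2, uA_facts.2.2.2.2, F.e_zero])
  have hxN := F.cent_wt3 (hK hxK) (uA_facts.2.1 i j hne) (mem_centralizer_singleton_iff.1 hxa)
  refine mem_bot.2 (hdisj x hxK (F.cent_Jg fun c => ?_))
  have e : F.e c * x * (F.e c)⁻¹ * x⁻¹ = 1 := hdisj _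
    (mul_mem ((mem_normalizer_iff.1 (hJ (F.e_mem c)) x).1 hxK) (inv_mem hxK))
    (by
      rw [show F.e c * x * (F.e c)⁻¹ * x⁻¹ = F.e c * (x * (F.e c)⁻¹ * x⁻¹) by group]
      exact mul_mem (F.e_mem c) ((hxN _).2 (inv_mem (F.e_mem c))))
  rw [mul_inv_eq_one, mul_inv_eq_iff_eq_mul] at e
  exact e.symm

end Frame

end CfsgLib.O8T
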