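import Cfsg.Agent.Lib.OEightPlusThree.CentInner

/-!
Inside SL(2,3): the centralizer in the centralizer of `q` of a single sign change lies in the normalizer.
-/

set_option autoImplicit false
set_option synthInstance.maxSize 4096

namespace CfsgLib.O8T

open Subgroup

universe u

/-- The three single sign changes. -/
def sgM (k : Fin 3) : M4 :=
  [((0, 2, 0, 0), (2, 0, 0, 0), (0, 0, 1, 0), (0, 0, 0, 1)),
   ((1, 0, 0, 0), (0, 1, 0, 0), (0, 0, 0, 2), (0, 0, 2, 0)),
   ((1, 0, 0, 0), (0, 1, 0, 0), (0, 0, 0, 1), (0, 0, 1, 0))].getD k.val idM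

/-- The products of sign changes other than a given one. -/
def repM (k : Fin 3) (i : Fin 4) : M4 :=
  [idM, sgM (k + 1), sgM (k + 2), comp (sgM (k + 1)) (sgM (k + 2))].getD i.val idM

theorem sgM_facts : ∀ k : Fin 3, comp (sgM k) (sgM k) = idM ∧ sgM k ≠ idM ∧ sgM k ∈ stabWords.map Prod.fst ∧
    app (sgM k) qv = qv ∧ (∃ c : V4, app (sgM k) c = c ∧ Meets c) := by decide +kernel

theorem fix_count : ∀ k : Fin 3, Fintype.card {c : V4 // app (sgM k) c = c} = 27 := by decide +kernel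

theorem repM_facts : ∀ k : Fin 3, ∀ i : Fin 4, repM k i ∈ stabWords.map Prod.fst ∧
    comp (repM k i) (repM k i) = idM ∧ comp (repM k i) (sgM k) = comp (sgM k) (repM k i) ∧
    (∀ j : Fin 4, comp (repM k i) (repM k j) = idM ∨ comp (repM k i) (repM k j) = sgM k → i = j) ∧
    ((∀ c : V4, app (sgM k) c = c → InQ (app (repM k i) c - c)) → i = 0) := by decide +kernel

theorem repM_zero : ∀ k : Fin 3, repM k 0 = idM := by decide +kernel

theorem sign_centralizer : ∀ k : Fin 3, stabWords.all (fun p => decide (comp p.1 (sgM k) = comp (sgM k) p.1 →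
    ∃ i : Fin 4, p.1 = repM k i ∨ p.1 = comp (repM k i) (sgM k))) = true := by decide +kernel

variable {G : Type u} [Group G]

namespace Frame

variable [Finite G] (F : Frame G)

theorem exists_lift_mat {M : M4} (h : M ∈ stabWords.map Prod.fst) : ∃ n, F.Lift n M ∧ n ∈ F.Cq := by
  obtain ⟨p, hp, rfl⟩ := List.mem_map.1 h
  exact F.exists_lift_stab hp

theorem lift_comm {n m : G} {M N : M4} (hn : F.Lift n M) (hm : F.Lift m N) (h : comp M N = comp N M) :
    n * m = m * n := F.lift_unique (F.lift_mul hn hm) (h ▸ F.lift_mul hm hn)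

/-- The centralizer of a single sign change. -/
theorem cent_sign (hin : F.Inner) {k : Fin 3} {n : G} (hn : F.Lift n (sgM k)) {g : G} (hg : g ∈ F.Cq)
    (hgn : g * n = n * g) : g ∈ F.N := by
  obtain ⟨hs2, hs1, -, hsq, ⟨c₀, hc₀, hc₀m⟩⟩ := sgM_facts k
  have hnq : n ∈ F.Cq := F.mem_Cq_of_act hn.1 hsq
  have hn2 : n * n = 1 := F.lift_invol hn hs2
  have hnJ : n ∉ F.Jg := fun h => hs1 (F.act_unique hn.1 (F.act_J h))
  set C : Subgroup G := F.Cq ⊓ centralizer ({n} : Set G) with hC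
  set P : Subgroup G := zpowers (F.q * n) with hP
  let A : Subgroup G :=
    { carrier := {x | ∃ c, app (sgM k) c = c ∧ x = F.e c}
      one_mem' := ⟨0, by simp [app], F.e_zero.symm⟩
      mul_mem' := by
        rintro _ _ ⟨c, hc, rfl⟩ ⟨d, hd, rfl⟩
        exact ⟨c + d, by rw [app_add, hc, hd], (F.e_add c d).symm⟩
      inv_mem' := by
        rintro _ ⟨c, hc, rfl⟩
        refine ⟨c + c, by rw [app_add, hc], ?_⟩
        rw [F.e_add, inv_eq_iff_mul_eq_one, ← pow_two, ← pow_succ']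
        exact F.e_cube c }
  have hAJ : ∀ a ∈ A, a ∈ F.Jg := by rintro _ ⟨c, -, rfl⟩; exact F.e_mem c
  have hmemA : ∀ a ∈ F.Jg, a * n = n * a → a ∈ A := by
    intro a ha h
    obtain ⟨c, rfl⟩ := F.e_surj ha
    exact ⟨c, F.e_inj (by rw [← hn.1, ← h, mul_inv_cancel_right]), rfl⟩
  have hAn : ∀ a ∈ A, a * n = n * a := by
    rintro _ ⟨c, hc, rfl⟩
    rw [F.lift_e hn, hc]
  have hAC : A ≤ C := fun a ha => ⟨F.J_le_Cq (hAJ a ha), mem_centralizer_singleton_iff.2 (hAn a ha)⟩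
  have hqn : Commute F.q n := (show Commute n F.q from F.mem_Cq.1 hnq).symm
  have hq3 : F.q ^ 3 = 1 := F.D.Q_exp _ F.q_Q.1
  have hqA : ∀ m : ℕ, F.q ^ m ∈ A := fun m => hmemA _ (pow_mem F.q_mem m) (hqn.pow_left m).eq
  have hnP : n ∈ P := by
    refine mem_zpowers_iff.2 ⟨(3 : ℕ), ?_⟩
    rw [zpow_natCast, hqn.mul_pow, hq3, one_mul, pow_succ, pow_two, hn2, one_mul]
  have hPmem : ∀ p ∈ P, ∃ m : ℕ, p = F.q ^ m * n ^ m := by
    intro p hp
    obtain ⟨m, hm⟩ := (isOfFinOrder_of_finite (F.q * n)).mem_powers_iff_mem_zpowers.2 hp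
    exact ⟨m, by rw [← show (F.q * n) ^ m = p from hm, hqn.mul_pow]⟩
  have hnpow : ∀ m : ℕ, n ^ m = 1 ∨ n ^ m = n := by
    intro m
    induction m with
    | zero => exact .inl (pow_zero n)
    | succ m ih => rcases ih with h | h <;> rw [pow_succ, h] <;> [exact .inr (one_mul n); exact .inl hn2]
  have hPA : P ⊓ A = zpowers F.q := by
    refine le_antisymm ?_ (zpowers_le.2 ⟨?_, by simpa using hqA 1⟩)
    · rintro p ⟨hp, hpA⟩
      obtain ⟨m, rfl⟩ := hPmem p hp
      rcases hnpow m with h | h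
      · rw [h, mul_one]; exact pow_mem (mem_zpowers _) m
      · exfalso
        refine hnJ ?_
        have := mul_mem (inv_mem (pow_mem F.q_mem m)) (hAJ _ hpA)
        rwa [inv_mul_cancel_left, h] at this
    · refine mem_zpowers_iff.2 ⟨(4 : ℕ), ?_⟩
      rw [zpow_natCast, hqn.mul_pow, show (4 : ℕ) = 2 + 2 by rfl, pow_add n, pow_two n, hn2, mul_one, mul_one,
        show 2 + 2 = 3 + 1 by rfl, pow_add, hq3, one_mul, pow_one]
  have hcardA : Nat.card A = 27 := by
    let f : {c : V4 // app (sgM k) c = c} → A := fun c => ⟨F.e c.1, c.1, c.2, rfl⟩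
    have hf : Function.Bijective f :=
      ⟨fun c d h => Subtype.ext (F.e_inj (congrArg Subtype.val h)),
        fun ⟨x, c, hc, hx⟩ => ⟨⟨c, hc⟩, Subtype.ext hx.symm⟩⟩
    rw [← Nat.card_eq_of_bijective f hf, Nat.card_eq_fintype_card, fix_count]
  have hcube : ∀ a ∈ A, ∀ p ∈ P, (a * p) ^ 3 = 1 → a * p ∈ A := by
    intro a ha p hp h
    obtain ⟨m, rfl⟩ := hPmem p hp
    rcases hnpow m with hm | hm
    · rw [hm, mul_one]; exact mul_mem ha (hqA m)
    · exfalso
      rw [hm, ← mul_assoc, (((show Commute a n from hAn a ha)).mul_left (hqn.pow_left m)).mul_pow,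
        F.adj.J_exp (mul_mem (hAJ a ha) (pow_mem F.q_mem m)), one_mul, pow_succ, pow_two, hn2, one_mul] at h
      exact hnJ (h ▸ one_mem _)
  have hnormJ : ∀ c ∈ C, ∀ a ∈ A, c * a * c⁻¹ * a⁻¹ ∈ P → c * a * c⁻¹ ∈ A := by
    intro c hc a ha hp
    obtain ⟨m, hm⟩ := hPmem _ hp
    have hPa : a * (F.q ^ m * n ^ m) = c * a * c⁻¹ := by
      rw [mul_inv_eq_iff_eq_mul.1 hm]
      exact (((show Commute a (F.q ^ m) from F.adj.J_comm a (hAJ a ha) _ (pow_mem F.q_mem m))).mul_right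
        ((show Commute a n from hAn a ha).pow_right m)).eq
    have h3 := hcube a ha _ (hm ▸ hp) (by rw [hPa, conj_pow, F.adj.J_exp (hAJ a ha), mul_one, mul_inv_cancel])
    rwa [hPa] at h3
  have hA₀ : F.e c₀ ∈ A := ⟨c₀, hc₀, rfl⟩
  have hNorm : ∀ c ∈ C, c ∈ F.N → ∀ a ∈ A, c * a * c⁻¹ ∈ A := by
    intro c hc hN a ha
    refine hmemA _ ((hN a).2 (hAJ a ha)) ?_
    have hcn : Commute c n := mem_centralizer_singleton_iff.1 hc.2
    exact ((hcn.mul_left (show Commute a n from hAn a ha)).mul_left hcn.inv_left).eq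
  have hN : ∀ c ∈ C, (∀ a ∈ A, c * a * c⁻¹ ∈ A) → c ∈ F.N := by
    intro c hc h
    have h1 := F.fuse_wt3 (g := c⁻¹) (inv_mem hc.1) hc₀m (by rw [inv_inv]; exact hAJ _ (h _ hA₀))
    exact inv_mem_iff.1 h1
  have hact : ∀ c ∈ C, c ∈ F.N → ∃ i : Fin 4, F.Act c (repM k i) ∨ F.Act c (comp (repM k i) (sgM k)) := by
    intro c hc hcN
    obtain ⟨M, hM⟩ := F.exists_act hcN
    obtain ⟨p, hp, rfl⟩ := List.mem_map.1 ((F.stab_act hcN hc.1 hM).2 hin)
    have h := List.all_eq_true.1 (sign_centralizer k) p hp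
    simp only [decide_eq_true_eq] at h
    have h2 := F.act_mul hM hn.1
    rw [mem_centralizer_singleton_iff.1 hc.2] at h2
    obtain ⟨i, hi | hi⟩ := h (F.act_unique h2 (F.act_mul hn.1 hM))
    · exact ⟨i, .inl (hi ▸ hM)⟩
    · exact ⟨i, .inr (hi ▸ hM)⟩
  have hprod : ∀ c, c * n = n * c → (F.Act c idM ∨ F.Act c (sgM k)) → InProd A P c := by
    intro c hcn h
    rcases h with h | h
    · exact ⟨c, hmemA c (F.mem_J_of_act h) hcn, by rw [inv_mul_cancel]; exact one_mem _⟩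
    · have h2 := F.act_mul h hn.1
      rw [hs2] at h2
      refine ⟨c * n, hmemA _ (F.mem_J_of_act h2) (by rw [← mul_assoc n, ← hcn]), ?_⟩
      rw [mul_inv_rev, inv_mul_cancel_right]
      exact inv_mem hnP
  choose r hr hrq using fun i => F.exists_lift_mat (repM_facts k i).1
  have hrn : ∀ i, r i * n = n * r i := fun i => F.lift_comm (hr i) hn (repM_facts k i).2.2.1
  have hrC : ∀ i, r i ∈ C := fun i => ⟨hrq i, mem_centralizer_singleton_iff.2 (hrn i)⟩
  have hri : ∀ i, (r i)⁻¹ = r i := fun i => inv_eq_of_mul_eq_one_right (F.lift_invol (hr i) (repM_facts k i).2.1)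
  have hC' : ∀ c ∈ C, c * n = n * c := fun c hc => mem_centralizer_singleton_iff.1 hc.2
  have hgC : g ∈ C := ⟨hg, mem_centralizer_singleton_iff.2 hgn⟩
  refine hN g hgC (central_nine C P A (zpowers_le.2 (mul_mem ?_ ?_)) ?_ hAC (fun a ha => F.adj.J_exp (hAJ a ha))
    (fun a ha b hb => F.adj.J_comm a (hAJ a ha) b (hAJ b hb)) ?_ hcube ?_ r hrC
    (fun i => hNorm _ (hrC i) (F.mem_N (hr i).1)) ?_ ?_ ?_ ?_ g hgC)
  · exact hAC (by simpa using hqA 1)
  · exact ⟨hnq, mem_centralizer_singleton_iff.2 rfl⟩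
  · intro p hp c hc
    obtain ⟨m, rfl⟩ := hPmem p hp
    exact (((show Commute c F.q from F.mem_Cq.1 hc.1).pow_right m).mul_right
      ((show Commute c n from hC' c hc).pow_right m)).eq
  · rw [hcardA, hPA, Nat.card_zpowers, orderOf_eq_prime (p := 3) hq3
      (fun h => by
        have h2 : F.e qv = F.e 0 := by rw [F.e_qv, h, F.e_zero]
        exact absurd (F.e_inj h2) (by decide))]
  · intro c hc h
    have hc2 : ∀ a ∈ A, c * a * c⁻¹ ∈ A := fun a ha => hnormJ c hc a ha (h a ha)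
    obtain ⟨i, hi⟩ := hact c hc (hN c hc hc2)
    have hdiff : ∀ d : V4, app (sgM k) d = d → InQ (app (repM k i) d - d) := by
      intro d hd
      have hMd : F.Act c (repM k i) ∨ F.Act c (comp (repM k i) (sgM k)) := hi
      have e : c * F.e d * c⁻¹ = F.e (app (repM k i) d) := by
        rcases hMd with h' | h'
        · exact h' d
        · rw [h' d, app_comp, hd]
      rw [← F.mem_zq, ← hPA, sub_eq_add_neg, F.e_add, F.e_neg, ← e]
      exact ⟨h _ ⟨d, hd, rfl⟩, A.mul_mem (hc2 _ ⟨d, hd, rfl⟩) (A.inv_mem ⟨d, hd, rfl⟩)⟩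
    obtain rfl := (repM_facts k i).2.2.2.2 hdiff
    refine hprod c (hC' c hc) ?_
    rw [repM_zero] at hi
    refine hi.imp id fun h' => ?_
    intro v
    rw [h' v, app_comp, app_idM]
  · intro i
    exact ⟨1, one_mem _, by rw [inv_one, one_mul, F.lift_invol (hr i) (repM_facts k i).2.1]; exact one_mem _⟩
  · intro c hc h
    obtain ⟨i, hi⟩ := hact c hc (hN c hc h)
    refine ⟨i, hprod _ (hC' _ (mul_mem (inv_mem (hrC i)) hc)) ?_⟩
    rw [hri]
    refine hi.imp (fun h' => ?_) fun h' => ?_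
    · exact (repM_facts k i).2.1 ▸ F.act_mul (hr i).1 h'
    · have h2 := F.act_mul (hr i).1 h'
      rw [comp_assoc, (repM_facts k i).2.1] at h2
      intro v
      rw [h2 v, app_comp, app_idM]
  · intro i j ⟨a, ha, hp⟩
    obtain ⟨m, hm⟩ := hPmem _ hp
    rw [inv_mul_eq_iff_eq_mul, hri, ← mul_assoc a] at hm
    refine (repM_facts k i).2.2.2.1 j ?_
    have hJ : a * F.q ^ m ∈ F.Jg := mul_mem (hAJ a ha) (pow_mem F.q_mem m)
    have h2 : F.Act (r i * r j) (comp (repM k i) (repM k j)) := F.act_mul (hr i).1 (hr j).1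
    rw [hm] at h2
    rcases hnpow m with h' | h' <;> rw [h'] at h2
    · exact .inl (F.act_unique h2 (by rw [mul_one]; exact F.act_J hJ))
    · exact .inr (F.act_unique h2 (F.act_id_left hn.1 _ hJ))
  · intro c hc a ha haP hp b hb
    have h1 := hnormJ c hc a ha hp
    obtain ⟨v, hv, rfl⟩ := ha
    have hvQ : ¬ InQ v := fun h => haP (by
      have h' := F.mem_zq.2 h
      rw [← hPA] at h'
      exact h'.1)
    have h2 := F.fuse_all hin (g := c⁻¹) (inv_mem hc.1) hvQ (by rw [inv_inv]; exact hAJ _ h1)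
    exact hNorm c hc (inv_mem_iff.1 h2) b hb

end Frame

end CfsgLib.O8T
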