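import Cfsg.Agent.Lib.OEightPlusThree.CentSign
import Cfsg.Agent.Lib.TransferOrbit

/-!
Inside SL(2,3): a transfer to a group of order three removes the permutation part from the centralizer of `q`.
-/

set_option autoImplicit false
set_option synthInstance.maxSize 4096

namespace CfsgLib.O8T

open Subgroup

universe u

/-- An invariant product in a group of exponent three over two commuting permutations of order three. -/
theorem prod_eq_one_three {X A : Type*} [DecidableEq X] [CommGroup A] (hA : ∀ a : A, a ^ 3 = 1) (b z : X → X)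
    (f : X → A) (hb : ∀ x, b (b (b x)) = x) (hz : ∀ x, z (z (z x)) = x)
    (horb : ∀ x, f x * f (b x) * f (b (b x)) = 1) : ∀ S : Finset X, (∀ x ∈ S, b x ∈ S) →
      (∀ x ∈ S, b x = x → z x ∈ S ∧ b (z x) = z x ∧ z x ≠ x ∧ f (z x) = f x) → ∏ x ∈ S, f x = 1 := by
  intro S
  induction S using Finset.strongInduction with
  | H S ih =>
    intro hbS hzS
    rcases S.eq_empty_or_nonempty with rfl | ⟨x, hx⟩
    · rfl
    have binj : Function.Injective b := fun u v h => by rw [← hb u, ← hb v, h]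
    have zinj : Function.Injective z := fun u v h => by rw [← hz u, ← hz v, h]
    by_cases hfix : b x = x
    · obtain ⟨h1, h2, h3, h4⟩ := hzS x hx hfix
      obtain ⟨h5, h6, -, h8⟩ := hzS _ h1 h2
      have d1 : x ≠ z (z x) := fun h => h3 (by conv_lhs => rw [h, hz])
      have d2 : z x ≠ z (z x) := fun h => h3 (zinj h).symm
      have hsub : ({x, z x, z (z x)} : Finset X) ⊆ S := by
        simp [Finset.insert_subset_iff, hx, h1, h5]
      rw [← Finset.prod_sdiff hsub, ih _ (Finset.sdiff_ssubset hsub ⟨x, by simp⟩)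
        (fun y hy => by
          simp only [Finset.mem_sdiff, Finset.mem_insert, Finset.mem_singleton, not_or] at hy ⊢
          refine ⟨hbS y hy.1, fun h => hy.2.1 (binj (h.trans hfix.symm)),
            fun h => hy.2.2.1 (binj (h.trans h2.symm)), fun h => hy.2.2.2 (binj (h.trans h6.symm))⟩)
        (fun y hy hy' => by
          simp only [Finset.mem_sdiff, Finset.mem_insert, Finset.mem_singleton, not_or] at hy ⊢
          obtain ⟨g1, g2, g3, g4⟩ := hzS y hy.1 hy'
          exact ⟨⟨g1, fun h => hy.2.2.2 (zinj (h.trans (hz x).symm)), fun h => hy.2.1 (zinj h),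
            fun h => hy.2.2.1 (zinj h)⟩, g2, g3, g4⟩), one_mul,
        Finset.prod_insert (by simp [Ne.symm h3, d1]), Finset.prod_insert (by simp [d2]), Finset.prod_singleton,
        h8, h4, ← mul_assoc, ← pow_two, ← pow_succ]
      exact hA _
    · have h1 := hbS x hx
      have h5 := hbS _ h1
      have d1 : x ≠ b (b x) := fun h => hfix (by conv_lhs => rw [h, hb])
      have d2 : b x ≠ b (b x) := fun h => hfix (binj h).symm
      have hsub : ({x, b x, b (b x)} : Finset X) ⊆ S := by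
        simp [Finset.insert_subset_iff, hx, h1, h5]
      rw [← Finset.prod_sdiff hsub, ih _ (Finset.sdiff_ssubset hsub ⟨x, by simp⟩)
        (fun y hy => by
          simp only [Finset.mem_sdiff, Finset.mem_insert, Finset.mem_singleton, not_or] at hy ⊢
          exact ⟨hbS y hy.1, fun h => hy.2.2.2 (binj (h.trans (hb x).symm)), fun h => hy.2.1 (binj h),
            fun h => hy.2.2.1 (binj h)⟩)
        (fun y hy hy' => by
          simp only [Finset.mem_sdiff, Finset.mem_insert, Finset.mem_singleton, not_or] at hy ⊢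
          obtain ⟨g1, g2, g3, g4⟩ := hzS y hy.1 hy'
          refine ⟨⟨g1, fun h => hfix (by rw [← h, g2]), fun h => hfix (binj ?_), fun h => hfix (binj (binj ?_))⟩,
            g2, g3, g4⟩
          · rw [← h, g2]
          · rw [← h, g2]), one_mul,
        Finset.prod_insert (by simp [Ne.symm hfix, d1]), Finset.prod_insert (by simp [d2]), Finset.prod_singleton,
        ← mul_assoc]
      exact horb x

/-- The products of sign changes. -/
def eM (s : Fin 8) : M4 :=
  comp (powM (sgM 0) (s.val % 2)) (comp (powM (sgM 1) (s.val / 2 % 2)) (powM (sgM 2) (s.val / 4)))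

/-- The permutation part. -/
def pcl (M : M4) : Multiplicative (ZMod 3) :=
  let w := app M (1, 0, 0, 0)
  Multiplicative.ofAdd (if w.1 + w.2.1 ≠ 0 then 0 else if w.2.2.1 + w.2.2.2 ≠ 0 then 1 else 2)

theorem pcl_hom : stabWords.all (fun p => stabWords.all (fun r =>
    decide (pcl (comp p.1 r.1) = pcl p.1 * pcl r.1))) = true := by decide +kernel

theorem pcl_facts : pcl idM = 1 ∧ pcl pB ≠ 1 ∧ (∀ c : V4, ∃ i : Fin 3,
    c = i.val • qv + ((app (sgM 0) c - c) + (app (sgM 1) c - c) + (app (sgM 2) c - c))) := by decide +kernel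

theorem eM_facts : ∀ s : Fin 8, eM s ∈ stabWords.map Prod.fst ∧ comp (eM s) (eM s) = idM ∧
    pcl (eM s) = 1 := by decide +kernel

theorem stab_split : stabWords.all (fun p => decide (∃ k : Fin 3, ∃ s : Fin 8,
    p.1 = comp (powM pB k.val) (eM s))) = true := by decide +kernel

variable {G : Type u} [Group G]

namespace Frame

variable [Finite G] (F : Frame G)

/-- The part of the centralizer of `q` inside the normalizer. -/
abbrev HN : Subgroup F.Cq := F.N.subgroupOf F.Cq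

theorem exists_pcl (hin : F.Inner) : ∃ χ : F.HN →* Multiplicative (ZMod 3),
    ∀ (h : F.HN) (M : M4), F.Act ((h : F.Cq) : G) M → χ h = pcl M := by
  classical
  choose M hM using fun h : F.HN => F.exists_act (n := ((h : F.Cq) : G)) h.2
  have hmem : ∀ h : F.HN, ∃ p ∈ stabWords, p.1 = M h := fun h =>
    List.mem_map.1 ((F.stab_act h.2 (h : F.Cq).2 (hM h)).2 hin)
  refine ⟨MonoidHom.mk' (fun h => pcl (M h)) fun a b => ?_, fun h N hN => by
    show pcl (M h) = pcl N
    rw [F.act_unique (hM h) hN]⟩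
  obtain ⟨p, hp, hp'⟩ := hmem a
  obtain ⟨r, hr, hr'⟩ := hmem b
  have h := List.all_eq_true.1 (List.all_eq_true.1 pcl_hom p hp) r hr
  simp only [decide_eq_true_eq] at h
  show pcl (M (a * b)) = pcl (M a) * pcl (M b)
  rw [F.act_unique (hM (a * b)) (F.act_mul (hM a) (hM b)), ← hp', ← hr', h]

set_option maxHeartbeats 1000000 in
theorem exists_inner_kernel (hin : F.Inner) : ∃ K : Subgroup G, K ≤ F.Cq ∧
    (∀ g ∈ F.Cq, ∀ k ∈ K, g * k * g⁻¹ ∈ K) ∧ (∀ g ∈ F.Cq, ∃ j : ℕ, g * F.b ^ j ∈ K) ∧ F.Jg ≤ K ∧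
    (∀ g ∈ F.Cq, g * g = 1 → g ∈ K) ∧
    (∀ g ∈ K, g ∈ F.N → ∃ s : Fin 8, F.Act g (eM s)) := by
  classical
  obtain ⟨χ, hχ⟩ := F.exists_pcl hin
  set V := MonoidHom.transfer χ with hV
  have hA : ∀ a : Multiplicative (ZMod 3), a ^ 3 = 1 := by decide
  haveI : Fintype (F.Cq ⧸ F.HN) := Fintype.ofFinite _
  -- the value at the element permuting the supports
  set bC : F.Cq := ⟨F.b, F.Q_le_Cq_b⟩ with hbC
  have hzq : F.D.z ∈ F.Cq := F.mem_Cq.2 (F.D.Q_z _ F.q_Q.1).symm
  set zC : F.Cq := ⟨F.D.z, hzq⟩ with hzC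
  have hbN : bC ∈ F.HN := F.mem_N F.act_b
  have hzN : zC ∈ F.HN := F.J_le_N (show F.D.z ∈ F.Jg by rw [← F.e_z]; exact F.e_mem _)
  have hb3 : bC * (bC * bC) = 1 := Subtype.ext (by
    show F.b * (F.b * F.b) = 1
    rw [← pow_two, ← pow_succ']; exact F.D.Q_exp _ (F.D.Q2_le F.b_Q))
  have hz3 : zC * (zC * zC) = 1 := Subtype.ext (by
    show F.D.z * (F.D.z * F.D.z) = 1
    rw [← mul_assoc]; exact F.D.cube F.D.z_Q)
  have hbz : bC * zC = zC * bC := Subtype.ext ((F.D.Q_z _ (F.D.Q2_le F.b_Q)))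
  have hfix0 : ∀ g ∈ F.HN, g • ((1 : F.Cq) : F.Cq ⧸ F.HN) = ((1 : F.Cq) : F.Cq ⧸ F.HN) := by
    intro g hg
    rw [MulAction.Quotient.smul_mk, smul_eq_mul, mul_one, QuotientGroup.eq, mul_one]
    exact inv_mem hg
  have hVb : V bC = pcl pB := by
    rw [hV, TransferOrbit.transfer_eq_prod, ← Finset.mul_prod_erase Finset.univ _
      (Finset.mem_univ ((1 : F.Cq) : F.Cq ⧸ F.HN))]
    rw [prod_eq_one_three hA (fun x => bC • x) (fun x => zC • x) (fun x => TransferOrbit.cval χ bC x)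
      (fun x => by rw [smul_smul, smul_smul, mul_assoc, hb3, one_smul])
      (fun x => by rw [smul_smul, smul_smul, mul_assoc, hz3, one_smul])
      (fun x => by
        have e := TransferOrbit.cval_mul χ bC (bC * bC) x
        have e2 := TransferOrbit.cval_mul χ bC bC x
        have e1 : TransferOrbit.cval χ (1 : F.Cq) x = 1 := by
          have := TransferOrbit.cval_mul χ 1 1 x
          rwa [one_mul, one_smul, left_eq_mul] at this
        rw [hb3, e1, e2, mul_smul] at e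
        rw [mul_comm (TransferOrbit.cval χ bC x), mul_comm, mul_comm (TransferOrbit.cval χ bC (bC • x))]
        rw [e]
        ac_rfl)
      (Finset.univ.erase ((1 : F.Cq) : F.Cq ⧸ F.HN))
      (fun x hx => by
        simp only [Finset.mem_erase, Finset.mem_univ, and_true] at hx ⊢
        exact fun h => hx (smul_left_cancel bC (h.trans (hfix0 bC hbN).symm)))
      (fun x hx hbx => by
        simp only [Finset.mem_erase, Finset.mem_univ, and_true] at hx ⊢
        refine ⟨fun h => hx (smul_left_cancel zC (h.trans (hfix0 zC hzN).symm)), ?_, ?_, ?_⟩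
        · rw [smul_smul, hbz, mul_smul, hbx]
        · intro h
          obtain ⟨g, rfl⟩ := QuotientGroup.mk_surjective x
          rw [MulAction.Quotient.smul_mk, smul_eq_mul, eq_comm, QuotientGroup.eq] at h
          have h' : (g : G)⁻¹ * F.D.z * (g : G) ∈ F.N := by
            have := h
            simp only [mem_subgroupOf, coe_mul, coe_inv] at this
            rwa [mul_assoc]
          have hJ := F.no_perm (g := (g : G)⁻¹) (inv_mem g.2) (by rwa [inv_inv])
          rw [inv_inv, ← F.e_z] at hJ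
          have hgN := F.norm_of_fuse g.2 (u := (1, 1, 1, 0)) (by decide) hJ
          refine hx (QuotientGroup.eq.2 ?_)
          rw [mul_one]
          exact inv_mem (show g ∈ F.HN from hgN)
        · have e1 := TransferOrbit.cval_mul χ bC zC x
          have e2 := TransferOrbit.cval_mul χ zC bC x
          rw [hbz, e2, hbx, mul_comm] at e1
          exact (mul_right_cancel e1).symm), mul_one]
    rw [TransferOrbit.cval_eq χ (hfix0 bC hbN) (by simpa using hbN)]
    refine hχ _ pB ?_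
    show F.Act ((((1 : F.Cq)⁻¹ * bC * 1 : F.Cq) : F.Cq) : G) pB
    rw [inv_one, one_mul, mul_one]
    exact F.act_b
  -- translations
  have hinv : ∀ g : F.Cq, g * g = 1 → V g = 1 := by
    intro g h
    have := hA (V g)
    rw [pow_succ, pow_two, ← map_mul, h, map_one, one_mul] at this
    exact this
  have hVq : ∀ i : ℕ, V ⟨F.q ^ i, pow_mem (F.J_le_Cq F.q_mem) i⟩ = 1 := by
    intro i
    rw [hV, TransferOrbit.transfer_eq_prod]
    refine Finset.prod_eq_one fun x _ => ?_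
    obtain ⟨g, rfl⟩ := QuotientGroup.mk_surjective x
    have hgq : g⁻¹ * (⟨F.q ^ i, pow_mem (F.J_le_Cq F.q_mem) i⟩ : F.Cq) * g =
        ⟨F.q ^ i, pow_mem (F.J_le_Cq F.q_mem) i⟩ := Subtype.ext (by
      show (g : G)⁻¹ * F.q ^ i * (g : G) = F.q ^ i
      rw [mul_assoc, ← ((show Commute (g : G) F.q from F.mem_Cq.1 g.2).pow_right i).eq, inv_mul_cancel_left])
    have hN : g⁻¹ * (⟨F.q ^ i, pow_mem (F.J_le_Cq F.q_mem) i⟩ : F.Cq) * g ∈ F.HN := by
      rw [hgq]; exact pow_mem (F.J_le_N F.q_mem) i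
    rw [TransferOrbit.cval_eq χ ?_ hN, hχ _ idM, pcl_facts.1]
    · show F.Act ((g⁻¹ * (⟨F.q ^ i, pow_mem (F.J_le_Cq F.q_mem) i⟩ : F.Cq) * g : F.Cq) : G) idM
      rw [hgq]
      exact F.act_J (pow_mem F.q_mem i)
    · rw [MulAction.Quotient.smul_mk, smul_eq_mul, QuotientGroup.eq]
      have := inv_mem hN
      rwa [show (g⁻¹ * (⟨F.q ^ i, pow_mem (F.J_le_Cq F.q_mem) i⟩ : F.Cq) * g)⁻¹ =
        ((⟨F.q ^ i, pow_mem (F.J_le_Cq F.q_mem) i⟩ : F.Cq) * g)⁻¹ * g by group] at this
  have hVe : ∀ c : V4, V ⟨F.e c, F.J_le_Cq (F.e_mem c)⟩ = 1 := by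
    intro c
    obtain ⟨i, hi⟩ := pcl_facts.2.2 c
    have hk : ∀ k : Fin 3, V ⟨F.e (app (sgM k) c - c), F.J_le_Cq (F.e_mem _)⟩ = 1 := by
      intro k
      obtain ⟨n, hn, hnq⟩ := F.exists_lift_mat (sgM_facts k).2.2.1
      have e : (⟨F.e (app (sgM k) c - c), F.J_le_Cq (F.e_mem _)⟩ : F.Cq) =
          ⟨n, hnq⟩ * ⟨F.e c, F.J_le_Cq (F.e_mem c)⟩ * ⟨n, hnq⟩⁻¹ * ⟨F.e c, F.J_le_Cq (F.e_mem c)⟩⁻¹ :=
        Subtype.ext (by
          show F.e (app (sgM k) c - c) = n * F.e c * n⁻¹ * (F.e c)⁻¹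
          rw [hn.1, sub_eq_add_neg, F.e_add, F.e_neg])
      rw [e]; simp only [map_mul, map_inv]
      rw [mul_comm (V ⟨n, hnq⟩), mul_inv_cancel_right, mul_inv_cancel]
    have e : (⟨F.e c, F.J_le_Cq (F.e_mem c)⟩ : F.Cq) = ⟨F.q ^ i.val, pow_mem (F.J_le_Cq F.q_mem) i.val⟩ *
        (⟨F.e (app (sgM 0) c - c), F.J_le_Cq (F.e_mem _)⟩ * ⟨F.e (app (sgM 1) c - c), F.J_le_Cq (F.e_mem _)⟩ *
        ⟨F.e (app (sgM 2) c - c), F.J_le_Cq (F.e_mem _)⟩) := Subtype.ext (by
      show F.e c = F.q ^ i.val * (F.e (app (sgM 0) c - c) * F.e (app (sgM 1) c - c) * F.e (app (sgM 2) c - c))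
      rw [← F.e_add, ← F.e_add, ← F.q_pow, ← F.e_add, ← hi])
    rw [e]; simp only [map_mul, hVq, hk, one_mul]
  refine ⟨V.ker.map F.Cq.subtype, map_subtype_le _, ?_, ?_, ?_, ?_, ?_⟩
  · rintro g hg _ ⟨k, hk, rfl⟩
    rw [SetLike.mem_coe, MonoidHom.mem_ker] at hk
    refine Subgroup.mem_map.2 ⟨⟨g, hg⟩ * k * ⟨g, hg⟩⁻¹, ?_, ?_⟩
    · rw [MonoidHom.mem_ker, map_mul, map_mul, map_inv, hk, mul_one, mul_inv_cancel]
    · simp only [Subgroup.subtype_apply, Subgroup.coe_mul, Subgroup.coe_inv]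
  · intro g hg
    obtain ⟨j, hj⟩ := (show ∀ a x : Multiplicative (ZMod 3), a ≠ 1 → ∃ j : Fin 3, x * a ^ j.val = 1 by decide)
      (pcl pB) (V ⟨g, hg⟩) pcl_facts.2.1
    refine ⟨j.val, ⟨⟨g, hg⟩ * bC ^ j.val, ?_, rfl⟩⟩
    rw [SetLike.mem_coe, MonoidHom.mem_ker, map_mul, map_pow, hVb, hj]
  · intro a ha
    obtain ⟨c, rfl⟩ := F.e_surj ha
    exact ⟨⟨F.e c, F.J_le_Cq ha⟩, hVe c, rfl⟩
  · intro g hg h
    exact ⟨⟨g, hg⟩, hinv _ (Subtype.ext h), rfl⟩
  · rintro _ ⟨g, hg, rfl⟩ hgN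
    obtain ⟨M, hM⟩ := F.exists_act (show (g : G) ∈ F.N from hgN)
    obtain ⟨p, hp, rfl⟩ := List.mem_map.1 ((F.stab_act hgN g.2 hM).2 hin)
    have h := List.all_eq_true.1 stab_split p hp
    simp only [decide_eq_true_eq] at h
    obtain ⟨k, s, hks⟩ := h
    obtain ⟨n, hn, hnq⟩ := F.exists_lift_mat (eM_facts s).1
    have hn2 := F.lift_invol hn (eM_facts s).2.1
    obtain ⟨W, hW⟩ := F.exists_act (inv_mem (mul_mem (F.mem_N (F.act_bpow k.val)) (F.mem_N hn.1)))
    have hbn : F.Act (F.b ^ k.val * n) p.1 := hks ▸ F.act_mul (F.act_bpow k.val) hn.1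
    obtain ⟨c, hc⟩ := F.e_surj (F.mem_J_of_act (n := (g : G) * (F.b ^ k.val * n)⁻¹) (fun v => by
      rw [F.act_mul hM hW v, F.act_unique (F.act_mul hbn hW) (by rw [mul_inv_cancel]; exact F.act_one)]))
    have e : g = (⟨F.e c, F.J_le_Cq (F.e_mem c)⟩ : F.Cq) * (bC ^ k.val * ⟨n, hnq⟩) := Subtype.ext (by
      show (g : G) = F.e c * (F.b ^ k.val * n)
      rw [hc, inv_mul_cancel_right])
    have hk0 : k = 0 := by
      have h1 : V g = 1 := hg
      rw [e, map_mul, map_mul, map_pow, hVe, hVb, hinv _ (Subtype.ext hn2), one_mul, mul_one] at h1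
      exact (show ∀ a : Multiplicative (ZMod 3), ∀ k : Fin 3, a ≠ 1 → a ^ k.val = 1 → k = 0 by decide) _ k pcl_facts.2.1 h1
    subst hk0
    refine ⟨s, fun v => ?_⟩
    show (g : G) * F.e v * (g : G)⁻¹ = _
    rw [hM v, hks, app_comp, Fin.val_zero, show powM pB 0 = idM from rfl, app_idM]

end Frame

end CfsgLib.O8T
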