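import Cfsg.Agent.Lib.OEightPlusThree.CoverY

/-!
The centralizers of `u` and `e` lie in `MN`.
-/

set_option autoImplicit false
set_option synthInstance.maxSize 4096
set_option maxRecDepth 8000

namespace CfsgLib.O8T

open Subgroup

universe u

variable {G : Type u} [Group G]

/-- Two involutions not conjugate in a subgroup containing them have a central involution in the group they generate. -/
theorem invol_pair [Finite G] {C : Subgroup G} {t y : G} (ht : t * t = 1) (hy : y * y = 1) (htC : t ∈ C) (hyC : y ∈ C)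
    (hne : ∀ c ∈ C, c * t * c⁻¹ ≠ y) :
    ∃ s, s ∈ C ∧ (∀ L : Subgroup G, t ∈ L → y ∈ L → s ∈ L) ∧ s * s = 1 ∧ s ≠ 1 ∧ Commute s t ∧ Commute s y ∧
      ∃ c ∈ C, c * t * c⁻¹ = t * s ∨ c * y * c⁻¹ = t * s := by
  have hti : t⁻¹ = t := inv_eq_of_mul_eq_one_right ht
  have hyi : y⁻¹ = y := inv_eq_of_mul_eq_one_right hy
  obtain ⟨p, hp⟩ : ∃ p, p = t * y := ⟨_, rfl⟩
  have hpC : p ∈ C := hp ▸ mul_mem htC hyC
  have hy' : y = t * p := by rw [hp, ← mul_assoc, ht, one_mul]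
  have hpi : t * p * t⁻¹ = p⁻¹ := by
    rw [hp, hti, ← mul_assoc, ht, one_mul, mul_inv_rev, hti, hyi]
  have key : ∀ j : ℕ, t * p ^ j = (p ^ j)⁻¹ * t := fun j => by
    rw [← inv_pow, ← hpi, conj_pow, inv_mul_cancel_right]
  have key' : ∀ j : ℕ, t * (p ^ j)⁻¹ = p ^ j * t := fun j => by
    rw [mul_inv_eq_iff_eq_mul, mul_assoc, key, mul_inv_cancel_left]
  have hn := pow_orderOf_eq_one p
  have hn0 := orderOf_pos p
  rcases Nat.even_or_odd (orderOf p) with ⟨m, hm⟩ | ⟨m, hm⟩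
  swap
  · refine absurd ?_ (hne (p ^ m) (pow_mem hpC m))
    rw [mul_assoc, key', ← mul_assoc, ← pow_add, show m + m = 2 * m by omega]
    have e : p ^ (2 * m) = p⁻¹ := eq_inv_of_mul_eq_one_left (by rw [← pow_succ, ← hm, hn])
    rw [e, hp, mul_inv_rev, hti, hyi, mul_assoc, ht, mul_one]
  have hss : p ^ m * p ^ m = 1 := by rw [← pow_add, ← hm, hn]
  have hsi : (p ^ m)⁻¹ = p ^ m := inv_eq_of_mul_eq_one_right hss
  have hst : Commute (p ^ m) t := by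
    show p ^ m * t = t * p ^ m
    rw [key, hsi]
  refine ⟨p ^ m, pow_mem hpC m, fun L h1 h2 => pow_mem (hp ▸ mul_mem h1 h2) m, hss,
    pow_ne_one_of_lt_orderOf (by omega) (by omega), hst, hy' ▸ hst.mul_right ((Commute.refl p).pow_left m), ?_⟩
  rcases Nat.even_or_odd m with ⟨r, hr⟩ | ⟨r, hr⟩
  · refine ⟨p ^ r, pow_mem hpC r, .inl ?_⟩
    rw [mul_assoc, key', ← mul_assoc, ← pow_add, ← hr, hst.eq]
  · refine ⟨(p ^ r)⁻¹, inv_mem (pow_mem hpC r), .inr ?_⟩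
    rw [inv_inv, hy', ← mul_assoc _ t p, ← key, mul_assoc, ← pow_succ', mul_assoc, ← pow_add]
    congr 2
    omega

theorem zpowers_invol {q : G} (hq : q * q = 1) : IsPGroup 2 (zpowers q) := by
  intro g
  obtain ⟨i, hi⟩ := mem_zpowers_iff.1 g.2
  refine ⟨1, Subtype.ext ?_⟩
  push_cast
  rw [← hi, pow_two, ← (Commute.refl q).mul_zpow, hq, one_zpow]

namespace Frame

variable [Finite G] (F : Frame G)

theorem P2_le_Hg : F.P2 ≤ F.Hg := F.P2_le.trans F.K0_le_Hg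

theorem Tc.sq {g : G} (h : F.Tc g) : g * g = 1 := by
  obtain ⟨c, rfl⟩ := h
  rw [show c * F.nT * c⁻¹ * (c * F.nT * c⁻¹) = c * (F.nT * F.nT) * c⁻¹ by group, F.nT_sq, mul_one, mul_inv_cancel]

theorem Tc.ne_one {g : G} (h : F.Tc g) : g ≠ 1 := by
  obtain ⟨c, rfl⟩ := h
  exact fun e => F.nT_ne (conj_eq_one_iff.1 e)

/-- An involution of `MN` can be moved into the Sylow subgroup. -/
theorem Hg_into_P2 {y : G} (hy : y ∈ F.Hg) (h2 : y * y = 1) : ∃ k ∈ F.Hg, k * y * k⁻¹ ∈ F.P2 := by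
  haveI : Fact (Nat.Prime 2) := ⟨Nat.prime_two⟩
  obtain ⟨P, hP⟩ := F.P2_sylow
  have hidx : ¬ 2 ∣ (F.P2.subgroupOf F.Hg).index := fun h => P.not_dvd_index (by
    rw [hP, ← relIndex_mul_index F.P2_le_Hg]
    exact dvd_mul_of_dvd_left h _)
  obtain ⟨k, hk, hkP⟩ := conj_sylow F.P2_le_Hg F.P2_isP hidx (zpowers_le.2 hy) (zpowers_invol h2)
  exact ⟨k, hk, hkP y (mem_zpowers y)⟩

/-- A conjugate of `t` in `MN` is conjugate to it in `MN`. -/
theorem Tc_Hg {y : G} (hy : y ∈ F.Hg) (h : F.Tc y) : F.TH y := by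
  obtain ⟨G0, hn, hM, -, hP, -⟩ := F.exists_G0
  have hyG : y ∈ G0 := by
    obtain ⟨c, hc⟩ := h
    exact hc ▸ hn.conj_mem _ (hM F.nT_M) c
  obtain ⟨k, hk, hkP⟩ := F.Hg_into_P2 hy (Tc.sq F h)
  have hz := hP _ (hn.conj_mem _ hyG k) hkP
  have hzt := Tc.conj F h k
  rcases F.P16_inv hz (Tc.sq F hzt) (Tc.ne_one F hzt) with e | e | e
  · have := TH.conj F e (inv_mem hk)
    rwa [show k⁻¹ * (k * y * k⁻¹) * k⁻¹⁻¹ = y by group] at this
  · exact (Tc.not_Uc F hzt (UH.uc F e)).elim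
  · exact (Tc.not_Ec F hzt (EH.ec F e)).elim

theorem cent_conj {z h : G} (hh : h ∈ F.Hg) (hz : centralizer ({z} : Set G) ≤ F.Hg) :
    centralizer ({h * z * h⁻¹} : Set G) ≤ F.Hg := fun g hg => by
  have hc : Commute g (h * z * h⁻¹) := mem_centralizer_singleton_iff.1 hg
  have h1 : h⁻¹ * g * h ∈ F.Hg := hz (mem_centralizer_singleton_iff.2 (by
    have := hc.conj h⁻¹
    rw [inv_inv, show h⁻¹ * (h * z * h⁻¹) * h = z by group] at this
    exact this.eq))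
  have h2 := mul_mem (mul_mem hh h1) (inv_mem hh)
  rwa [show h * (h⁻¹ * g * h) * h⁻¹ = g by group] at h2

theorem cent_TH {z : G} (hz : F.TH z) : centralizer ({z} : Set G) ≤ F.Hg := by
  obtain ⟨h, hh, rfl⟩ := hz
  exact F.cent_conj hh F.cent_t_le

/-- The centralizer of an involution of `W` separated by a reflection. -/
theorem cent_sep {w y0 : G} (hw : w ∈ F.W) (hw2 : w * w = 1) (hy0 : y0 ∈ F.Hg) (hT : F.Tc y0) (hcy : Commute y0 w)
    (hsep : (F.Uc (F.nT * w) ∧ F.Ec (y0 * w)) ∨ (F.Ec (F.nT * w) ∧ F.Uc (y0 * w))) :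
    centralizer ({w} : Set G) ≤ F.Hg := by
  haveI : Fact (Nat.Prime 2) := ⟨Nat.prime_two⟩
  intro g hg
  have hgw : Commute g w := mem_centralizer_singleton_iff.1 hg
  obtain ⟨y, hy⟩ : ∃ y, y = g * y0 * g⁻¹ := ⟨_, rfl⟩
  have hyT : F.Tc y := hy ▸ Tc.conj F hT g
  have hconj : ∀ {c a b : G}, Commute c w → c * a * c⁻¹ = b → c * (a * w) * c⁻¹ = b * w := by
    intro c a b hc e
    rw [← e, mul_assoc, mul_assoc a w, ← hc.inv_left.eq]; group
  have hyw : Commute y w := by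
    rw [hy]; exact (hgw.mul_left hcy).mul_left hgw.inv_left
  have hywc : g * (y0 * w) * g⁻¹ = y * w := hconj hgw hy.symm
  have hsep' : (F.Uc (F.nT * w) ∧ F.Ec (y * w)) ∨ (F.Ec (F.nT * w) ∧ F.Uc (y * w)) :=
    hsep.imp (fun h => ⟨h.1, hywc ▸ Ec.conj F h.2 g⟩) (fun h => ⟨h.1, hywc ▸ Uc.conj F h.2 g⟩)
  have htw : Commute F.nT w := (F.W_nT hw).symm
  obtain ⟨s, hsC, hsL, hs2, hs1, hst, hsy, c, hcC, hc⟩ := invol_pair (C := centralizer ({w} : Set G)) F.nT_sq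
    (Tc.sq F hyT) (mem_centralizer_singleton_iff.2 htw.eq) (mem_centralizer_singleton_iff.2 hyw.eq) (by
      intro c hc e
      have hcw : Commute c w := mem_centralizer_singleton_iff.1 hc
      rcases hsep' with ⟨h1, h2⟩ | ⟨h1, h2⟩
      · exact Uc.not_Ec F (hconj hcw e ▸ Uc.conj F h1 c) h2
      · exact Uc.not_Ec F h2 (hconj hcw e ▸ Ec.conj F h1 c))
  have hsw : Commute s w := mem_centralizer_singleton_iff.1 hsC
  have hcw : Commute c w := mem_centralizer_singleton_iff.1 hcC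
  have hqT : F.Tc (F.nT * s) := by
    rcases hc with e | e
    · exact e ▸ Tc.conj F ⟨1, by group⟩ c
    · exact e ▸ Tc.conj F hyT c
  have hqw : F.Uc (F.nT * s * w) ∨ F.Ec (F.nT * s * w) := by
    rcases hc with e | e <;> rw [← hconj hcw e]
    · exact hsep'.imp (fun h => Uc.conj F h.1 c) (fun h => Ec.conj F h.1 c)
    · exact (hsep'.imp (fun h => Ec.conj F h.2 c) (fun h => Uc.conj F h.2 c)).symm
  obtain ⟨G0, hn, hM, -, hP, -⟩ := F.exists_G0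
  have hyG : y ∈ G0 := by
    obtain ⟨d, hd⟩ := hyT
    exact hd ▸ hn.conj_mem _ (hM F.nT_M) d
  have htK : F.nT ∈ F.K0 := F.W_le_K0 F.nT_W
  have hsK : s ∈ F.K0 := F.Kt_le_K0 (F.mem_Kt.2 hst)
  have hqK : F.nT * s ∈ F.K0 := mul_mem htK hsK
  obtain ⟨k, hk, hkP⟩ := conj_sylow F.P2_le F.P2_isP F.P2_index (zpowers_le.2 hqK) (zpowers_invol (Tc.sq F hqT))
  have hkH : k ∈ F.Hg := F.K0_le_Hg hk
  have hkT : Commute k F.nT := F.mem_Kt.1 (F.K0_le_Kt hk)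
  obtain ⟨w', hw'⟩ : ∃ w', w' = k * w * k⁻¹ := ⟨_, rfl⟩
  have hw'W : w' ∈ F.W := hw' ▸ (mem_normalizer_iff.1 (F.K0_norm hk) w).1 hw
  obtain ⟨q, hq⟩ : ∃ q, q = k * (F.nT * s) * k⁻¹ := ⟨_, rfl⟩
  have hq16 : q ∈ F.P16 := hq ▸ hP _ (hn.conj_mem _ (mul_mem (hM F.nT_M) (hsL G0 (hM F.nT_M) hyG)) k)
    (hkP _ (mem_zpowers _))
  have hqT' : F.Tc q := hq ▸ Tc.conj F hqT k
  have hs' : F.nT * q = k * s * k⁻¹ := by
    rw [hq, show k * (F.nT * s) * k⁻¹ = k * F.nT * s * k⁻¹ by group, hkT.eq,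
      show F.nT * (F.nT * k * s * k⁻¹) = F.nT * F.nT * (k * s * k⁻¹) by group, F.nT_sq, one_mul]
  have hqwT : F.Uc (q * w') ∨ F.Ec (q * w') := by
    rw [hq, hw', show k * (F.nT * s) * k⁻¹ * (k * w * k⁻¹) = k * (F.nT * s * w) * k⁻¹ by group]
    exact hqw.imp (fun h => Uc.conj F h k) (fun h => Ec.conj F h k)
  have hqw' : Commute q w' := by
    rw [hq, hw']; exact (htw.mul_left hsw).conj k
  obtain ⟨v, hv, x, hqx⟩ := F.mem_P16' hq16
  have hz : ∃ z, z ∈ F.K0 ∧ F.Tc z ∧ Commute (k * y * k⁻¹) z := by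
    have hcs : Commute (k * y * k⁻¹) (F.nT * q) := hs' ▸ hsy.symm.conj k
    have hqK' : q ∈ F.K0 := hq ▸ mul_mem (mul_mem hk hqK) (inv_mem hk)
    by_cases hx : x = 0
    · rw [hx, F.npr_zero, mul_one] at hqx
      subst hqx
      refine ⟨F.nT * q, mul_mem htK hqK', ?_, hcs⟩
      obtain ⟨r, hr⟩ := F.is_exists hv
      rw [← (F.W_nT hv).eq]
      refine (Is.Y F hr (Is.of_Tc F hr hqT' fun e => ?_)).2
      subst e
      rcases Is.zero F hr with e | e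
      · exact Tc.ne_one F hqT' e
      · refine hs1 ?_
        rw [e, F.nT_sq] at hs'
        exact conj_eq_one_iff.1 hs'.symm
    obtain ⟨n0, hn0⟩ : ∃ n0, n0 = F.npr x := ⟨_, rfl⟩
    have hn0T : Commute n0 F.nT := hn0 ▸ (F.npr_mv x).1
    have hv' : v * (n0 * w' * n0⁻¹) ∈ F.W :=
      mul_mem hv (F.W_norm (hn0 ▸ F.mem_N (F.npr_lift x).1) hn0T hw'W)
    have e2 : q * w' = v * (n0 * w' * n0⁻¹) * n0 := by rw [hqx, ← hn0]; group
    have hw'2 : w' * w' = 1 := by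
      rw [hw', show k * w * k⁻¹ * (k * w * k⁻¹) = k * (w * w) * k⁻¹ by group, hw2]; group
    have hqw2 : q * w' * (q * w') = 1 := by
      rw [mul_assoc, ← mul_assoc w', ← hqw'.eq, mul_assoc q w' w', hw'2, mul_one, Tc.sq F hqT']
    obtain ⟨a, ha, hA⟩ := F.coset_inv hx hn0 hv (by rw [hn0, ← hqx]; exact Tc.sq F hqT')
    obtain ⟨b, hb, hB⟩ := F.coset_inv hx hn0 hv' (e2 ▸ hqw2)
    rw [hn0, ← hqx, ← hn0] at hA
    rw [← e2] at hB
    have hmove : ∀ {A : G}, F.Tc (a * A * a⁻¹) → F.Tc (b * A * b⁻¹) := fun {A} h => by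
      have := Tc.conj F h (b * a⁻¹)
      rwa [show b * a⁻¹ * (a * A * a⁻¹) * (b * a⁻¹)⁻¹ = b * A * b⁻¹ by group] at this
    have hbT : Commute b F.nT := F.W_nT hb
    have hbad : ¬ F.Tc (q * w') := fun h => hqwT.elim (Tc.not_Uc F h) (Tc.not_Ec F h)
    have hgood : F.Tc (q * w' * F.nT) := by
      rcases hA with eA | eA <;> rcases hB with eB | eB
      · exact absurd (eB ▸ hmove (eA ▸ hqT')) hbad
      · rw [eB, show b * (n0 * F.nT) * b⁻¹ * F.nT = b * n0 * (F.nT * b⁻¹) * F.nT by group, ← hbT.inv_left.eq,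
          show b * n0 * (b⁻¹ * F.nT) * F.nT = b * n0 * b⁻¹ * (F.nT * F.nT) by group, F.nT_sq, mul_one]
        exact hmove (eA ▸ hqT')
      · rw [eB, show b * n0 * b⁻¹ * F.nT = b * n0 * (b⁻¹ * F.nT) by group, hbT.inv_left.eq,
          show b * n0 * (F.nT * b⁻¹) = b * (n0 * F.nT) * b⁻¹ by group]
        exact hmove (eA ▸ hqT')
      · exact absurd (eB ▸ hmove (eA ▸ hqT')) hbad
    have hqwt : Commute (q * w') F.nT :=
      (F.mem_Kt.1 (F.K0_le_Kt hqK')).mul_left (F.W_nT hw'W)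
    refine ⟨F.nT * (q * w'), mul_mem htK (mul_mem hqK' (F.W_le_K0 hw'W)), hqwt.eq ▸ hgood, ?_⟩
    rw [← mul_assoc]
    exact hcs.mul_right (hw' ▸ hyw.conj k)
  obtain ⟨z, hzK, hzT, hzy⟩ := hz
  have hyH : y ∈ F.Hg := by
    have h1 : k * y * k⁻¹ ∈ F.Hg := F.cent_TH (F.Tc_Hg (F.K0_le_Hg hzK) hzT)
      (mem_centralizer_singleton_iff.2 hzy.eq)
    have := mul_mem (mul_mem (inv_mem hkH) h1) hkH
    rwa [show k⁻¹ * (k * y * k⁻¹) * k = y by group] at this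
  obtain ⟨h, hh, he⟩ := F.Tc_Hg hyH hyT
  obtain ⟨h0, hh0, he0⟩ := F.Tc_Hg hy0 hT
  have h1 : h⁻¹ * g * h0 ∈ F.Hg := F.cent_t_le (F.mem_Kt.2 (mul_inv_eq_iff_eq_mul.1 (by
    rw [show h⁻¹ * g * h0 * F.nT * (h⁻¹ * g * h0)⁻¹ = h⁻¹ * (g * (h0 * F.nT * h0⁻¹) * g⁻¹) * h by group, he0,
      ← hy, ← he]; group)))
  have h2 := mul_mem (mul_mem hh h1) (inv_mem hh0)
  rwa [show h * (h⁻¹ * g * h0) * h0⁻¹ = g by group] at h2

/-- The centralizer of `u`. -/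
theorem cent_UH {z : G} (hz : F.UH z) : centralizer ({z} : Set G) ≤ F.Hg := by
  obtain ⟨w, hw⟩ := F.st_exists 17
  have hs : swt (17 : Fin 256) = 2 := by decide +kernel
  obtain ⟨h, hh, he⟩ := Is.twoH F hw hs
  have hcy : Commute (F.nR 3) (F.nR 0 * F.nR 2) := (F.nR_comm 3 0).mul_right (F.nR_comm 3 2)
  have hW : centralizer ({w} : Set G) ≤ F.Hg := by
    refine F.cent_sep (y0 := h * F.nR 3 * h⁻¹) (Is.mem F hw) ?_ (?_ : h * F.nR 3 * h⁻¹ ∈ F.Hg)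
      (TH.tc F (TH.conj F (F.nR_TH 3) hh)) (he ▸ hcy.conj h) (.inl ⟨?_, ?_⟩)
    · rw [Is.sq F hw, hs, show (2 : ℕ) = 1 + 1 from rfl, pow_succ, pow_one, F.nT_sq]
    · exact mul_mem (mul_mem hh (F.M_le_Hg (F.nR_M 3))) (inv_mem hh)
    · rw [← (F.W_nT (Is.mem F hw)).eq]
      exact Is.two F (Is.of_sim F hw (.inr rfl)) hs
    · rw [← he, show h * F.nR 3 * h⁻¹ * (h * (F.nR 0 * F.nR 2) * h⁻¹) = h * (F.nR 3 * F.nR 0 * F.nR 2) * h⁻¹ by group]
      exact Ec.conj F (EH.ec F (F.triple_EH (by decide) (by decide) (by decide))) h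
  obtain ⟨c, hc, rfl⟩ := hz
  rw [show c * (F.nR 0 * F.nR 2) * c⁻¹ = c * h⁻¹ * w * (c * h⁻¹)⁻¹ by rw [← he]; group]
  exact F.cent_conj (mul_mem hc (inv_mem hh)) hW

/-- The centralizer of `e`. -/
theorem cent_EH {z : G} (hz : F.EH z) : centralizer ({z} : Set G) ≤ F.Hg := by
  obtain ⟨w, hw⟩ := F.st_exists 102
  have hs : swt (102 : Fin 256) = 4 ∧ ¬ IsY (102 : Fin 256) := by decide +kernel
  obtain ⟨h, hh, he⟩ := Is.fourH F hw hs.1 hs.2
  have hrho : F.nR 0 * F.rho = F.nR 3 * F.nR 2 := by rw [rho, ← mul_assoc, F.nR_sq, one_mul]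
  have hcy : Commute (F.nR 0) F.rho := (Commute.refl _).mul_right ((F.nR_comm 0 3).mul_right (F.nR_comm 0 2))
  have hW : centralizer ({w} : Set G) ≤ F.Hg := by
    refine F.cent_sep (y0 := h * F.nR 0 * h⁻¹) (Is.mem F hw) ?_
      (mul_mem (mul_mem hh (F.M_le_Hg (F.nR_M 0))) (inv_mem hh))
      (TH.tc F (TH.conj F (F.nR_TH 0) hh)) (he ▸ hcy.conj h) (.inr ⟨?_, ?_⟩)
    · rw [Is.sq F hw, hs.1, show (4 : ℕ) = 2 + 2 from rfl, pow_add, pow_two, F.nT_sq, one_mul]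
    · rw [← (F.W_nT (Is.mem F hw)).eq]
      exact Is.four F (Is.of_sim F hw (.inr rfl)) hs.1 hs.2
    · rw [← he, show h * F.nR 0 * h⁻¹ * (h * F.rho * h⁻¹) = h * (F.nR 0 * F.rho) * h⁻¹ by group, hrho]
      exact Uc.conj F (UH.uc F (F.pair_UH (by decide))) h
  obtain ⟨c, hc, rfl⟩ := hz
  rw [show c * F.rho * c⁻¹ = c * h⁻¹ * w * (c * h⁻¹)⁻¹ by rw [← he]; group]
  exact F.cent_conj (mul_mem hc (inv_mem hh)) hW

/-- The centralizers of the involutions of the inner part. -/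
theorem cent_P16 {g : G} (hg : g ∈ F.P16) (h2 : g * g = 1) (h1 : g ≠ 1) : centralizer ({g} : Set G) ≤ F.Hg := by
  rcases F.P16_inv hg h2 h1 with h | h | h
  exacts [F.cent_TH h, F.cent_UH h, F.cent_EH h]

end Frame

end CfsgLib.O8T
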