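import Cfsg.Agent.Lib.OEightPlusThree.CentInnerWhole
import Cfsg.Agent.Lib.OEightPlusThree.CentOuter

/-!
Centralizers of elements of weight two lie in the normalizer of `J`.
-/

set_option autoImplicit false
set_option synthInstance.maxSize 4096

namespace CfsgLib.O8T

open Subgroup

universe u

variable {G : Type u} [Group G]

namespace Frame

variable [Finite G] (F : Frame G)

theorem Cq_le : F.Cq ≤ F.N := by
  by_cases h : F.Inner
  · exact F.inner_Cq_le h
  · exact F.outer_Cq_le h

/-- The centralizer of an element of weight two. -/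
theorem cent_v {c : V4} (hc : wt c = 2) {g : G} (h : g * F.e c = F.e c * g) : g ∈ F.N := by
  obtain ⟨w, hw⟩ := reach_v hc
  have hwe : F.word w * F.q * (F.word w)⁻¹ = F.e c := by rw [← F.e_qv, F.act_word, qv, hw]
  have hmem : (F.word w)⁻¹ * g * F.word w ∈ F.Cq := F.mem_Cq.2 (by
    calc (F.word w)⁻¹ * g * F.word w * F.q = (F.word w)⁻¹ * (g * (F.word w * F.q * (F.word w)⁻¹)) * F.word w := by group
      _ = F.q * ((F.word w)⁻¹ * g * F.word w) := by rw [hwe, h, ← hwe]; group)
  have := mul_mem (mul_mem (F.word_N w) (F.Cq_le hmem)) (inv_mem (F.word_N w))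
  rwa [show F.word w * ((F.word w)⁻¹ * g * F.word w) * (F.word w)⁻¹ = g by group] at this

end Frame

end CfsgLib.O8T
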