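import Cfsg.Agent.Lib.OEightPlusThree.WGroup
import Cfsg.Agent.Lib.PSp43Rec.CtGen

/-!
The centralizer of `x` and the reflection, and signalizers in the centralizer of the reflection.
-/

set_option autoImplicit false
set_option synthInstance.maxSize 4096
set_option maxRecDepth 8000

namespace CfsgLib.O8T

open Subgroup Equiv

universe u

/-- The vector with the given coordinates at the four points. -/
def triV (p : CfsgPSp43Rec.Tri) : V4 :=
  p.1.val • zvv 0 + p.2.1.val • zvv 1 + p.2.2.val • zvv 2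

theorem tri_facts : (∀ p, CfsgPSp43Rec.act CfsgPSp43Rec.swap01 p = p → app pT (triV p) = triV p) ∧
    (∃ M ∈ stX, M ∉ xFix.map Prod.fst ∧ app M xv4 = xv4 ∧ comp M pT = comp pT M) ∧
    InPlane 0 xv4 ∧ InPlane 1 xv4 := by decide +kernel

theorem sig_facts : (gam.all fun M => decide (app M (0, 0, 1, 0) = (0, 0, 1, 0) → app M xv4 = xv4 →
      app M (1, 1, 0, 0) = (1, 1, 0, 0) → M = idM ∨ M = pT)) = true ∧
    (gam.all fun M => decide (comp M pT = comp pT M → app M xv4 = xv4 →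
      ∀ k : Fin 4, (k = 0 ∨ k = 1) → ∀ l, PlaneFix (comp (vM l) (comp M (vM k))) → l = 0 ∨ l = 1)) = true ∧
    app pT (1, 1, 0, 0) = (1, 1, 0, 0) ∧ app (vM 3) (0, 0, 1, 0) = xv4 := by decide +kernel

/-- The plane of `J` spanned by two single supports. -/
def uC (i j : ZMod 3) : V4 := (0, 0, i, j)

theorem uC_facts : (∀ i j i' j', uC i j + uC i' j' = uC (i + i') (j + j')) ∧ uC 0 0 = 0 ∧
    (∀ i j i' j', uC i j = uC i' j' → (i, j) = (i', j')) ∧ (∀ i j, app pT (uC i j) = uC i j) ∧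
    (∀ i j, (i, j) ≠ 0 → wt (uC i j) = 2 ∨ ∃ m : Fin 3, (m.val • uC i j = xv4 ∨ m.val • uC i j = (0, 0, 1, 0))) := by
  decide +kernel

variable {G : Type u} [Group G]

namespace Frame

variable [Finite G] (F : Frame G)

/-- The part of the centralizer of `x` and the reflection in the normalizer. -/
abbrev CNx : Subgroup G := F.N ⊓ F.Cx ⊓ centralizer ({F.nT} : Set G)

theorem mem_CNx {g : G} : g ∈ F.CNx ↔ g ∈ F.N ∧ g ∈ F.Cx ∧ Commute g F.nT := by
  simp only [mem_inf, mem_centralizer_singleton_iff, and_assoc]; exact Iff.rfl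

/-- The product of the first two quaternion groups. -/
noncomputable abbrev Q01 : Subgroup G := F.Qk 0 ⊔ F.Qk 1

theorem Q01_le_W : F.Q01 ≤ F.W := sup_le (F.Qk_le_W 0) (F.Qk_le_W 1)

theorem Q01_Cx : F.Q01 ≤ F.Cx :=
  sup_le (fun _ ha => F.mem_Cx.2 (F.Qk_fix ha tri_facts.2.2.1).eq)
    (fun _ ha => F.mem_Cx.2 (F.Qk_fix ha tri_facts.2.2.2).eq)

theorem mem_Q01 {g : G} (h : g ∈ F.Q01) : ∃ a ∈ F.Qk 0, ∃ b ∈ F.Qk 1, g = a * b := by
  have hle : F.Qk 1 ≤ normalizer (F.Qk 0 : Set G) := fun b hb => by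
    refine mem_normalizer_iff.2 fun a => ⟨fun ha => ?_, fun ha => ?_⟩
    · rwa [← (F.Qk_comm (by decide) ha hb).eq, mul_inv_cancel_right]
    · have h1 := F.Qk_comm (show (0 : Fin 4) ≠ 1 by decide) ha hb
      have e : a = b * a * b⁻¹ := mul_left_cancel ((inv_mul_cancel_right (b * a) b).symm.trans h1.eq)
      rwa [← e] at ha
  have h' : g ∈ ((F.Qk 0 ⊔ F.Qk 1 : Subgroup G) : Set G) := h
  rw [coe_mul_of_right_le_normalizer_left _ _ hle] at h'
  obtain ⟨a, ha, b, hb, rfl⟩ := h'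
  exact ⟨a, ha, b, hb, rfl⟩

/-- The normalizer part permutes the first two groups. -/
theorem CNx_norm {n : G} (hn : n ∈ F.CNx) {q : G} (hq : q ∈ F.Q01) : n * q * n⁻¹ ∈ F.Q01 := by
  obtain ⟨hN, hx, ht⟩ := F.mem_CNx.1 hn
  have key : ∀ k : Fin 4, k = 0 ∨ k = 1 → F.Qk k ≤ F.Q01.comap (MulAut.conj n).toMonoidHom := by
    intro k hk a ha
    obtain ⟨M, m, c, hm, rfl, hA⟩ := F.exists_aff hN
    obtain ⟨hc, hM⟩ := F.aff_nT hm ht
    obtain ⟨M', hM', hA', -⟩ := F.act_gam hN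
    obtain rfl := F.act_unique hA hA'
    obtain ⟨l, hl⟩ := of_decide_eq_true (List.all_eq_true.1 plane_perm M hM') hM k
    have hfx : app M xv4 = xv4 := F.e_inj (by rw [← hA, F.mem_Cx.1 hx, mul_inv_cancel_right])
    have hl01 := of_decide_eq_true (List.all_eq_true.1 sig_facts.2.1 M hM') hM hfx k hk l hl
    show F.e c * m * a * (F.e c * m)⁻¹ ∈ F.Q01
    rw [show F.e c * m * a * (F.e c * m)⁻¹ = F.e c * (m * a * m⁻¹) * (F.e c)⁻¹ by group]
    have h1 : F.e c * (m * a * m⁻¹) * (F.e c)⁻¹ ∈ F.Qk l := F.Qk_conj ((F.Qk_lift hm hl) ▸ ⟨a, ha, rfl⟩) hc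
    rcases hl01 with rfl | rfl
    · exact mem_sup_left h1
    · exact mem_sup_right h1
  exact (sup_le (key 0 (.inl rfl)) (key 1 (.inr rfl)) : F.Q01 ≤ _) hq

/-- The subgroup generated by the two quaternion groups and the normalizer part. -/
noncomputable abbrev Ux : Subgroup G := F.Q01 ⊔ F.CNx

theorem mem_Ux {g : G} (h : g ∈ F.Ux) : ∃ q ∈ F.Q01, ∃ n ∈ F.CNx, g = q * n := by
  have hle : F.CNx ≤ normalizer (F.Q01 : Set G) := fun n hn => by
    refine mem_normalizer_iff.2 fun q => ⟨fun hq => F.CNx_norm hn hq, fun hq => ?_⟩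
    have := F.CNx_norm (inv_mem hn) hq
    rwa [inv_inv, show n⁻¹ * (n * q * n⁻¹) * n = q by group] at this
  have h' : g ∈ ((F.Q01 ⊔ F.CNx : Subgroup G) : Set G) := h
  rw [coe_mul_of_right_le_normalizer_left _ _ hle] at h'
  obtain ⟨a, ha, b, hb, rfl⟩ := h'
  exact ⟨a, ha, b, hb, rfl⟩

theorem Ux_Cx : F.Ux ≤ F.Cx := sup_le F.Q01_Cx fun _ h => (F.mem_CNx.1 h).2.1

/-- An element of the centralizer of `x` commuting with the reflection modulo `x` commutes with it. -/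
theorem nT_of_bx {g : G} (hg : g ∈ F.Cx)
    (h : Commute (F.bx hg) (F.bx (F.mem_Cx.2 F.nT_x4))) : Commute g F.nT := by
  obtain ⟨i, hi⟩ := F.mem_zx.1 ((F.bx_eq (mul_mem hg (F.mem_Cx.2 F.nT_x4)) (mul_mem (F.mem_Cx.2 F.nT_x4) hg)).1 h.eq)
  rw [inv_mul_eq_iff_eq_mul, F.x_pow] at hi
  have hc : ∀ a ∈ F.Cx, Commute a (F.x4 ^ i.val) := fun a ha =>
    (show Commute a F.x4 from F.mem_Cx.1 ha).pow_right _
  have e : g⁻¹ * F.nT * g = F.nT * F.x4 ^ i.val := by rw [mul_assoc, hi, mul_assoc, inv_mul_cancel_left]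
  have h2 : g⁻¹ * F.nT * g * (g⁻¹ * F.nT * g) = 1 := by
    rw [show g⁻¹ * F.nT * g * (g⁻¹ * F.nT * g) = g⁻¹ * (F.nT * F.nT) * g by group, F.nT_sq, mul_one, inv_mul_cancel]
  rw [e, ← pow_two, (hc _ (F.mem_Cx.2 F.nT_x4)).mul_pow, pow_two, F.nT_sq, one_mul, ← pow_mul] at h2
  have h1 : F.x4 ^ i.val = 1 := by
    have h3 : (F.x4 ^ i.val) ^ 3 = 1 := by rw [← pow_mul, mul_comm, pow_mul, F.x4_cube, one_pow]
    rw [pow_succ, ← pow_mul, h2, one_mul] at h3
    exact h3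
  rw [h1, mul_one] at hi
  exact hi.symm

theorem cent_xt {g : G} (hg : g ∈ F.Cx) (ht : Commute g F.nT) : g ∈ F.Ux := by
  classical
  obtain ⟨f, E, hC, hN, hfix, hz, hφ⟩ := F.exists_recSign
  have hx : ∀ i : Fin 3, F.e (i.val • xv4) ∈ F.CNx := fun i => F.mem_CNx.2 ⟨F.J_le_N (F.e_mem _),
    F.J_le_Cx (F.e_mem _), by rw [F.x_pow]; exact ((show Commute F.nT F.x4 from F.nT_x4).symm).pow_left _⟩
  have hU : ∀ (a b : G) (ha : a ∈ F.Cx) (hb : b ∈ F.Cx), F.bx ha = F.bx hb → a ∈ F.Ux → b ∈ F.Ux := by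
    intro a b ha hb e hab
    obtain ⟨i, hi⟩ := F.mem_zx.1 ((F.bx_eq ha hb).1 e)
    rw [inv_mul_eq_iff_eq_mul] at hi
    rw [hi]
    exact mul_mem hab (mem_sup_right (hx i))
  -- inside the sign kernel
  let Hk : Subgroup f.ker :=
    { carrier := {y | ∃ a, ∃ ha : a ∈ F.Cx, a ∈ F.Ux ∧ (y : F.Cx ⧸ F.Zx) = F.bx ha}
      one_mem' := ⟨1, one_mem _, one_mem _, rfl⟩
      mul_mem' := by
        rintro y y' ⟨a, ha, hU, e⟩ ⟨b, hb, hU', e'⟩
        exact ⟨a * b, mul_mem ha hb, mul_mem hU hU', by rw [Subgroup.coe_mul, e, e']; rfl⟩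
      inv_mem' := by
        rintro y ⟨a, ha, hU, e⟩
        exact ⟨a⁻¹, inv_mem ha, inv_mem hU, by rw [Subgroup.coe_inv, e]; rfl⟩ }
  have hEt : (E.t : F.Cx ⧸ F.Zx) = F.bx (F.mem_Cx.2 F.nT_x4) := by
    rw [show E.t = E.φ CfsgPSp43Rec.swap01 from rfl, hφ]
    exact congrArg QuotientGroup.mk (Subtype.ext F.perN_t)
  obtain ⟨i, hi, hI⟩ := E.exists_quat
  have hiH : i ∈ Hk := by
    obtain ⟨k, hk, ek⟩ := F.bx_surj (i : F.Cx ⧸ F.Zx)
    have hkz : Commute k F.D.z := by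
      refine F.D.mem_Ct.1 (F.comm_z hk ?_)
      have h := congrArg Subtype.val hI.comm.eq
      rw [Subgroup.coe_mul, Subgroup.coe_mul, hz, ek] at h
      rw [show F.za = F.bx (F.J_le_Cx (F.e_mem (zvv 3))) from congrArg QuotientGroup.mk (Subtype.ext (by
        show F.D.z = F.e (zvv 3); rw [zvv_facts.1]; exact F.e_z.symm))]
      exact h
    have hkt : Commute k F.nT := F.nT_of_bx hk (by
      rw [← ek, ← hEt, ← hi]
      exact congrArg Subtype.val ((Commute.refl i).mul_right (Commute.refl i)).eq)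
    have hsq : F.bx (mul_mem hk hk) = F.bx (F.mem_Cx.2 F.nT_x4) := by
      rw [← hEt, ← hi, Subgroup.coe_mul, ek]; rfl
    obtain ⟨j, hj⟩ := F.mem_zx.1 ((F.bx_eq _ _).1 hsq)
    rw [inv_mul_eq_iff_eq_mul, F.x_pow] at hj
    have hkx : Commute k F.x4 := F.mem_Cx.1 hk
    have hcx : Commute k (F.x4 ^ (2 * j.val)) := hkx.pow_right _
    have hQ : k * F.x4 ^ (2 * j.val) ∈ F.Quat := by
      refine ⟨?_, (hkz.mul_left ((show Commute F.x4 F.D.z from F.z_x4.symm).pow_left _)).eq,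
        (hkx.mul_left ((Commute.refl F.x4).pow_left _)).eq, (hkt.mul_left ((show Commute F.x4 F.nT from
          F.nT_x4.symm).pow_left _)).eq⟩
      rw [hcx.mul_pow, ← pow_mul, show (4 : ℕ) = 2 + 2 from rfl, pow_add k, pow_two k,
        show F.x4 ^ (2 * j.val * (2 + 2)) = F.x4 ^ j.val * F.x4 ^ j.val * ((F.x4 ^ 3) ^ (2 * j.val)) by
          rw [← pow_mul, ← pow_add, ← pow_add]; congr 1; omega, F.x4_cube, one_pow, mul_one]
      have h4 : k * k * F.x4 ^ j.val = F.nT := hj.symm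
      rw [show k * k * (k * k) * (F.x4 ^ j.val * F.x4 ^ j.val) = k * k * (k * k * F.x4 ^ j.val) * F.x4 ^ j.val by group,
        h4, show k * k * F.nT * F.x4 ^ j.val = k * k * (F.nT * F.x4 ^ j.val) by group,
        ((show Commute F.nT F.x4 from F.nT_x4).pow_right _).eq, ← mul_assoc, h4, F.nT_sq]
    refine ⟨k, hk, ?_, ek⟩
    have h2 : k * F.x4 ^ (2 * j.val) ∈ F.Ux := mem_sup_left (mem_sup_left (F.Qk_zero.symm ▸ hQ))
    have h3 : F.x4 ^ (2 * j.val) ∈ F.Ux := by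
      rw [pow_mul]
      refine pow_mem (pow_mem (mem_sup_right ?_) 2) _
      simpa using hx 1
    simpa using mul_mem h2 (inv_mem h3)
  have hker : ∀ a (ha : a ∈ F.Cx), f (F.bx ha) = 1 → Commute a F.nT → a ∈ F.Ux := by
    intro a ha hfa hat
    have hle := E.Ct_gen hi hI Hk hiH fun y hyt hyN => by
      obtain ⟨p, σ, hy⟩ := E.exists_coord hyN
      obtain ⟨hp, hσ⟩ := E.commute_t_coord (hy ▸ hyt)
      have hn : F.e (triV p) * F.perN σ ∈ F.CNx := F.mem_CNx.2 ⟨mul_mem (F.J_le_N (F.e_mem _)) (F.mem_N (F.perN_lift σ).1),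
        mul_mem (F.J_le_Cx (F.e_mem _)) (F.perN_Cx σ), by
          refine Commute.mul_left (show Commute (F.e (triV p)) F.nT from (F.nT_fix (tri_facts.1 p hp)).symm) ?_
          rw [← F.perN_t]
          show F.perN σ * F.perN _ = F.perN _ * F.perN σ
          rw [← F.perN_mul, ← F.perN_mul, hσ]⟩
      refine ⟨_, (F.mem_CNx.1 hn).2.1, mem_sup_right hn, ?_⟩
      rw [hy, Subgroup.coe_mul, hφ]
      show (E.Zt p : F.Cx ⧸ F.Zx) * _ = F.bx (F.J_le_Cx (F.e_mem (triV p))) * F.bx (F.perN_Cx σ)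
      refine congrArg (· * F.bx (F.perN_Cx σ)) ?_
      rw [CfsgPSp43Rec.Frame.Zt, Subgroup.coe_mul, Subgroup.coe_mul, SubgroupClass.coe_pow, SubgroupClass.coe_pow,
        SubgroupClass.coe_pow, hz, hz, hz]
      show QuotientGroup.mk ((⟨F.e (zvv 0), _⟩ : F.Cx) ^ _ * (⟨F.e (zvv 1), _⟩ : F.Cx) ^ _ * (⟨F.e (zvv 2), _⟩ : F.Cx) ^ _) = _
      refine congrArg QuotientGroup.mk (Subtype.ext ?_)
      show F.e (zvv 0) ^ _ * F.e (zvv 1) ^ _ * F.e (zvv 2) ^ _ = F.e (triV p)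
      rw [F.e_pow, F.e_pow, F.e_pow, ← F.e_add, ← F.e_add]; rfl
    obtain ⟨b, hb, hbU, eb⟩ := hle (E.mem_Ct.2 (show Commute (⟨F.bx ha, MonoidHom.mem_ker.2 hfa⟩ : f.ker) E.t from
      Subtype.ext (by
        rw [Subgroup.coe_mul, Subgroup.coe_mul, hEt]
        exact congrArg QuotientGroup.mk (Subtype.ext hat.eq))))
    exact hU b a hb ha eb.symm hbU
  rcases Int.units_eq_one_or (f (F.bx hg)) with h | h
  · exact hker g hg h ht
  -- an odd element of the normalizer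
  have hout : ¬ F.Inner := fun hin => by
    let S : Subgroup G :=
      { carrier := {a | ∃ ha : a ∈ F.Cx, f (F.bx ha) = 1}
        one_mem' := ⟨one_mem _, map_one f⟩
        mul_mem' := by
          rintro a b ⟨ha, e⟩ ⟨hb, e'⟩
          exact ⟨mul_mem ha hb, by rw [F.bx_mul ha hb, map_mul, e, e', mul_one]⟩
        inv_mem' := by
          rintro a ⟨ha, e⟩
          exact ⟨inv_mem ha, by rw [F.bx_inv ha, map_inv, e, inv_one]⟩ }
    obtain ⟨_, e⟩ := F.Cx_le (H := S) (fun a ha => by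
      obtain ⟨M, -, hA, hM⟩ := F.Cx_act ha.1 ha.2
      obtain ⟨M', n, c, hn, e, hA'⟩ := F.exists_aff ha.2
      obtain rfl := F.act_unique hA hA'
      have hfx : app M xv4 = xv4 := F.e_inj (by rw [← hA, F.mem_Cx.1 ha.1, mul_inv_cancel_right])
      have hnx := F.lift_Cx hfx hn
      refine ⟨ha.1, ?_⟩
      subst e
      show f (F.bx (F.J_le_Cx (F.e_mem c)) * F.bx hnx) = 1
      rw [map_mul, hC _ (F.mem_Cza _ (by rw [← F.e_z]; exact F.e_comm _ _)), one_mul]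
      exact hfix _ (hM hin) _ hnx hn) (fun a ha => ⟨ha.1, hC _ (F.mem_Cza _ (F.D.mem_Ct.1 ha.2))⟩) hg
    rw [h] at e
    exact absurd e (by decide)
  obtain ⟨M, hM, hnot, hfx, hMT⟩ := tri_facts.2.1
  obtain ⟨o, ho, hox⟩ := F.lift_stX hout hM
  have hoN : o ∈ F.N := F.mem_N ho.1
  have hfo : f (F.bx hox) = -1 := (Int.units_eq_one_or _).resolve_left fun h1 => by
    obtain ⟨M', hM', hA⟩ := hN o hox hoN h1
    exact hnot (F.act_unique ho.1 hA ▸ hM')
  have hot : Commute o F.nT := F.lift_nT_comm ho hMT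
  have h2 := hker (o * g) (mul_mem hox hg) (by rw [F.bx_mul hox hg, map_mul, hfo, h]; rfl) (hot.mul_left ht)
  have h3 : o ∈ F.Ux := mem_sup_right (F.mem_CNx.2 ⟨hoN, hox, hot⟩)
  simpa using mul_mem (inv_mem h3) h2

end Frame

end CfsgLib.O8T
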