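import Cfsg.Agent.Lib.OEightPlusThree.Core
import Mathlib.Algebra.Module.ZMod
import Mathlib.LinearAlgebra.Span.Basic
import Mathlib.GroupTheory.PGroup

/-!
Exactly one non-trivial chief factor: the involution centralizes a subgroup of order 27 of the core.
-/

set_option autoImplicit false

namespace CfsgLib.O8T

open Subgroup

universe u

/-- Products of the generators. -/
def wordsL : ℕ → List SL23
  | 0 => [1]
  | n + 1 => (wordsL n).flatMap (fun g => [g, mI * g, mU * g]) |>.dedup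

theorem words_all : ∀ g : SL23, g ∈ wordsL 8 := by decide +kernel

theorem sl_induction {P : SL23 → Prop} (h1 : P 1) (hI : ∀ g, P g → P (mI * g)) (hU : ∀ g, P g → P (mU * g))
    (g : SL23) : P g := by
  have key : ∀ n, ∀ g ∈ wordsL n, P g := by
    intro n
    induction n with
    | zero => intro g hg; rw [wordsL, List.mem_singleton] at hg; exact hg ▸ h1
    | succ n ih =>
      intro g hg
      rw [wordsL, List.mem_dedup, List.mem_flatMap] at hg
      obtain ⟨a, ha, hga⟩ := hg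
      simp only [List.mem_cons, List.not_mem_nil, or_false] at hga
      rcases hga with rfl | rfl | rfl
      exacts [ih _ ha, hI _ (ih _ ha), hU _ (ih _ ha)]
  exact key 8 g (words_all g)

theorem sl_quat : (mI * mJ) * (mI * mJ) = -1 ∧ mU * mJ = (mI * mJ) * mU ∧ mU * (mI * mJ) = mI * mU := by
  decide +kernel

namespace Base

variable {G : Type u} [Group G] (D : Base G)

/-- The part of the centralizer over SL(2,3). -/
def K : Subgroup G := ((MonoidHom.snd SL23 (Multiplicative (ZMod 2))).comp D.ψ).ker.map D.Ct.subtype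

theorem mem_K {x : G} : x ∈ D.K ↔ ∃ h : x ∈ D.Ct, (D.ψ ⟨x, h⟩).2 = 1 := by
  constructor
  · rintro ⟨⟨y, hy⟩, h, rfl⟩
    exact ⟨hy, h⟩
  · rintro ⟨h, h'⟩
    exact ⟨⟨x, h⟩, h', rfl⟩

theorem Q_le_K : D.Q ≤ D.K := fun x hx => D.mem_K.2 ⟨D.Q_le_Ct hx, by rw [(D.ψ_ker ⟨x, D.Q_le_Ct hx⟩).2 hx]; rfl⟩

theorem K_le_Ct : D.K ≤ D.Ct := fun _ h => (D.mem_K.1 h).1

theorem exists_lift (m : SL23) : ∃ x : D.Ct, (x : G) ∈ D.K ∧ D.ψ x = (m, 1) := by
  obtain ⟨x, hx⟩ := D.ψ_SL m
  exact ⟨x, D.mem_K.2 ⟨x.2, by rw [hx]⟩, hx⟩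

theorem t_K : (D.t : G) ∈ D.K := D.mem_K.2 ⟨D.t.2, by rw [D.t_ψ]⟩

theorem K_t {x : G} (hx : x ∈ D.K) : (D.t : G) * x * (D.t : G)⁻¹ * x⁻¹ ∈ D.Q := by
  obtain ⟨h, h2⟩ := D.mem_K.1 hx
  rw [← D.ψ_ker ⟨_, mul_mem (mul_mem (mul_mem D.t.2 h) (inv_mem D.t.2)) (inv_mem h)⟩]
  show D.ψ (D.t * ⟨x, h⟩ * D.t⁻¹ * ⟨x, h⟩⁻¹) = 1
  rw [map_mul, map_mul, map_mul, map_inv, map_inv, D.t_ψ]
  refine Prod.ext ?_ (by simp)
  show -1 * (D.ψ ⟨x, h⟩).1 * (-1)⁻¹ * ((D.ψ ⟨x, h⟩).1)⁻¹ = 1
  rw [sl_neg_comm]; group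

theorem t_not_fix : ¬ ∀ a ∈ D.Q, D.θ a = a := by
  intro h
  have hQ : (D.t : G) ∈ D.Q := D.Q_self (mem_centralizer_iff.2 fun a ha => (D.θ_eq_iff.1 (h a ha)).symm)
  have := (D.ψ_ker D.t).2 hQ
  rw [D.t_ψ] at this
  exact sl_rels.2.2.2.2.2.1 (congrArg Prod.fst this)

/-- The module. -/
abbrev Mv : Type u := Additive (D.Q ⧸ D.Zq)

instance : CommGroup (D.Q ⧸ D.Zq) :=
  { (inferInstance : Group (D.Q ⧸ D.Zq)) with
    mul_comm := fun x y => by
      obtain ⟨x, rfl⟩ := QuotientGroup.mk'_surjective _ x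
      obtain ⟨y, rfl⟩ := QuotientGroup.mk'_surjective _ y
      exact D.pr_comm x y }

theorem three_zero (m : D.Mv) : 3 • m = 0 := by
  obtain ⟨q, hq⟩ := QuotientGroup.mk'_surjective D.Zq m.toMul
  apply Additive.toMul.injective
  rw [toMul_nsmul, ← hq, ← map_pow, toMul_zero, (Subtype.ext (D.Q_exp q q.2) : q ^ 3 = 1), map_one]

noncomputable instance : Module (ZMod 3) D.Mv := AddCommGroup.zmodModule D.three_zero

/-- Conjugation on the core. -/
def conjQ (c : D.Ct) : D.Q →* D.Q where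
  toFun q := ⟨c * q * (c : G)⁻¹, D.conj_Q c.2 q.2⟩
  map_one' := Subtype.ext (by simp)
  map_mul' a b := Subtype.ext (by simp [mul_assoc])

/-- An element of the core in the module. -/
def vec (q : D.Q) : D.Mv := Additive.ofMul (D.pr q)

theorem vec_surj : Function.Surjective D.vec := fun m =>
  ⟨_, congrArg Additive.ofMul (QuotientGroup.mk'_surjective D.Zq m.toMul).choose_spec⟩

theorem vec_zero {q : D.Q} : D.vec q = 0 ↔ (q : G) ∈ D.Zc := by rw [vec, ofMul_eq_zero, D.pr_one]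

theorem vec_mul (a b : D.Q) : D.vec (a * b) = D.vec a + D.vec b := by rw [vec, map_mul]; rfl

/-- Conjugation on the module. -/
noncomputable def ρ : D.Ct →* Module.End (ZMod 3) D.Mv where
  toFun c := (MonoidHom.toAdditive (QuotientGroup.map D.Zq D.Zq (D.conjQ c) fun q hq => by
    rw [mem_comap, mem_subgroupOf] at *
    show (c : G) * q * (c : G)⁻¹ ∈ D.Zc
    rw [D.conj_Zc c.2 hq]; exact hq)).toZModLinearMap 3
  map_one' := LinearMap.ext fun m => by
    obtain ⟨q, rfl⟩ := D.vec_surj m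
    show D.vec (D.conjQ 1 q) = D.vec q
    rw [show D.conjQ 1 q = q from Subtype.ext (by simp [conjQ])]
  map_mul' a b := LinearMap.ext fun m => by
    obtain ⟨q, rfl⟩ := D.vec_surj m
    show D.vec (D.conjQ (a * b) q) = D.vec (D.conjQ a (D.conjQ b q))
    exact congrArg D.vec (Subtype.ext (by simp [conjQ, mul_assoc]))

theorem ρ_vec (c : D.Ct) (q : D.Q) : D.ρ c (D.vec q) = D.vec (D.conjQ c q) := rfl

theorem ρ_congr {a b : D.Ct} (h : D.ψ a = D.ψ b) : D.ρ a = D.ρ b := by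
  have hk : ∀ c : D.Ct, D.ψ c = 1 → D.ρ c = 1 := fun c hc => by
    refine LinearMap.ext fun m => ?_
    obtain ⟨q, rfl⟩ := D.vec_surj m
    rw [D.ρ_vec, Module.End.one_apply, ← sub_eq_zero]
    have : D.vec (D.conjQ c q) - D.vec q = D.vec (D.conjQ c q * q⁻¹) := by
      rw [eq_comm, eq_sub_iff_add_eq, ← D.vec_mul]; group
    rw [this, D.vec_zero]
    exact D.Q_comm _ ((D.ψ_ker c).1 hc) q q.2
  rw [show D.ρ a = D.ρ (a * b⁻¹) * D.ρ b by rw [← map_mul, inv_mul_cancel_right],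
    hk _ (by rw [map_mul, map_inv, h, mul_inv_cancel]), one_mul]

theorem ρ_t (h : ∀ a ∈ D.Q, D.θ a * a ∈ D.Zc) : D.ρ D.t = -1 := by
  refine LinearMap.ext fun m => ?_
  obtain ⟨q, rfl⟩ := D.vec_surj m
  rw [D.ρ_vec, LinearMap.neg_apply, Module.End.one_apply, eq_neg_iff_add_eq_zero, ← D.vec_mul, D.vec_zero]
  exact h q q.2

/-- If the involution inverts the whole core modulo the centre, the complement is reducible there. -/
theorem reducible (h : ∀ a ∈ D.Q, D.θ a * a ∈ D.Zc) :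
    ∃ B : Subgroup G, D.Zc < B ∧ B < D.Q ∧ ∀ k ∈ D.K, ∀ b ∈ B, k * b * k⁻¹ ∈ B := by
  obtain ⟨I, -, hI⟩ := D.exists_lift mI
  obtain ⟨J, -, hJ⟩ := D.exists_lift mJ
  obtain ⟨U, -, hU⟩ := D.exists_lift mU
  have hmul : ∀ a b : D.Ct, ∀ m n : SL23, D.ψ a = (m, 1) → D.ψ b = (n, 1) → D.ψ (a * b) = (m * n, 1) :=
    fun a b m n ha hb => by rw [map_mul, ha, hb, Prod.mk_mul_mk, mul_one]
  obtain ⟨i2, j2, ui, u3, -, -, -, -, -⟩ := sl_rels
  obtain ⟨ij2, uj, uij⟩ := sl_quat
  have hn := D.ρ_t h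
  set i := D.ρ I with hid
  set j := D.ρ J with hjd
  set s := D.ρ U with hsd
  have e1 : i * i = -1 := by rw [← hn, hid, ← map_mul]; exact D.ρ_congr (by rw [hmul _ _ _ _ hI hI, i2, D.t_ψ])
  have e2 : j * j = -1 := by rw [← hn, hjd, ← map_mul]; exact D.ρ_congr (by rw [hmul _ _ _ _ hJ hJ, j2, D.t_ψ])
  have e3 : (i * j) * (i * j) = -1 := by
    rw [← hn, hid, hjd, ← map_mul, ← map_mul]
    exact D.ρ_congr (by rw [hmul _ _ _ _ (hmul _ _ _ _ hI hJ) (hmul _ _ _ _ hI hJ), ij2, D.t_ψ])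
  have e4 : s * i = j * s := by
    rw [hid, hjd, hsd, ← map_mul, ← map_mul]
    exact D.ρ_congr (by rw [hmul _ _ _ _ hU hI, hmul _ _ _ _ hJ hU, ui])
  have e5 : s * j = (i * j) * s := by
    rw [hid, hjd, hsd, ← map_mul, ← map_mul, ← map_mul]
    exact D.ρ_congr (by rw [hmul _ _ _ _ hU hJ, hmul _ _ _ _ (hmul _ _ _ _ hI hJ) hU, uj])
  have e6 : s * (i * j) = i * s := by
    rw [hid, hjd, hsd, ← map_mul, ← map_mul, ← map_mul]
    exact D.ρ_congr (by rw [hmul _ _ _ _ hU (hmul _ _ _ _ hI hJ), hmul _ _ _ _ hI hU, uij])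
  have e7 : s * s * s = 1 := by
    rw [hsd, ← map_mul, ← map_mul, ← map_one D.ρ]
    exact D.ρ_congr (by rw [hmul _ _ _ _ (hmul _ _ _ _ hU hU) hU, u3, map_one]; rfl)
  have e8 : j * i = -(i * j) := by
    have hh : i * ((i * j) * (i * j)) * j = j * i * (j * j) * (-1) := by
      rw [show i * ((i * j) * (i * j)) * j = (i * i) * (j * i) * (j * j) by noncomm_ring, e1, e2]
      noncomm_ring
    rw [e3, e2] at hh
    simp only [mul_neg, mul_one, neg_neg, neg_mul] at hh
    exact hh.symm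
  have h3 : ∀ m : D.Mv, m + m + m = 0 := fun m => by
    have := D.three_zero m
    rwa [succ_nsmul, two_nsmul] at this
  set n := i + j + i * j with hnd
  have nn : ∀ m, n (n m) = 0 := fun m => by
    have : n * n = -1 + -1 + -1 := by
      rw [hnd]
      calc (i + j + i * j) * (i + j + i * j) = i * i + j * j + (i * j) * (i * j) + (i * j + j * i)
            + ((i * i) * j + (i * (j * i))) + ((j * i) * j + i * (j * j)) := by noncomm_ring
        _ = -1 + -1 + -1 := by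
          have f1 : i * i * j + i * (j * i) = 0 := by rw [e8]; noncomm_ring
          have f2 : j * i * j + i * (j * j) = 0 := by rw [e8]; noncomm_ring
          have f3 : i * j + j * i = 0 := by rw [e8, add_neg_cancel]
          rw [f1, f2, f3, e1, e2, e3, add_zero, add_zero, add_zero]
    rw [← Module.End.mul_apply, this]
    simp only [LinearMap.add_apply, LinearMap.neg_apply, Module.End.one_apply]
    rw [← neg_add, ← neg_add, h3, neg_zero]
  have sn : ∀ m, s (n m) = n (s m) := fun m => by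
    have : s * n = n * s := by rw [hnd, mul_add, mul_add, e4, e5, e6]; noncomm_ring
    exact LinearMap.congr_fun this m
  obtain ⟨q0, hq0⟩ : ∃ q : D.Q, (q : G) ∉ D.Zc := by
    haveI : Finite D.Zc := Nat.finite_of_card_ne_zero (by rw [D.card_Zc]; norm_num)
    by_contra hc
    push Not at hc
    have := Subgroup.card_le_of_le (fun x hx => hc ⟨x, hx⟩ : D.Q ≤ D.Zc)
    rw [D.Q_card, D.card_Zc] at this
    omega
  obtain ⟨m0, hm0, hn0⟩ : ∃ m : D.Mv, m ≠ 0 ∧ n m = 0 := by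
    by_cases h0 : n (D.vec q0) = 0
    · exact ⟨_, fun e => hq0 (D.vec_zero.1 e), h0⟩
    · exact ⟨_, h0, nn _⟩
  obtain ⟨w, hw, hnw, hsw⟩ : ∃ w : D.Mv, w ≠ 0 ∧ n w = 0 ∧ s w = w := by
    have hd : ∀ m, n m = 0 → n (s m - m) = 0 := fun m hm => by rw [map_sub, ← sn, hm, map_zero, sub_zero]
    have hddd : ∀ m, s (s (s m - m) - (s m - m)) - (s (s m - m) - (s m - m)) = 0 := fun m => by
      have : s (s (s m)) = m := LinearMap.congr_fun e7 m
      rw [map_sub, map_sub, map_sub, this]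
      calc _ = (s m + s m + s m) - (s (s m) + s (s m) + s (s m)) := by abel
        _ = 0 := by rw [h3, h3, sub_zero]
    by_cases h1 : s m0 - m0 = 0
    · exact ⟨m0, hm0, hn0, sub_eq_zero.1 h1⟩
    by_cases h2 : s (s m0 - m0) - (s m0 - m0) = 0
    · exact ⟨_, h1, hd _ hn0, sub_eq_zero.1 h2⟩
    exact ⟨_, h2, hd _ (hd _ hn0), sub_eq_zero.1 (hddd m0)⟩
  have hjw : j w = w + i w := by
    have a1 : i w + j w + i (j w) = 0 := hnw
    have a2 : i (i w) + i (j w) + i (i (j w)) = 0 := by rw [← map_add, ← map_add, a1, map_zero]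
    have iv : ∀ m, i (i m) = -m := fun m => LinearMap.congr_fun e1 m
    rw [iv, iv] at a2
    have a3 : i (j w) = w + j w := by
      calc i (j w) = (-w + i (j w) + -j w) + (w + j w) := by abel
        _ = w + j w := by rw [a2, zero_add]
    rw [a3] at a1
    calc j w = (j w + j w + j w) + (w + i w) - (i w + j w + (w + j w)) := by abel
      _ = w + i w := by rw [a1, h3, sub_zero, zero_add]
  let S : Submodule (ZMod 3) D.Mv := Submodule.span (ZMod 3) {w, i w}
  have wS : w ∈ S := Submodule.subset_span (.inl rfl)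
  have iS : i w ∈ S := Submodule.subset_span (.inr rfl)
  let B : Subgroup G :=
    { carrier := {a | ∃ ha : a ∈ D.Q, D.vec ⟨a, ha⟩ ∈ S}
      one_mem' := ⟨one_mem _, by rw [(D.vec_zero (q := ⟨1, _⟩)).2 (one_mem _)]; exact zero_mem _⟩
      mul_mem' := fun {a b} ⟨ha, ha'⟩ ⟨hb, hb'⟩ =>
        ⟨mul_mem ha hb, by rw [show (⟨a * b, _⟩ : D.Q) = ⟨a, ha⟩ * ⟨b, hb⟩ from rfl, D.vec_mul]; exact add_mem ha' hb'⟩
      inv_mem' := fun {a} ⟨ha, ha'⟩ => ⟨inv_mem ha, by
        have : D.vec ⟨a⁻¹, inv_mem ha⟩ = -D.vec ⟨a, ha⟩ := by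
          rw [eq_neg_iff_add_eq_zero, ← D.vec_mul, D.vec_zero]
          show a⁻¹ * a ∈ D.Zc
          rw [inv_mul_cancel]; exact one_mem _
        rw [this]; exact neg_mem ha'⟩ }
  refine ⟨B, lt_of_le_not_ge (fun c hc => ⟨D.Zc_le_Q hc, by rw [(D.vec_zero (q := ⟨c, _⟩)).2 hc]; exact zero_mem _⟩) ?_,
    lt_of_le_not_ge (fun a ha => ha.choose) ?_, ?_⟩
  · intro hle
    obtain ⟨q, hq⟩ := D.vec_surj w
    exact hw (hq ▸ D.vec_zero.2 (hle (show (q : G) ∈ B from ⟨q.2, hq ▸ wS⟩)))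
  · intro hle
    haveI : Finite D.Q := Nat.finite_of_card_ne_zero (by rw [D.Q_card]; norm_num)
    haveI : Finite D.Mv := Finite.of_surjective _ D.vec_surj
    have hs : Function.Surjective fun p : ZMod 3 × ZMod 3 => p.1 • w + p.2 • i w := by
      intro m
      obtain ⟨q, rfl⟩ := D.vec_surj m
      obtain ⟨_, hq⟩ := hle q.2
      obtain ⟨a, b, hab⟩ := Submodule.mem_span_pair.1 hq
      exact ⟨(a, b), hab⟩
    have h9 : Nat.card D.Mv ≤ 9 := (Nat.card_le_card_of_surjective _ hs).trans (by simp)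
    have h81 : Nat.card D.Mv * 3 = 243 := by
      rw [← D.Q_card, ← D.card_Zc, Subgroup.card_eq_card_quotient_mul_card_subgroup D.Zq,
        Nat.card_congr (Subgroup.subgroupOfEquivOfLe D.Zc_le_Q).toEquiv]
      rfl
    omega
  · have hP : ∀ m : SL23, ∀ x : D.Ct, D.ψ x = (m, 1) → ∀ v ∈ S, D.ρ x v ∈ S := by
      intro m
      refine sl_induction (P := fun m => ∀ x : D.Ct, D.ψ x = (m, 1) → ∀ v ∈ S, D.ρ x v ∈ S) ?_ ?_ ?_ m
      · intro x hx v hv
        rw [D.ρ_congr (b := 1) (hx.trans (map_one D.ψ).symm), map_one]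
        exact hv
      all_goals intro g ih x hx v hv
      all_goals obtain ⟨y, -, hy⟩ := D.exists_lift g
      · rw [D.ρ_congr (b := I * y) (by rw [hx, hmul _ _ _ _ hI hy]), map_mul]
        have : S ≤ S.comap i := Submodule.span_le.2 (by
          rintro v (hv | hv)
          · rw [hv]; exact iS
          · rw [Set.mem_singleton_iff.1 hv]
            show i (i w) ∈ S
            rw [← Module.End.mul_apply, e1]; exact neg_mem wS)
        exact this (ih y hy v hv)
      · rw [D.ρ_congr (b := U * y) (by rw [hx, hmul _ _ _ _ hU hy]), map_mul]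
        have : S ≤ S.comap s := Submodule.span_le.2 (by
          rintro v (hv | hv)
          · rw [hv]; show s w ∈ S
            rw [hsw]; exact wS
          · rw [Set.mem_singleton_iff.1 hv]
            show s (i w) ∈ S
            rw [← Module.End.mul_apply, e4, Module.End.mul_apply, hsw, hjw]; exact add_mem wS iS)
        exact this (ih y hy v hv)
    rintro k hk b ⟨hb, hb'⟩
    obtain ⟨hkC, hk2⟩ := D.mem_K.1 hk
    exact ⟨D.conj_Q hkC hb, hP _ ⟨k, hkC⟩ (Prod.ext rfl hk2) _ hb'⟩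

/-- A chain from the centre to the core with one non-trivial factor. -/
structure Chain where
  /-- the length -/
  r : ℕ
  /-- the members -/
  A : Fin (r + 1) → Subgroup G
  A0 : A 0 = D.Zc
  Ar : A (Fin.last r) = D.Q
  mono : ∀ i : Fin r, A i.castSucc < A i.succ
  inv : ∀ i : Fin (r + 1), ∀ k ∈ D.K, ∀ a ∈ A i, k * a * k⁻¹ ∈ A i
  max : ∀ i : Fin r, ∀ B : Subgroup G, A i.castSucc < B → B < A i.succ → ∃ k ∈ D.K, ∃ b ∈ B, k * b * k⁻¹ ∉ B
  one : ∃! i : Fin r, ∃ k ∈ D.K, ∃ a ∈ A i.succ, k * a * k⁻¹ * a⁻¹ ∉ A i.castSucc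

variable {D} in
theorem Chain.setting [Finite G] (c : D.Chain) :
    Nat.card (D.Q ⊓ centralizer ({(D.t : G)} : Set G) : Subgroup G) = 27 ∧
    ∀ x : D.Ct, (x : G) ^ 4 = 1 → (D.ψ x).2 = 1 → ∀ q ∈ D.Q, (D.t : G) * q = q * D.t → (x : G) * q = q * x := by
  have hsm : StrictMono c.A := Fin.strictMono_iff_lt_succ.2 c.mono
  have hle : ∀ i, c.A i ≤ D.Q := fun i => c.Ar ▸ hsm.monotone (Fin.le_last i)
  have hge : ∀ i, D.Zc ≤ c.A i := fun i => c.A0 ▸ hsm.monotone (Fin.zero_le i)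
  obtain ⟨i, -, hu⟩ := c.one
  have htriv : ∀ j, j ≠ i → ∀ k ∈ D.K, ∀ a ∈ c.A j.succ, k * a * k⁻¹ * a⁻¹ ∈ c.A j.castSucc := by
    intro j hj k hk a ha
    by_contra hne
    exact hj (hu j ⟨k, hk, a, ha, hne⟩)
  let B : Subgroup G :=
    { carrier := {a | a ∈ c.A i.succ ∧ D.θ a * a⁻¹ ∈ c.A i.castSucc}
      one_mem' := ⟨one_mem _, by simp [θ]⟩
      mul_mem' := fun {a b} ⟨ha, ha'⟩ ⟨hb, hb'⟩ => ⟨mul_mem ha hb, by
        have e : D.θ (a * b) * (a * b)⁻¹ =
            (D.θ a * a⁻¹) * ((a * (D.θ b * b⁻¹) * a⁻¹ * (D.θ b * b⁻¹)⁻¹) * (D.θ b * b⁻¹)) := by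
          rw [D.θ_mul]; group
        rw [e]
        exact mul_mem ha' (mul_mem (hge _ (D.Q_comm a (hle _ ha) _ (hle _ hb'))) hb')⟩
      inv_mem' := fun {a} ⟨ha, ha'⟩ => ⟨inv_mem ha, by
        have e : D.θ a⁻¹ * a⁻¹⁻¹ =
            (a⁻¹ * (D.θ a * a⁻¹)⁻¹ * a * (D.θ a * a⁻¹)) * (D.θ a * a⁻¹)⁻¹ := by
          rw [D.θ_inv]; group
        rw [e]
        refine mul_mem (hge _ ?_) (inv_mem ha')
        have := D.Q_comm a⁻¹ (inv_mem (hle _ ha)) _ (inv_mem (hle _ ha'))
        rwa [inv_inv, inv_inv] at this⟩ }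
  have hAB : c.A i.castSucc ≤ B := fun a ha =>
    ⟨(c.mono i).le ha, mul_mem (c.inv _ _ D.t_K a ha) (inv_mem ha)⟩
  have hBinv : ∀ k ∈ D.K, ∀ b ∈ B, k * b * k⁻¹ ∈ B := by
    rintro k hk b ⟨hb, hb'⟩
    refine ⟨c.inv _ k hk b hb, ?_⟩
    have hq := D.K_t hk
    set q := (D.t : G) * k * (D.t : G)⁻¹ * k⁻¹
    have hbQ := hle _ hb
    have hq' : k⁻¹ * q * k ∈ D.Q := by
      have := D.conj_Q (inv_mem (D.K_le_Ct hk)) hq
      rwa [inv_inv] at this
    have e : D.θ (k * b * k⁻¹) * (k * b * k⁻¹)⁻¹ =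
        k * (((k⁻¹ * q * k) * D.θ b * (k⁻¹ * q * k)⁻¹ * (D.θ b)⁻¹) * (D.θ b * b⁻¹)) * k⁻¹ := by
      simp only [q, θ]; group
    rw [e]
    exact c.inv _ k hk _ (mul_mem (hge _ (D.Q_comm _ hq' _ (D.θ_mem hbQ))) hb')
  have hBle : B ≤ c.A i.succ := fun a ha => ha.1
  have hB : B = c.A i.castSucc := by
    by_contra hne
    rcases hBle.eq_or_lt with e | hlt
    · apply D.t_not_fix
      have : ∀ j, ∀ a ∈ c.A j, D.θ a = a := by
        intro j
        induction j using Fin.induction with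
        | zero => intro a ha; rw [c.A0] at ha; exact D.θ_Zc ha
        | succ j ih =>
          intro a ha
          have hd : D.θ a * a⁻¹ ∈ c.A j.castSucc := by
            by_cases hj : j = i
            · subst hj
              exact ((e.symm ▸ ha : a ∈ B)).2
            · exact htriv j hj _ D.t_K a ha
          have hfix := ih _ hd
          set d := D.θ a * a⁻¹ with hdd
          have e1 : D.θ a = d * a := by rw [hdd]; group
          have e2 : a = d * d * a := by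
            have := congrArg D.θ e1
            rw [D.θ_θ, D.θ_mul, hfix, e1, ← mul_assoc] at this
            exact this
          have e3 : d * d = 1 := mul_right_cancel (b := a) (by rw [one_mul]; exact e2.symm)
          rw [e1, eq_one_sq_cube e3 (D.Q_exp d (hle _ hd)), one_mul]
      exact fun a ha => this _ a (c.Ar.symm ▸ ha)
    · obtain ⟨k, hk, b, hb, hn⟩ := c.max i B (lt_of_le_of_ne hAB (Ne.symm hne)) hlt
      exact hn (hBinv k hk b hb)
  have h27 : Nat.card D.Q2 = 27 := by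
    have hm := D.card_mul
    have hd2 : Nat.card D.Q2 ∣ 3 ^ 5 := by
      have := Subgroup.card_dvd_of_le D.Q2_le
      rwa [D.Q_card] at this
    have hd1 : Nat.card D.Q1 ∣ 3 ^ 5 := by
      have := Subgroup.card_dvd_of_le D.Q1_le
      rwa [D.Q_card] at this
    obtain ⟨a, ha, e2⟩ := (Nat.dvd_prime_pow Nat.prime_three).1 hd2
    have hZ2 := Subgroup.card_le_of_le D.Zc_le_Q2
    have hZ1 := Subgroup.card_le_of_le D.Zc_le_Q1
    rw [D.card_Zc] at hZ1 hZ2
    have hne9 : ∀ T : Subgroup G, D.Zc ≤ T → Nat.card T = 9 →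
        (∀ a ∈ T, (∀ b ∈ T, a * b = b * a) → a ∈ D.Zc) → False := by
      intro T _ h9 hc
      haveI : Fact (Nat.Prime 3) := ⟨Nat.prime_three⟩
      have hcomm := IsPGroup.commutative_of_card_eq_prime_sq (p := 3) (G := T) (by rw [h9]; norm_num)
      have := Subgroup.card_le_of_le (fun a ha => hc a ha fun b hb => congrArg Subtype.val
        (hcomm ⟨a, ha⟩ ⟨b, hb⟩) : T ≤ D.Zc)
      rw [h9, D.card_Zc] at this
      omega
    rw [e2] at hm hZ2
    interval_cases a
    · omega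
    · exfalso
      have hA : D.Q1 = D.Q := Subgroup.eq_of_le_of_card_ge D.Q1_le (by rw [D.Q_card]; omega)
      have hinvall : ∀ a ∈ D.Q, D.θ a * a ∈ D.Zc := fun a ha => (D.mem_Q1.1 (hA.symm ▸ ha)).2
      have hall : ∀ j : Fin c.r, j = i := fun j => hu j (by
        obtain ⟨a, ha, hna⟩ := SetLike.exists_of_lt (c.mono j)
        refine ⟨_, D.t_K, a, ha, fun hd => hna ?_⟩
        have hsq : a * a ∈ c.A j.castSucc := by
          have e : a * a = (D.θ a * a⁻¹)⁻¹ * (D.θ a * a) := by group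
          rw [e]
          exact mul_mem (inv_mem hd) (hge _ (hinvall a (hle _ ha)))
        have e : a = (a * a)⁻¹ := eq_inv_of_mul_eq_one_right (D.cube (hle _ ha))
        rw [e]; exact inv_mem hsq)
      obtain ⟨B', h1, h2, h3⟩ := D.reducible hinvall
      have hr : c.r = 1 := by
        have : Fintype.card (Fin c.r) ≤ 1 := Fintype.card_le_one_iff.2 fun a b => (hall a).trans (hall b).symm
        rw [Fintype.card_fin] at this
        have := i.2
        omega
      have e1 : c.A i.castSucc = D.Zc := by rw [← c.A0]; congr 1; ext; simp; omega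
      have e2 : c.A i.succ = D.Q := by rw [← c.Ar]; congr 1; ext; simp; omega
      obtain ⟨k, hk, b, hb, hn⟩ := c.max i B' (e1.symm ▸ h1) (e2.symm ▸ h2)
      exact hn (h3 k hk b hb)
    · exact absurd (fun a ha hc => D.centre_Q2 ha hc) (hne9 D.Q2 D.Zc_le_Q2 (by rw [e2]; norm_num))
    · rw [e2]; norm_num
    · exact absurd (fun a ha hc => D.centre_Q1 ha hc) (hne9 D.Q1 D.Zc_le_Q1 (by omega))
    · exfalso
      have hA : D.Q2 = D.Q := Subgroup.eq_of_le_of_card_ge D.Q2_le (by rw [D.Q_card, e2]; norm_num)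
      exact D.t_not_fix fun a ha => (D.mem_Q2.1 (hA.symm ▸ ha)).2
  refine ⟨h27, fun x hx4 hx2 q hq hqt => ?_⟩
  have hxK : (x : G) ∈ D.K := D.mem_K.2 ⟨x.2, hx2⟩
  have : ∀ j, ∀ a ∈ c.A j, a ∈ D.Q2 → (x : G) * a = a * x := by
    intro j
    induction j using Fin.induction with
    | zero => intro a ha _; rw [c.A0] at ha; exact D.comm_Zc (D.mem_Ct.1 x.2) ha
    | succ j ih =>
      intro a ha ha2
      by_cases hj : j = i
      · subst hj
        refine ih a ?_ ha2
        rw [← hB]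
        exact ⟨ha, by rw [(D.mem_Q2.1 ha2).2, mul_inv_cancel]; exact one_mem _⟩
      · have hd := htriv j hj _ hxK a ha
        have hd2 : (x : G) * a * (x : G)⁻¹ * a⁻¹ ∈ D.Q2 := by
          refine mul_mem ?_ (inv_mem ha2)
          refine D.mem_Q2.2 ⟨D.conj_Q x.2 (D.Q2_le ha2), D.fix_of_mod (D.conj_Q x.2 (D.Q2_le ha2)) ?_⟩
          have hq := D.K_t hxK
          set q := (D.t : G) * (x : G) * (D.t : G)⁻¹ * (x : G)⁻¹
          have hy := D.conj_Q x.2 (D.Q2_le ha2)
          have e : D.θ ((x : G) * a * (x : G)⁻¹) * ((x : G) * a * (x : G)⁻¹)⁻¹ =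
              q * ((x : G) * D.θ a * (x : G)⁻¹) * q⁻¹ * ((x : G) * a * (x : G)⁻¹)⁻¹ := by
            simp only [q, θ]; group
          rw [e, (D.mem_Q2.1 ha2).2]
          exact D.Q_comm q hq _ hy
        have hxd := ih _ hd hd2
        set d := (x : G) * a * (x : G)⁻¹ * a⁻¹ with hdd
        have e1 : (x : G) * a = d * a * x := by rw [hdd]; group
        have hn : ∀ n : ℕ, (x : G) ^ n * a = d ^ n * a * (x : G) ^ n := by
          intro n
          induction n with
          | zero => simp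
          | succ n ihn =>
            calc (x : G) ^ (n + 1) * a = (x : G) * ((x : G) ^ n * a) := by rw [pow_succ', mul_assoc]
              _ = ((x : G) * d ^ n) * a * (x : G) ^ n := by rw [ihn]; group
              _ = d ^ n * ((x : G) * a) * (x : G) ^ n := by
                rw [((show Commute (x : G) d from hxd).pow_right n).eq]; group
              _ = d ^ (n + 1) * a * (x : G) ^ (n + 1) := by rw [e1, pow_succ, pow_succ']; group
        have h4 := hn 4
        rw [hx4, one_mul, mul_one] at h4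
        have hd1 : d = 1 := by
          have h44 : d ^ 4 = 1 := (mul_eq_right.1 h4.symm)
          have h3 := D.Q_exp d (hle _ hd)
          rwa [pow_succ, h3, one_mul] at h44
        rw [e1, hd1, one_mul]
  exact this _ q (c.Ar.symm ▸ hq) ⟨hq, mem_centralizer_singleton_iff.2 hqt.symm⟩

end Base

end CfsgLib.O8T
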