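import Cfsg.Agent.Lib.OEightPlusThree.MGroup

/-!
The Sylow three-subgroups of the centralizers of `t` and of `u`, and the separation of the classes of `t`, `u`
and `e`.
-/

set_option autoImplicit false
set_option synthInstance.maxSize 4096
set_option maxRecDepth 8000

namespace CfsgLib.O8T

open Subgroup

universe u

/-- The product of two reflections. -/
def uM : M4 := comp (nM 0) (nM 2)

theorem cls_facts :
    ((gam.all fun M => decide (comp M pT = comp pT M → app M (vv 0) = vv 0 → app M (0, 0, 1, 0) = (0, 0, 1, 0) →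
      app M xv4 = xv4 → powM M 2 = idM)) = true) ∧
    (∀ c : V4, app pT c = c → app pB c = c → ∃ i : Fin 3, c = i.val • zv4) ∧
    (∀ c : V4, ∀ i : Fin 3, i ≠ 0 → app pT c = c →
      c + app (powM pB i.val) c + app (powM pB i.val) (app (powM pB i.val) c) = 0 →
      ∃ a b : Fin 3, c = a.val • zv4 + b.val • xv4) ∧
    ((gam.all fun M => decide (comp M uM = comp uM M → powM M 8 = idM)) = true) ∧
    ((gam.all fun M => decide (comp M M ≠ rM ∧ comp M uM ≠ comp rM M ∧ comp M pT ≠ comp rM M)) = true) ∧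
    app pT (vv 0) = vv 0 ∧ wt (vv 0) = 2 ∧ app pT (0, 0, 1, 0) = (0, 0, 1, 0) ∧ app uM (vv 1) = vv 1 ∧
    wt (vv 1) = 2 ∧ app rM (vv 1) = vv 1 ∧ pB ≠ idM ∧ app pT xv4 = xv4 ∧ app pB zv4 = zv4 := by decide +kernel

theorem card_fix_uM : Nat.card {c : V4 // app uM c = c} = 9 := by
  rw [Nat.card_eq_fintype_card]; decide +kernel

variable {G : Type u} [Group G]

/-- Every three-element of a group is conjugate into a maximal three-subgroup. -/
theorem conj_into [Finite G] {C P0 : Subgroup G} (hle : P0 ≤ C) (h0 : IsPGroup 3 P0)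
    (hmax : ∀ P : Subgroup G, P ≤ C → IsPGroup 3 P → P0 ≤ P → P ≤ P0) {R : Subgroup G} (hRC : R ≤ C)
    (hR : IsPGroup 3 R) : ∃ k ∈ C, ∀ r ∈ R, k * r * k⁻¹ ∈ P0 := by
  haveI : Fact (Nat.Prime 3) := ⟨Nat.prime_three⟩
  have h0' : IsPGroup 3 (P0.subgroupOf C) := h0.of_equiv (subgroupOfEquivOfLe hle).symm
  have hR' : IsPGroup 3 (R.subgroupOf C) := hR.of_equiv (subgroupOfEquivOfLe hRC).symm
  obtain ⟨S, hS⟩ := h0'.exists_le_sylow
  obtain ⟨S', hS'⟩ := hR'.exists_le_sylow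
  obtain ⟨k, hk⟩ := MulAction.exists_smul_eq C S' S
  have hSP : (S : Subgroup C).map C.subtype ≤ P0 :=
    hmax _ (map_subtype_le _) (S.2.map _) fun a ha => ⟨⟨a, hle ha⟩, hS (mem_subgroupOf.2 ha), rfl⟩
  refine ⟨k, k.2, fun r hr => hSP ⟨k * ⟨r, hRC hr⟩ * k⁻¹, ?_, rfl⟩⟩
  rw [SetLike.mem_coe, ← hk]
  exact Subgroup.smul_mem_pointwise_smul _ (MulAut.conj k) _ (hS' (mem_subgroupOf.2 hr))

namespace Frame

variable [Finite G] (F : Frame G)

theorem act_pow {n : G} {M : M4} (h : F.Act n M) : ∀ m : ℕ, F.Act (n ^ m) (powM M m)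
  | 0 => by rw [pow_zero]; exact F.act_one
  | m + 1 => by rw [pow_succ]; exact F.act_mul (act_pow h m) h

/-- A three-element with matrix of order prime to three. -/
theorem three_J {g : G} {M : M4} (h : F.Act g M) {k m : ℕ} (h3 : g ^ 3 ^ k = 1) (hm : Nat.Coprime 3 m)
    (hM : powM M m = idM) : g ∈ F.Jg := by
  obtain ⟨j, hj⟩ : ∃ j, j = g ^ m := ⟨_, rfl⟩
  have hjJ : j ∈ F.Jg := F.mem_J_of_act (hj ▸ hM ▸ F.act_pow h m)
  obtain ⟨a, ha⟩ : ∃ a : ℕ, ∃ b : ℕ, m * a = 3 ^ k * b + 1 := by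
    by_cases hk : k = 0
    · refine ⟨1, m - 1, ?_⟩
      subst hk
      have : 1 ≤ m := Nat.one_le_iff_ne_zero.2 fun e => by subst e; simp at hm
      omega
    · obtain ⟨a, -, ha⟩ := Nat.exists_mul_mod_eq_one_of_coprime (hm.symm.pow_right k)
        (Nat.one_lt_pow hk (by norm_num))
      exact ⟨a, m * a / 3 ^ k, by have := Nat.div_add_mod (m * a) (3 ^ k); rw [ha] at this; omega⟩
  obtain ⟨b, hb⟩ := ha
  have e : g = j ^ a := by rw [hj, ← pow_mul, hb, pow_add, pow_mul, h3, one_pow, one_mul, pow_one]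
  exact e ▸ pow_mem hjJ a

/-- The centralizer of `t`. -/
abbrev Kt : Subgroup G := centralizer ({F.nT} : Set G)

theorem mem_Kt {g : G} : g ∈ F.Kt ↔ Commute g F.nT := mem_centralizer_singleton_iff

/-- The part of `J` centralized by `t`. -/
abbrev Jt : Subgroup G := F.Jg ⊓ F.Kt

theorem e_Jt {c : V4} : F.e c ∈ F.Jt ↔ app pT c = c := by
  refine ⟨fun h => F.e_inj (mul_right_cancel (b := F.nT) ?_), fun h => ⟨F.e_mem _, F.mem_Kt.2 (F.nT_fix h).symm⟩⟩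
  rw [← F.lift_e F.lift_nT]
  exact (F.mem_Kt.1 h.2).eq.symm

theorem Jt_e {g : G} (h : g ∈ F.Jt) : ∃ c, app pT c = c ∧ g = F.e c := by
  obtain ⟨c, rfl⟩ := F.e_surj h.1
  exact ⟨c, F.e_Jt.1 h, rfl⟩

theorem b_Q2 : F.b ∈ F.D.Q2 := F.b_Q

theorem b_Kt : F.b ∈ F.Kt := F.mem_Kt.2 (F.nT_Q2 F.b_Q2).symm

theorem b_Jt : F.b ∈ normalizer (F.Jt : Set G) := by
  have hb : F.b ∈ F.N := F.mem_N F.act_b
  refine mem_normalizer_iff.2 fun a => and_congr (hb a).symm ?_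
  refine ⟨fun (h : a ∈ F.Kt) => (mul_mem (mul_mem F.b_Kt h) (inv_mem F.b_Kt) : F.b * a * F.b⁻¹ ∈ F.Kt),
    fun (h : F.b * a * F.b⁻¹ ∈ F.Kt) => ?_⟩
  have := mul_mem (mul_mem (inv_mem F.b_Kt) h) F.b_Kt
  exact (by simpa [mul_assoc] using this : a ∈ F.Kt)

/-- The Sylow subgroup of the centralizer of `t`. -/
noncomputable def P81 : Subgroup G := F.Jt ⊔ zpowers F.b

theorem P81_le : F.P81 ≤ F.Kt := sup_le inf_le_right (zpowers_le.2 F.b_Kt)

theorem mem_P81 {g : G} (h : g ∈ F.P81) : ∃ c, app pT c = c ∧ ∃ i : Fin 3, g = F.e c * F.b ^ i.val := by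
  have h' : g ∈ ((F.Jt ⊔ zpowers F.b : Subgroup G) : Set G) := h
  rw [coe_mul_of_right_le_normalizer_left _ _ (zpowers_le.2 F.b_Jt)] at h'
  obtain ⟨a, ha, b, hb, rfl⟩ := h'
  obtain ⟨c, hc, rfl⟩ := F.Jt_e ha
  obtain ⟨n, hn⟩ := (isOfFinOrder_of_finite F.b).mem_powers_iff_mem_zpowers.2 hb
  refine ⟨c, hc, ⟨n % 3, Nat.mod_lt _ (by norm_num)⟩, ?_⟩
  show F.e c * b = F.e c * F.b ^ (n % 3)
  rw [← show F.b ^ n = b from hn, ← pow_eq_pow_mod n (F.D.Q_exp _ (F.D.Q2_le F.b_Q2))]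

theorem P81_cube {c : V4} (i : ℕ) :
    (F.e c * F.b ^ i) ^ 3 = F.e (c + app (powM pB i) c + app (powM pB i) (app (powM pB i) c)) := by
  have h := F.act_pow F.act_b i
  have hb3 : F.b ^ i * F.b ^ i * F.b ^ i = 1 := by
    rw [← pow_add, ← pow_add, show i + i + i = 3 * i by ring, pow_mul, F.D.Q_exp _ (F.D.Q2_le F.b_Q2), one_pow]
  rw [F.e_add, F.e_add, ← h (app (powM pB i) c), ← h c]
  calc (F.e c * F.b ^ i) ^ 3 = F.e c * (F.b ^ i * F.e c * (F.b ^ i)⁻¹) *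
        (F.b ^ i * (F.b ^ i * F.e c * (F.b ^ i)⁻¹) * (F.b ^ i)⁻¹) * (F.b ^ i * F.b ^ i * F.b ^ i) := by
        simp only [pow_succ, pow_zero, one_mul]; group
    _ = _ := by rw [hb3, mul_one]

theorem P81_isP : IsPGroup 3 F.P81 := fun g => by
  obtain ⟨c, -, i, e⟩ := F.mem_P81 g.2
  refine ⟨2, Subtype.ext ?_⟩
  rw [SubgroupClass.coe_pow, coe_one, e, show 3 ^ 2 = 3 * 3 from rfl, pow_mul, F.P81_cube, F.e_cube]

theorem P81_order_three {g : G} (h : g ∈ F.P81) (h3 : g ^ 3 = 1) : g ∈ F.Jt ∨ g ∈ F.D.Q2 := by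
  obtain ⟨c, hc, i, rfl⟩ := F.mem_P81 h
  by_cases hi : i = 0
  · subst hi
    left
    rw [show ((0 : Fin 3) : ℕ) = 0 from rfl, pow_zero, mul_one]
    exact F.e_Jt.2 hc
  · right
    rw [F.P81_cube] at h3
    obtain ⟨a, b, rfl⟩ := cls_facts.2.2.1 c i hi hc (F.e_inj (h3.trans F.e_zero.symm))
    rw [F.e_add, ← F.e_pow, F.x_pow, show F.e zv4 = F.D.z from F.e_z]
    exact mul_mem (mul_mem (pow_mem (F.D.Zc_le_Q2 (mem_zpowers _)) _) (pow_mem F.x4_Q2 _)) (pow_mem F.b_Q2 _)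

theorem card_Jt_lt : 27 ≤ Nat.card F.Jt := by
  have h : Nat.card {c : V4 // app pT c = c} = 27 := by rw [Nat.card_eq_fintype_card]; decide +kernel
  rw [← h]
  exact Nat.card_le_card_of_injective (fun c => (⟨F.e c.1, F.e_Jt.2 c.2⟩ : F.Jt))
    fun _ _ e => Subtype.ext (F.e_inj (congrArg Subtype.val e))

theorem card_P81 : 81 ≤ Nat.card F.P81 := by
  haveI : Fact (Nat.Prime 3) := ⟨Nat.prime_three⟩
  have hlt : Nat.card F.Jt < Nat.card F.P81 := by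
    refine lt_of_le_of_ne (card_le_of_le le_sup_left) fun e => ?_
    have hb : F.b ∈ F.Jt := (eq_of_le_of_card_ge (le_sup_left : F.Jt ≤ F.P81) e.ge).ge
      (mem_sup_right (mem_zpowers _))
    exact cls_facts.2.2.2.2.2.2.2.2.2.2.2.1 (F.act_unique F.act_b (F.act_J hb.1))
  obtain ⟨n, hn⟩ := IsPGroup.iff_card.1 F.P81_isP
  have := F.card_Jt_lt
  rw [hn] at hlt ⊢
  have hn4 : 4 ≤ n := by
    by_contra h
    have := Nat.pow_le_pow_right (show 0 < 3 by norm_num) (show n ≤ 3 by omega)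
    omega
  exact le_trans (by norm_num) (Nat.pow_le_pow_right (by norm_num) hn4)

/-- `P81` is a Sylow subgroup of the centralizer of `t`. -/
theorem P81_max {P : Subgroup G} (hP : P ≤ F.Kt) (h3 : IsPGroup 3 P) (hle : F.P81 ≤ P) : P ≤ F.P81 := by
  haveI : Fact (Nat.Prime 3) := ⟨Nat.prime_three⟩
  haveI : Nontrivial P := Finite.one_lt_card_iff_nontrivial.1 (by
    have := F.card_P81; have := card_le_of_le hle; omega)
  haveI := h3.center_nontrivial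
  obtain ⟨f, hf⟩ := exists_ne (1 : center P)
  have hfP : ∀ p : G, p ∈ P → p * ((f : P) : G) = ((f : P) : G) * p := fun p hp =>
    congrArg Subtype.val (mem_center_iff.1 f.2 ⟨p, hp⟩)
  set g := ((f : P) : G) with hg
  obtain ⟨-, hB, -, -, -, h0, hw0, h3v, -, -, -, -, hx, -⟩ := cls_facts
  have hj : ∀ c, app pT c = c → Commute (F.e c) g := fun c hc => hfP _ (hle (mem_sup_left (F.e_Jt.2 hc)))
  have hgN : g ∈ F.N := F.cent_v hw0 (hj _ h0).eq.symm
  obtain ⟨M, hM, hA, -⟩ := F.act_gam hgN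
  have hgt : Commute g F.nT := F.mem_Kt.1 (hP (f : P).2)
  have hMT : comp M pT = comp pT M := F.act_unique (F.act_mul hA F.lift_nT.1)
    (by rw [hgt.eq]; exact F.act_mul F.lift_nT.1 hA)
  have hfix : ∀ c, app pT c = c → app M c = c := fun c hc => F.e_inj (by
    rw [← hA, (hj c hc).eq.symm, mul_inv_cancel_right])
  obtain ⟨k, hk⟩ := h3 (f : P)
  have hk' : g ^ 3 ^ k = 1 := by simpa using congrArg Subtype.val hk
  have hgJ : g ∈ F.Jg := F.three_J hA hk' (m := 2) (by norm_num)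
    (of_decide_eq_true (List.all_eq_true.1 cls_facts.1 M hM) hMT (hfix _ h0) (hfix _ h3v) (hfix _ hx))
  obtain ⟨c, hc, hgc⟩ := F.Jt_e ⟨hgJ, F.mem_Kt.2 hgt⟩
  have hcB : app pB c = c := F.e_inj (by
    rw [← F.act_b, ← hgc, hfP _ (hle (mem_sup_right (mem_zpowers _))), mul_inv_cancel_right])
  obtain ⟨i, rfl⟩ := hB c hc hcB
  have hi : i ≠ 0 := fun e => hf (Subtype.ext (Subtype.ext (by
    rw [← hg, hgc, e, show ((0 : Fin 3) : ℕ) = 0 from rfl, zero_smul, F.e_zero]; rfl)))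
  have hz : P ≤ F.D.Ct := fun p hp => F.D.mem_Ct.2 (by
    have h := hfP p hp
    rw [hgc, ← F.e_pow, show F.e zv4 = F.D.z from F.e_z] at h
    rcases (show i.val = 1 ∨ i.val = 2 by have := Fin.val_ne_zero_iff.2 hi; omega) with e | e <;> rw [e] at h
    · rwa [pow_one] at h
    · have h2 : Commute p (F.D.z ^ 2 * F.D.z ^ 2) := (show Commute p (F.D.z ^ 2) from h).mul_right h
      rw [← pow_add, show (2 + 2) = 3 + 1 from rfl, pow_add, F.D.z_cube, one_mul, pow_one] at h2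
      exact h2)
  have hcard := F.D.inter_index h3 hz
  have hQ : P ⊓ F.D.Q ≤ F.D.Q2 := fun a ha => F.fixQ ha.2 (F.mem_Kt.1 (hP ha.1)).eq.symm
  have := card_le_of_le hQ
  rw [F.D.card_Q2] at this
  exact (eq_of_le_of_card_ge hle (by have := F.card_P81; omega)).ge

/-- The part of `J` centralized by `u`. -/
abbrev Ju : Subgroup G := F.Jg ⊓ centralizer ({F.nR 0 * F.nR 2} : Set G)

theorem uR_lift : F.Lift (F.nR 0 * F.nR 2) uM := F.lift_mul (F.nR_lift 0) (F.nR_lift 2)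

theorem e_Ju {c : V4} : F.e c ∈ F.Ju ↔ app uM c = c := by
  refine ⟨fun h => F.e_inj (mul_right_cancel (b := F.nR 0 * F.nR 2) ?_), fun h =>
    ⟨F.e_mem _, mem_centralizer_singleton_iff.2 ?_⟩⟩
  · rw [← F.lift_e F.uR_lift]
    exact (mem_centralizer_singleton_iff.1 h.2).symm
  · rw [F.lift_e F.uR_lift, h]

theorem Ju_isP : IsPGroup 3 F.Ju := fun g => ⟨1, Subtype.ext (by
  rw [SubgroupClass.coe_pow, coe_one, pow_one]; exact F.adj.J_exp g.2.1)⟩

theorem card_Ju : Nat.card F.Ju ≤ 9 := by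
  rw [← card_fix_uM]
  refine Nat.card_le_card_of_surjective (fun c => (⟨F.e c.1, F.e_Ju.2 c.2⟩ : F.Ju)) fun g => ?_
  obtain ⟨c, hc⟩ := F.e_surj g.2.1
  exact ⟨⟨c, F.e_Ju.1 (by rw [hc]; exact g.2)⟩, Subtype.ext hc⟩

/-- `Ju` is a Sylow subgroup of the centralizer of `u`. -/
theorem Ju_max {P : Subgroup G} (hP : P ≤ centralizer ({F.nR 0 * F.nR 2} : Set G)) (h3 : IsPGroup 3 P)
    (hle : F.Ju ≤ P) : P ≤ F.Ju := by
  haveI : Fact (Nat.Prime 3) := ⟨Nat.prime_three⟩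
  obtain ⟨-, -, -, hC, -, -, -, -, hu1, hw1, -⟩ := cls_facts
  by_contra hne
  haveI := h3.isNilpotent
  have hlt : F.Ju.subgroupOf P < ⊤ := lt_top_iff_ne_top.2 fun e => hne (subgroupOf_eq_top.1 e)
  obtain ⟨g, hgn, hgJ⟩ := SetLike.exists_of_lt (normalizerCondition_of_isNilpotent (F.Ju.subgroupOf P) hlt)
  have h1 : (g : G) * F.e (vv 1) * (g : G)⁻¹ ∈ F.Ju := by
    have := (mem_normalizer_iff.1 hgn ⟨F.e (vv 1), hle (F.e_Ju.2 hu1)⟩).1 (mem_subgroupOf.2 (F.e_Ju.2 hu1))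
    exact mem_subgroupOf.1 this
  obtain ⟨c, hc⟩ := F.e_surj h1.1
  have hgN : (g : G)⁻¹ ∈ F.N := F.ctrl_two (c := c) (d := vv 1) (by rw [hc]; group) hw1
  obtain ⟨M, hM, hA, -⟩ := F.act_gam (inv_mem hgN)
  rw [inv_inv] at hA
  have hgu := mem_centralizer_singleton_iff.1 (hP g.2)
  have hMu : comp M uM = comp uM M := F.act_unique (F.act_mul hA F.uR_lift.1)
    (by rw [hgu]; exact F.act_mul F.uR_lift.1 hA)
  obtain ⟨k, hk⟩ := h3 g
  exact hgJ (mem_subgroupOf.2 ⟨F.three_J hA (by simpa using congrArg Subtype.val hk) (m := 8) (by norm_num)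
    (of_decide_eq_true (List.all_eq_true.1 hC M hM) hMu), hP g.2⟩)

theorem t_ne_u (g : G) : g * (F.nR 0 * F.nR 2) * g⁻¹ ≠ F.nT := fun h => by
  obtain ⟨k, -, hk⟩ := conj_into (G := G) inf_le_right F.Ju_isP (fun P h1 h2 h3 => F.Ju_max h1 h2 h3)
    (R := F.P81.map (MulAut.conj g⁻¹).toMonoidHom) (by
      rintro _ ⟨r, hr, rfl⟩
      refine mem_centralizer_singleton_iff.2 ?_
      have := (F.mem_Kt.1 (F.P81_le hr)).eq
      rw [← h] at this
      show g⁻¹ * r * g⁻¹⁻¹ * _ = _ * (g⁻¹ * r * g⁻¹⁻¹)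
      calc g⁻¹ * r * g⁻¹⁻¹ * (F.nR 0 * F.nR 2) = g⁻¹ * (r * (g * (F.nR 0 * F.nR 2) * g⁻¹)) * g := by group
        _ = _ := by rw [this]; group) (F.P81_isP.map _)
  have hle : (F.P81.map (MulAut.conj g⁻¹).toMonoidHom).map (MulAut.conj k).toMonoidHom ≤ F.Ju := by
    rintro _ ⟨r, hr, rfl⟩
    exact hk r hr
  have := card_le_of_le hle
  rw [card_map_of_injective (f := (MulAut.conj k).toMonoidHom) (MulAut.conj k).injective,
    card_map_of_injective (f := (MulAut.conj g⁻¹).toMonoidHom) (MulAut.conj _).injective] at this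
  have := F.card_P81; have := F.card_Ju
  omega

/-- An element of order three of a conjugate centralizer, moved into a given maximal subgroup. -/
theorem pull {s : G} {P0 : Subgroup G} (hle : P0 ≤ centralizer ({s} : Set G)) (h0 : IsPGroup 3 P0)
    (hmax : ∀ P : Subgroup G, P ≤ centralizer ({s} : Set G) → IsPGroup 3 P → P0 ≤ P → P ≤ P0) {g v w : G}
    (hg : g * s * g⁻¹ = v) (hv : v * w = w * v) (hw : w ^ 3 = 1) :
    ∃ g' f, g' * s * g'⁻¹ = v ∧ f ∈ P0 ∧ f ^ 3 = 1 ∧ g' * f * g'⁻¹ = w := by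
  have hC : g⁻¹ * w * g ∈ centralizer ({s} : Set G) := mem_centralizer_singleton_iff.2 (by
    rw [show s = g⁻¹ * v * g by rw [← hg]; group]
    calc g⁻¹ * w * g * (g⁻¹ * v * g) = g⁻¹ * (w * v) * g := by group
      _ = g⁻¹ * v * g * (g⁻¹ * w * g) := by rw [← hv]; group)
  have h3 : (g⁻¹ * w * g) ^ 3 = 1 := by
    have := conj_pow (a := g⁻¹) (b := w) (i := 3)
    rw [inv_inv, hw] at this
    rw [this]; group
  obtain ⟨k, hkC, hk⟩ := conj_into hle h0 hmax (R := zpowers (g⁻¹ * w * g)) (zpowers_le.2 hC)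
    (fun a => ⟨1, Subtype.ext (by
      obtain ⟨n, hn⟩ := mem_zpowers_iff.1 a.2
      rw [SubgroupClass.coe_pow, coe_one, pow_one, ← hn, ← zpow_natCast, ← zpow_mul, mul_comm, zpow_mul, zpow_natCast, h3, one_zpow])⟩)
  refine ⟨g * k⁻¹, k * (g⁻¹ * w * g) * k⁻¹, ?_, hk _ (mem_zpowers _), by rw [conj_pow, h3, mul_one, mul_inv_cancel],
    by group⟩
  have := mem_centralizer_singleton_iff.1 (inv_mem hkC)
  rw [show g * k⁻¹ * s * (g * k⁻¹)⁻¹ = g * (k⁻¹ * s) * k * g⁻¹ by group, this]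
  rw [← hg]; group

theorem rho_vv : F.rho * F.e (vv 1) = F.e (vv 1) * F.rho := by
  rw [F.lift_e F.rho_lift, cls_facts.2.2.2.2.2.2.2.2.2.2.1]

theorem u_ne_e (g : G) : g * (F.nR 0 * F.nR 2) * g⁻¹ ≠ F.rho := fun h => by
  obtain ⟨g', f, h', hf, -, hgf⟩ := pull inf_le_right F.Ju_isP (fun P a b c => F.Ju_max a b c) h F.rho_vv (F.e_cube _)
  obtain ⟨c, rfl⟩ := F.e_surj hf.1
  obtain ⟨M, hM, hA, -⟩ := F.act_gam (F.ctrl_two hgf cls_facts.2.2.2.2.2.2.2.2.2.1)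
  refine (of_decide_eq_true (List.all_eq_true.1 cls_facts.2.2.2.2.1 M hM)).2.1 ?_
  refine F.act_unique (F.act_mul hA F.uR_lift.1) ?_
  rw [show g' * (F.nR 0 * F.nR 2) = F.rho * g' from mul_inv_eq_iff_eq_mul.1 h']
  exact F.act_mul F.rho_lift.1 hA

theorem t_ne_e (g : G) : g * F.nT * g⁻¹ ≠ F.rho := fun h => by
  obtain ⟨g', f, h', hf, hf3, hgf⟩ := pull (s := F.nT) F.P81_le F.P81_isP (fun P a b c => F.P81_max a b c) h
    F.rho_vv (F.e_cube _)
  obtain ⟨-, -, -, -, hd, -, -, -, -, hw1, -⟩ := cls_facts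
  rcases F.P81_order_three hf hf3 with hJ | hQ
  · obtain ⟨c, -, rfl⟩ := F.Jt_e hJ
    obtain ⟨M, hM, hA, -⟩ := F.act_gam (F.ctrl_two hgf hw1)
    refine (of_decide_eq_true (List.all_eq_true.1 hd M hM)).2.2 ?_
    refine F.act_unique (F.act_mul hA F.lift_nT.1) ?_
    rw [mul_inv_eq_iff_eq_mul.1 h']
    exact F.act_mul F.rho_lift.1 hA
  · have hc : g' * F.xa * g'⁻¹ * F.e (vv 1) = F.e (vv 1) * (g' * F.xa * g'⁻¹) := by
      rw [← hgf]
      have := QuP.q2 F.xa_Quat hQ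
      calc g' * F.xa * g'⁻¹ * (g' * f * g'⁻¹) = g' * (F.xa * f) * g'⁻¹ := by group
        _ = _ := by rw [this]; group
    obtain ⟨M, hM, hA, -⟩ := F.act_gam (F.cent_v hw1 hc)
    refine (of_decide_eq_true (List.all_eq_true.1 hd M hM)).1 ?_
    refine F.act_unique (F.act_mul hA hA) ?_
    rw [show g' * F.xa * g'⁻¹ * (g' * F.xa * g'⁻¹) = g' * (F.xa * F.xa) * g'⁻¹ by group, F.xa_sq, h']
    exact F.rho_lift.1

end Frame

end CfsgLib.O8T
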