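import Cfsg.Agent.Lib.OEightPlusThree.Chief

/-!
The action of the complement on the two parts of the core.
-/

set_option autoImplicit false

namespace CfsgLib.O8T

open Subgroup

universe u

variable {G : Type u} [Group G]

namespace Base

variable (D : Base G)

theorem ψ_central (x : D.Ct) : D.ψ (x * D.t * x⁻¹ * D.t⁻¹) = 1 := by
  rw [map_mul, map_mul, map_mul, map_inv, map_inv, D.t_ψ]
  refine Prod.ext ?_ (by simp)
  show (D.ψ x).1 * -1 * ((D.ψ x).1)⁻¹ * (-1)⁻¹ = 1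
  rw [← sl_neg_comm]; group

theorem θ_conj {x : G} (hx : x ∈ D.Ct) {a : G} (ha : a ∈ D.Q) :
    D.θ (x * a * x⁻¹) * (x * D.θ a * x⁻¹)⁻¹ ∈ D.Zc := by
  have hq := (D.ψ_ker _).1 (D.ψ_central ⟨x, hx⟩)
  simp only [coe_mul, coe_inv] at hq
  set q := x * (D.t : G) * x⁻¹ * (D.t : G)⁻¹
  have e : D.θ (x * a * x⁻¹) * (x * D.θ a * x⁻¹)⁻¹ =
      q⁻¹ * (x * D.θ a * x⁻¹) * q⁻¹⁻¹ * (x * D.θ a * x⁻¹)⁻¹ := by simp only [q, θ]; group
  rw [e]
  exact D.Q_comm _ (inv_mem hq) _ (D.conj_Q hx (D.θ_mem ha))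

theorem conj_Q1 {x : G} (hx : x ∈ D.Ct) {a : G} (ha : a ∈ D.Q1) : x * a * x⁻¹ ∈ D.Q1 := by
  refine ⟨D.conj_Q hx ha.1, ?_⟩
  have h := D.θ_conj hx ha.1
  have e : D.θ (x * a * x⁻¹) * (x * a * x⁻¹) =
      (D.θ (x * a * x⁻¹) * (x * D.θ a * x⁻¹)⁻¹) * (x * (D.θ a * a) * x⁻¹) := by group
  rw [e, D.conj_Zc hx ha.2]
  exact mul_mem h ha.2

theorem conj_Q2 {x : G} (hx : x ∈ D.Ct) {a : G} (ha : a ∈ D.Q2) : x * a * x⁻¹ ∈ D.Q2 := by
  have h := D.θ_conj hx (D.Q2_le ha)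
  rw [(D.mem_Q2.1 ha).2] at h
  exact D.mem_Q2.2 ⟨D.conj_Q hx (D.Q2_le ha), D.fix_of_mod (D.conj_Q hx (D.Q2_le ha)) h⟩

theorem exists_lift4 (m : SL23) (hm : m * m * m * m = 1) : ∃ x : D.Ct, (x : G) ^ 4 = 1 ∧ D.ψ x = (m, 1) := by
  obtain ⟨x, hx⟩ := D.ψ_SL (m * m * m)
  refine ⟨x ^ 3, ?_, ?_⟩
  · have h4 : D.ψ (x ^ 4) = 1 := by
      rw [map_pow, hx, Prod.pow_mk, one_pow]
      refine Prod.ext ?_ rfl
      show (m * m * m) ^ 4 = 1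
      have : (m * m * m) ^ 4 = (m * m * m * m) ^ 3 := by
        simp only [pow_succ, pow_zero, one_mul, mul_assoc]
      rw [this, hm, one_pow]
    have h := D.Q_exp _ ((D.ψ_ker _).1 h4)
    simp only [SubgroupClass.coe_pow] at h ⊢
    rwa [← pow_mul] at h ⊢
  · rw [map_pow, hx, Prod.pow_mk, one_pow]
    refine Prod.ext ?_ rfl
    show (m * m * m) ^ 3 = m
    have : (m * m * m) ^ 3 = (m * m * m * m) ^ 2 * m := by
      simp only [pow_succ, pow_zero, one_mul, mul_assoc]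
    rw [this, hm, one_pow, one_mul]

theorem mem_Q_of_trivial {y : D.Ct} (h2 : D.ψ (y * y) = 1) (h : D.ρ y = 1) : (y : G) ∈ D.Q := by
  have hyy : ((y : G) * y) ∈ D.Q := (D.ψ_ker _).1 h2
  have ht : (y : G) ^ 3 ∈ D.Q := by
    refine D.Q_self (mem_centralizer_iff.2 fun a ha => ?_)
    have hd : (y : G) ^ 3 * a * ((y : G) ^ 3)⁻¹ * a⁻¹ ∈ D.Zc := by
      have e : D.ρ (y ^ 3) (D.vec ⟨a, ha⟩) = D.vec ⟨a, ha⟩ := by rw [map_pow, h, one_pow, Module.End.one_apply]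
      rw [D.ρ_vec] at e
      have : D.vec (D.conjQ (y ^ 3) ⟨a, ha⟩ * ⟨a, ha⟩⁻¹) + D.vec ⟨a, ha⟩ = 0 + D.vec ⟨a, ha⟩ := by
        rw [← D.vec_mul, inv_mul_cancel_right, e, zero_add]
      exact D.vec_zero.1 (add_right_cancel this)
    set v := (y : G) ^ 3
    set d := v * a * v⁻¹ * a⁻¹ with hdd
    have hvd : v * d = d * v := D.comm_Zc (D.mem_Ct.1 (pow_mem y.2 3)) hd
    have hv2 : v * v = 1 := by
      have := D.Q_exp _ hyy
      rwa [← pow_two, ← pow_mul, show 2 * 3 = 3 + 3 from rfl, pow_add] at this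
    have e1 : v * a = d * a * v := by rw [hdd]; group
    have e2 : a = d * d * a := by
      calc a = v * v * a := by rw [hv2, one_mul]
        _ = v * d * (a * v) := by rw [mul_assoc, e1]; group
        _ = d * (v * a) * v := by rw [hvd]; group
        _ = d * d * a * (v * v) := by rw [e1]; group
        _ = d * d * a := by rw [hv2, mul_one]
    have e3 : d * d = 1 := mul_right_cancel (b := a) (by rw [one_mul]; exact e2.symm)
    rw [e1, eq_one_sq_cube e3 (D.Q_exp _ (D.Zc_le_Q hd)), one_mul]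
  have e : (y : G) = (y : G) ^ 3 * ((y : G) * y)⁻¹ := by
    rw [pow_succ', pow_two, mul_assoc (y : G), mul_inv_cancel, mul_one]
  rw [e]
  exact mul_mem ht (inv_mem hyy)

end Base

namespace Setting

variable (D : Setting G)

theorem ρ_sq {x : D.Ct} {m : SL23} (hm : m * m = -1) (hx : D.ψ x = (m, 1)) : D.ρ x * D.ρ x = D.ρ D.t := by
  rw [← map_mul]
  refine D.ρ_congr ?_
  rw [map_mul, hx, D.t_ψ, Prod.mk_mul_mk, hm, mul_one]

theorem ρ_t_Q1 {a : G} (ha : a ∈ D.Q1) : D.ρ D.t (D.vec ⟨a, ha.1⟩) = -D.vec ⟨a, ha.1⟩ := by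
  rw [D.ρ_vec, eq_neg_iff_add_eq_zero, ← D.vec_mul, D.vec_zero]
  exact ha.2

theorem free_Q1 {x : D.Ct} {m : SL23} (hm : m * m = -1) (hx : D.ψ x = (m, 1)) {a : G} (ha : a ∈ D.Q1)
    (h : D.ρ x (D.vec ⟨a, ha.1⟩) = D.vec ⟨a, ha.1⟩ ∨ D.ρ x (D.vec ⟨a, ha.1⟩) = -D.vec ⟨a, ha.1⟩) : a ∈ D.Zc := by
  have e : D.ρ x (D.ρ x (D.vec ⟨a, ha.1⟩)) = D.vec ⟨a, ha.1⟩ := by
    rcases h with h | h <;> simp [h]
  rw [← Module.End.mul_apply, D.ρ_sq hm hx, D.ρ_t_Q1 ha, neg_eq_iff_add_eq_zero, ← D.vec_mul, D.vec_zero] at e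
  exact D.sq_mem ha.1 e

theorem quat_comm {x : D.Ct} (hx : (x : G) ^ 4 = 1) (h2 : (D.ψ x).2 = 1) {a : G} (ha : a ∈ D.Q2) :
    (x : G) * a = a * x :=
  D.quat_fix x hx h2 a (D.Q2_le ha) (D.θ_eq_iff.1 (D.mem_Q2.1 ha).2)

theorem map_Zc {G' : Type u} [Group G'] (f : G ≃* G') : (D.map f).Zc = D.Zc.map f.toMonoidHom := by
  show zpowers (f D.z) = _
  rw [MonoidHom.map_zpowers]; rfl

end Setting

end CfsgLib.O8T
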