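import Cfsg.Agent.Lib.OEightPlusThree.Setup
import Mathlib.GroupTheory.NoncommCoprod

/-!
The decomposition of the core by the central involution of the complement.
-/

set_option autoImplicit false

namespace CfsgLib.O8T

open Subgroup

universe u

variable {G : Type u} [Group G]

/-- Rearranging a commutator. -/
theorem comm_swap {a b c : G} (h : a * b * a⁻¹ * b⁻¹ = c) : a * b = c * b * a := by
  rw [← h]; group

/-- An element of order dividing two and three is trivial. -/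
theorem eq_one_sq_cube {c : G} (h2 : c * c = 1) (h3 : c ^ 3 = 1) : c = 1 := by
  have : c ^ 3 = c * c * c := by rw [pow_succ, pow_two]
  rwa [this, h2, one_mul] at h3

namespace Base

variable (D : Base G)

theorem conj_mul_mem {x : G} (hx : x ∈ D.Ct) {a : G} (ha : a ∈ D.Zc) (b : G) :
    x * (a * b) * x⁻¹ = a * (x * b * x⁻¹) := by
  rw [← mul_assoc x, D.comm_Zc (D.mem_Ct.1 hx) ha]
  group

theorem cube {a : G} (ha : a ∈ D.Q) : a * a * a = 1 := by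
  have := D.Q_exp a ha
  rwa [pow_succ, pow_two] at this

theorem inv_eq_sq {a : G} (ha : a ∈ D.Q) : a⁻¹ = a * a :=
  inv_eq_of_mul_eq_one_right (by rw [← mul_assoc]; exact D.cube ha)

/-- The centre inside the core. -/
abbrev Zq : Subgroup D.Q := D.Zc.subgroupOf D.Q

instance Zq_normal : D.Zq.Normal :=
  ⟨fun n hn g => by
    rw [mem_subgroupOf] at hn ⊢
    simpa [D.conj_Zc (D.Q_le_Ct g.2) hn] using hn⟩

/-- The projection to the core modulo the centre. -/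
def pr : D.Q →* D.Q ⧸ D.Zq := QuotientGroup.mk' D.Zq

theorem pr_one {q : D.Q} : D.pr q = 1 ↔ (q : G) ∈ D.Zc := QuotientGroup.eq_one_iff q

theorem pr_comm (a b : D.Q) : D.pr a * D.pr b = D.pr b * D.pr a := by
  have h : D.pr (a * b * a⁻¹ * b⁻¹) = 1 := D.pr_one.2 (D.Q_comm a a.2 b b.2)
  rw [map_mul, map_mul, map_mul, map_inv, map_inv, mul_inv_eq_one, mul_inv_eq_iff_eq_mul] at h
  exact h

/-- The action of the involution. -/
abbrev θ (a : G) : G := (D.t : G) * a * (D.t : G)⁻¹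

theorem θ_mem {a : G} (ha : a ∈ D.Q) : D.θ a ∈ D.Q := D.conj_Q D.t.2 ha

theorem θ_mul (a b : G) : D.θ (a * b) = D.θ a * D.θ b := by simp only [θ]; group

theorem θ_inv (a : G) : D.θ a⁻¹ = (D.θ a)⁻¹ := by simp only [θ]; group

theorem θ_θ (a : G) : D.θ (D.θ a) = a := by
  simp only [θ, D.t_inv]
  rw [mul_assoc (D.t : G), mul_assoc (D.t : G) a, mul_assoc, mul_assoc, D.t_sq, mul_one, ← mul_assoc, D.t_sq, one_mul]

theorem θ_Zc {c : G} (hc : c ∈ D.Zc) : D.θ c = c := D.conj_Zc D.t.2 hc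

theorem θ_eq_iff {a : G} : D.θ a = a ↔ (D.t : G) * a = a * D.t := mul_inv_eq_iff_eq_mul

theorem fix_of_mod {a : G} (ha : a ∈ D.Q) (h : D.θ a * a⁻¹ ∈ D.Zc) : D.θ a = a := by
  set c := D.θ a * a⁻¹ with hc
  have e : D.θ a = c * a := by rw [hc]; group
  have h2 : a = c * c * a := by
    have := congrArg D.θ e
    rw [D.θ_θ, D.θ_mul, D.θ_Zc h, e, ← mul_assoc] at this
    exact this
  have hcc : c * c = 1 := mul_right_cancel (a := c * c) (b := a) (c := 1) (by rw [one_mul]; exact h2.symm)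
  have : c = 1 := eq_one_sq_cube hcc (D.Q_exp c (D.Zc_le_Q h))
  rw [e, this, one_mul]

/-- The part centralized by the involution. -/
def Q2 : Subgroup G := D.Q ⊓ centralizer ({(D.t : G)} : Set G)

theorem mem_Q2 {a : G} : a ∈ D.Q2 ↔ a ∈ D.Q ∧ D.θ a = a := by
  rw [Q2, mem_inf, mem_centralizer_singleton_iff, D.θ_eq_iff, eq_comm]

/-- The part inverted by the involution modulo the centre. -/
def Q1 : Subgroup G where
  carrier := {a | a ∈ D.Q ∧ D.θ a * a ∈ D.Zc}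
  one_mem' := ⟨one_mem _, by simp [θ]⟩
  mul_mem' := by
    rintro a b ⟨ha, ha'⟩ ⟨hb, hb'⟩
    refine ⟨mul_mem ha hb, ?_⟩
    have h1 := D.Q_comm (D.θ b) (D.θ_mem hb) a ha
    have e : D.θ (a * b) * (a * b) =
        D.θ a * ((D.θ b * a * (D.θ b)⁻¹ * a⁻¹) * (a * (D.θ b * b))) := by
      rw [D.θ_mul]; group
    rw [e, ← mul_assoc, D.comm_Zc (x := D.θ a) (D.mem_Ct.1 (D.Q_le_Ct (D.θ_mem ha))) h1, mul_assoc,
      ← mul_assoc (D.θ a) a]
    exact mul_mem h1 (mul_mem ha' hb')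
  inv_mem' := by
    rintro a ⟨ha, ha'⟩
    refine ⟨inv_mem ha, ?_⟩
    have e : D.θ a⁻¹ * a⁻¹ = a * (D.θ a * a)⁻¹ * a⁻¹ := by rw [D.θ_inv]; group
    rw [e, D.conj_Zc (D.Q_le_Ct ha) (inv_mem ha')]
    exact inv_mem ha'

theorem mem_Q1 {a : G} : a ∈ D.Q1 ↔ a ∈ D.Q ∧ D.θ a * a ∈ D.Zc := Iff.rfl

theorem Q1_le : D.Q1 ≤ D.Q := fun _ h => h.1

theorem Q2_le : D.Q2 ≤ D.Q := inf_le_left

theorem Zc_le_Q2 : D.Zc ≤ D.Q2 := fun _ h => D.mem_Q2.2 ⟨D.Zc_le_Q h, D.θ_Zc h⟩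

theorem Zc_le_Q1 : D.Zc ≤ D.Q1 := fun c h => ⟨D.Zc_le_Q h, by rw [D.θ_Zc h]; exact mul_mem h h⟩

theorem sq_mem {a : G} (ha : a ∈ D.Q) (h : a * a ∈ D.Zc) : a ∈ D.Zc := by
  have e : a = (a * a)⁻¹ := eq_inv_of_mul_eq_one_right (D.cube ha)
  rw [e]; exact inv_mem h

theorem Q1_inf_Q2 : D.Q1 ⊓ D.Q2 = D.Zc := by
  refine le_antisymm (fun a ha => ?_) (le_inf D.Zc_le_Q1 D.Zc_le_Q2)
  obtain ⟨⟨hq, h1⟩, h2⟩ := ha
  rw [(D.mem_Q2.1 h2).2] at h1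
  exact D.sq_mem hq h1

theorem Q1_comm_Q2 {a b : G} (ha : a ∈ D.Q1) (hb : b ∈ D.Q2) : a * b = b * a := by
  have hc := D.Q_comm a ha.1 b (D.Q2_le hb)
  obtain ⟨c, hcd⟩ : ∃ c, c = a * b * a⁻¹ * b⁻¹ := ⟨_, rfl⟩
  rw [← hcd] at hc
  have e : D.θ a = (D.θ a * a) * a⁻¹ := by group
  have h : c = a⁻¹ * b * a * b⁻¹ := by
    have : D.θ c = D.θ a * b * (D.θ a)⁻¹ * b⁻¹ := by
      rw [hcd, D.θ_mul, D.θ_mul, D.θ_mul, D.θ_inv, D.θ_inv, (D.mem_Q2.1 hb).2]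
    rw [D.θ_Zc hc, e] at this
    have hw := ha.2
    set w := D.θ a * a with hwd
    calc c = w * a⁻¹ * b * (w * a⁻¹)⁻¹ * b⁻¹ := this
      _ = w * (a⁻¹ * b * a) * w⁻¹ * b⁻¹ := by group
      _ = a⁻¹ * b * a * b⁻¹ := by
        rw [← D.comm_Zc (x := a⁻¹ * b * a) (D.mem_Ct.1 (mul_mem (mul_mem (inv_mem (D.Q_le_Ct ha.1))
          (D.Q_le_Ct (D.Q2_le hb))) (D.Q_le_Ct ha.1))) hw]
        group
  have hc1 : c * c = 1 := by
    calc c * c = a⁻¹ * b * a * b⁻¹ * c := by rw [← h]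
      _ = a⁻¹ * (b * a * b⁻¹) * c := by group
      _ = a⁻¹ * c * (b * a * b⁻¹) := by
        rw [mul_assoc a⁻¹, D.comm_Zc (x := b * a * b⁻¹) (D.mem_Ct.1 (mul_mem (mul_mem (D.Q_le_Ct (D.Q2_le hb))
          (D.Q_le_Ct ha.1)) (inv_mem (D.Q_le_Ct (D.Q2_le hb))))) hc, ← mul_assoc]
      _ = 1 := by rw [hcd]; group
  exact mul_inv_eq_iff_eq_mul.1 (mul_inv_eq_one.1 (hcd ▸ eq_one_sq_cube hc1 (D.Q_exp c (D.Zc_le_Q hc))))

theorem exists_decomp {a : G} (ha : a ∈ D.Q) : ∃ b ∈ D.Q1, ∃ c ∈ D.Q2, a = b * c := by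
  have hb : a * (D.θ a)⁻¹ ∈ D.Q1 := by
    refine ⟨mul_mem ha (inv_mem (D.θ_mem ha)), ?_⟩
    rw [D.θ_mul, D.θ_inv, D.θ_θ]
    have : D.θ a * a⁻¹ * (a * (D.θ a)⁻¹) = 1 := by rw [mul_assoc, inv_mul_cancel_left, mul_inv_cancel]
    rw [this]; exact one_mem _
  have hc : a * D.θ a ∈ D.Q2 := by
    refine D.mem_Q2.2 ⟨mul_mem ha (D.θ_mem ha), D.fix_of_mod (mul_mem ha (D.θ_mem ha)) ?_⟩
    rw [D.θ_mul, D.θ_θ, mul_inv_rev, ← mul_assoc]
    exact D.Q_comm _ (D.θ_mem ha) a ha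
  refine ⟨(a * (D.θ a)⁻¹) ^ 2, pow_mem hb 2, ((a * (D.θ a)⁻¹) ^ 2)⁻¹ * a, ?_, by group⟩
  let A : D.Q := ⟨a, ha⟩
  let T : D.Q := ⟨D.θ a, D.θ_mem ha⟩
  have h : D.pr (((A * T⁻¹) ^ 2)⁻¹ * A) = D.pr ((A * T) ^ 2) := by
    have h3 : D.pr A ^ 3 = 1 := by
      rw [← map_pow, (Subtype.ext (D.Q_exp a ha) : A ^ 3 = 1), map_one]
    letI : CommGroup (D.Q ⧸ D.Zq) := { (inferInstance : Group (D.Q ⧸ D.Zq)) with
      mul_comm := fun x y => by
        obtain ⟨x, rfl⟩ := QuotientGroup.mk'_surjective _ x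
        obtain ⟨y, rfl⟩ := QuotientGroup.mk'_surjective _ y
        exact D.pr_comm x y }
    simp only [map_mul, map_inv, map_pow, mul_pow, inv_pow, mul_inv_rev, inv_inv]
    rw [show (D.pr A ^ 2)⁻¹ = D.pr A from inv_eq_of_mul_eq_one_right (by rw [← pow_succ, h3])]
    rw [mul_comm (D.pr T ^ 2) (D.pr A), mul_assoc, mul_comm (D.pr T ^ 2), ← mul_assoc, pow_two (D.pr A), pow_two]
  have hz : ((((A * T⁻¹) ^ 2)⁻¹ * A * ((A * T) ^ 2)⁻¹ : D.Q) : G) ∈ D.Zc := by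
    rw [← D.pr_one, map_mul, h, map_inv, mul_inv_cancel]
  have := mul_mem (D.Zc_le_Q2 hz) (pow_mem hc 2)
  simpa [A, T] using this

theorem card_mul : Nat.card D.Q1 * Nat.card D.Q2 = 729 := by
  haveI : Finite D.Q := Nat.finite_of_card_ne_zero (by rw [D.Q_card]; norm_num)
  let φ : D.Q1 × D.Q2 →* G := MonoidHom.noncommCoprod D.Q1.subtype D.Q2.subtype fun a b => D.Q1_comm_Q2 a.2 b.2
  have hr : φ.range = D.Q := by
    refine le_antisymm ?_ fun a ha => ?_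
    · rintro _ ⟨⟨a, b⟩, rfl⟩
      exact mul_mem a.2.1 (D.Q2_le b.2)
    · obtain ⟨b, hb, c, hc, rfl⟩ := D.exists_decomp ha
      exact ⟨(⟨b, hb⟩, ⟨c, hc⟩), rfl⟩
  let e : φ.ker ≃ D.Zc :=
    { toFun := fun p => ⟨p.1.1, by
        rw [← D.Q1_inf_Q2]
        refine mem_inf.2 ⟨p.1.1.2, ?_⟩
        have h : (p.1.1 : G) * p.1.2 = 1 := p.2
        have e : (p.1.1 : G) = (p.1.2 : G)⁻¹ := eq_inv_of_mul_eq_one_left h
        rw [e]; exact inv_mem p.1.2.2⟩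
      invFun := fun c => ⟨(⟨c, D.Zc_le_Q1 c.2⟩, ⟨(c : G)⁻¹, inv_mem (D.Zc_le_Q2 c.2)⟩), mul_inv_cancel (c : G)⟩
      left_inv := fun p => by
        refine Subtype.ext (Prod.ext rfl (Subtype.ext ?_))
        exact inv_eq_of_mul_eq_one_right p.2
      right_inv := fun c => rfl }
  have := Subgroup.card_mul_index φ.ker
  rw [Subgroup.index_ker, hr, D.Q_card, Nat.card_congr e, D.card_Zc, Nat.card_prod] at this
  omega

theorem centre_Q1 {a : G} (ha : a ∈ D.Q1) (h : ∀ b ∈ D.Q1, a * b = b * a) : a ∈ D.Zc := by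
  refine D.Q_centre a ha.1 fun x hx => ?_
  obtain ⟨b, hb, c, hc, rfl⟩ := D.exists_decomp hx
  rw [← mul_assoc, h b hb, mul_assoc, D.Q1_comm_Q2 ha hc, mul_assoc]

theorem centre_Q2 {a : G} (ha : a ∈ D.Q2) (h : ∀ b ∈ D.Q2, a * b = b * a) : a ∈ D.Zc := by
  refine D.Q_centre a (D.Q2_le ha) fun x hx => ?_
  obtain ⟨b, hb, c, hc, rfl⟩ := D.exists_decomp hx
  rw [← mul_assoc, ← D.Q1_comm_Q2 hb ha, mul_assoc, h c hc, mul_assoc]

end Base

namespace Setting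

variable (D : Setting G)

theorem card_Q2 : Nat.card D.Q2 = 27 := D.t_fix

theorem card_Q1 : Nat.card D.Q1 = 27 := by
  have := D.card_mul
  rw [D.card_Q2] at this
  omega

end Setting

end CfsgLib.O8T
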