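import Cfsg.Agent.Lib.OEightPlusThree.Complement

/-!
Orders of centralizers and abelian subgroups in the core.
-/

set_option autoImplicit false

namespace CfsgLib.O8T

open Subgroup

universe u

variable {G : Type u} [Group G]

theorem card_sup_comm [Finite G] (A B : Subgroup G) (h : ∀ a ∈ A, ∀ b ∈ B, a * b = b * a) :
    Nat.card A * Nat.card B = Nat.card (A ⊔ B : Subgroup G) * Nat.card (A ⊓ B : Subgroup G) := by
  let φ : A × B →* G := MonoidHom.noncommCoprod A.subtype B.subtype fun a b => h a a.2 b b.2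
  have hr : φ.range = A ⊔ B := (MonoidHom.noncommCoprod_range _ _ _).trans (by rw [range_subtype, range_subtype])
  let e : φ.ker ≃ (A ⊓ B : Subgroup G) :=
    { toFun := fun p => ⟨p.1.1, mem_inf.2 ⟨p.1.1.2, by
        have h : (p.1.1 : G) * p.1.2 = 1 := p.2
        rw [eq_inv_of_mul_eq_one_left h]; exact inv_mem p.1.2.2⟩⟩
      invFun := fun c => ⟨(⟨c, c.2.1⟩, ⟨(c : G)⁻¹, inv_mem c.2.2⟩), mul_inv_cancel (c : G)⟩
      left_inv := fun p => Subtype.ext (Prod.ext rfl (Subtype.ext (inv_eq_of_mul_eq_one_right p.2)))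
      right_inv := fun c => rfl }
  have := Subgroup.card_mul_index φ.ker
  rw [Subgroup.index_ker, hr, Nat.card_congr e, Nat.card_prod] at this
  rw [← this, mul_comm]

theorem comm_sup {A B : Subgroup G} (hA : ∀ a ∈ A, ∀ b ∈ A, a * b = b * a) (hB : ∀ a ∈ B, ∀ b ∈ B, a * b = b * a)
    (h : ∀ a ∈ A, ∀ b ∈ B, a * b = b * a) : ∀ a ∈ A ⊔ B, ∀ b ∈ A ⊔ B, a * b = b * a := by
  have h1 : A ⊔ B ≤ centralizer (A : Set G) := sup_le
    (fun a ha => mem_centralizer_iff.2 fun b hb => hA b hb a ha)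
    (fun a ha => mem_centralizer_iff.2 fun b hb => h b hb a ha)
  have h2 : A ⊔ B ≤ centralizer (B : Set G) := sup_le
    (fun a ha => mem_centralizer_iff.2 fun b hb => (h a ha b hb).symm)
    (fun a ha => mem_centralizer_iff.2 fun b hb => hB b hb a ha)
  have h3 : A ⊔ B ≤ centralizer ((A ⊔ B : Subgroup G) : Set G) :=
    le_centralizer_iff.1 (sup_le (le_centralizer_iff.1 h1) (le_centralizer_iff.1 h2))
  exact fun a ha b hb => (mem_centralizer_iff.1 (h3 ha) b hb).symm

theorem comm_of_card_nine [Finite G] {T : Subgroup G} (h : Nat.card T = 9) : ∀ a ∈ T, ∀ b ∈ T, a * b = b * a := by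
  haveI : Fact (Nat.Prime 3) := ⟨Nat.prime_three⟩
  have hc := IsPGroup.commutative_of_card_eq_prime_sq (p := 3) (G := T) (by rw [h]; norm_num)
  exact fun a ha b hb => congrArg Subtype.val (hc ⟨a, ha⟩ ⟨b, hb⟩)

namespace Base

variable (D : Base G)

theorem cm_mul {a b q : G} (ha : a ∈ D.Q) (hb : b ∈ D.Q) (hq : q ∈ D.Q) :
    (a * b) * q * (a * b)⁻¹ * q⁻¹ = (a * q * a⁻¹ * q⁻¹) * (b * q * b⁻¹ * q⁻¹) := by
  have h1 := D.Q_comm b hb q hq
  have e : (a * b) * q * (a * b)⁻¹ * q⁻¹ = a * (b * q * b⁻¹ * q⁻¹) * a⁻¹ * (a * q * a⁻¹ * q⁻¹) := by group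
  rw [e, D.conj_Zc (D.Q_le_Ct ha) h1, D.comm_Zc (D.Q_z _ (D.Zc_le_Q (D.Q_comm a ha q hq))) h1]

theorem Q_isP : IsPGroup 3 D.Q := IsPGroup.of_card (n := 5) (by rw [D.Q_card]; norm_num)

theorem card_centQ [Finite G] {q : G} (hq : q ∈ D.Q) (hqz : q ∉ D.Zc) :
    Nat.card (D.Q ⊓ centralizer ({q} : Set G) : Subgroup G) = 81 := by
  let f : D.Q →* G :=
    { toFun := fun a => (a : G) * q * (a : G)⁻¹ * q⁻¹
      map_one' := by simp
      map_mul' := fun a b => D.cm_mul a.2 b.2 hq }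
  have h1 := card_mul_index f.ker
  rw [index_ker, D.Q_card] at h1
  have hr : Nat.card f.range = 3 := by
    have hle : f.range ≤ D.Zc := by rintro _ ⟨a, rfl⟩; exact D.Q_comm a a.2 q hq
    have hd := card_dvd_of_le hle
    rw [D.card_Zc, Nat.dvd_prime Nat.prime_three] at hd
    refine hd.resolve_left fun h => hqz (D.Q_centre q hq fun x hx => ?_)
    have hb : f ⟨x, hx⟩ ∈ (⊥ : Subgroup G) := (eq_bot_of_card_eq _ h) ▸ ⟨_, rfl⟩
    have hb' : x * q * x⁻¹ * q⁻¹ = 1 := hb
    exact (mul_inv_eq_iff_eq_mul.1 (mul_inv_eq_one.1 hb')).symm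
  rw [hr] at h1
  have e : Nat.card f.ker = Nat.card (D.Q ⊓ centralizer ({q} : Set G) : Subgroup G) :=
    Nat.card_congr ⟨fun a => ⟨(a.1 : G), a.1.2, mem_centralizer_singleton_iff.2
      (mul_inv_eq_iff_eq_mul.1 (mul_inv_eq_one.1 (show (a.1 : G) * q * (a.1 : G)⁻¹ * q⁻¹ = 1 from a.2)))⟩,
      fun a => ⟨⟨a, a.2.1⟩, show (a : G) * q * (a : G)⁻¹ * q⁻¹ = 1 by rw [mem_centralizer_singleton_iff.1 a.2.2]; group⟩,
      fun a => rfl, fun a => rfl⟩
  omega

theorem dvd_243 [Finite G] {B : Subgroup G} (hB : B ≤ D.Q) : ∃ n ≤ 5, Nat.card B = 3 ^ n :=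
  (Nat.dvd_prime_pow Nat.prime_three).1 (show Nat.card B ∣ 3 ^ 5 by
    have := card_dvd_of_le hB; rw [D.Q_card] at this; exact this)

/-- Abelian subgroups of the core have order at most 27. -/
theorem abelian_Q [Finite G] {B : Subgroup G} (hB : B ≤ D.Q) (hc : ∀ a ∈ B, ∀ b ∈ B, a * b = b * a) :
    Nat.card B ≤ 27 := by
  by_contra hlt
  obtain ⟨n, hn5, hn⟩ := D.dvd_243 hB
  have h4 : 81 ≤ Nat.card B := by
    interval_cases n <;> omega
  obtain ⟨q, hq, hqB⟩ : ∃ q ∈ D.Q, q ∉ B := by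
    by_contra h
    push Not at h
    have hQ : D.Q ≤ D.Zc := fun q hq => D.Q_centre q hq fun x hx => hc q (h q hq) x (h x hx)
    have := card_le_of_le hQ
    rw [D.Q_card, D.card_Zc] at this
    omega
  have hqz : q ∉ D.Zc := by
    intro hqz
    have hsub : B ⊔ zpowers q ≤ D.Q := sup_le hB (zpowers_le.2 hq)
    obtain ⟨m, hm5, hm⟩ := D.dvd_243 hsub
    have hne : Nat.card B < Nat.card (B ⊔ zpowers q : Subgroup G) :=
      lt_of_le_of_ne (card_le_of_le le_sup_left) fun e => hqB (by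
        rw [eq_of_le_of_card_ge (le_sup_left : B ≤ B ⊔ zpowers q) e.ge]; exact mem_sup_right (mem_zpowers q))
    have he : B ⊔ zpowers q = D.Q := eq_of_le_of_card_ge hsub (by
      rw [D.Q_card, hm]
      have : 5 ≤ m := by
        by_contra h
        have := Nat.pow_le_pow_right (show 0 < 3 by norm_num) (show m ≤ 4 by omega)
        omega
      exact Nat.pow_le_pow_right (show 0 < 3 by norm_num) this)
    have hQ : D.Q ≤ D.Zc := fun a ha => D.Q_centre a ha fun b hb => by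
      have hle : B ⊔ zpowers q ≤ centralizer ((B : Set G)) := sup_le
        (fun u hu => mem_centralizer_iff.2 fun v hv => hc v hv u hu)
        (zpowers_le.2 (mem_centralizer_iff.2 fun v hv => D.comm_Zc (D.Q_z v (hB hv)) hqz))
      have hle2 : B ⊔ zpowers q ≤ centralizer ((B ⊔ zpowers q : Subgroup G) : Set G) := by
        refine le_centralizer_iff.1 (sup_le (le_centralizer_iff.1 hle) (zpowers_le.2 ?_))
        exact mem_centralizer_iff.2 fun v hv => D.comm_Zc (D.Q_z v (hsub hv)) hqz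
      exact (mem_centralizer_iff.1 (hle2 (he.ge ha)) b (he.ge hb)).symm
    have := card_le_of_le hQ
    rw [D.Q_card, D.card_Zc] at this
    omega
  -- the elements of `B` centralizing `q` are central
  have hC : B ⊓ centralizer ({q} : Set G) ≤ D.Zc := by
    intro b hb
    refine D.Q_centre b (hB hb.1) fun x hx => ?_
    have hle : B ⊔ zpowers q ≤ centralizer ({b} : Set G) := sup_le
      (fun u hu => mem_centralizer_singleton_iff.2 (hc u hu b hb.1))
      (zpowers_le.2 (mem_centralizer_singleton_iff.2 (mem_centralizer_singleton_iff.1 hb.2).symm))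
    have hsub : B ⊔ zpowers q ≤ D.Q := sup_le hB (zpowers_le.2 hq)
    obtain ⟨m, hm5, hm⟩ := D.dvd_243 hsub
    have hne : Nat.card B < Nat.card (B ⊔ zpowers q : Subgroup G) :=
      lt_of_le_of_ne (card_le_of_le le_sup_left) fun e => hqB (by
        rw [eq_of_le_of_card_ge (le_sup_left : B ≤ B ⊔ zpowers q) e.ge]; exact mem_sup_right (mem_zpowers q))
    have he : B ⊔ zpowers q = D.Q := eq_of_le_of_card_ge hsub (by
      rw [D.Q_card, hm]
      have : 5 ≤ m := by
        by_contra h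
        have := Nat.pow_le_pow_right (show 0 < 3 by norm_num) (show m ≤ 4 by omega)
        omega
      exact Nat.pow_le_pow_right (show 0 < 3 by norm_num) this)
    exact (mem_centralizer_singleton_iff.1 (hle (he.ge hx))).symm
  let f : B →* G :=
    { toFun := fun a => (a : G) * q * (a : G)⁻¹ * q⁻¹
      map_one' := by simp
      map_mul' := fun a b => D.cm_mul (hB a.2) (hB b.2) hq }
  have h1 := card_mul_index f.ker
  rw [index_ker] at h1
  have hr : Nat.card f.range ≤ 3 := by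
    rw [← D.card_Zc]
    exact card_le_of_le (by rintro _ ⟨a, rfl⟩; exact D.Q_comm a (hB a.2) q hq)
  have hk : Nat.card f.ker ≤ 3 := by
    rw [← D.card_Zc]
    refine le_trans (le_of_eq ?_) (card_le_of_le hC)
    exact Nat.card_congr ⟨fun a => ⟨(a.1 : G), a.1.2, mem_centralizer_singleton_iff.2
      (mul_inv_eq_iff_eq_mul.1 (mul_inv_eq_one.1 (show (a.1 : G) * q * (a.1 : G)⁻¹ * q⁻¹ = 1 from a.2)))⟩,
      fun a => ⟨⟨a, a.2.1⟩, show (a : G) * q * (a : G)⁻¹ * q⁻¹ = 1 by rw [mem_centralizer_singleton_iff.1 a.2.2]; group⟩,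
      fun a => rfl, fun a => rfl⟩
  have := Nat.mul_le_mul hk hr
  omega

theorem three_SX {P : Subgroup SX} (hP : IsPGroup 3 P) : Nat.card P ≤ 3 := by
  obtain ⟨n, hn⟩ := IsPGroup.iff_card.1 hP
  have hd : Nat.card P ∣ 48 := by
    have h : Nat.card SX = 48 := by rw [Nat.card_eq_fintype_card]; decide +kernel
    exact h ▸ card_subgroup_dvd_card P
  rw [hn] at hd ⊢
  by_contra h
  have h2 : 2 ≤ n := by
    by_contra h2
    exact h (le_trans (Nat.pow_le_pow_right (by norm_num) (show n ≤ 1 by omega)) le_rfl)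
  have := (pow_dvd_pow 3 h2).trans hd
  norm_num at this

theorem inter_index [Finite G] {P : Subgroup G} (hP : IsPGroup 3 P) (hPz : P ≤ D.Ct) :
    Nat.card P ≤ 3 * Nat.card (P ⊓ D.Q : Subgroup G) := by
  let f : P →* SX := D.ψ.comp (inclusion hPz)
  have h1 := card_mul_index f.ker
  rw [index_ker] at h1
  have hk : Nat.card f.ker = Nat.card (P ⊓ D.Q : Subgroup G) :=
    Nat.card_congr ⟨fun a => ⟨(a.1 : G), a.1.2, (D.ψ_ker _).1 a.2⟩,
      fun a => ⟨⟨a, a.2.1⟩, (D.ψ_ker _).2 a.2.2⟩, fun a => rfl, fun a => rfl⟩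
  have hr : Nat.card f.range ≤ 3 := three_SX (hP.of_surjective f.rangeRestrict f.rangeRestrict_surjective)
  rw [← h1, hk, mul_comm 3]
  exact Nat.mul_le_mul_left _ hr

/-- The commutator of two elements of a three-group centralizing `z` is in the core. -/
theorem comm_mem_Q [Finite G] {P : Subgroup G} (hP : IsPGroup 3 P) (hPz : P ≤ D.Ct) {a b : G} (ha : a ∈ P)
    (hb : b ∈ P) : a * b * a⁻¹ * b⁻¹ ∈ D.Q := by
  let f : P →* SX := D.ψ.comp (inclusion hPz)
  have hcard : Nat.card f.range ≤ 3 := three_SX (hP.of_surjective f.rangeRestrict f.rangeRestrict_surjective)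
  have hcomm : ∀ u v : f.range, u * v = v * u := by
    haveI : Fact (Nat.Prime 3) := ⟨Nat.prime_three⟩
    obtain ⟨n, hn⟩ := IsPGroup.iff_card.1 (hP.of_surjective f.rangeRestrict f.rangeRestrict_surjective)
    have : n ≤ 1 := by
      by_contra h
      have := Nat.pow_le_pow_right (show 0 < 3 by norm_num) (show 2 ≤ n by omega)
      omega
    interval_cases n
    · intro u v
      haveI := (Nat.card_eq_one_iff_unique.1 hn).1
      exact Subsingleton.elim _ _
    · haveI := isCyclic_of_prime_card (α := f.range) (p := 3) (by rw [hn, pow_one])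
      exact fun u v => (IsCyclic.commGroup (α := f.range)).mul_comm u v
  have e : f ⟨a, ha⟩ * f ⟨b, hb⟩ = f ⟨b, hb⟩ * f ⟨a, ha⟩ :=
    congrArg Subtype.val (hcomm ⟨f ⟨a, ha⟩, _, rfl⟩ ⟨f ⟨b, hb⟩, _, rfl⟩)
  have hk : f (⟨a, ha⟩ * ⟨b, hb⟩ * (⟨a, ha⟩ : P)⁻¹ * (⟨b, hb⟩ : P)⁻¹) = 1 := by
    rw [map_mul, map_mul, map_mul, map_inv, map_inv, e]; group
  exact (D.ψ_ker _).1 hk

end Base

end CfsgLib.O8T
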