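import Cfsg.Agent.Lib.OEightPlusThree.CoverData

/-!
The spaces of states free of single components and covered by their stabilizers are fixed spaces of involutions.
-/

set_option autoImplicit false
set_option synthInstance.maxSize 4096
set_option maxRecDepth 8000

namespace CfsgLib.O8T

theorem rList_lt : ∀ x ∈ rList, x < 256 := by decide +kernel

theorem itL_gs {T : ℕ} {f : Fin 256 → Fin 256} (h : ∀ s : Fin 256, lk T s.val = (f s).val) :
    ∀ (n : ℕ) (s : Fin 256), itL T n s.val = (itS f n s).val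
  | 0, _ => rfl
  | n + 1, s => by rw [itL, itL_gs h n s, h]; rfl

theorem getD_zip {α β : Type} (l : List α) (m : List β) (a : α) (b : β) {i : ℕ} (h : i < l.length) (h' : i < m.length) :
    (l.getD i a, m.getD i b) ∈ l.zip m := by
  rw [List.getD_eq_getElem _ _ h, List.getD_eq_getElem _ _ h']
  exact List.mem_iff_getElem.2 ⟨i, by rw [List.length_zip]; omega, by rw [List.getElem_zip]⟩

/-- Every map of the even part has its tables in the list. -/
theorem evF_tab {q : V4 × Fin 2 × Fin 2 × Fin 3} (hc : app pT q.1 = q.1) :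
    ∃ p ∈ allT, ∀ s : Fin 256, act2 p s.val = (evF q s).val := by
  obtain ⟨hcov, hcov', hlc, hlt, hli, hlf, -⟩ := tab_cover
  obtain ⟨i, hi⟩ := hcov q.1 hc
  obtain ⟨j, hj⟩ := hcov' q.2
  have h1 := getD_zip cList TTab 0 0 (i := i.val) (by rw [hlc]; exact i.isLt) (by rw [hlt]; exact i.isLt)
  have h2 := getD_zip ijlList FTab (0, 0, 0) 0 (i := j.val) (by rw [hli]; exact j.isLt) (by rw [hlf]; exact j.isLt)
  rw [hi] at h1
  rw [hj] at h2
  refine ⟨(TTab.getD i.val 0, FTab.getD j.val 0), ?_, fun s => ?_⟩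
  · exact List.mem_flatMap.2 ⟨_, (List.of_mem_zip h1).2, List.mem_map.2 ⟨_, (List.of_mem_zip h2).2, rfl⟩⟩
  obtain ⟨g0, g2, g3, gb⟩ := tab_gen
  have k0 := fun s => beq_iff_eq.1 (List.all_eq_true.1 g0 s (List.mem_finRange s))
  have k2 := fun s => beq_iff_eq.1 (List.all_eq_true.1 g2 s (List.mem_finRange s))
  have k3 := fun s => beq_iff_eq.1 (List.all_eq_true.1 g3 s (List.mem_finRange s))
  have kb := fun s => beq_iff_eq.1 (List.all_eq_true.1 gb s (List.mem_finRange s))
  have hF := List.all_eq_true.1 (List.all_eq_true.1 tab_fix _ h2) s.val (List.mem_range.2 s.isLt)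
  simp only [forceN_eq, beq_iff_eq] at hF
  rw [itL_gs kb, itL_gs k3, itL_gs k2, itL_gs k0] at hF
  have hT := fun r : Fin 256 => beq_iff_eq.1 (List.all_eq_true.1 (List.all_eq_true.1 tab_tr _ h1) r (List.mem_finRange r))
  obtain ⟨c, i', j', l⟩ := q
  show lk (TTab.getD i.val 0) (lk (FTab.getD j.val 0) s.val) = _
  rw [hF]
  exact hT _

/-- A map fixing the given states. -/
def FixQ (P : Fin 256 → Prop) (q : V4 × Fin 2 × Fin 2 × Fin 3) : Prop :=
  app pT q.1 = q.1 ∧ ∀ s, P s → evF q s = s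

/-- The conclusion of the search. -/
def Concl (P : Fin 256 → Prop) : Prop :=
  ∃ (g : Fin 256 → Fin 256) (k a b : Fin 4), a ≠ 0 ∧ b ≠ 0 ∧ a ≠ b ∧
    (∀ q, FixQ P q → (∀ l c, c ≠ 0 → evF q (e1 l c) = e1 l c) ∨ ∀ s, evF q s = g s) ∧
    (∀ s, g s = s → P s) ∧
    ∀ q, FixQ P q → ¬ P (sx (e1 k a) (evF q 85)) ∧ ¬ P (sx (e1 k b) (evF q 85))

theorem srch_sound (P : Fin 256 → Prop) (h0 : P 0) (hcl : ∀ s r, P s → P r → P (sx s r))
    (hR : ∀ k a, a ≠ 0 → ¬ P (e1 k a))
    (hcov : ∀ k a, a ≠ 0 → ∃ q, FixQ P q ∧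
      ((evF q (e1 k a) ≠ e1 k a ∧ P (sx (e1 k a) (evF q (e1 k a)))) ∨ P (sx (e1 k a) (evF q 85)))) :
    ∀ (n : ℕ) (L : List ℕ) (st : List (ℕ × ℕ)), srch n L st = true → (∀ v ∈ L, ∃ s : Fin 256, s.val = v ∧ P s) →
      (∀ q, FixQ P q → ∃ p ∈ st, ∀ s : Fin 256, act2 p s.val = (evF q s).val) → Concl P := by
  obtain ⟨-, -, -, -, -, -, hr, hr1, hb, hx⟩ := tab_cover
  intro n
  induction n with
  | zero => intro L st h; simp [srch] at h
  | succ n ih =>
    intro L st h hL hst
    rw [srch] at h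
    split at h
    · clear ih
      rename_i heq
      simp only [leafOK, List.any_eq_true, Bool.and_eq_true, List.all_eq_true, Bool.or_eq_true, beq_iff_eq,
        List.mem_range, Bool.not_eq_true', pureOne] at h
      obtain ⟨g, -, ⟨hall, hfix⟩, k, hk, ⟨ha1, ha2⟩, hb1, hb2⟩ := h
      obtain ⟨k, rfl⟩ : ∃ k' : Fin 4, k'.val = k := ⟨⟨k, hk⟩, rfl⟩
      have hcase : ∀ q, FixQ P q → (evF q 85 = 85 ∧ ∀ l c, c ≠ 0 → evF q (e1 l c) = e1 l c) ∨
          ∀ s, (evF q s).val = act2 g s.val := fun q hq => by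
        obtain ⟨p, hp, hps⟩ := hst q hq
        rcases hall p hp with e | ⟨e85, e⟩
        · exact .inr fun s => by rw [← hps, e]
        · exact .inl ⟨Fin.ext (by rw [← hps]; exact e85),
            fun l c hc => Fin.ext (by rw [← hps]; exact e _ (hr l c hc))⟩
      obtain ⟨q0, hq0, hg0⟩ : ∃ q, FixQ P q ∧ ∀ s, (evF q s).val = act2 g s.val := by
        by_contra hne
        push_neg at hne
        have hid : ∀ q, FixQ P q → evF q 85 = 85 ∧ ∀ l c, c ≠ 0 → evF q (e1 l c) = e1 l c := fun q hq => by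
          rcases hcase q hq with e | e
          · exact e
          · obtain ⟨s, hs⟩ := hne q hq; exact absurd (e s) hs
        have hy : ∀ a, a ≠ 0 → P (sx (e1 0 a) 85) := fun a ha => by
          obtain ⟨q, hq, hc⟩ := hcov 0 a ha
          rcases hc with ⟨hne', -⟩ | hc
          · exact absurd ((hid q hq).2 0 a ha) hne'
          · rwa [(hid q hq).1] at hc
        have h12 := hcl _ _ (hy 1 (by decide)) (hy 2 (by decide))
        have e : sx (sx (e1 0 1) 85) (sx (e1 0 2) 85) = e1 0 3 := by decide +kernel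
        exact hR 0 3 (by decide) (e ▸ h12)
      have hPg : ∀ s, P s → act2 g s.val = s.val := fun s hs => by rw [← hg0, hq0.2 s hs]
      have hgP : ∀ s : Fin 256, act2 g s.val = s.val → P s := fun s hs => by
        rcases hfix s.val s.isLt with e | e
        · rw [hs] at e; simp at e
        · obtain ⟨e', he', heq'⟩ := List.any_eq_true.1 e
          obtain ⟨r, hr', hrP⟩ := hL e' he'
          obtain rfl : r = s := Fin.ext (hr'.trans (beq_iff_eq.1 heq'))
          exact hrP
      have hnot : ∀ x : Fin 256, nMem L (x.val ^^^ 85) = false → nMem L (x.val ^^^ act2 g 85) = false →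
          ∀ q, FixQ P q → ¬ P (sx x (evF q 85)) := by
        intro x hx1 hx2 q hq hP
        have hmem : ∀ s : Fin 256, P s → nMem L s.val = true := fun s hs => by
          rcases hfix s.val s.isLt with e | e
          · rw [hPg s hs] at e; simp at e
          · exact e
        have := hmem _ hP
        rw [hx] at this
        rcases hcase q hq with ⟨e, -⟩ | e
        · rw [e, show ((85 : Fin 256) : ℕ) = 85 from rfl, hx1] at this; exact Bool.false_ne_true this
        · rw [e, show ((85 : Fin 256) : ℕ) = 85 from rfl, hx2] at this; exact Bool.false_ne_true this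
      refine ⟨fun s => ⟨act2 g s.val % 256, Nat.mod_lt _ (by norm_num)⟩, k, 1, 2, by decide, by decide, by decide,
        fun q hq => (hcase q hq).imp And.right fun e s => Fin.ext (by
          show _ = act2 g s.val % 256
          rw [← e, Nat.mod_eq_of_lt (evF q s).isLt]),
        fun s hs => hgP s ?_, fun q hq => ⟨hnot _ ((hb k).1.symm ▸ ha1) ((hb k).1.symm ▸ ha2) q hq,
          hnot _ ((hb k).2.symm ▸ hb1) ((hb k).2.symm ▸ hb2) q hq⟩⟩
      have h1 : act2 g s.val % 256 = s.val := congrArg Fin.val hs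
      rwa [← hg0, Nat.mod_eq_of_lt (evF q0 s).isLt, hg0] at h1
    · rename_i x heq
      have hxm := List.mem_of_find?_eq_some heq
      obtain ⟨k, a, ha, hka⟩ := one_forms.1 ⟨x, rList_lt x hxm⟩ (hr1 ⟨x, rList_lt x hxm⟩ hxm)
      have hxv : x = (e1 k a).val := congrArg Fin.val hka
      obtain ⟨q, hq, hc⟩ := hcov k a ha
      obtain ⟨p, hp, hps⟩ := hst q hq
      obtain ⟨v, hv, hvm⟩ : ∃ v : Fin 256, P (sx (e1 k a) v) ∧ v.val ∈ partners st x := by
        rcases hc with ⟨hne, hP⟩ | hP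
        · refine ⟨_, hP, List.mem_append_left _ (List.mem_filter.2 ⟨List.mem_map.2 ⟨p, hp, by rw [hxv, hps]⟩, ?_⟩)⟩
          simp only [Bool.not_eq_true', beq_eq_false_iff_ne, ne_eq]
          rw [hxv]
          exact fun e => hne (Fin.ext e)
        · exact ⟨_, hP, List.mem_append_right _ (List.mem_map.2 ⟨p, hp, hps 85⟩)⟩
      rw [forceL_eq] at h
      have hq' := List.all_eq_true.1 h v.val (mem_distN _ _ _ (.inl hvm))
      simp only [forceN_eq, forceL_eq, forceP_eq] at hq'
      set w := sx (e1 k a) v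
      have hw : x ^^^ v.val = w.val := by rw [hxv, hx]
      rw [hw, Bool.or_eq_true] at hq'
      have hL' : ∀ u ∈ clo L w.val, ∃ s : Fin 256, s.val = u ∧ P s := fun u hu => by
        rcases List.mem_append.1 hu with hu | hu
        · exact hL u hu
        · obtain ⟨e, he, rfl⟩ := List.mem_map.1 hu
          obtain ⟨r, rfl, hrP⟩ := hL e he
          exact ⟨sx r w, hx r w, hcl _ _ hrP hv⟩
      rcases hq' with hf | hs
      · exfalso
        rw [Bool.not_eq_true', rFree, List.all_eq_false] at hf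
        obtain ⟨r, hr', hrm⟩ := hf
        simp only [Bool.not_eq_true', Bool.not_eq_false] at hrm
        obtain ⟨e, he, he'⟩ := List.any_eq_true.1 hrm
        obtain ⟨s, hsv, hsP⟩ := hL' e he
        obtain ⟨k', a', ha', hka'⟩ := one_forms.1 s (hr1 s ((hsv.trans (beq_iff_eq.1 he')).symm ▸ hr'))
        exact hR k' a' ha' (hka' ▸ hsP)
      · refine ih _ _ hs hL' fun q' hq' => ?_
        obtain ⟨p', hp', hps'⟩ := hst q' hq'
        exact ⟨p', List.mem_filter.2 ⟨hp', beq_iff_eq.2 (by rw [hps', hq'.2 w hv])⟩, hps'⟩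

/-- A covered space free of single components. -/
theorem cover_concl (P : Fin 256 → Prop) (h0 : P 0) (hcl : ∀ s r, P s → P r → P (sx s r))
    (hR : ∀ k a, a ≠ 0 → ¬ P (e1 k a))
    (hcov : ∀ k a, a ≠ 0 → ∃ q, FixQ P q ∧
      ((evF q (e1 k a) ≠ e1 k a ∧ P (sx (e1 k a) (evF q (e1 k a)))) ∨ P (sx (e1 k a) (evF q 85)))) :
    Concl P := by
  have h := srch_ok
  rw [forceP_eq] at h
  refine srch_sound P h0 hcl hR hcov 8 [0] allT h (fun v hv => ?_) fun q hq => evF_tab hq.1
  rw [List.mem_singleton] at hv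
  exact ⟨0, hv.symm, h0⟩

end CfsgLib.O8T
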