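import Cfsg.Agent.Lib.OEightPlusThree.CentA
import Cfsg.Agent.Lib.OEightPlusThree.CoverFin

/-!
The centralizer of `t` is `K₀`: a conjugate of a translate of `x₀` outside would have a covered space of fixed states.
-/

set_option autoImplicit false
set_option synthInstance.maxSize 4096
set_option maxRecDepth 8000

namespace CfsgLib.O8T

open Subgroup

universe u

/-- Three translates of `x₀` adding up to a single component. -/
def yTriples : List (ℕ × List ℕ) :=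
  [(1, [85, 169, 253]), (2, [94, 166, 250]), (3, [91, 175, 247]), (4, [85, 166, 247]), (8, [91, 169, 250]),
   (12, [94, 175, 253]), (16, [85, 154, 223]), (32, [103, 169, 238]), (48, [118, 187, 253]), (64, [85, 106, 127]),
   (128, [151, 169, 190]), (192, [214, 235, 253])]

theorem y_span : ∀ k a : Fin 4, a ≠ 0 → ∃ y1 y2 y3 : Fin 256,
    [y1.val, y2.val, y3.val] = ((yTriples.find? fun p => p.1 == (e1 k a).val).map Prod.snd).getD [] ∧
    yb y1 = true ∧ yb y2 = true ∧ yb y3 = true ∧ sx (sx y1 y2) y3 = e1 k a := by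
  have h : ∀ k a : Fin 4, a ≠ 0 →
      (let l := ((yTriples.find? fun p => p.1 == (e1 k a).val).map Prod.snd).getD []
       let y : ℕ → Fin 256 := fun n => ⟨l.getD n 0 % 256, Nat.mod_lt _ (by norm_num)⟩
       [(y 0).val, (y 1).val, (y 2).val] = l ∧ yb (y 0) = true ∧ yb (y 1) = true ∧ yb (y 2) = true ∧
         sx (sx (y 0) (y 1)) (y 2) = e1 k a) := by decide +kernel
  exact fun k a ha => ⟨_, _, _, h k a ha⟩

theorem y_to_base : ∀ γ : V4, app pT γ = γ → ∃ δ : V4, app pT δ = δ ∧ tr δ (tr γ 85) = 85 := by decide +kernel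

theorem coset_mat : ∀ i j : Fin 2, ∀ l : Fin 3, ∀ p : Fin 2,
    (comp (comp (matIx ((evI i j).1, (evI i j).2.1, (evI i j).2.2, l, 0)) (powM pT p.val))
        (comp (matIx ((evI i j).1, (evI i j).2.1, (evI i j).2.2, l, 0)) (powM pT p.val)) = idM ∨
      comp (comp (matIx ((evI i j).1, (evI i j).2.1, (evI i j).2.2, l, 0)) (powM pT p.val))
        (comp (matIx ((evI i j).1, (evI i j).2.1, (evI i j).2.2, l, 0)) (powM pT p.val)) = pT) → l = 0 := by
  decide +kernel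

theorem half_vec : (∀ (M : M4) (c : V4), app M (-c) = -app M c) ∧
    (∀ c d : V4, c + d = 0 → -c + -(-d) = c) ∧ (∀ c : V4, c + c = 0 → c = 0) := by
  refine ⟨fun M c => eq_neg_of_add_eq_zero_left (by rw [← app_add, neg_add_cancel]; simp [app]), fun c d h => ?_,
    double_eq_zero⟩
  have key : ∀ c : V4, -c + -c = c := by decide +kernel
  rw [eq_neg_of_add_eq_zero_right h, neg_neg]
  exact key c

theorem sx_alg : (∀ a b : Fin 256, sx a (sx a b) = b) ∧ (∀ a : Fin 256, sx a 0 = a) ∧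
    (∀ a b : Fin 256, sx a b = sx b a) ∧ (∀ a b c : Fin 256, sx (sx a b) c = sx a (sx b c)) := by
  have k : (∀ a b : Fin 4, dx a (dx a b) = b) ∧ (∀ a : Fin 4, dx a 0 = a) ∧ (∀ a b : Fin 4, dx a b = dx b a) ∧
      (∀ a b c : Fin 4, dx (dx a b) c = dx a (dx b c)) := by decide +kernel
  refine ⟨fun a b => dg_ext fun l => by rw [dg_sx, dg_sx, k.1], fun a => dg_ext fun l => by rw [dg_sx, dg_zero, k.2.1],
    fun a b => dg_ext fun l => by rw [dg_sx, dg_sx, k.2.2.1],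
    fun a b c => dg_ext fun l => by rw [dg_sx, dg_sx, dg_sx, dg_sx, k.2.2.2]⟩

theorem sx_fix {g : Fin 256 → Fin 256} (hg : ∀ a b, g (sx a b) = sx (g a) (g b)) {ν σ σ' ξ ξ' : Fin 256}
    (h : σ' = sx (sx ν (g ν)) σ) (hs : σ = sx ξ (g ξ)) (hs' : σ' = sx ξ' (g ξ')) :
    g (sx ν (sx ξ ξ')) = sx ν (sx ξ ξ') := by
  refine dg_ext fun l => ?_
  have h1 := congrArg (fun s => dg s l) h
  rw [hs, hs'] at h1
  simp only [dg_sx] at h1
  rw [hg, hg, dg_sx, dg_sx, dg_sx, dg_sx]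
  have key : ∀ n gn x gx y gy : Fin 4, dx y gy = dx (dx n gn) (dx x gx) → dx gn (dx gx gy) = dx n (dx x y) := by
    decide +kernel
  exact key _ _ _ _ _ _ h1

variable {G : Type u} [Group G]

namespace Frame

variable [Finite G] (F : Frame G)

theorem sim_sq {a b : G} (h : F.Sim a b) (hb : Commute b F.nT) : a * a = b * b := by
  rcases h with rfl | rfl
  · rfl
  · rw [hb.eq, mul_assoc, ← mul_assoc b F.nT b, hb.eq, mul_assoc F.nT b b, ← mul_assoc, F.nT_sq, one_mul]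

theorem triv_sim {a : G} (h : F.Triv a) : F.Sim a 1 := by
  rcases h with rfl | rfl
  · exact .inl rfl
  · exact .inr (one_mul _).symm

theorem Is.inv {w : G} {s : Fin 256} (h : F.Is w s) : F.Is w⁻¹ s := Is.of_sim F h (by
  rcases F.W_sq (Is.mem F h) with e | e
  · exact .inl (inv_eq_of_mul_eq_one_left e)
  · exact .inr (inv_eq_of_mul_eq_one_left (by
      rw [mul_assoc, ← (F.W_nT (Is.mem F h)).eq, ← mul_assoc, e, F.nT_sq])))

theorem conj_tw {z p : G} (hz : Commute z F.nT) (hp : Commute p F.nT) (h : z * p * z⁻¹ = p⁻¹ * F.nT) :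
    ∀ j : ℕ, z * p ^ j * z⁻¹ = (p ^ j)⁻¹ * F.nT ^ j
  | 0 => by simp
  | j + 1 => by
    rw [show z * p ^ (j + 1) * z⁻¹ = (z * p ^ j * z⁻¹) * (z * p * z⁻¹) by rw [pow_succ]; group, conj_tw hz hp h j, h,
      show (p ^ j)⁻¹ * F.nT ^ j * (p⁻¹ * F.nT) = (p ^ j)⁻¹ * (F.nT ^ j * p⁻¹) * F.nT by group,
      (hp.inv_left.pow_right j).eq.symm, show (p ^ (j + 1))⁻¹ = (p ^ j)⁻¹ * p⁻¹ by rw [pow_succ', mul_inv_rev],
      pow_succ F.nT j]
    group

theorem sim_swap {a b : G} (ha : Commute a F.nT) (hb : Commute b F.nT) (h : F.Sim (a * b * a⁻¹) b) :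
    F.Sim (b * a * b⁻¹) a := by
  rcases h with e | e
  · refine .inl ?_
    rw [mul_inv_eq_iff_eq_mul] at e
    rw [← e, mul_inv_cancel_right]
  · refine .inr ?_
    rw [mul_inv_eq_iff_eq_mul, mul_assoc b, ← ha.eq] at e
    have e' : b * a = a * b * F.nT := by rw [e, ← mul_assoc b a, mul_assoc (b * a), F.nT_sq, mul_one]
    calc b * a * b⁻¹ = a * (b * F.nT) * b⁻¹ := by rw [e']; group
      _ = a * (F.nT * b) * b⁻¹ := by rw [hb.eq]
      _ = a * F.nT := by group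

/-- The dihedral group generated modulo `t` by an element of order four and an involution. -/
theorem dih {C : Subgroup G} {x y : G} (hxC : x ∈ C) (hyC : y ∈ C) (hx : x * x = F.nT) (hy : y * y = 1)
    (hxt : Commute x F.nT) (hyt : Commute y F.nT) :
    ∃ s ∈ C, ¬ F.Triv s ∧ F.Sim (s * x * s⁻¹) x ∧ F.Sim (y * s * y⁻¹) s ∧
      ((∃ h ∈ C, F.Sim (h * x * h⁻¹) (x * s) ∧ F.Sim (h * h) s ∧ F.Sim (y * h * y⁻¹) h⁻¹) ∨
        ∃ d ∈ C, F.Sim (d * y * d⁻¹) (x * s)) := by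
  classical
  obtain ⟨p, hpd⟩ : ∃ p, p = x * y := ⟨_, rfl⟩
  have hpt : Commute p F.nT := hpd ▸ hxt.mul_left hyt
  have hpC : p ∈ C := hpd ▸ mul_mem hxC hyC
  have hxi : x⁻¹ = x * F.nT := inv_eq_of_mul_eq_one_right (by rw [← mul_assoc, hx, F.nT_sq])
  have hyi : y⁻¹ = y := inv_eq_of_mul_eq_one_right hy
  have cx := F.conj_tw hxt hpt (by
    rw [hpd, mul_inv_rev, hyi, show x * (x * y) * x⁻¹ = (x * x) * y * x⁻¹ by group, hx, mul_assoc F.nT,
      (hyt.mul_left hxt.inv_left).eq.symm])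
  have cy := F.conj_tw hyt hpt (by
    rw [hpd, mul_inv_rev, hyi, show y * (x * y) * y = y * x * (y * y) by group, hy, mul_one, hxi, mul_assoc y,
      mul_assoc x, F.nT_sq, mul_one])
  have hex : ∃ n, 0 < n ∧ F.Triv (p ^ n) := ⟨orderOf p, orderOf_pos p, .inl (pow_orderOf_eq_one p)⟩
  obtain ⟨hn0, hnT⟩ := Nat.find_spec hex
  have hmin : ∀ j, 0 < j → j < Nat.find hex → ¬ F.Triv (p ^ j) := fun j h1 h2 h3 => Nat.find_min hex h2 ⟨h1, h3⟩
  rcases Nat.even_or_odd (Nat.find hex) with ⟨m, hm⟩ | ⟨m, hm⟩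
  swap
  · exfalso
    rw [hm] at hnT
    have e : p ^ m * x * (p ^ m)⁻¹ = p ^ (2 * m + 1) * F.nT ^ m * y := by
      have h1 : x * (p ^ m)⁻¹ * x⁻¹ = p ^ m * F.nT ^ m := by
        rw [← conj_inv, cx m, mul_inv_rev, inv_inv, ← inv_pow, F.nT_inv]
        exact ((hpt.pow_left m).pow_right m).eq.symm
      calc p ^ m * x * (p ^ m)⁻¹ = p ^ m * (x * (p ^ m)⁻¹ * x⁻¹) * x := by group
        _ = p ^ m * p ^ m * (F.nT ^ m * x) := by rw [h1]; group
        _ = p ^ (2 * m + 1) * (p⁻¹ * x * F.nT ^ m) := by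
          rw [(hxt.pow_right m).eq.symm]; group
        _ = _ := by
          rw [show p⁻¹ * x = y by rw [hpd, mul_inv_rev, hyi, inv_mul_cancel_right], (hyt.pow_right m).eq]
          group
    have hs : p ^ (2 * m + 1) * F.nT ^ m = 1 ∨ p ^ (2 * m + 1) * F.nT ^ m = F.nT := by
      have hm2 : F.Triv (F.nT ^ m) := by
        rw [F.nT_pow_mod]
        rcases Nat.mod_two_eq_zero_or_one m with h | h <;> rw [h]
        · exact .inl (pow_zero _)
        · exact .inr (pow_one _)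
      exact Triv.mul F hnT hm2
    have sim : F.Sim (p ^ m * x * (p ^ m)⁻¹) y := by
      rcases hs with h | h <;> rw [e, h]
      · exact .inl (one_mul _)
      · exact .inr hyt.eq.symm
    have h2 := F.sim_sq sim hyt
    rw [show p ^ m * x * (p ^ m)⁻¹ * (p ^ m * x * (p ^ m)⁻¹) = p ^ m * (x * x) * (p ^ m)⁻¹ by group, hx,
      (hpt.pow_left m).eq, mul_inv_cancel_right, hy] at h2
    exact F.nT_ne h2
  rw [hm, ← two_mul] at hnT
  have hm0 : 0 < m := by omega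
  have hsim : ∀ j, F.Sim ((p ^ j)⁻¹ * F.nT ^ j) (p ^ j)⁻¹ := fun j => by
    rw [F.nT_pow_mod]
    rcases Nat.mod_two_eq_zero_or_one j with h | h <;> rw [h]
    · exact .inl (by rw [pow_zero, mul_one])
    · exact .inr (by rw [pow_one])
  have hsi : F.Sim (p ^ m)⁻¹ (p ^ m) := by
    rcases hnT with e | e
    · exact .inl (inv_eq_of_mul_eq_one_left (by rw [← pow_add, ← two_mul]; exact e))
    · exact .inr (inv_eq_of_mul_eq_one_left (by
        rw [mul_assoc, ← (hpt.pow_left m).eq, ← mul_assoc, ← pow_add, ← two_mul, e, F.nT_sq]))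
  refine ⟨p ^ m, pow_mem hpC m, hmin m hm0 (by omega), F.sim_swap hxt (hpt.pow_left m) ?_, ?_, ?_⟩
  · rw [cx m]; exact Sim.trans F (hsim m) hsi
  · rw [cy m]; exact Sim.trans F (hsim m) hsi
  rcases Nat.even_or_odd m with ⟨r, hr⟩ | ⟨r, hr⟩
  · refine .inl ⟨(p ^ r)⁻¹, inv_mem (pow_mem hpC r), ?_, ?_, ?_⟩
    · have hrt : Commute (p ^ r) F.nT := hpt.pow_left r
      have h1 : x⁻¹ * (p ^ r)⁻¹ * x = p ^ r * F.nT ^ r := by
        have := congrArg (fun u => x⁻¹ * u * x) (cx r)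
        rw [show x⁻¹ * (x * p ^ r * x⁻¹) * x = p ^ r by group,
          show x⁻¹ * ((p ^ r)⁻¹ * F.nT ^ r) * x = x⁻¹ * (p ^ r)⁻¹ * (F.nT ^ r * x) by group,
          (hxt.pow_right r).eq.symm, ← mul_assoc (x⁻¹ * (p ^ r)⁻¹)] at this
        have h2 : F.nT ^ r * F.nT ^ r = 1 := by rw [← (Commute.refl F.nT).mul_pow, F.nT_sq, one_pow]
        calc x⁻¹ * (p ^ r)⁻¹ * x = x⁻¹ * (p ^ r)⁻¹ * x * F.nT ^ r * F.nT ^ r := by rw [mul_assoc _ (F.nT ^ r), h2, mul_one]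
          _ = p ^ r * F.nT ^ r := by rw [← this]
      rw [inv_inv, show (p ^ r)⁻¹ * x * p ^ r = x * (x⁻¹ * (p ^ r)⁻¹ * x) * p ^ r by group, h1,
        show x * (p ^ r * F.nT ^ r) * p ^ r = x * (p ^ r * (F.nT ^ r * p ^ r)) by group, (hrt.pow_right r).eq.symm,
        ← mul_assoc (p ^ r), ← pow_add, ← hr, ← mul_assoc, F.nT_pow_mod]
      rcases Nat.mod_two_eq_zero_or_one r with h | h <;> rw [h]
      · exact .inl (by rw [pow_zero, mul_one])
      · exact .inr (by rw [pow_one])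
    · rw [← mul_inv_rev, ← pow_add, ← hr]; exact hsi
    · rw [inv_inv, ← conj_inv, cy r, mul_inv_rev, inv_inv, ← inv_pow, F.nT_inv,
        ((hpt.pow_left r).pow_right r).eq.symm, F.nT_pow_mod]
      rcases Nat.mod_two_eq_zero_or_one r with h | h <;> rw [h]
      · exact .inl (by rw [pow_zero, mul_one])
      · exact .inr (by rw [pow_one])
  · refine .inr ⟨(p ^ r)⁻¹, inv_mem (pow_mem hpC r), ?_⟩
    have hrt : Commute (p ^ r) F.nT := hpt.pow_left r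
    have h1 : x⁻¹ * (p ^ r)⁻¹ * x = p ^ r * F.nT ^ r := by
      have := congrArg (fun u => x⁻¹ * u * x) (cx r)
      rw [show x⁻¹ * (x * p ^ r * x⁻¹) * x = p ^ r by group,
        show x⁻¹ * ((p ^ r)⁻¹ * F.nT ^ r) * x = x⁻¹ * (p ^ r)⁻¹ * (F.nT ^ r * x) by group,
        (hxt.pow_right r).eq.symm, ← mul_assoc (x⁻¹ * (p ^ r)⁻¹)] at this
      have h2 : F.nT ^ r * F.nT ^ r = 1 := by rw [← (Commute.refl F.nT).mul_pow, F.nT_sq, one_pow]
      calc x⁻¹ * (p ^ r)⁻¹ * x = x⁻¹ * (p ^ r)⁻¹ * x * F.nT ^ r * F.nT ^ r := by rw [mul_assoc _ (F.nT ^ r), h2, mul_one]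
        _ = p ^ r * F.nT ^ r := by rw [← this]
    have e1 : (p ^ r)⁻¹ * (F.nT * y) * p ^ r = x * p ^ m * F.nT ^ r := by
      have e2 : F.nT * y = x * p := by rw [hpd, ← mul_assoc, hx]
      calc (p ^ r)⁻¹ * (F.nT * y) * p ^ r = x * (x⁻¹ * (p ^ r)⁻¹ * x) * (p * p ^ r) := by rw [e2]; group
        _ = x * p ^ r * (F.nT ^ r * (p * p ^ r)) := by rw [h1]; group
        _ = x * (p ^ r * (p * p ^ r)) * F.nT ^ r := by
          rw [((hpt.mul_left hrt).pow_right r).eq.symm]; group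
        _ = _ := by rw [← pow_succ', ← pow_add, hr]; congr 2; congr 1; omega
    rw [inv_inv]
    have e3 : F.Sim ((p ^ r)⁻¹ * y * p ^ r) ((p ^ r)⁻¹ * (F.nT * y) * p ^ r) := by
      refine Sim.symm F (.inr ?_)
      rw [show (p ^ r)⁻¹ * (F.nT * y) * p ^ r = (p ^ r)⁻¹ * F.nT * (y * p ^ r) by group, hrt.inv_left.eq, mul_assoc,
        ← (hrt.inv_left.mul_left (hyt.mul_left hrt)).eq]
      group
    refine Sim.trans F e3 ?_
    rw [e1, F.nT_pow_mod]
    rcases Nat.mod_two_eq_zero_or_one r with h | h <;> rw [h]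
    · exact .inl (by rw [pow_zero, mul_one])
    · exact .inr (by rw [pow_one])

/-- An involution modulo `t` in an inner coset is conjugate to the representative. -/
theorem coset_sim {x : Fin 2 × Fin 2 × Fin 2} (hx : x ≠ 0) {v : G} (hv : v ∈ F.W)
    (h2 : F.Triv (v * F.npr x * (v * F.npr x))) :
    ∃ a ∈ F.W, F.Sim (v * F.npr x) (a * F.npr x * a⁻¹) := by
  obtain ⟨s, hs⟩ := F.is_exists hv
  have hnT : Commute (F.npr x) F.nT := (F.npr_mv x).1
  have hfix : fIx (x.1, x.2.1, x.2.2, 0, 0) s = s := by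
    refine Is.unique F ((F.npr_mv x).2 v s hs) (Is.inv F hs) ?_
    have e : F.npr x * v * (F.npr x)⁻¹ = v⁻¹ * (v * F.npr x * (v * F.npr x)) := by rw [F.npr_inv]; group
    rw [e]
    rcases h2 with h | h <;> rw [h]
    · exact .inl (mul_one _)
    · exact .inr rfl
  obtain ⟨r, hr⟩ := coboundary x hx s hfix
  obtain ⟨a, ha⟩ := F.st_exists r
  refine ⟨a, Is.mem F ha, ?_⟩
  have hh := hr ▸ Is.mul F ha ((F.npr_mv x).2 _ _ (Is.inv F ha))
  have := Sim.mul F (Is.sim F hs hh) (Sim.refl F (F.npr x)) hnT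
  rwa [show a * (F.npr x * a⁻¹ * (F.npr x)⁻¹) * F.npr x = a * F.npr x * a⁻¹ by group] at this

section Even

variable {F}
variable (E : F.Even)

theorem Even.CN_form {n : G} (h : n ∈ E.K1) (hn : n ∈ F.CN) : ∃ i j l c, app pT c = c ∧ F.Mv n (evF (c, i, j, l)) := by
  obtain ⟨i, j, l, p, hA⟩ := E.form n h hn
  obtain ⟨x', p', c, hc, hA', hm⟩ := F.CN_mv hn
  obtain rfl := matIx_eq (F.act_unique hA' hA)
  exact ⟨i, j, l, c, hc, hm⟩

theorem Even.K01_mv {g : G} (h : g ∈ F.K0) (h1 : g ∈ E.K1) : ∃ q, app pT q.1 = q.1 ∧ F.Mv g (evF q) := by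
  obtain ⟨w, hw, n, hn, rfl⟩ := F.mem_K0 h
  have hn1 : n ∈ E.K1 := by
    have := mul_mem (inv_mem (E.W_le hw)) h1
    rwa [inv_mul_cancel_left] at this
  obtain ⟨i, j, l, c, hc, hm⟩ := E.CN_form hn1 hn
  refine ⟨(c, i, j, l), hc, ?_⟩
  have h2 := Mv.mul F (F.mv_W hw) hm
  exact h2

/-- Involutions modulo `t` of the even part with both lifts of one class lie in `W`. -/
theorem Even.inv_in_W {q : G} (h : q ∈ F.K0) (h1 : q ∈ E.K1)
    (hq : q * q = F.nT ∨ (q * q = 1 ∧ F.Tc q ∧ F.Tc (q * F.nT))) : q ∈ F.W := by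
  obtain ⟨w, hw, n, hn, rfl⟩ := F.mem_K0 h
  have hn1 : n ∈ E.K1 := by
    have := mul_mem (inv_mem (E.W_le hw)) h1
    rwa [inv_mul_cancel_left] at this
  obtain ⟨i, j, l, p, hA⟩ := E.form n hn1 hn
  have hnT : Commute n F.nT := F.mem_Kt.1 hn.2
  have hnn : F.Triv (n * n) := by
    have hnw : n * w * n⁻¹ ∈ F.W := F.W_norm hn.1 hnT hw
    have hq2 : F.Triv (w * n * (w * n)) := by
      rcases hq with h | ⟨h, -⟩ <;> rw [h]
      exacts [.inr rfl, .inl rfl]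
    refine F.W_inf_N ?_ (mul_mem hn.1 hn.1)
    rw [show n * n = (w * (n * w * n⁻¹))⁻¹ * (w * n * (w * n)) by group]
    rcases hq2 with e | e <;> rw [e]
    · exact mul_mem (inv_mem (mul_mem hw hnw)) (one_mem _)
    · exact mul_mem (inv_mem (mul_mem hw hnw)) F.nT_W
  obtain rfl : l = 0 := coset_mat i j l p (by
    rcases hnn with e | e
    · exact .inl (F.act_unique (F.act_mul hA hA) (e ▸ F.act_one))
    · exact .inr (F.act_unique (F.act_mul hA hA) (e ▸ F.lift_nT.1)))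
  have hl : F.Lift (F.npr (evI i j) * F.nT ^ p.val)
      (comp (matIx ((evI i j).1, (evI i j).2.1, (evI i j).2.2, 0, 0)) (powM pT p.val)) :=
    ev_facts.1 (evI i j) p ▸ F.lift_mul (F.npr_lift _) (F.lift_pow F.lift_nT _)
  set n0 := F.npr (evI i j) * F.nT ^ p.val with hn0
  obtain ⟨N', hN'⟩ := F.exists_act (inv_mem (F.mem_N hl.1))
  obtain ⟨c, hc⟩ := F.e_surj (F.mem_J_of_act (n := n * n0⁻¹) (by
    have e : F.Act (n0 * n0⁻¹) idM := by rw [mul_inv_cancel]; exact F.act_one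
    have hI := F.act_unique (F.act_mul hl.1 hN') e
    have h1 := F.act_mul hA hN'
    rw [hI] at h1
    exact h1))
  have hn0T : Commute n0 F.nT := (F.npr_mv _).1.mul_left ((Commute.refl _).pow_left _)
  have hne : n = F.e c * n0 := by rw [hc, inv_mul_cancel_right]
  have hct : app pT c = c := F.e_Jt.1 ⟨F.e_mem c, by
    rw [hc]; exact (mul_mem hn.2 (inv_mem (F.mem_Kt.2 hn0T)) : n * n0⁻¹ ∈ F.Kt)⟩
  set M := comp (matIx ((evI i j).1, (evI i j).2.1, (evI i j).2.2, (0 : Fin 3), (0 : Fin 2))) (powM pT p.val)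
  have k2 : ∀ i j : Fin 2, evI i j + evI i j = 0 := by decide +kernel
  have hcc : c + app M c = 0 := by
    have e1 : n * n = F.e (c + app M c) * (n0 * n0) := by
      rw [hne, F.e_add, ← hl.1 c]; group
    have e2 : F.Triv (n0 * n0) := .inl (by
      rw [hn0, show F.npr (evI i j) * F.nT ^ p.val * (F.npr (evI i j) * F.nT ^ p.val) =
        F.npr (evI i j) * (F.nT ^ p.val * F.npr (evI i j)) * F.nT ^ p.val by group,
        (((F.npr_mv (evI i j)).1).pow_right _).eq.symm, ← mul_assoc, mul_assoc _ (F.nT ^ p.val),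
        ← (Commute.refl F.nT).mul_pow, F.nT_sq, one_pow, mul_one, F.npr_mul,
        k2, F.npr_zero])
    have e3 : F.Triv (F.e (c + app M c)) := by
      have := Triv.mul F hnn (Triv.inv F e2)
      rwa [e1, mul_inv_cancel_right] at this
    have h3 := F.eq_of_triv_sq e3
    have h4 := F.e_cube (c + app M c)
    rw [pow_succ, pow_two, h3, one_mul] at h4
    exact F.e_inj (h4.trans F.e_zero.symm)
  by_cases hij : evI i j = 0
  · have hM : app M c = c := by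
      have key : ∀ p : Fin 2, ∀ c : V4, app pT c = c →
          app (comp (matIx ((0 : Fin 2), (0 : Fin 2), (0 : Fin 2), (0 : Fin 3), (0 : Fin 2))) (powM pT p.val)) c = c := by
        decide +kernel
      simp only [M, hij]
      exact key p c hct
    rw [hM] at hcc
    rw [hne, half_vec.2.2 c hcc, F.e_zero, one_mul, hn0, hij, F.npr_zero, one_mul]
    exact mul_mem hw (pow_mem F.nT_W _)
  exfalso
  obtain ⟨d, hd0⟩ : ∃ d, d = -c := ⟨_, rfl⟩
  have hd : app M d = c := by rw [hd0, half_vec.1, eq_neg_of_add_eq_zero_right hcc, neg_neg]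
  have hdt : app pT d = d := by rw [hd0, half_vec.1, hct]
  have hdd : d + -(app M d) = c := by
    rw [hd, hd0]
    have key : ∀ c : V4, -c + -c = c := by decide +kernel
    exact key c
  have hn' : n = F.e d * n0 * (F.e d)⁻¹ := by
    have e : n = F.e (d + -(app M d)) * n0 := by rw [hdd]; exact hne
    rw [e, F.e_add, F.e_neg, ← hl.1 d]; group
  obtain ⟨v, hv, hve⟩ : ∃ v ∈ F.W, w * n = F.e d * (v * F.npr (evI i j)) * (F.e d)⁻¹ := by
    have hdN : F.e d ∈ F.N := F.J_le_N (F.e_mem d)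
    have hdT : Commute (F.e d) F.nT := (F.nT_fix hdt).symm
    refine ⟨(F.e d)⁻¹ * w * (F.e d)⁻¹⁻¹ * F.nT ^ p.val,
      mul_mem (F.W_norm (inv_mem hdN) hdT.inv_left hw) (pow_mem F.nT_W _), ?_⟩
    have e : n0 = F.nT ^ p.val * F.npr (evI i j) := by rw [hn0, (((F.npr_mv (evI i j)).1).pow_right _).eq]
    rw [hn', e]; group
  have hdH : F.e d ∈ F.Hg := F.e_Hg d
  have hv2 : F.Triv (v * F.npr (evI i j) * (v * F.npr (evI i j))) := by
    have e : v * F.npr (evI i j) * (v * F.npr (evI i j)) = (F.e d)⁻¹ * (w * n * (w * n)) * F.e d := by rw [hve]; group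
    rw [e]
    rcases hq with h | ⟨h, -⟩ <;> rw [h]
    · exact .inr (by rw [mul_assoc, F.nT_fix hdt, ← mul_assoc, inv_mul_cancel, one_mul])
    · exact .inl (by group)
  obtain ⟨a, ha, hsim⟩ := F.coset_sim hij hv hv2
  have hu := (F.ev_class hij).1
  have he := (F.ev_class hij).2
  obtain ⟨b, hbH, hbT, hb⟩ : ∃ b ∈ F.Hg, Commute b F.nT ∧ F.Sim (w * n) (b * F.npr (evI i j) * b⁻¹) := by
    refine ⟨F.e d * a, mul_mem hdH (F.M_le_Hg (F.W_M ha)), (show Commute (F.e d) F.nT from (F.nT_fix hdt).symm).mul_left (F.W_nT ha), ?_⟩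
    rw [hve, show F.e d * a * F.npr (evI i j) * (F.e d * a)⁻¹ = F.e d * (a * F.npr (evI i j) * a⁻¹) * (F.e d)⁻¹ by group]
    exact Sim.conj F hsim (F.nT_fix hdt).symm
  have hsq : w * n * (w * n) = 1 := by
    rw [F.sim_sq hb ((hbT.mul_left (F.npr_mv _).1).mul_left hbT.inv_left),
      show b * F.npr (evI i j) * b⁻¹ * (b * F.npr (evI i j) * b⁻¹) =
        b * (F.npr (evI i j) * F.npr (evI i j)) * b⁻¹ by group, F.npr_mul,
      k2, F.npr_zero, mul_one, mul_inv_cancel]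
  rcases hq with h | ⟨-, hT, hT'⟩
  · exact F.nT_ne (h.symm.trans hsq)
  rcases hb with e | e
  · exact Tc.not_Uc F hT (e ▸ UH.uc F (UH.conj F hu hbH))
  · refine Tc.not_Ec F hT ?_
    rw [e, show b * F.npr (evI i j) * b⁻¹ * F.nT = b * (F.npr (evI i j) * F.nT) * b⁻¹ by
      rw [mul_assoc _ _ F.nT, hbT.inv_left.eq]; group]
    exact EH.ec F (EH.conj F he hbH)

/-- The states fixed by an element. -/
def Pst (F : Frame G) (y : G) (s : Fin 256) : Prop := ∃ w, F.Is w s ∧ F.Sim (y * w * y⁻¹) w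

/-- The part of the even subgroup fixing given states. -/
def Even.fixS (P : Fin 256 → Prop) : Subgroup G where
  carrier := {g | g ∈ E.K1 ∧ ∀ w s, P s → F.Is w s → F.Sim (g * w * g⁻¹) w}
  one_mem' := ⟨one_mem _, fun w _ _ _ => .inl (by group)⟩
  mul_mem' := by
    rintro a b ⟨ha, ea⟩ ⟨hb, eb⟩
    refine ⟨mul_mem ha hb, fun w s hs hw => Sim.trans F ?_ (ea w s hs hw)⟩
    have := Sim.conj F (eb w s hs hw) (F.mem_Kt.1 (E.le ha))
    rwa [show a * b * w * (a * b)⁻¹ = a * (b * w * b⁻¹) * a⁻¹ by group]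
  inv_mem' := by
    rintro a ⟨ha, ea⟩
    refine ⟨inv_mem ha, fun w s hs hw => Sim.symm F ?_⟩
    have := Sim.conj F (ea w s hs hw) (F.mem_Kt.1 (E.le (inv_mem ha)))
    rwa [show a⁻¹ * (a * w * a⁻¹) * a⁻¹⁻¹ = w by group] at this

theorem Even.W_fixS (P : Fin 256 → Prop) : F.W ≤ E.fixS P := fun v hv => ⟨E.W_le hv, fun w s _ hw => by
  rcases F.W_comm hv (Is.mem F hw) with e | e
  · exact .inl (by rw [e, mul_inv_cancel_right])
  · exact .inr (by rw [e, mul_assoc _ F.nT, ← (F.W_nT hv).inv_left.eq]; group)⟩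

theorem Even.fixS_le (P : Fin 256 → Prop) : E.fixS P ≤ F.Kt := fun _ h => E.le h.1

theorem Even.fixS_mv {P : Fin 256 → Prop} {g : G} (h : g ∈ E.fixS P) (h0 : g ∈ F.K0) :
    ∃ q, FixQ P q ∧ F.Mv g (evF q) := by
  obtain ⟨q, hq, hm⟩ := E.K01_mv h0 h.1
  refine ⟨q, ⟨hq, fun s hs => ?_⟩, hm⟩
  obtain ⟨w, hw⟩ := F.st_exists s
  exact Is.unique F (hm.2 w s hw) hw (h.2 w s hs hw)

/-- The main argument, with the translates reached from `y` in one orbit. -/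
theorem Even.core {y : G} (hy1 : y ∈ E.K1) (hy2 : y * y = 1) (hT : F.Tc y) (hT' : F.Tc (y * F.nT))
    (hdata : ∀ w s, F.Is w s → (∃ d ∈ E.fixS (Pst F y), F.Sim (d * y * d⁻¹) w) →
      ∃ q, FixQ (Pst F y) q ∧ evF q 85 = s) : y ∈ F.K0 := by
  by_contra hy0
  have hyt : Commute y F.nT := F.mem_Kt.1 (E.le hy1)
  set P := Pst F y with hPd
  have P0 : P 0 := ⟨1, F.is_one, .inl (by group)⟩
  have Pcl : ∀ s r, P s → P r → P (sx s r) := by
    rintro s r ⟨v, hv, ev⟩ ⟨w, hw, ew⟩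
    refine ⟨v * w, Is.mul F hv hw, ?_⟩
    have := Sim.mul F ev ew (F.W_nT (Is.mem F hw))
    rwa [show y * v * y⁻¹ * (y * w * y⁻¹) = y * (v * w) * y⁻¹ by group] at this
  have PR : ∀ k a, a ≠ 0 → ¬ P (e1 k a) := fun k a ha ⟨w, hw, e⟩ =>
    hy0 (F.cent_one (E.le hy1) (one_forms.2.1 k a ha) hw e)
  have hyC : y ∈ E.fixS P := ⟨hy1, fun w s ⟨v, hv, ev⟩ hw =>
    Sim.trans F (Sim.conj F (Is.sim F hw hv) hyt) (Sim.trans F ev (Is.sim F hv hw))⟩
  -- the data of a single component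
  have hone : ∀ k a, a ≠ 0 → (∃ h ∈ E.fixS P, ∃ σ, P σ ∧ σ ≠ 0 ∧
        F.Is (h * F.rep k a * h⁻¹) (sx (e1 k a) σ) ∧ F.Is (h * h) σ ∧ F.Sim (y * h * y⁻¹) h⁻¹) ∨
      ∃ q, FixQ P q ∧ P (sx (e1 k a) (evF q 85)) := by
    intro k a ha
    have hx := F.is_rep k a
    have hxC : F.rep k a ∈ E.fixS P := E.W_fixS P (Is.mem F hx)
    obtain ⟨s, hsC, hsT, hsx, hsy, hcase⟩ := F.dih hxC hyC (F.rep_sq ha) hy2 (F.rep_nT k a) hyt
    have hsK0 : s ∈ F.K0 := F.cent_one (E.fixS_le P hsC) (one_forms.2.1 k a ha) hx hsx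
    have hqW : F.rep k a * s ∈ F.W := by
      refine E.inv_in_W (mul_mem (F.W_le_K0 (Is.mem F hx)) hsK0) (mul_mem hxC.1 hsC.1) ?_
      have hqT : Commute (F.rep k a * s) F.nT := (F.rep_nT k a).mul_left (F.mem_Kt.1 (E.fixS_le P hsC))
      rcases hcase with ⟨h, hhC, he, -, -⟩ | ⟨d, hdC, he⟩
      · left
        rw [← F.sim_sq he hqT, show h * F.rep k a * h⁻¹ * (h * F.rep k a * h⁻¹) =
          h * (F.rep k a * F.rep k a) * h⁻¹ by group, F.rep_sq ha, (F.mem_Kt.1 (E.fixS_le P hhC)).eq, mul_inv_cancel_right]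
      · refine .inr ⟨?_, ?_⟩
        · rw [← F.sim_sq he hqT, show d * y * d⁻¹ * (d * y * d⁻¹) = d * (y * y) * d⁻¹ by group, hy2, mul_one,
            mul_inv_cancel]
        · have hdT : Commute d F.nT := F.mem_Kt.1 (E.fixS_le P hdC)
          have h1 := Tc.conj F hT d
          have h2 := Tc.conj F hT' d
          rw [show d * (y * F.nT) * d⁻¹ = d * y * d⁻¹ * F.nT by
            rw [mul_assoc _ _ F.nT, hdT.inv_left.eq]; group] at h2
          rcases Sim.symm F he with e | e <;> rw [e]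
          · exact ⟨h1, h2⟩
          · exact ⟨h2, by rw [mul_assoc, F.nT_sq, mul_one]; exact h1⟩
    have hsW : s ∈ F.W := by
      have := mul_mem (inv_mem (Is.mem F hx)) hqW
      rwa [inv_mul_cancel_left] at this
    obtain ⟨σ, hσ⟩ := F.is_exists hsW
    have hPσ : P σ := ⟨s, hσ, hsy⟩
    have hσ0 : σ ≠ 0 := fun e => hsT (Is.zero F (e ▸ hσ))
    have hqS := Is.mul F hx hσ
    rcases hcase with ⟨h, hhC, he, hh, hhy⟩ | ⟨d, hdC, he⟩
    · exact .inl ⟨h, hhC, σ, hPσ, hσ0, Is.of_sim F hqS he, Is.of_sim F hσ hh, hhy⟩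
    · obtain ⟨q, hq, e⟩ := hdata _ _ hqS ⟨d, hdC, he⟩
      refine .inr ⟨q, hq, ?_⟩
      rw [e, sx_alg.1]; exact hPσ
  have hcov : ∀ k a, a ≠ 0 → ∃ q, FixQ P q ∧
      ((evF q (e1 k a) ≠ e1 k a ∧ P (sx (e1 k a) (evF q (e1 k a)))) ∨ P (sx (e1 k a) (evF q 85))) := by
    intro k a ha
    rcases hone k a ha with ⟨h, hhC, σ, hP, hσ0, hh, -, -⟩ | ⟨q, hq, hP⟩
    · obtain ⟨c, hcC, hc0, hc⟩ := F.fuse (E.fixS_le P) (E.W_fixS P) hhC (Is.mem F (F.is_rep k a)) (Is.mem F hh)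
        (Sim.refl F _)
      obtain ⟨q, hq, hm⟩ := E.fixS_mv hcC hc0
      have e : evF q (e1 k a) = sx (e1 k a) σ := Is.unique F (hm.2 _ _ (F.is_rep k a)) hh hc
      refine ⟨q, hq, .inl ⟨fun e' => hσ0 ?_, by rw [e, sx_alg.1]; exact hP⟩⟩
      have h2 := congrArg (sx (e1 k a)) (e.symm.trans e')
      rwa [sx_alg.1, show sx (e1 k a) (e1 k a) = 0 from (one_forms.2.2.2.2.2.2.1 _).2] at h2
    · exact ⟨q, hq, .inr hP⟩
  obtain ⟨g, k, a, b, ha, hb, hab, hS, hgP, hpure⟩ := cover_concl P P0 Pcl PR hcov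
  have hh : ∀ c, c ≠ 0 → (∀ q, FixQ P q → ¬ P (sx (e1 k c) (evF q 85))) → ∃ h σ, h ∈ E.fixS P ∧ h ∈ F.K0 ∧
      F.Mv h g ∧ σ = sx (e1 k c) (g (e1 k c)) ∧ F.Is (h * h) σ ∧ F.Sim (y * h * y⁻¹) h⁻¹ := by
    intro c hc hno
    rcases hone k c hc with ⟨h, hhC, σ, hP, hσ0, hh, hh2, hhy⟩ | ⟨q, hq, hP⟩
    swap
    · exact absurd hP (hno q hq)
    have hx := F.is_rep k c
    obtain ⟨c', hcC, hc0, hc'⟩ := F.fuse (E.fixS_le P) (E.W_fixS P) hhC (Is.mem F hx) (Is.mem F hh) (Sim.refl F _)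
    have hhT := F.mem_Kt.1 (E.fixS_le P hhC)
    have hcT := F.mem_Kt.1 (E.fixS_le P hcC)
    have hh0 : h ∈ F.K0 := by
      have h1 : c'⁻¹ * h ∈ F.K0 := F.cent_one (E.fixS_le P (mul_mem (inv_mem hcC) hhC)) (one_forms.2.1 k c hc) hx (by
        have := Sim.conj F (Sim.symm F hc') hcT.inv_left
        rwa [show c'⁻¹ * (h * F.rep k c * h⁻¹) * c'⁻¹⁻¹ = c'⁻¹ * h * F.rep k c * (c'⁻¹ * h)⁻¹ by group,
          show c'⁻¹ * (c' * F.rep k c * c'⁻¹) * c'⁻¹⁻¹ = F.rep k c by group] at this)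
      have := mul_mem hc0 h1
      rwa [mul_inv_cancel_left] at this
    obtain ⟨q, hq, hm⟩ := E.fixS_mv hhC hh0
    have e : evF q (e1 k c) = sx (e1 k c) σ := Is.unique F (hm.2 _ _ hx) hh (Sim.refl F _)
    rcases hS q hq with hid | hg
    · exfalso
      rw [hid k c hc] at e
      have h2 := congrArg (sx (e1 k c)) e
      rw [sx_alg.1, show sx (e1 k c) (e1 k c) = 0 from (one_forms.2.2.2.2.2.2.1 _).2] at h2
      exact hσ0 h2.symm
    · obtain rfl : g = evF q := (funext hg).symm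
      exact ⟨h, σ, hhC, hh0, hm, by rw [e, sx_alg.1], hh2, hhy⟩
  obtain ⟨h, σ, hhC, hh0, hhg, hσ, hhh, hhy⟩ := hh a ha fun q hq => (hpure q hq).1
  obtain ⟨h', σ', hhC', hh0', hhg', hσ', hhh', hhy'⟩ := hh b hb fun q hq => (hpure q hq).2
  have hhT := F.mem_Kt.1 (E.fixS_le P hhC)
  have hhT' := F.mem_Kt.1 (E.fixS_le P hhC')
  have hvW : h * h'⁻¹ ∈ F.W := by
    obtain ⟨f', hf'⟩ := F.exists_mv (inv_mem (E.fixS_le P hhC')) (inv_mem (F.K0_norm hh0'))
    refine F.CW_le ⟨hhT.mul_left hhT'.inv_left, fun w s hw => ?_⟩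
    have := (Mv.mul F hhg hf').2 w s hw
    simp only [(Mv.inv_of F hhg' hf' s).1] at this ⊢
    exact this
  obtain ⟨ν, hν⟩ := F.is_exists hvW
  have h1 : σ' = sx (sx ν (g ν)) σ := by
    have hvi := Is.inv F hν
    refine Is.unique F hhh' (Is.mul F (Is.mul F hvi (hhg.2 _ _ hvi)) hhh) (.inl ?_)
    group
  have hge : g (sx ν (sx (e1 k a) (e1 k b))) = sx ν (sx (e1 k a) (e1 k b)) := sx_fix (Mv.sx F hhg) h1 hσ hσ'
  obtain ⟨w, hw, hwy⟩ := hgP _ hge
  -- the product fixes a single component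
  have hzv : F.Sim (h * y * (h * h'⁻¹) * (h * y)⁻¹) (h * h'⁻¹) := by
    have e1 : F.Sim (y * (h * h'⁻¹) * y⁻¹) (h⁻¹ * h') := by
      have e2 : F.Sim (y * h'⁻¹ * y⁻¹) h' := by
        rw [← conj_inv]
        rcases hhy' with e | e <;> rw [e]
        · exact .inl (inv_inv h')
        · exact .inr (by rw [mul_inv_rev, inv_inv, F.nT_inv, hhT'.eq])
      have := Sim.mul F hhy e2 hhT'
      rwa [show y * h * y⁻¹ * (y * h'⁻¹ * y⁻¹) = y * (h * h'⁻¹) * y⁻¹ by group] at this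
    have e3 := Sim.conj F e1 hhT
    rw [show h * (y * (h * h'⁻¹) * y⁻¹) * h⁻¹ = h * y * (h * h'⁻¹) * (h * y)⁻¹ by group,
      show h * (h⁻¹ * h') * h⁻¹ = (h * h'⁻¹)⁻¹ by group] at e3
    exact Sim.trans F e3 (Is.sim F (Is.inv F hν) hν)
  have hzw : F.Sim (h * y * w * (h * y)⁻¹) w := by
    rw [show h * y * w * (h * y)⁻¹ = h * (y * w * y⁻¹) * h⁻¹ by group]
    exact Sim.trans F (Sim.conj F hwy hhT) (hhC.2 w _ ⟨w, hw, hwy⟩ hw)
  have hz : h * y ∈ F.K0 := by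
    have hsum : sx ν (sx ν (sx (e1 k a) (e1 k b))) = sx (e1 k a) (e1 k b) := sx_alg.1 _ _
    have key : ∀ k a b : Fin 4, a ≠ 0 → b ≠ 0 → a ≠ b → swt (sx (e1 k a) (e1 k b)) = 1 := by decide +kernel
    refine F.cent_one (mul_mem (E.fixS_le P hhC) (E.le hy1)) (hsum.symm ▸ key k a b ha hb hab) (Is.mul F hν hw) ?_
    have := Sim.mul F hzv hzw (F.W_nT (Is.mem F hw))
    rwa [show h * y * (h * h'⁻¹) * (h * y)⁻¹ * (h * y * w * (h * y)⁻¹) =
      h * y * (h * h'⁻¹ * w) * (h * y)⁻¹ by group] at this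
  have := mul_mem (inv_mem hh0) hz
  rw [inv_mul_cancel_left] at this
  exact hy0 this

theorem Even.conj_mem {y : G} (hy1 : y ∈ E.K1) (hy2 : y * y = 1) (hT : F.Tc y) (hT' : F.Tc (y * F.nT)) :
    y ∈ F.K0 := by
  by_cases hex : ∃ w s d, F.Is w s ∧ d ∈ E.fixS (Pst F y) ∧ F.Sim (d * y * d⁻¹) w
  swap
  · exact E.core hy1 hy2 hT hT' fun w s hw ⟨d, hd, e⟩ => absurd ⟨w, s, d, hw, hd, e⟩ hex
  obtain ⟨w0, η, d0, hw0, hd0, hd0e⟩ := hex
  have hyt : Commute y F.nT := F.mem_Kt.1 (E.le hy1)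
  have hd0T : Commute d0 F.nT := F.mem_Kt.1 (E.fixS_le _ hd0)
  have hη : IsY η := by
    have hT0 := Tc.conj F hT d0
    have hT0' := Tc.conj F hT' d0
    rw [show d0 * (y * F.nT) * d0⁻¹ = d0 * y * d0⁻¹ * F.nT by rw [mul_assoc _ _ F.nT, hd0T.inv_left.eq]; group] at hT0'
    have hTw : F.Tc w0 := by
      rcases Sim.symm F hd0e with e | e <;> rw [e]
      exacts [hT0, hT0']
    refine Is.of_Tc F hw0 hTw fun e => ?_
    subst e
    -- the element would be trivial modulo the reflection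
    have h0 : F.Sim (d0 * y * d0⁻¹) 1 := Sim.trans F hd0e (F.triv_sim (Is.zero F hw0))
    have hy : F.Sim y 1 := by
      have := Sim.conj F h0 hd0T.inv_left
      rwa [show d0⁻¹ * (d0 * y * d0⁻¹) * d0⁻¹⁻¹ = y by group, show d0⁻¹ * 1 * d0⁻¹⁻¹ = 1 by group] at this
    have hbad : F.Tc (1 : G) := by
      rcases hy with e | e
      · exact e ▸ hT
      · rw [e, one_mul, F.nT_sq] at hT'; exact hT'
    obtain ⟨c, hc⟩ := hbad
    exact F.nT_ne (by rwa [conj_eq_one_iff] at hc)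
  obtain ⟨γ, hγ, rfl⟩ := hη
  obtain ⟨δ, hδ, hδ85⟩ := y_to_base γ hγ
  set c := F.e δ
  have hcT : Commute c F.nT := (F.nT_fix hδ).symm
  have hcJ : c ∈ F.P81 := mem_sup_left (F.e_Jt.2 hδ)
  have hc1 : c ∈ E.K1 := E.P81_le hcJ
  have hc0 : c ∈ F.K0 := F.P81_le_K0 hcJ
  set y' := c * y * c⁻¹
  have hy1' : y' ∈ E.K1 := mul_mem (mul_mem hc1 hy1) (inv_mem hc1)
  suffices h : y' ∈ F.K0 by
    have := mul_mem (mul_mem (inv_mem hc0) h) hc0
    rwa [show c⁻¹ * y' * c = y by simp only [y']; group] at this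
  refine E.core hy1' ?_ (Tc.conj F hT c) ?_ fun w s hw ⟨d, hd, hde⟩ => ?_
  · show c * y * c⁻¹ * (c * y * c⁻¹) = 1
    rw [show c * y * c⁻¹ * (c * y * c⁻¹) = c * (y * y) * c⁻¹ by group, hy2, mul_one, mul_inv_cancel]
  · have := Tc.conj F hT' c
    rwa [show c * (y * F.nT) * c⁻¹ = y' * F.nT by
      show _ = c * y * c⁻¹ * F.nT
      rw [mul_assoc _ _ F.nT, hcT.inv_left.eq]; group] at this
  have hd' : c * d0 * c⁻¹ ∈ E.fixS (Pst F y') := by
    refine ⟨mul_mem (mul_mem hc1 hd0.1) (inv_mem hc1), fun v r ⟨u, hu, eu⟩ hv => ?_⟩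
    have hu' : c⁻¹ * u * c ∈ F.W := by
      have := (mem_normalizer_iff.1 (inv_mem (F.K0_norm hc0)) u).1 (Is.mem F hu)
      rwa [inv_inv] at this
    obtain ⟨r', hr'⟩ := F.is_exists hu'
    have e0 : F.Sim (y * (c⁻¹ * u * c) * y⁻¹) (c⁻¹ * u * c) := by
      have := Sim.conj F eu hcT.inv_left
      rwa [show c⁻¹ * (y' * u * y'⁻¹) * c⁻¹⁻¹ = y * (c⁻¹ * u * c) * y⁻¹ by simp only [y']; group,
        show c⁻¹ * u * c⁻¹⁻¹ = c⁻¹ * u * c by group] at this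
    have := Sim.conj F (hd0.2 _ r' ⟨_, hr', e0⟩ hr') hcT
    rw [show c * (d0 * (c⁻¹ * u * c) * d0⁻¹) * c⁻¹ = c * d0 * c⁻¹ * u * (c * d0 * c⁻¹)⁻¹ by group,
      show c * (c⁻¹ * u * c) * c⁻¹ = u by group] at this
    exact Sim.trans F (Sim.conj F (Is.sim F hv hu) ((hcT.mul_left hd0T).mul_left hcT.inv_left))
      (Sim.trans F this (Is.sim F hu hv))
  have h85 : F.Is (c * w0 * c⁻¹) 85 := hδ85 ▸ Is.conj_e F hw0 hδ
  have hde0 : F.Sim (c * d0 * c⁻¹ * y' * (c * d0 * c⁻¹)⁻¹) (c * w0 * c⁻¹) := by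
    rw [show c * d0 * c⁻¹ * y' * (c * d0 * c⁻¹)⁻¹ = c * (d0 * y * d0⁻¹) * c⁻¹ by simp only [y']; group]
    exact Sim.conj F hd0e hcT
  set d' := c * d0 * c⁻¹
  have hdd : d * d'⁻¹ ∈ E.fixS (Pst F y') := mul_mem hd (inv_mem hd')
  obtain ⟨k, hkC, hk0, hke⟩ := F.fuse (E.fixS_le _) (E.W_fixS _) hdd (Is.mem F h85) (Is.mem F hw) (by
    have h1 := Sim.conj F (Sim.symm F hde0) (F.mem_Kt.1 (E.fixS_le _ hdd))
    rw [show d * d'⁻¹ * (d' * y' * d'⁻¹) * (d * d'⁻¹)⁻¹ = d * y' * d⁻¹ by group] at h1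
    exact Sim.trans F h1 hde)
  obtain ⟨q, hq, hm⟩ := E.fixS_mv hkC hk0
  exact ⟨q, hq, Is.unique F (hm.2 _ _ h85) hw hke⟩

end Even

/-- The centralizer of `t`. -/
theorem Kt_le_K0 : F.Kt ≤ F.K0 := by
  obtain ⟨E⟩ := F.exists_Even
  intro g hg
  refine F.norm_W_le hg ?_
  have hY : ∀ w s, F.Is w s → yb s = true → g * w * g⁻¹ ∈ F.W := by
    intro w s hw hs
    obtain ⟨r, -, hr, -, -, hgr⟩ := E.split g hg
    have hrW : r⁻¹ * w * r ∈ E.K1 := E.W_le (by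
      have := (mem_normalizer_iff.1 (inv_mem (F.K0_norm hr)) w).1 (Is.mem F hw)
      rwa [inv_inv] at this)
    have hy1 : g * w * g⁻¹ ∈ E.K1 := by
      have := mul_mem (mul_mem hgr hrW) (inv_mem hgr)
      rwa [show g * r * (r⁻¹ * w * r) * (g * r)⁻¹ = g * w * g⁻¹ by group] at this
    obtain ⟨h1, h2⟩ := Is.Y F hw ((yb_iff s).2 hs)
    have hgT : Commute g F.nT := F.mem_Kt.1 hg
    have hT' : F.Tc (g * w * g⁻¹ * F.nT) := by
      have := Tc.conj F h2 g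
      rwa [show g * (w * F.nT) * g⁻¹ = g * w * g⁻¹ * F.nT by rw [mul_assoc _ _ F.nT, hgT.inv_left.eq]; group] at this
    have hsq : g * w * g⁻¹ * (g * w * g⁻¹) = 1 := by
      obtain ⟨c, hc⟩ := h1
      rw [show g * w * g⁻¹ * (g * w * g⁻¹) = g * (w * w) * g⁻¹ by group, ← hc,
        show c * F.nT * c⁻¹ * (c * F.nT * c⁻¹) = c * (F.nT * F.nT) * c⁻¹ by group, F.nT_sq]
      group
    exact E.inv_in_W (E.conj_mem hy1 hsq (Tc.conj F h1 g) hT') hy1 (.inr ⟨hsq, Tc.conj F h1 g, hT'⟩)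
  have hgT : Commute g F.nT := F.mem_Kt.1 hg
  have hW : ∀ w ∈ F.W, g * w * g⁻¹ ∈ F.W := by
    let L : Subgroup G := F.W.comap (MulAut.conj g).toMonoidHom
    suffices h : F.W ≤ L from fun w hw => h hw
    have ht : F.nT ∈ L := by
      show g * F.nT * g⁻¹ ∈ F.W
      rw [hgT.eq, mul_inv_cancel_right]; exact F.nT_W
    have hrep : ∀ k a, F.rep k a ∈ L := fun k a => by
      by_cases ha : a = 0
      · rw [ha, rep, if_pos rfl]; exact one_mem _
      obtain ⟨y1, y2, y3, -, h1, h2, h3, e⟩ := y_span k a ha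
      obtain ⟨a1, b1⟩ := F.st_exists y1
      obtain ⟨a2, b2⟩ := F.st_exists y2
      obtain ⟨a3, b3⟩ := F.st_exists y3
      have hm : a1 * a2 * a3 ∈ L := mul_mem (mul_mem (hY _ _ b1 h1) (hY _ _ b2 h2)) (hY _ _ b3 h3)
      rcases Is.sim F (F.is_rep k a) (e ▸ Is.mul F (Is.mul F b1 b2) b3) with e' | e' <;> rw [e']
      exacts [hm, mul_mem hm ht]
    refine F.W_le fun k q hq => ?_
    obtain ⟨a, e | e⟩ := F.rep_exists hq <;> rw [e]
    exacts [hrep k a, mul_mem (hrep k a) ht]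
  refine mem_normalizer_iff.2 fun w => ⟨hW w, fun hw => ?_⟩
  have heq : F.W.map (MulAut.conj g).toMonoidHom = F.W :=
    eq_of_le_of_card_ge (by rintro _ ⟨a, ha, rfl⟩; exact hW a ha)
      (card_map_of_injective (f := (MulAut.conj g).toMonoidHom) (MulAut.conj g).injective).ge
  obtain ⟨a, ha, e⟩ := heq.ge hw
  obtain rfl : a = w := (MulAut.conj g).injective e
  exact ha

theorem Kt_eq : F.Kt = F.K0 := le_antisymm F.Kt_le_K0 F.K0_le_Kt

/-- The centralizer of `t` lies in `MN`. -/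
theorem cent_t_le : F.Kt ≤ F.Hg := F.Kt_le_K0.trans F.K0_le_Hg

end Frame

end CfsgLib.O8T
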