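import Cfsg.Prelude.Def_Solvable
import Cfsg.Prelude.Def_Transfer
import Cfsg.Agent.Lib.OEightPlusThree.Chief

/-!
The setting from the hypotheses of the recognition theorem.
-/

set_option autoImplicit false

namespace CfsgLib.O8T

open Subgroup

universe u

/-- The lower triangular element of order three. -/
def mL : SL23 := ⟨!![1, 0; 1, 1], by decide⟩

/-- Products of the two elements of order three. -/
def wordsU : ℕ → List SL23
  | 0 => [1]
  | n + 1 => (wordsU n).flatMap (fun g => [g, mL * g, mU * g]) |>.dedup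

theorem wordsU_all : ∀ g : SL23, g ∈ wordsU 8 := by decide +kernel

theorem sl_three : mL * mL * mL = 1 ∧ mU * mU * mU = 1 := by decide +kernel

theorem orderOf_coprime {X : Type u} [Group X] {x : X} (h : x * x * x = 1) : Nat.Coprime (orderOf x) 2 := by
  have : orderOf x ∣ 3 := orderOf_dvd_of_pow_eq_one (by rwa [pow_succ, pow_two])
  exact Nat.Coprime.coprime_dvd_left this (by norm_num)

theorem resid_SX (x : SX) : x ∈ Cfsg.pResidual 2 SX ↔ x.2 = 1 := by
  constructor
  · intro h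
    have : Cfsg.pResidual 2 SX ≤ (MonoidHom.snd SL23 (Multiplicative (ZMod 2))).ker := by
      refine (closure_le _).2 fun g hg => ?_
      have h2 : orderOf g.2 ∣ Nat.gcd (orderOf g) 2 := Nat.dvd_gcd
        (orderOf_map_dvd (MonoidHom.snd SL23 (Multiplicative (ZMod 2))) g)
        (orderOf_dvd_of_pow_eq_one (by rw [pow_two]; exact mul2_sq _))
      rw [(show Nat.gcd (orderOf g) 2 = 1 from hg), Nat.dvd_one, orderOf_eq_one_iff] at h2
      exact h2
    exact this h
  · intro h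
    obtain ⟨m, e⟩ := x
    obtain rfl : e = 1 := h
    have hg : ∀ a : SL23, a * a * a = 1 → ((a, 1) : SX) ∈ Cfsg.pResidual 2 SX := fun a ha => by
      have h1 : ((a, 1) : SX) * (a, 1) * (a, 1) = 1 := by rw [Prod.mk_mul_mk, Prod.mk_mul_mk, ha]; simp
      have h2 := orderOf_coprime h1
      exact subset_closure h2
    have key : ∀ n, ∀ g ∈ wordsU n, ((g, 1) : SX) ∈ Cfsg.pResidual 2 SX := by
      intro n
      induction n with
      | zero => intro g hg; rw [wordsU, List.mem_singleton] at hg; subst hg; exact one_mem _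
      | succ n ih =>
        intro g hg'
        rw [wordsU, List.mem_dedup, List.mem_flatMap] at hg'
        obtain ⟨a, ha, hga⟩ := hg'
        simp only [List.mem_cons, List.not_mem_nil, or_false] at hga
        rcases hga with rfl | rfl | rfl
        · exact ih _ ha
        · simpa using mul_mem (hg mL sl_three.1) (ih _ ha)
        · simpa using mul_mem (hg mU sl_three.2) (ih _ ha)
    exact key 8 m (wordsU_all m)

theorem resid_SL (m : SL23) : m ∈ Cfsg.pResidual 2 SL23 := by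
  have hg : ∀ a : SL23, a * a * a = 1 → a ∈ Cfsg.pResidual 2 SL23 := fun a ha =>
    subset_closure (orderOf_coprime (X := SL23) ha)
  have key : ∀ n, ∀ g ∈ wordsU n, g ∈ Cfsg.pResidual 2 SL23 := by
    intro n
    induction n with
    | zero => intro g hg; rw [wordsU, List.mem_singleton] at hg; subst hg; exact one_mem _
    | succ n ih =>
      intro g hg'
      rw [wordsU, List.mem_dedup, List.mem_flatMap] at hg'
      obtain ⟨a, ha, hga⟩ := hg'
      simp only [List.mem_cons, List.not_mem_nil, or_false] at hga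
      rcases hga with rfl | rfl | rfl
      exacts [ih _ ha, mul_mem (hg mL sl_three.1) (ih _ ha), mul_mem (hg mU sl_three.2) (ih _ ha)]
  exact key 8 m (wordsU_all m)

theorem resid_equiv {X Y : Type*} [Group X] [Group Y] (f : X ≃* Y) (x : X) :
    x ∈ Cfsg.pResidual 2 X ↔ f x ∈ Cfsg.pResidual 2 Y := by
  have : (Cfsg.pResidual 2 X).map f.toMonoidHom = Cfsg.pResidual 2 Y := by
    rw [Cfsg.pResidual, Cfsg.pResidual, MonoidHom.map_closure]
    congr 1
    ext y
    constructor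
    · rintro ⟨a, ha, rfl⟩
      show Nat.Coprime (orderOf (f a)) 2
      rwa [f.orderOf_eq]
    · intro hy
      exact ⟨f.symm y, show Nat.Coprime (orderOf (f.symm y)) 2 by rwa [f.symm.orderOf_eq], f.apply_symm_apply y⟩
  rw [← this]
  rw [mem_map_equiv, f.symm_apply_apply]

/-- The hypotheses give a setting. -/
theorem exists_setting {G : Type u} [Group G] [Finite G]
    (S : Sylow 3 G) (Z : Subgroup G) (hZ : Z = (S : Subgroup G) ⊓ Subgroup.centralizer ((S : Subgroup G) : Set G))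
    (C : Subgroup G) (hCZ : C = Subgroup.centralizer (Z : Set G))
    (Q : Subgroup G) (hQ : Q = (Cfsg.pCore 3 C).map C.subtype)
    (hQex : Cfsg.IsExtraspecial 3 Q) (hQcard : Nat.card Q = 3 ^ 5) (hQexp : ∀ a ∈ Q, a ^ 3 = 1)
    (hCQ : Subgroup.centralizer (Q : Set G) ≤ Q)
    (hZQ : ∃ x : G, Z.map (MulAut.conj x).toMonoidHom ≤ Q ∧ Z.map (MulAut.conj x).toMonoidHom ≠ Z)
    [(Cfsg.pCore 3 C).Normal]
    (K : Subgroup G) (hK : K = ((Cfsg.pResidual 2 (C ⧸ Cfsg.pCore 3 C)).comap (QuotientGroup.mk' (Cfsg.pCore 3 C))).map C.subtype)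
    (r : ℕ) (A : Fin (r + 1) → Subgroup G) (hA0 : A 0 = Z) (hAr : A (Fin.last r) = Q)
    (hmono : ∀ i : Fin r, A i.castSucc < A i.succ)
    (hinv : ∀ i : Fin (r + 1), ∀ k ∈ K, ∀ a ∈ A i, k * a * k⁻¹ ∈ A i)
    (hmax : ∀ i : Fin r, ∀ B : Subgroup G, A i.castSucc < B → B < A i.succ → ∃ k ∈ K, ∃ b ∈ B, k * b * k⁻¹ ∉ B)
    (e : Nonempty (C ⧸ Cfsg.pCore 3 C ≃* Matrix.SpecialLinearGroup (Fin 2) (ZMod 3)) ∨
      Nonempty (C ⧸ Cfsg.pCore 3 C ≃* Matrix.SpecialLinearGroup (Fin 2) (ZMod 3) × Multiplicative (ZMod 2)))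
    (hone : ∃! i : Fin r, (∃ k ∈ K, ∃ a ∈ A i.succ, k * a * k⁻¹ * a⁻¹ ∉ A i.castSucc)) :
    ∃ D : Setting G, zpowers D.z = Z ∧ ∀ P : Sylow 3 G, Nat.card (P : Subgroup G) = 729 := by
  haveI : Fact (Nat.Prime 3) := ⟨Nat.prime_three⟩
  have hQC : Q ≤ C := hQ ▸ map_subtype_le _
  have hnorm : ∀ c ∈ C, ∀ q ∈ Q, c * q * c⁻¹ ∈ Q := by
    intro c hc q hq
    rw [hQ] at hq ⊢
    obtain ⟨y, hy, rfl⟩ := hq
    exact ⟨⟨c, hc⟩ * y * ⟨c, hc⟩⁻¹, Normal.conj_mem inferInstance y hy _, rfl⟩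
  have hSC : (S : Subgroup G) ≤ C := fun s hs => hCZ ▸ mem_centralizer_iff.2 fun c hc => by
    rw [hZ] at hc
    exact (mem_centralizer_iff.1 hc.2 s hs).symm
  have hZne : Z ≠ ⊥ := by
    haveI : Nontrivial (S : Subgroup G) := by
      rw [nontrivial_iff_ne_bot]
      intro hb
      have h1 : Nat.card (S : Subgroup G) = 1 := by rw [hb]; exact card_bot
      have hd : (3 : ℕ) ∣ Nat.card G := (dvd_pow_self 3 (by norm_num : (5 : ℕ) ≠ 0)).trans (hQcard ▸ card_subgroup_dvd_card Q)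
      have := S.ne_bot_of_dvd_card hd
      exact this hb
    haveI := (S.isPGroup' : IsPGroup 3 (S : Subgroup G)).center_nontrivial
    obtain ⟨⟨x, hx⟩, hne⟩ := exists_ne (1 : center (S : Subgroup G))
    intro hb
    have : (x : G) ∈ Z := hZ ▸ ⟨x.2, mem_centralizer_iff.2 fun y hy => congrArg Subtype.val (mem_center_iff.1 hx ⟨y, hy⟩)⟩
    rw [hb, mem_bot] at this
    exact hne (Subtype.ext (Subtype.ext this))
  have hZQ' : Z ≤ Q := fun c hc => hCQ (mem_centralizer_iff.2 fun q hq =>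
    (mem_centralizer_iff.1 (hCZ ▸ hQC hq : q ∈ centralizer (Z : Set G)) c hc).symm)
  have hcen : ∀ a ∈ Q, (∀ x ∈ Q, a * x = x * a) → a ∈ Z := by
    have hle : Z ≤ (center Q).map Q.subtype := fun c hc => ⟨⟨c, hZQ' hc⟩, mem_center_iff.2 fun q => Subtype.ext
      (mem_centralizer_iff.1 (hCZ ▸ hQC q.2 : (q : G) ∈ centralizer (Z : Set G)) c hc).symm, rfl⟩
    have h3 : Nat.card ((center Q).map Q.subtype : Subgroup G) = 3 := by
      rw [card_map_of_injective Q.subtype_injective]; exact hQex.2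
    have hd := card_dvd_of_le hle
    rw [h3, Nat.dvd_prime Nat.prime_three] at hd
    have hZ3 : Nat.card Z = 3 := hd.resolve_left (fun h1 => hZne (card_eq_one.1 h1))
    have heq := eq_of_le_of_card_ge hle (by rw [h3, hZ3])
    intro a ha hc
    rw [heq]
    exact ⟨⟨a, ha⟩, mem_center_iff.2 fun q => Subtype.ext (hc q q.2).symm, rfl⟩
  have hZ3 : Nat.card Z = 3 := by
    have hle : (center Q).map Q.subtype ≤ Z := by
      rintro _ ⟨a, ha, rfl⟩
      exact hcen a a.2 fun x hx => congrArg Subtype.val (mem_center_iff.1 ha ⟨x, hx⟩).symm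
    have hle2 : Z ≤ (center Q).map Q.subtype := fun c hc => ⟨⟨c, hZQ' hc⟩, mem_center_iff.2 fun q => Subtype.ext
      (mem_centralizer_iff.1 (hCZ ▸ hQC q.2 : (q : G) ∈ centralizer (Z : Set G)) c hc).symm, rfl⟩
    rw [← le_antisymm hle hle2, card_map_of_injective Q.subtype_injective]
    exact hQex.2
  haveI : IsCyclic Z := isCyclic_of_prime_card hZ3
  obtain ⟨⟨z, hz⟩, hgen⟩ := IsCyclic.exists_generator (α := Z)
  have hZz : zpowers z = Z := by
    refine le_antisymm (zpowers_le.2 hz) fun c hc => ?_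
    obtain ⟨n, hn⟩ := mem_zpowers_iff.1 (hgen ⟨c, hc⟩)
    exact mem_zpowers_iff.2 ⟨n, congrArg Subtype.val hn⟩
  have hCz : C = centralizer ({z} : Set G) := by
    rw [hCZ, ← hZz, zpowers_eq_closure, centralizer_closure]
  have hzord : orderOf z = 3 := by rw [← Nat.card_zpowers, hZz, hZ3]
  obtain ⟨f, hf, hfK⟩ : ∃ f : C ⧸ Cfsg.pCore 3 C →* SX, Function.Injective f ∧
      ((∀ m : SL23, ∃ x, f x = (m, 1)) ∧ ∀ x, x ∈ Cfsg.pResidual 2 (C ⧸ Cfsg.pCore 3 C) ↔ (f x).2 = 1) := by
    rcases e with ⟨⟨f⟩⟩ | ⟨⟨f⟩⟩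
    · exact ⟨(MonoidHom.inl _ _).comp f.toMonoidHom, fun a b hab => f.injective (congrArg Prod.fst hab),
        fun m => ⟨f.symm m, Prod.ext (f.apply_symm_apply m) rfl⟩,
        fun x => iff_of_true ((resid_equiv f x).2 (resid_SL _)) rfl⟩
    · exact ⟨f.toMonoidHom, f.injective, fun m => ⟨f.symm (m, 1), f.apply_symm_apply _⟩,
        fun x => (resid_equiv f x).trans (resid_SX _)⟩
  subst hCz
  let ψ := f.comp (QuotientGroup.mk' (Cfsg.pCore 3 (centralizer ({z} : Set G))))
  have hψSL : ∀ m : SL23, ∃ x, ψ x = (m, 1) := fun m => by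
    obtain ⟨y, hy⟩ := hfK.1 m
    obtain ⟨x, rfl⟩ := QuotientGroup.mk'_surjective _ y
    exact ⟨x, hy⟩
  have hψker : ∀ x, ψ x = 1 ↔ (x : G) ∈ Q := fun x => by
    show f (QuotientGroup.mk' _ x) = 1 ↔ _
    rw [map_eq_one_iff f hf, QuotientGroup.mk'_apply, QuotientGroup.eq_one_iff, hQ]
    exact ⟨fun h => ⟨x, h, rfl⟩, fun ⟨y, hy, he⟩ => Subtype.coe_injective he ▸ hy⟩
  obtain ⟨x0, hx0⟩ := hψSL (-1)
  have hs : ((-1 : SL23) * -1, (1 : Multiplicative (ZMod 2)) * 1) = (1 : SX) := Prod.ext (by decide +kernel) (one_mul 1)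
  have hx2 : ψ (x0 ^ 2) = 1 := by rw [map_pow, hx0, pow_two, Prod.mk_mul_mk]; exact hs
  let t := x0 ^ 3
  have htψ : ψ t = (-1, 1) := by rw [show t = x0 ^ 2 * x0 from pow_succ _ _, map_mul, hx2, hx0, one_mul]
  have htsq : (t : G) * t = 1 := by
    have h6 := hQexp _ ((hψker _).1 hx2)
    simp only [t, SubgroupClass.coe_pow] at h6 ⊢
    rwa [← pow_add, show 3 + 3 = 2 * 3 from rfl, pow_mul]
  let B : Base G :=
    { z := z
      z_ord := hzord
      Q := Q
      Q_card := by rw [hQcard]; norm_num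
      z_Q := hZQ' hz
      Q_z := fun q hq => mem_centralizer_singleton_iff.1 (hQC hq)
      Q_centre := fun q hq h => hZz ▸ hcen q hq h
      Q_comm := fun a ha b hb => by
        rw [hZz]
        have hm : (⟨a, ha⟩ : Q) * ⟨b, hb⟩ * (⟨a, ha⟩ : Q)⁻¹ * (⟨b, hb⟩ : Q)⁻¹ ∈ commutator Q := by
          rw [← commutatorElement_def, commutator_def]
          exact commutator_mem_commutator (mem_top _) (mem_top _)
        rw [hQex.1.2.2, mem_center_iff] at hm
        exact hcen _ (mul_mem (mul_mem (mul_mem ha hb) (inv_mem ha)) (inv_mem hb))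
          fun x hx => (congrArg Subtype.val (hm ⟨x, hx⟩)).symm
      Q_exp := hQexp
      Q_self := hCQ
      Q_norm := fun c hc q hq => hnorm c (mem_centralizer_singleton_iff.2 hc) q hq
      ψ := ψ
      ψ_SL := hψSL
      ψ_ker := hψker
      t := t
      t_ψ := htψ
      t_sq := htsq }
  have hKB : K = B.K := by
    ext x
    rw [hK, B.mem_K]
    constructor
    · rintro ⟨y, hy, rfl⟩
      exact ⟨y.2, (hfK.2 _).1 hy⟩
    · rintro ⟨h, h2⟩
      exact ⟨⟨x, h⟩, (hfK.2 _).2 h2, rfl⟩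
  subst hKB
  have hc := (⟨r, A, hA0.trans hZz.symm, hAr, hmono, hinv, hmax, hone⟩ : B.Chain).setting
  refine ⟨{ toBase := B, t_fix := hc.1, quat_fix := hc.2, conj_in := ?_ }, hZz, fun P => ?_⟩
  · obtain ⟨x, hx1, hx2⟩ := hZQ
    refine ⟨x, hx1 ⟨z, hz, rfl⟩, fun h => hx2 (eq_of_le_of_card_ge ?_ (le_of_eq ?_))⟩
    · rintro _ ⟨c, hc, rfl⟩
      rw [← hZz] at hc
      obtain ⟨n, rfl⟩ := mem_zpowers_iff.1 hc
      show MulAut.conj x (z ^ n) ∈ Z
      rw [map_zpow, MulAut.conj_apply]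
      exact zpow_mem (hZz ▸ h) n
    · rw [card_map_of_injective (f := (MulAut.conj x).toMonoidHom) (MulAut.conj x).injective]
  · have hQ' : Nat.card (Cfsg.pCore 3 (centralizer ({z} : Set G))) = 243 := by
      rw [← card_map_of_injective (centralizer ({z} : Set G)).subtype_injective, ← hQ, hQcard]; norm_num
    have h729 : 3 ^ 6 ∣ Nat.card (centralizer ({z} : Set G)) := by
      have h1 := Subgroup.card_eq_card_quotient_mul_card_subgroup (Cfsg.pCore 3 (centralizer ({z} : Set G)))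
      rw [h1, hQ']
      obtain ⟨y, hy⟩ := hfK.1 mU
      have h3 : (3 : ℕ) ∣ Nat.card (↥(centralizer ({z} : Set G)) ⧸ Cfsg.pCore 3 (centralizer ({z} : Set G))) := by
        have h : orderOf y = 3 := orderOf_eq_prime (hf (by
          rw [map_pow, hy, map_one, pow_succ, pow_two, Prod.mk_mul_mk, Prod.mk_mul_mk]
          exact Prod.ext sl_three.2 (by simp))) (fun e => by
          rw [e, map_one] at hy
          exact sl_rels.2.2.2.2.1 (congrArg Prod.fst hy).symm)
        have hd := _root_.orderOf_dvd_natCard y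
        rwa [h] at hd
      obtain ⟨k, hk⟩ := h3
      exact ⟨k, by rw [hk]; ring⟩
    rw [Sylow.card_eq_multiplicity]
    have hup : Nat.card (S : Subgroup G) ∣ 729 := by
      have h1 := card_dvd_of_le hSC
      have hbig : Nat.card (centralizer ({z} : Set G)) ∣ 729 * 16 := by
        rw [Subgroup.card_eq_card_quotient_mul_card_subgroup (Cfsg.pCore 3 (centralizer ({z} : Set G))), hQ']
        have : Nat.card SX = 48 := by rw [Nat.card_eq_fintype_card]; decide +kernel
        have hd := card_dvd_of_injective f hf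
        rw [this] at hd
        exact (Nat.mul_dvd_mul_right hd _).trans (by norm_num)
      obtain ⟨n, hn⟩ := IsPGroup.iff_card.1 S.isPGroup'
      exact (Nat.Coprime.dvd_of_dvd_mul_right (by rw [hn]; exact Nat.Coprime.pow_left _ (by norm_num)) (h1.trans hbig))
    have hlow : 729 ∣ Nat.card (S : Subgroup G) := by
      rw [Sylow.card_eq_multiplicity]
      have : 3 ^ 6 ∣ Nat.card G := h729.trans (card_subgroup_dvd_card _)
      exact (show (729 : ℕ) = 3 ^ 6 by norm_num) ▸ Nat.pow_dvd_pow 3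
        ((Nat.prime_three.pow_dvd_iff_le_factorization Nat.card_pos.ne').1 this)
    rw [← Sylow.card_eq_multiplicity S]
    exact Nat.dvd_antisymm hup hlow

end CfsgLib.O8T
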