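import Cfsg.Agent.Lib.OEightPlusThree.OuterInv

/-!
A subgroup of the centralizer of `t` omitting the single sign changes, by a second transfer.
-/

set_option autoImplicit false
set_option synthInstance.maxSize 4096
set_option maxRecDepth 8000

namespace CfsgLib.O8T

open Subgroup

universe u

/-- Exponents of even total. -/
def evI (i j : Fin 2) : Fin 2 × Fin 2 × Fin 2 := (i, j, i + j)

theorem ev_facts : (∀ x : Fin 2 × Fin 2 × Fin 2, ∀ p : Fin 2,
      comp (comp (matIx (x.1, x.2.1, x.2.2, 0, 0)) (powM pT (0 : Fin 2).val)) (powM pT p.val) =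
        comp (matIx (x.1, x.2.1, x.2.2, 0, 0)) (powM pT p.val)) ∧
    (∀ x y : Fin 2 × Fin 2 × Fin 2, comp (comp (matIx (x.1, x.2.1, x.2.2, 0, 0)) (powM pT (0 : Fin 2).val))
      (comp (matIx (y.1, y.2.1, y.2.2, 0, 0)) (powM pT (0 : Fin 2).val)) =
        comp (matIx ((x + y).1, (x + y).2.1, (x + y).2.2, 0, 0)) (powM pT (0 : Fin 2).val)) ∧
    (∀ x : Fin 2 × Fin 2 × Fin 2, ∀ l : Fin 3, ∀ p : Fin 2, ∃ p' : Fin 2,
      comp (powM pT p.val) (comp (comp (matIx (x.1, x.2.1, x.2.2, 0, 0)) (powM pT (0 : Fin 2).val)) (powM pB l.val)) =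
        comp (matIx (x.1, x.2.1, x.2.2, l, 0)) (powM pT p'.val)) ∧
    (∀ x : Fin 2 × Fin 2 × Fin 2, (∃ i j, x = evI i j) ∨ ∃ i j, x = evI i j + (1, 0, 0)) ∧
    (∀ i j, evI i j + (1, 1, 1) ≠ 0 ∧ evI i j + (1, 0, 0) + (1, 1, 1) = evI i (j + 1)) ∧
    (∀ i j : Fin 2, ∀ i' j' : Fin 2, evI i j + evI i' j' = evI (i + i') (j + j')) := by decide +kernel

theorem fixes_e1 : fIx (1, 1, 1, 0, 0) (e1 0 1) = e1 0 1 ∧ gs oM piO (e1 0 1) = e1 0 1 := by decide +kernel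

variable {G : Type u} [Group G]

namespace Frame

variable [Finite G] (F : Frame G)

/-- The product of sign changes with given exponents. -/
noncomputable def npr (x : Fin 2 × Fin 2 × Fin 2) : G :=
  F.nR 0 ^ x.1.val * (F.nR 2 ^ x.2.1.val * F.nR 3 ^ x.2.2.val)

theorem npr_lift (x : Fin 2 × Fin 2 × Fin 2) :
    F.Lift (F.npr x) (comp (matIx (x.1, x.2.1, x.2.2, 0, 0)) (powM pT (0 : Fin 2).val)) := F.inPart_inner x

theorem npr_mul (x y : Fin 2 × Fin 2 × Fin 2) : F.npr x * F.npr y = F.npr (x + y) :=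
  F.lift_unique (ev_facts.2.1 x y ▸ F.lift_mul (F.npr_lift x) (F.npr_lift y)) (F.npr_lift _)

theorem npr_zero : F.npr 0 = 1 := by simp [npr]

theorem npr_inv (x : Fin 2 × Fin 2 × Fin 2) : (F.npr x)⁻¹ = F.npr x := by
  refine inv_eq_of_mul_eq_one_right ?_
  rw [F.npr_mul, show x + x = 0 by revert x; decide, F.npr_zero]

theorem npr_P16 (x : Fin 2 × Fin 2 × Fin 2) : F.npr x ∈ F.P16 :=
  mem_sup_right ⟨_, by
    have key : ∀ x : Fin 2 × Fin 2 × Fin 2,
        L16.contains (comp (matIx (x.1, x.2.1, x.2.2, 0, 0)) (powM pT (0 : Fin 2).val)) = true := by decide +kernel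
    exact List.contains_iff_mem.1 (key x), F.npr_lift x⟩

theorem npr_mv (x : Fin 2 × Fin 2 × Fin 2) : F.Mv (F.npr x) (fIx (x.1, x.2.1, x.2.2, 0, 0)) :=
 by
  have h := Mv.mul F (Mv.pow F F.mv_nR0 x.1.val) (Mv.mul F (Mv.pow F F.mv_nR2 x.2.1.val) (Mv.pow F F.mv_nR3 x.2.2.val))
  exact h

theorem mem_P16' {g : G} (h : g ∈ F.P16) : ∃ v ∈ F.W, ∃ x, g = v * F.npr x := by
  obtain ⟨w, hw, n, ⟨M, hM, hn⟩, rfl⟩ := F.mem_P16 h
  obtain ⟨x, p, rfl⟩ := of_decide_eq_true (List.all_eq_true.1 form16 M hM)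
  refine ⟨w * F.nT ^ p.val, mul_mem hw (pow_mem F.nT_W _), x, ?_⟩
  rw [F.lift_unique hn (ev_facts.1 x p ▸ F.lift_mul (F.npr_lift x) (F.lift_pow F.lift_nT p.val)), mul_assoc,
    (show Commute (F.npr x) F.nT from (F.npr_mv x).1).pow_right _ |>.eq]

theorem P16_le_M : F.P16 ≤ F.M := fun g hg => by
  obtain ⟨v, hv, x, rfl⟩ := F.mem_P16' hg
  exact mul_mem (F.W_M hv)
    (mul_mem (pow_mem (F.nR_M 0) _) (mul_mem (pow_mem (F.nR_M 2) _) (pow_mem (F.nR_M 3) _)))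

/-- An even coset representative is conjugate to `u`, its product with `t` to `e`. -/
theorem ev_class {i j : Fin 2} (h : evI i j ≠ 0) :
    F.UH (F.npr (evI i j)) ∧ F.EH (F.npr (evI i j) * F.nT) := by
  rw [← F.nR_one]
  have hb : ∀ i : Fin 2, i = 0 ∨ i = 1 := by decide
  have e01 : evI 0 1 = (0, 1, 1) ∧ evI 1 0 = (1, 0, 1) ∧ evI 1 1 = (1, 1, 0) := by decide
  have v0 : ((0 : Fin 2) : ℕ) = 0 := rfl
  have v1 : ((1 : Fin 2) : ℕ) = 1 := rfl
  rcases hb i with rfl | rfl <;> rcases hb j with rfl | rfl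
  · exact absurd rfl h
  all_goals simp only [e01.1, e01.2.1, e01.2.2, npr, v0, v1, pow_zero, pow_one, one_mul, mul_one]
  · exact ⟨F.pair_UH (by decide), F.triple_EH (by decide) (by decide) (by decide)⟩
  · exact ⟨F.pair_UH (by decide), F.triple_EH (by decide) (by decide) (by decide)⟩
  · exact ⟨F.pair_UH (by decide), F.triple_EH (by decide) (by decide) (by decide)⟩

/-- The products of an even number of sign changes. -/
def N8 : Subgroup G where
  carrier := {g | ∃ i j, g = F.npr (evI i j)}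
  one_mem' := ⟨0, 0, F.npr_zero.symm⟩
  mul_mem' := by
    rintro _ _ ⟨i, j, rfl⟩ ⟨i', j', rfl⟩
    exact ⟨_, _, by rw [F.npr_mul, ev_facts.2.2.2.2.2]⟩
  inv_mem' := by
    rintro _ ⟨i, j, rfl⟩
    exact ⟨i, j, F.npr_inv _⟩

/-- The even part of the Sylow two-subgroup. -/
noncomputable def P8 : Subgroup G := F.W ⊔ F.N8

theorem mem_P8 {g : G} (h : g ∈ F.P8) : ∃ v ∈ F.W, ∃ i j, g = v * F.npr (evI i j) := by
  have hn : F.N8 ≤ normalizer (F.W : Set G) := by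
    rintro _ ⟨i, j, rfl⟩
    exact F.CN_norm ⟨F.mem_N (F.npr_lift _).1, F.mem_Kt.2 (F.npr_mv _).1⟩
  have h' : g ∈ ((F.W ⊔ F.N8 : Subgroup G) : Set G) := h
  rw [coe_mul_of_right_le_normalizer_left _ _ hn] at h'
  obtain ⟨a, ha, _, ⟨i, j, rfl⟩, rfl⟩ := h'
  exact ⟨a, ha, i, j, rfl⟩

theorem npr_P8 {x : Fin 2 × Fin 2 × Fin 2} {v : G} (hv : v ∈ F.W) (h : v * F.npr x ∈ F.P8) : ∃ i j, x = evI i j := by
  obtain ⟨w, hw, i, j, e⟩ := F.mem_P8 h
  refine ⟨i, j, ?_⟩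
  have e2 : F.npr (x + evI i j) = v⁻¹ * w := by
    rw [← F.npr_mul, ← F.npr_inv (evI i j), ← mul_inv_eq_iff_eq_mul.2 e]; group
  have hN := F.mem_N (F.npr_lift (x + evI i j)).1
  have key : ∀ y : Fin 2 × Fin 2 × Fin 2, y ≠ 0 →
      comp (matIx (y.1, y.2.1, y.2.2, 0, 0)) (powM pT (0 : Fin 2).val) ≠ idM ∧
      comp (matIx (y.1, y.2.1, y.2.2, 0, 0)) (powM pT (0 : Fin 2).val) ≠ pT := by decide +kernel
  have h0 : x + evI i j = 0 := by
    by_contra hne
    rcases F.W_inf_N (e2 ▸ mul_mem (inv_mem hv) hw) hN with h1 | h1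
    · exact (key _ hne).1 (F.act_unique (F.npr_lift _).1 (h1 ▸ F.act_one))
    · exact (key _ hne).2 (F.act_unique (F.npr_lift _).1 (h1 ▸ F.lift_nT.1))
  have key2 : ∀ a b : Fin 2 × Fin 2 × Fin 2, a + b = 0 → a = b := by decide +kernel
  exact key2 _ _ h0

theorem npr_rho : F.npr (1, 1, 1) = F.rho := by
  show F.nR 0 ^ ((1 : Fin 2) : ℕ) * (F.nR 2 ^ ((1 : Fin 2) : ℕ) * F.nR 3 ^ ((1 : Fin 2) : ℕ)) = F.rho
  rw [show ((1 : Fin 2) : ℕ) = 1 from rfl, pow_one, pow_one, pow_one, rho, (F.nR_comm 2 3).eq]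

/-- `W` is generated by commutators with the translations and `rho`. -/
theorem W_le_comm {L : Subgroup G}
    (h : ∀ a, a = F.rho ∨ (∃ c, app pT c = c ∧ a = F.e c) → ∀ w ∈ F.W, a * w * a⁻¹ * w⁻¹ ∈ L) : F.W ≤ L := by
  have ht : F.nT ∈ L := by
    have := h _ (.inl rfl) _ (F.Quat_le_W F.xa_Quat)
    rwa [F.xa_rho, (show Commute F.xa F.nT from F.xa_Quat.2.2.2).eq, mul_inv_cancel_right] at this
  refine F.W_le fun k q hq => ?_
  have hrep : ∀ a b : Fin 4, a ≠ 0 → b ≠ 0 → F.rep k b * (F.rep k a)⁻¹ ∈ L := by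
    intro a b ha hb
    have key : ∀ k a b : Fin 4, app pT (dv k b - dv k a) = dv k b - dv k a := by decide +kernel
    have := h _ (.inr ⟨_, key k a b, rfl⟩) _ (F.Qk_le_W k (F.rep_mem k a))
    have e : F.e (dv k b - dv k a) * F.rep k a * (F.e (dv k b - dv k a))⁻¹ = F.rep k b := by
      rw [rep, if_neg ha, rep, if_neg hb, show F.e (dv k b) = F.e (dv k b - dv k a) * F.e (dv k a) by
        rw [← F.e_add, sub_add_cancel]]
      group
    rwa [e] at this
  have hone : F.rep k 1 ∈ L := by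
    have hm := F.rep_mul k 3 2
    rw [show dx (3 : Fin 4) 2 = 1 by decide] at hm
    have e : F.rep k 3 * F.rep k 2 = F.rep k 3 * (F.rep k 2)⁻¹ * (F.rep k 2 * F.rep k 2) := by group
    rw [e, F.rep_sq (by decide)] at hm
    have h32 := mul_mem (hrep 2 3 (by decide) (by decide)) ht
    rcases hm with h | h
    · exact h ▸ h32
    · have := mul_mem h32 ht
      rwa [h, mul_assoc, F.nT_sq, mul_one] at this
  obtain ⟨a, ha⟩ := F.rep_exists hq
  have hr : F.rep k a ∈ L := by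
    by_cases h0 : a = 0
    · rw [h0, rep, if_pos rfl]; exact one_mem _
    · have := mul_mem (hrep 1 a (by decide) h0) hone
      rwa [inv_mul_cancel_right] at this
  rcases ha with e | e <;> rw [e]
  exacts [hr, mul_mem hr ht]

theorem sign_cyc : ∀ χ : Fin 2 × Fin 2 × Fin 2 → Bool, χ (1, 0, 0) = false →
    (∀ x y, χ (x + y) = (χ x == χ y)) → (∀ x y : Fin 2 × Fin 2 × Fin 2,
      comp pB (comp (matIx (x.1, x.2.1, x.2.2, 0, 0)) (powM pT (0 : Fin 2).val)) =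
        comp (comp (matIx (y.1, y.2.1, y.2.2, 0, 0)) (powM pT (0 : Fin 2).val)) pB → χ y = χ x) →
    ∀ i j, χ (evI i j) = true ∧ χ (evI i j + (1, 0, 0)) = false := by
  decide +kernel

/-- The sign changes lie outside an index two subgroup invariant under the cycle. -/
theorem ev_sign (χ : Fin 2 × Fin 2 × Fin 2 → Prop) (hm : ∀ x y, χ (x + y) ↔ (χ x ↔ χ y))
    (hd : ∀ x y, F.dR * F.npr x * F.dR⁻¹ = F.npr y → (χ y ↔ χ x)) (h1 : ¬ χ (1, 0, 0)) :
    (∀ i j, χ (evI i j)) ∧ ∀ i j, ¬ χ (evI i j + (1, 0, 0)) := by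
  classical
  have h := sign_cyc (fun x => decide (χ x)) (decide_eq_false h1)
    (fun x y => by by_cases a : χ x <;> by_cases b : χ y <;> simp [hm, a, b])
    (fun x y e => by
      have := hd x y (F.lift_conj_eq (F.npr_lift x) (F.npr_lift y) F.dR_lift e)
      simp [this])
  exact ⟨fun i j => of_decide_eq_true (h i j).1, fun i j => of_decide_eq_false (h i j).2⟩

/-- A subgroup of the centralizer of `t` containing `W` and the three-elements but no single sign change. -/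
structure Even where
  /-- The subgroup. -/
  K1 : Subgroup G
  le : K1 ≤ F.Kt
  W_le : F.W ≤ K1
  P81_le : F.P81 ≤ K1
  split : ∀ g ∈ F.Kt, ∃ r f, r ∈ F.K0 ∧ F.Mv r f ∧ f (e1 0 1) = e1 0 1 ∧ g * r ∈ K1
  form : ∀ g ∈ K1, g ∈ F.CN → ∃ i j, ∃ l : Fin 3, ∃ p : Fin 2,
    F.Act g (comp (matIx ((evI i j).1, (evI i j).2.1, (evI i j).2.2, l, 0)) (powM pT p.val))

theorem exists_Even : Nonempty F.Even := by
  classical
  haveI : Fact (Nat.Prime 2) := ⟨Nat.prime_two⟩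
  obtain ⟨G0, hn0, hM, h3, h16, hout⟩ := F.exists_G0
  haveI := hn0
  set K2 : Subgroup G := F.Kt ⊓ G0 with hK2
  have hP16K : F.P16 ≤ K2 := le_inf ((F.P16_le.trans F.P2_le).trans F.K0_le_Kt) (F.P16_le_M.trans hM)
  obtain ⟨P, hP⟩ := (((F.P2_isP.to_le F.P16_le).of_equiv (subgroupOfEquivOfLe hP16K).symm)).exists_le_sylow
  have hPeq : (P : Subgroup K2) = F.P16.subgroupOf K2 := by
    refine le_antisymm ?_ hP
    have hR : IsPGroup 2 ((P : Subgroup K2).map K2.subtype) := P.2.map _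
    have hWR : F.W ≤ (P : Subgroup K2).map K2.subtype := fun w hw =>
      ⟨⟨w, hP16K (mem_sup_left hw)⟩, hP (mem_subgroupOf.2 (mem_sup_left hw)), rfl⟩
    have hR0 := F.two_le hWR hR fun a ha => (map_subtype_le _ ha).1
    obtain ⟨k, -, hk⟩ := conj_sylow F.P2_le F.P2_isP F.P2_index hR0 hR
    have hle : ((P : Subgroup K2).map K2.subtype).map (MulAut.conj k).toMonoidHom ≤ F.P16 := by
      rintro _ ⟨a, ha, rfl⟩
      exact h16 _ (hn0.conj_mem _ (map_subtype_le _ ha).2 k) (hk a ha)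
    have hc := card_le_of_le hle
    rw [card_map_of_injective (f := (MulAut.conj k).toMonoidHom) (MulAut.conj k).injective,
      card_map_of_injective (f := K2.subtype) K2.subtype_injective,
      ← Nat.card_congr (subgroupOfEquivOfLe hP16K).toEquiv] at hc
    exact (eq_of_le_of_card_ge hP hc).ge
  have h8le : F.P8 ≤ F.P16 := sup_le le_sup_left (by rintro _ ⟨i, j, rfl⟩; exact F.npr_P16 _)
  set Q : Subgroup K2 := F.P8.subgroupOf K2
  set n0 : K2 := ⟨F.npr (1, 0, 0), hP16K (F.npr_P16 _)⟩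
  have hn0e : (n0 : G) = F.nR 0 := by simp [n0, npr]
  have hn0Q : n0 ∉ Q := fun h => by
    obtain ⟨i, j, e⟩ := F.npr_P8 (v := 1) (one_mem _) (x := (1, 0, 0)) (by rw [one_mul]; exact mem_subgroupOf.1 h)
    have key : ∀ i j, evI i j ≠ (1, 0, 0) := by decide +kernel
    exact key i j e.symm
  have hrel : Q.relIndex (P : Subgroup K2) = 2 := by
    rw [hPeq, relIndex, index_eq_two_iff]
    refine ⟨⟨n0, mem_subgroupOf.2 (F.npr_P16 _)⟩, fun b => ?_⟩
    obtain ⟨v, hv, x, e⟩ := F.mem_P16' (mem_subgroupOf.1 b.2)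
    simp only [Q, mem_subgroupOf, coe_mul]
    show Xor (((b : K2) : G) * F.npr (1, 0, 0) ∈ F.P8) (((b : K2) : G) ∈ F.P8)
    rw [e, mul_assoc, F.npr_mul]
    have hin : ∀ i j, v * F.npr (evI i j) ∈ F.P8 := fun i j =>
      mul_mem (mem_sup_left hv) (mem_sup_right ⟨i, j, rfl⟩)
    have key : ∀ i j, ¬ (∃ i' j', evI i j + (1, 0, 0) = evI i' j') := by decide +kernel
    rcases ev_facts.2.2.2.1 x with ⟨i, j, rfl⟩ | ⟨i, j, rfl⟩
    · exact .inr ⟨hin i j, fun h => key i j (F.npr_P8 hv h)⟩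
    · refine .inl ⟨?_, fun h => key i j (F.npr_P8 hv h)⟩
      have k2 : ∀ i j, evI i j + (1, 0, 0) + (1, 0, 0) = evI i j := by decide +kernel
      rw [k2]
      exact hin i j
  have hn02 : orderOf n0 = 2 := orderOf_eq_prime (Subtype.ext (by
      show (n0 : G) ^ 2 = 1
      rw [hn0e, pow_two, F.nR_sq])) (fun h => hn0Q (h ▸ one_mem _))
  rcases Cfsg.Agent.S0111.result P Q (hPeq.symm ▸ (fun a ha => mem_subgroupOf.2 (h8le (mem_subgroupOf.1 ha)) : Q ≤ F.P16.subgroupOf K2)) hrel n0 hn02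
    (hPeq.symm ▸ mem_subgroupOf.2 (F.npr_P16 _)) hn0Q with ⟨L, hLn, hLi, hL0⟩ | ⟨g, hg⟩
  · haveI := hLn
    have hsq : ∀ a b : K2, a * b ∈ L ↔ (a ∈ L ↔ b ∈ L) := fun a b => mul_mem_iff_of_index_two hLi
    have h3L : ∀ a : K2, (a : G) ^ 3 = 1 → a ∈ L := fun a ha => by
      by_contra hn
      have h2 : a * a ∈ L := (hsq a a).2 Iff.rfl
      have h3' : a * a * a ∈ L := by
        rw [show a * a * a = a ^ 3 by rw [pow_succ, pow_two], show a ^ 3 = 1 from Subtype.ext (by simpa using ha)]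
        exact one_mem _
      exact hn (((hsq (a * a) a).1 h3').1 h2)
    have hWL : ∀ w, ∀ hw : w ∈ F.W, (⟨w, hP16K (mem_sup_left hw)⟩ : K2) ∈ L := by
      intro w hw
      have hcom : ∀ (a : K2) (w : K2), a * w * a⁻¹ * w⁻¹ ∈ L := fun a w => by
        simp only [hsq, inv_mem_iff]; tauto
      have hL' : F.W ≤ L.map K2.subtype := F.W_le_comm fun a ha w hw => by
        have haK : a ∈ K2 := by
          rcases ha with rfl | ⟨c, hc, rfl⟩
          · exact hP16K (F.npr_rho ▸ F.npr_P16 _)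
          · exact ⟨(F.e_Jt.2 hc).2, h3 _ (F.e_cube c)⟩
        exact ⟨_, hcom ⟨a, haK⟩ ⟨w, hP16K (mem_sup_left hw)⟩, rfl⟩
      obtain ⟨a, ha, e⟩ := hL' hw
      rwa [show (⟨w, hP16K (mem_sup_left hw)⟩ : K2) = a from Subtype.ext e.symm]
    -- single sign changes lie outside
    have hd3 : F.dR ^ 3 = 1 := F.lift_unique (F.lift_pow F.dR_lift 3) (by
      rw [show powM pB 3 = idM from by decide +kernel]; exact F.lift_one)
    have hdK : F.dR ∈ K2 := ⟨F.mem_Kt.2 F.mv_dR.1, h3 _ hd3⟩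
    let χ : Fin 2 × Fin 2 × Fin 2 → Prop := fun x => (⟨F.npr x, hP16K (F.npr_P16 x)⟩ : K2) ∈ L
    have hχm : ∀ x y, χ (x + y) ↔ (χ x ↔ χ y) := fun x y => by
      simp only [χ]
      rw [← hsq]
      constructor <;> intro h <;> convert h using 1 <;> exact Subtype.ext (by simp [F.npr_mul])
    have hχd : ∀ x y, F.dR * F.npr x * F.dR⁻¹ = F.npr y → (χ y ↔ χ x) := fun x y e => by
      simp only [χ]
      rw [show (⟨F.npr y, hP16K (F.npr_P16 y)⟩ : K2) = ⟨F.dR, hdK⟩ * ⟨F.npr x, hP16K (F.npr_P16 x)⟩ *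
        (⟨F.dR, hdK⟩ : K2)⁻¹ from Subtype.ext e.symm]
      simp only [hsq, inv_mem_iff]
      tauto
    obtain ⟨hev, hodd⟩ := F.ev_sign χ hχm hχd (fun h => hL0 h)
    refine ⟨⟨L.map K2.subtype, (map_subtype_le _).trans inf_le_left, fun w hw => ⟨_, hWL w hw, rfl⟩, ?_, ?_, ?_⟩⟩
    · have hgen : ∀ g, g ∈ F.Kt → g ^ 3 = 1 → g ∈ L.map K2.subtype := fun g hg hg3 =>
        ⟨⟨g, hg, h3 g hg3⟩, h3L _ hg3, rfl⟩
      refine sup_le (fun a ha => hgen a ha.2 (F.adj.J_exp ha.1)) (zpowers_le.2 (hgen _ F.b_Kt ?_))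
      exact F.D.Q_exp _ (F.D.Q2_le F.b_Q2)
    · intro g hg
      obtain ⟨o, f, ho0, hof, hf1, hgo⟩ : ∃ o f, o ∈ F.K0 ∧ F.Mv o f ∧ f (e1 0 1) = e1 0 1 ∧ g * o ∈ G0 := by
        rcases hout g with h | ⟨o, ho, h⟩
        · exact ⟨1, _, one_mem _, F.mv_one, rfl, by rwa [mul_one]⟩
        · have hoT := (F.mv_oM ho).1
          exact ⟨o, _, F.CN_le_K0 ⟨F.mem_N ho.1, F.mem_Kt.2 hoT⟩, F.mv_oM ho, fixes_e1.2, h⟩
      set g2 : K2 := ⟨g * o, mul_mem hg (F.K0_le_Kt ho0), hgo⟩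
      by_cases h : g2 ∈ L
      · exact ⟨o, f, ho0, hof, hf1, g2, h, rfl⟩
      · refine ⟨o * F.npr (1, 1, 1), _, mul_mem ho0 (F.P2_le (F.P16_le (F.npr_P16 _))), Mv.mul F hof (F.npr_mv _), ?_,
          g2 * ⟨F.npr (1, 1, 1), hP16K (F.npr_P16 _)⟩, (hsq _ _).2 (iff_of_false h (hodd 0 1 ·)), ?_⟩
        · show f (fIx (1, 1, 1, 0, 0) (e1 0 1)) = _
          rw [fixes_e1.1, hf1]
        · show g * o * F.npr (1, 1, 1) = g * (o * F.npr (1, 1, 1))
          rw [mul_assoc]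
    · rintro _ ⟨g, hgL, rfl⟩ hgN
      obtain ⟨p0, hp, q, hq, e⟩ := F.K0_split (F.CN_le_K0 hgN)
      obtain ⟨c, hc, l, rfl⟩ := F.mem_P81 hq
      have hq0 : F.e c * F.b ^ l.val ∈ G0 :=
        mul_mem (h3 _ (F.e_cube c)) (pow_mem (h3 _ (F.D.Q_exp _ (F.D.Q2_le F.b_Q2))) _)
      have hp0 : p0 ∈ G0 := by
        have := mul_mem (show K2.subtype g ∈ G0 from g.2.2) (inv_mem hq0)
        rwa [show K2.subtype g = p0 * (F.e c * F.b ^ l.val) from e, mul_inv_cancel_right] at this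
      obtain ⟨v, hv, x, rfl⟩ := F.mem_P16' (h16 p0 hp0 hp)
      have hvN : v ∈ F.N := by
        have hqN : F.e c * F.b ^ l.val ∈ F.N := mul_mem (F.J_le_N (F.e_mem c)) (pow_mem (F.mem_N F.act_b) _)
        have := mul_mem (mul_mem (show K2.subtype g ∈ F.N from hgN.1) (inv_mem hqN)) (inv_mem (F.mem_N (F.npr_lift x).1))
        rwa [show K2.subtype g = v * F.npr x * (F.e c * F.b ^ l.val) from e, mul_inv_cancel_right,
          mul_inv_cancel_right] at this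
      obtain ⟨p, rfl⟩ : ∃ p : Fin 2, v = F.nT ^ p.val := by
        rcases F.W_inf_N hv hvN with h | h
        · exact ⟨0, by simpa using h⟩
        · exact ⟨1, by simpa using h⟩
      obtain ⟨p', hp'⟩ := ev_facts.2.2.1 x l p
      have hA : F.Act (K2.subtype g)
          (comp (matIx (x.1, x.2.1, x.2.2, l, 0)) (powM pT p'.val)) := by
        rw [← hp', show K2.subtype g = F.nT ^ p.val * (F.npr x * (F.e c * F.b ^ l.val)) by rw [← mul_assoc]; exact e]
        refine F.act_mul (F.lift_pow F.lift_nT _).1 (F.act_mul (F.npr_lift x).1 ?_)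
        have := F.act_mul (F.act_J (F.e_mem c)) (F.act_pow F.act_b l.val)
        have k3 : ∀ l : Fin 3, comp idM (powM pB l.val) = powM pB l.val := by decide +kernel
        rwa [k3 l] at this
      rcases ev_facts.2.2.2.1 x with ⟨i, j, rfl⟩ | ⟨i, j, rfl⟩
      · exact ⟨i, j, l, p', hA⟩
      · exfalso
        refine hodd i j ?_
        have hqL : (⟨F.e c * F.b ^ l.val, ⟨mul_mem (F.e_Jt.2 hc).2 (pow_mem F.b_Kt _), hq0⟩⟩ : K2) ∈ L :=
          (hsq ⟨F.e c, (F.e_Jt.2 hc).2, h3 _ (F.e_cube c)⟩ ⟨F.b ^ l.val, pow_mem F.b_Kt _,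
            pow_mem (h3 _ (F.D.Q_exp _ (F.D.Q2_le F.b_Q2))) _⟩).2
            (iff_of_true (h3L _ (F.e_cube c)) (h3L _ (by
              show (F.b ^ l.val) ^ 3 = 1
              rw [← pow_mul, mul_comm, pow_mul, F.D.Q_exp _ (F.D.Q2_le F.b_Q2), one_pow])))
        have hnp := mul_mem (inv_mem (hWL _ hv)) (mul_mem hgL (inv_mem hqL))
        show (⟨F.npr (evI i j + (1, 0, 0)), _⟩ : K2) ∈ L
        convert hnp using 1
        refine Subtype.ext ?_
        show F.npr (evI i j + (1, 0, 0)) = (F.nT ^ p.val)⁻¹ * (K2.subtype g * (F.e c * F.b ^ l.val)⁻¹)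
        rw [show K2.subtype g = F.nT ^ p.val * F.npr (evI i j + (1, 0, 0)) * (F.e c * F.b ^ l.val) from e]
        group
  · exfalso
    obtain ⟨v, hv, i, j, e⟩ := F.mem_P8 (mem_subgroupOf.1 hg)
    have hgt : Commute (g : G) F.nT := F.mem_Kt.1 g.2.1
    set q := (g : G) * (n0 : G) * (g : G)⁻¹ with hqd
    have e : q = v * F.npr (evI i j) := e
    have hq2 : q * q = 1 := by
      rw [hqd, hn0e, show (g : G) * F.nR 0 * (g : G)⁻¹ * (g * F.nR 0 * (g : G)⁻¹) =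
        (g : G) * (F.nR 0 * F.nR 0) * (g : G)⁻¹ by group, F.nR_sq, mul_one, mul_inv_cancel]
    have hT : F.Tc q := hqd ▸ hn0e.symm ▸ Tc.conj F (TH.tc F (F.nR_TH 0)) _
    have hU : F.Uc (q * F.nT) := by
      have h := Uc.conj F (UH.uc F (F.pair_UH (show (0 : Fin 4) ≠ 1 by decide))) (g : G)
      rw [F.nR_one] at h
      rwa [hqd, hn0e, show (g : G) * F.nR 0 * (g : G)⁻¹ * F.nT = (g : G) * (F.nR 0 * F.nT) * (g : G)⁻¹ by
        rw [mul_assoc _ _ F.nT, hgt.inv_left.eq]; group]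
    by_cases hx : evI i j = 0
    · rw [hx, F.npr_zero, mul_one] at e
      rw [e] at hT hU hq2
      obtain ⟨s, hs⟩ := F.is_exists hv
      have hs0 : s ≠ 0 := fun h0 => by
        subst h0
        rcases Is.zero F hs with h | h <;> rw [h] at e
        · exact hn0Q (by
            rw [show n0 = 1 from Subtype.ext (conj_eq_one_iff.1 e)]; exact one_mem _)
        · refine hn0Q (mem_subgroupOf.2 (mem_sup_left ?_))
          have : (n0 : G) = F.nT := by
            rw [hqd, mul_inv_eq_iff_eq_mul, ← hgt.eq] at e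
            exact mul_left_cancel e
          exact this ▸ F.nT_W
      have hY := Is.of_Tc F hs hT hs0
      exact Tc.not_Uc F (Is.Y F hs hY).2 hU
    · rw [e] at hq2
      obtain ⟨a, -, ha | ha⟩ := F.coset_inv hx rfl hv hq2
      · exact Tc.not_Uc F hT (e.trans ha ▸ Uc.conj F (UH.uc F (F.ev_class hx).1) a)
      · exact Tc.not_Ec F hT (e.trans ha ▸ Ec.conj F (EH.ec F (F.ev_class hx).2) a)

end Frame

end CfsgLib.O8T
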