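import Cfsg.Agent.Lib.OEightPlusThree.CentUE
import Cfsg.Agent.Lib.ConwayType.Space

/-!
`M` is normal of index 3 or 6.
-/

set_option autoImplicit false
set_option synthInstance.maxSize 4096
set_option maxRecDepth 8000

namespace CfsgLib.O8T

open Subgroup

universe u

/-- The matrices of the three-part of the normalizer. -/
def L9 : List M4 :=
  (List.finRange 3).flatMap fun i => (List.finRange 3).map fun j => comp (powM pA i.val) (powM pB j.val)

theorem L9_facts : (L9.all fun M => L9.all fun N => L9.contains (comp M N)) = true ∧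
    (L9.all fun M => decide (comp M (comp M M) = idM)) = true ∧ idM ∈ L9 ∧
    (∀ i j i' j' : Fin 3, comp (powM pA i.val) (powM pB j.val) = comp (powM pA i'.val) (powM pB j'.val) → i = i' ∧ j = j') ∧
    (∀ i j : Fin 3, comp (powM pA i.val) (powM pB j.val) ∈ L9) := by decide +kernel

theorem final_facts : comp (powM pA 1) (comp (nM 0) (comp (powM pA 1) (nM 0))) = sM ∧ powM pA 1 = pA ∧
    powM pB 3 = idM ∧ powM pO 1 = pO ∧ powM pO 0 = idM ∧ comp oM pT = pO ∧
    sx (5 : Fin 256) 80 = 85 ∧ swt (5 : Fin 256) = 2 ∧ swt (80 : Fin 256) = 2 := by decide +kernel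

variable {G : Type u} [Group G]

namespace Frame

variable [Finite G] (F : Frame G)

theorem oM_P2 {o : G} (ho : F.Lift o oM) : o ∈ F.P2 ∧ o ∉ F.P16 :=
  ⟨mem_sup_right ⟨oM, oM_L32, ho⟩, fun h => oM_L16 (F.P16_of_prod (one_mem _) ho (by rwa [one_mul]))⟩

/-- Conjugates of `u` lie in `MN`. -/
theorem Uc_Hg {y : G} (hy : F.Uc y) : y ∈ F.Hg := by
  haveI : Fact (Nat.Prime 2) := ⟨Nat.prime_two⟩
  obtain ⟨G0, hn, hM, -, hP, -⟩ := F.exists_G0
  have hu2 : y * y = 1 := by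
    obtain ⟨d, rfl⟩ := hy
    rw [show d * (F.nR 0 * F.nR 2) * d⁻¹ * (d * (F.nR 0 * F.nR 2) * d⁻¹) =
      d * (F.nR 0 * (F.nR 2 * F.nR 0) * F.nR 2) * d⁻¹ by group, (F.nR_comm 2 0).eq, ← mul_assoc (F.nR 0),
      F.nR_sq, one_mul, F.nR_sq, mul_one, mul_inv_cancel]
  obtain ⟨s, -, hsL, hs2, hs1, hst, hsy, -⟩ := invol_pair (C := ⊤) F.nT_sq hu2 (mem_top _) (mem_top _)
    fun c _ e => Tc.not_Uc F ⟨c, e⟩ hy
  have hyG : y ∈ G0 := by
    obtain ⟨d, hd⟩ := hy
    exact hd ▸ hn.conj_mem _ (hM (mul_mem (F.nR_M 0) (F.nR_M 2))) d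
  have hsK : s ∈ F.K0 := F.Kt_le_K0 (F.mem_Kt.2 hst)
  obtain ⟨k, hk, hkP⟩ := conj_sylow F.P2_le F.P2_isP F.P2_index (zpowers_le.2 hsK) (zpowers_invol hs2)
  have h16 := hP _ (hn.conj_mem _ (hsL G0 (hM F.nT_M) hyG) k) (hkP _ (mem_zpowers _))
  have h1 : k * y * k⁻¹ ∈ F.Hg := F.cent_P16 h16 (by
    rw [show k * s * k⁻¹ * (k * s * k⁻¹) = k * (s * s) * k⁻¹ by group, hs2]; group)
    (fun e => hs1 (conj_eq_one_iff.1 e)) (mem_centralizer_singleton_iff.2 (hsy.symm.conj k).eq)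
  have hkH := F.K0_le_Hg hk
  have := mul_mem (mul_mem (inv_mem hkH) h1) hkH
  rwa [show k⁻¹ * (k * y * k⁻¹) * k = y by group] at this

/-- Conjugates of `u` lie in `M`. -/
theorem Uc_M {y : G} (hy : F.Uc y) : y ∈ F.M := by
  obtain ⟨G0, hn, hM, -, hP, -⟩ := F.exists_G0
  have hu2 : y * y = 1 := by
    obtain ⟨d, rfl⟩ := hy
    rw [show d * (F.nR 0 * F.nR 2) * d⁻¹ * (d * (F.nR 0 * F.nR 2) * d⁻¹) =
      d * (F.nR 0 * (F.nR 2 * F.nR 0) * F.nR 2) * d⁻¹ by group, (F.nR_comm 2 0).eq, ← mul_assoc (F.nR 0),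
      F.nR_sq, one_mul, F.nR_sq, mul_one, mul_inv_cancel]
  have hyG : y ∈ G0 := by
    obtain ⟨d, hd⟩ := hy
    exact hd ▸ hn.conj_mem _ (hM (mul_mem (F.nR_M 0) (F.nR_M 2))) d
  obtain ⟨k, hk, hkP⟩ := F.Hg_into_P2 (F.Uc_Hg hy) hu2
  exact (mem_normalizer_iff.1 (F.Hg_norm hk) y).2 (F.P16_le_M (hP _ (hn.conj_mem _ hyG k) hkP))

/-- `M` is normal. -/
theorem M_normal : F.M.Normal := by
  set L := normalClosure ({F.nR 0 * F.nR 2} : Set G)
  have hL : L ≤ F.M := (closure_le _).2 fun x hx => by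
    obtain ⟨a, ha, hax⟩ := Group.mem_conjugatesOfSet_iff.1 hx
    rw [Set.mem_singleton_iff] at ha
    obtain ⟨c, hc⟩ := isConj_iff.1 hax
    exact F.Uc_M ⟨c, ha ▸ hc⟩
  have hu : ∀ {y}, F.Uc y → y ∈ L := by
    rintro y ⟨c, rfl⟩
    exact normalClosure_normal.conj_mem _ (subset_normalClosure (Set.mem_singleton _)) c
  obtain ⟨a1, h1⟩ := F.st_exists 5
  obtain ⟨a2, h2⟩ := F.st_exists 80
  have h12 := Is.mul F h1 h2
  rw [final_facts.2.2.2.2.2.2.1] at h12
  obtain ⟨c, hc⟩ := (Is.Y F h12 ((yb_iff _).2 (by decide +kernel))).1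
  have hm : a1 * a2 ∈ L := mul_mem (hu (Is.two F h1 final_facts.2.2.2.2.2.2.2.1))
    (hu (Is.two F h2 final_facts.2.2.2.2.2.2.2.2))
  have ht : F.nT ∈ L := by
    have := (normalClosure_normal : L.Normal).conj_mem _ hm c⁻¹
    rwa [← hc, show c⁻¹ * (c * F.nT * c⁻¹) * c⁻¹⁻¹ = F.nT by group] at this
  rw [← le_antisymm hL (F.M_le_normal ht)]
  exact normalClosure_normal

/-- `G = MN`. -/
theorem Hg_top : F.Hg = ⊤ := by
  refine (eq_top_iff' _).2 fun g => ?_
  haveI := F.M_normal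
  have hy : g * F.nT * g⁻¹ ∈ F.Hg := F.M_le_Hg (F.M_normal.conj_mem _ F.nT_M g)
  obtain ⟨h, hh, he⟩ := F.Tc_Hg hy ⟨g, rfl⟩
  have h1 : h⁻¹ * g ∈ F.Hg := F.cent_t_le (F.mem_Kt.2 (mul_inv_eq_iff_eq_mul.1 (by
    rw [show h⁻¹ * g * F.nT * (h⁻¹ * g)⁻¹ = h⁻¹ * (g * F.nT * g⁻¹) * h by group, ← he]; group)))
  have := mul_mem hh h1
  rwa [mul_inv_cancel_left] at this

theorem sR_M : F.sR ∈ F.M := by
  obtain ⟨n, hn, hm⟩ := F.exists_aR 1
  rw [F.lift_unique F.sR_lift (final_facts.1 ▸ F.lift_mul hn (F.lift_mul (F.nR_lift 0) (F.lift_mul hn (F.nR_lift 0))))]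
  exact mul_mem hm (mul_mem (F.nR_M 0) (mul_mem hm (F.nR_M 0)))

theorem dR_cube : F.dR ^ 3 = 1 := F.lift_unique (F.lift_pow F.dR_lift 3) (final_facts.2.2.1 ▸ F.lift_one)

theorem dR_not_M : F.dR ∉ F.M := by
  haveI : Fact (Nat.Prime 3) := ⟨Nat.prime_three⟩
  intro hd
  let carrier : Set G := {g | g ∈ F.M ∧ ∃ X ∈ L9, F.Act g X}
  have hmul : ∀ a b, a ∈ carrier → b ∈ carrier → a * b ∈ carrier := by
    rintro a b ⟨ha, X, hX, hA⟩ ⟨hb, Y, hY, hB⟩
    refine ⟨mul_mem ha hb, _, ?_, F.act_mul hA hB⟩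
    simpa using List.all_eq_true.1 (List.all_eq_true.1 L9_facts.1 X hX) Y hY
  have h9 : ∀ a ∈ carrier, a ^ 9 = 1 := by
    rintro a ⟨-, X, hX, hA⟩
    have h3 : F.Act (a ^ 3) idM := by
      have := F.act_mul hA (F.act_mul hA hA)
      rw [of_decide_eq_true (List.all_eq_true.1 L9_facts.2.1 X hX)] at this
      rwa [show a ^ 3 = a * (a * a) by rw [pow_succ', pow_two]]
    obtain ⟨c, hc⟩ := F.e_surj (F.mem_J_of_act h3)
    rw [show 9 = 3 * 3 from rfl, pow_mul, ← hc, F.e_cube]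
  let R : Subgroup G :=
    { carrier := carrier
      mul_mem' := fun {a b} ha hb => hmul a b ha hb
      one_mem' := ⟨one_mem _, idM, L9_facts.2.2.1, F.act_one⟩
      inv_mem' := fun {a} ha => by
        have : ∀ k : ℕ, a ^ (k + 1) ∈ carrier := by
          intro k
          induction k with
          | zero => simpa using ha
          | succ k ih => rw [pow_succ]; exact hmul _ _ ih ha
        rw [show a⁻¹ = a ^ 8 from inv_eq_of_mul_eq_one_left (by rw [← pow_succ, h9 a ha])]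
        exact this 7 }
  have hR : IsPGroup 3 R := fun a => ⟨2, Subtype.ext (by push_cast; exact h9 _ a.2)⟩
  choose n hn hnM using F.exists_aR
  have hf : ∀ p : V4 × Fin 3 × Fin 3, F.e p.1 * (n p.2.1.val * F.dR ^ p.2.2.val) ∈ R := fun p => by
    refine ⟨mul_mem (F.J_M _) (mul_mem (hnM _) (pow_mem hd _)), _, L9_facts.2.2.2.2 p.2.1 p.2.2, ?_⟩
    have h := F.act_mul (F.act_J (F.e_mem p.1)) (F.lift_mul (hn p.2.1.val) (F.lift_pow F.dR_lift p.2.2.val)).1
    have key : ∀ i j : Fin 3, comp idM (comp (powM pA i.val) (powM pB j.val)) = comp (powM pA i.val) (powM pB j.val) := by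
      decide +kernel
    rwa [key] at h
  have hinj : Function.Injective fun p : V4 × Fin 3 × Fin 3 => (⟨_, hf p⟩ : R) := by
    intro p q e
    have e' : F.e p.1 * (n p.2.1.val * F.dR ^ p.2.2.val) = F.e q.1 * (n q.2.1.val * F.dR ^ q.2.2.val) :=
      congrArg Subtype.val e
    have hA : ∀ p : V4 × Fin 3 × Fin 3, F.Act (F.e p.1 * (n p.2.1.val * F.dR ^ p.2.2.val))
        (comp idM (comp (powM pA p.2.1.val) (powM pB p.2.2.val))) := fun p =>
      F.act_mul (F.act_J (F.e_mem p.1)) (F.lift_mul (hn p.2.1.val) (F.lift_pow F.dR_lift p.2.2.val)).1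
    have key : ∀ i j : Fin 3, comp idM (comp (powM pA i.val) (powM pB j.val)) = comp (powM pA i.val) (powM pB j.val) := by
      decide +kernel
    have h := F.act_unique (hA p) (e' ▸ hA q)
    rw [key, key] at h
    obtain ⟨h1, h2⟩ := L9_facts.2.2.2.1 _ _ _ _ h
    rw [h1, h2, mul_left_inj] at e'
    exact Prod.ext (F.e_inj e') (Prod.ext h1 h2)
  have h729 : 729 ≤ Nat.card R := by
    have := Nat.card_le_card_of_injective _ hinj
    simpa [Nat.card_eq_fintype_card] using this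
  obtain ⟨k, hk⟩ := IsPGroup.iff_card.1 hR
  have h6 : 3 ^ 6 ∣ Nat.card R := by
    rw [hk] at h729 ⊢
    exact pow_dvd_pow 3 ((Nat.pow_le_pow_iff_right (by norm_num : 1 < 3)).1 (by norm_num; exact h729))
  obtain ⟨e⟩ := F.M_omega
  have h := h6.trans (card_dvd_of_le (fun a ha => ha.1 : R ≤ F.M))
  rw [(Nat.card_congr e.toEquiv).trans CfsgLib.ConwayType.card_Omega] at h
  exact absurd h (by decide)

/-- The index of `M`. -/
theorem M_index : F.M.index = 3 ∨ F.M.index = 6 := by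
  haveI := F.M_normal
  obtain ⟨H3, hH3⟩ : ∃ H, H = zpowers F.dR ⊔ F.M := ⟨_, rfl⟩
  have hMH : F.M ≤ H3 := hH3 ▸ le_sup_right
  have hdH : F.dR ∈ H3 := hH3 ▸ mem_sup_left (mem_zpowers _)
  have hgen : ∀ i : Fin 4, ∃ n, F.Lift n (pgen i) ∧ n ∈ H3 := by
    intro i
    obtain ⟨c, hc⟩ := F.split (F.act_gen i)
    refine ⟨_, hc, ?_⟩
    fin_cases i
    · have he : comp (vM 3) (comp (symM [true, false, false]) (comp (powM pA 2) (pgen 0))) = pT := by decide +kernel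
      obtain ⟨p, hp, hpM⟩ := F.exists_aR 2
      have hs : F.Lift (F.sR * (F.dR * (F.dR * 1))) (symM [true, false, false]) :=
        F.lift_mul F.sR_lift (F.lift_mul F.dR_lift (F.lift_mul F.dR_lift F.lift_one))
      have e1 := F.lift_unique (he ▸ F.lift_mul (F.vN_lift 3) (F.lift_mul hs (F.lift_mul hp hc))) F.lift_nT
      have hsH : F.sR * (F.dR * (F.dR * 1)) ∈ H3 :=
        mul_mem (hMH F.sR_M) (mul_mem hdH (mul_mem hdH (one_mem _)))
      have h2 : F.nT ∈ H3 := hMH F.nT_M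
      rw [← e1] at h2
      exact (mul_mem_cancel_left (hMH hpM)).1 ((mul_mem_cancel_left hsH).1 ((mul_mem_cancel_left (hMH (F.vN_M 3))).1 h2))
    · obtain ⟨p, hp, hpM⟩ := F.exists_aR 1
      rw [final_facts.2.1] at hp
      rw [F.lift_unique hc hp]; exact hMH hpM
    · rw [F.lift_unique hc F.dR_lift]; exact hdH
    · rw [F.lift_unique hc F.lift_nT]; exact hMH F.nT_M
  have hword : ∀ w : List (Fin 4), ∃ n, F.Lift n (pword w) ∧ n ∈ H3 := by
    intro w
    induction w with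
    | nil => exact ⟨1, F.lift_one, one_mem _⟩
    | cons i r ih =>
      obtain ⟨n, hn, hnH⟩ := ih
      obtain ⟨m, hm, hmH⟩ := hgen i
      exact ⟨_, F.lift_mul hm hn, mul_mem hmH hnH⟩
  have hall : ∀ g : G, g ∈ H3 ∨ ∃ o, F.Lift o oM ∧ g * o ∈ H3 := by
    intro g
    obtain ⟨m, hm, x, hx, rfl⟩ := F.mem_Hg (F.Hg_top.ge (mem_top g))
    obtain ⟨X, n, c, hn, rfl, hA⟩ := F.exists_aff hx
    obtain ⟨X', hX', hA', -⟩ := F.act_gam hx
    obtain rfl := F.act_unique hA hA'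
    obtain ⟨w, l, rfl⟩ := gam_decomp hX'
    obtain ⟨k, hk, hkH⟩ := hword w
    have hmc : m * F.e c ∈ H3 := mul_mem (hMH hm) (hMH (F.J_M c))
    obtain ⟨N', hN'⟩ := F.exists_act (inv_mem (F.mem_N hk.1))
    have hid' : comp N' (pword w) = idM := F.act_unique (F.act_mul hN' hk.1) (by rw [inv_mul_cancel]; exact F.act_one)
    have hki : F.Lift k⁻¹ N' := ⟨hN', ((show Commute F.ε k from hk.2).inv_right).eq⟩
    have hkn : F.Lift (k⁻¹ * n) (powM pO l.val) := by
      have h2 := F.lift_mul hki hn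
      rw [comp_assoc, hid'] at h2
      rwa [show comp idM (powM pO l.val) = powM pO l.val from
        (by decide +kernel : ∀ l : Fin 2, comp idM (powM pO l.val) = powM pO l.val) l] at h2
    fin_cases l
    · refine .inl ?_
      rw [show n = k from (inv_mul_eq_one.1 (F.lift_unique hkn (final_facts.2.2.2.2.1.symm ▸ F.lift_one))).symm,
        ← mul_assoc]
      exact mul_mem hmc hkH
    · obtain ⟨o, hod⟩ : ∃ o, o = k⁻¹ * n * F.nT := ⟨_, rfl⟩
      have ho : F.Lift o oM := by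
        have h := F.lift_mul hkn F.lift_nT
        rw [← hod] at h
        exact (by decide +kernel : comp (powM pO 1) pT = oM) ▸ h
      refine .inr ⟨o, ho, ?_⟩
      have ho2 : o * o = 1 := F.lift_invol ho perm_facts.2.2.2.2.2.2.2.1
      have hot : Commute o F.nT := (F.mv_oM ho).1
      have e : n = k * o * F.nT := by rw [hod, show k * (k⁻¹ * n * F.nT) * F.nT = n * (F.nT * F.nT) by group, F.nT_sq, mul_one]
      rw [e, show m * (F.e c * (k * o * F.nT)) * o = m * F.e c * k * (o * (F.nT * o)) by group, hot.symm.eq,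
        ← mul_assoc o, ho2, one_mul]
      exact mul_mem (mul_mem hmc hkH) (hMH F.nT_M)
  obtain ⟨G0, hn, hM, hcube, hP, -⟩ := F.exists_G0
  have hle : H3 ≤ G0 := hH3 ▸ sup_le (zpowers_le.2 (hcube _ F.dR_cube)) hM
  have hrel : F.M.relIndex H3 = 3 := by
    rw [hH3, relIndex_sup_right, ← inf_relIndex_right]
    haveI : Fact (Nat.Prime 3) := ⟨Nat.prime_three⟩
    have hord : orderOf F.dR = 3 := orderOf_eq_prime F.dR_cube fun e => F.dR_not_M (e ▸ one_mem _)
    have hbot : F.M ⊓ zpowers F.dR = ⊥ := (eq_bot_iff_forall _).2 fun g ⟨hgM, hg⟩ => by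
      have hc : Nat.card (zpowers F.dR) = 3 := (Nat.card_zpowers _).trans hord
      haveI : Fact (Nat.card (zpowers F.dR)).Prime := ⟨hc.symm ▸ Nat.prime_three⟩
      rcases (F.M.subgroupOf (zpowers F.dR)).eq_bot_or_eq_top_of_prime_card with e | e
      · exact congrArg Subtype.val (mem_bot.1 (e.le (show (⟨g, hg⟩ : zpowers F.dR) ∈ _ from mem_subgroupOf.2 hgM)))
      · exact absurd (subgroupOf_eq_top.1 e (mem_zpowers _)) F.dR_not_M
    rw [hbot, relIndex_bot_left, Nat.card_zpowers, hord]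
  rw [← relIndex_mul_index hMH, hrel]
  by_cases hex : ∃ o, F.Lift o oM
  · obtain ⟨o, ho⟩ := hex
    have hoH : o ∉ H3 := fun h => (F.oM_P2 ho).2 (hP o (hle h) (F.oM_P2 ho).1)
    refine .inr ?_
    rw [show H3.index = 2 from index_eq_two_iff.2 ⟨o, fun b => ?_⟩]
    rcases hall b with h | ⟨o', ho', h⟩
    · refine .inr ⟨h, fun hb => hoH ?_⟩
      have := mul_mem (inv_mem h) hb
      rwa [inv_mul_cancel_left] at this
    · obtain rfl := F.lift_unique ho' ho
      refine .inl ⟨h, fun hb => hoH ?_⟩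
      have := mul_mem (inv_mem hb) h
      rwa [inv_mul_cancel_left] at this
  · refine .inl ?_
    rw [show H3 = ⊤ from (eq_top_iff' _).2 fun g => (hall g).resolve_right fun ⟨o, ho, _⟩ => hex ⟨o, ho⟩, index_top]

end Frame

end CfsgLib.O8T
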