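import Cfsg.Agent.Lib.OEightPlusThree.QuatComm

/-!
The four quaternion groups in the centralizer of the reflection.
-/

set_option autoImplicit false
set_option synthInstance.maxSize 4096
set_option maxRecDepth 8000

namespace CfsgLib.O8T

open Subgroup

universe u

/-- The matrices carrying the first quaternion group to the others. -/
def vM : Fin 4 → M4 := ![idM, ((1, 0, 0, 0), (0, 1, 0, 0), (0, 0, 2, 0), (0, 0, 0, 2)),
  ((2, 0, 0, 0), (0, 2, 0, 0), (0, 0, 0, 2), (0, 0, 2, 0)), ((0, 2, 0, 0), (2, 0, 0, 0), (0, 0, 0, 1), (0, 0, 1, 0))]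

/-- Their words. -/
def vWord : Fin 4 → List (Fin 4) := ![[], [0, 2, 0], [1, 0, 1, 1, 0, 0], [1, 0, 1, 0, 2]]

/-- Matrices stabilizing the first quaternion group. -/
def PlaneFix (M : M4) : Prop :=
  comp M pT = comp pT M ∧ (∃ i : Fin 3, app M (i.val • zv4) = zv4) ∧
    ∃ i j : Fin 3, app M (i.val • zv4 + j.val • xv4) = xv4

instance (M : M4) : Decidable (PlaneFix M) := inferInstanceAs (Decidable (_ ∧ _ ∧ _))

/-- The vectors fixed by the quaternion group with the given index. -/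
def InPlane (k : Fin 4) (v : V4) : Prop := ∃ i j : Fin 3, app (vM k) (i.val • zv4 + j.val • xv4) = v

instance (k : Fin 4) (v : V4) : Decidable (InPlane k v) := inferInstanceAs (Decidable (∃ _, _))

/-- The pairing matrices. -/
def pairM : Fin 4 → Fin 4 → M4
  | 0, 1 => idM
  | 0, 2 => pB
  | 0, 3 => comp pB pB
  | 1, 2 => comp (vM 1) (comp pB pB)
  | 1, 3 => comp (vM 1) pB
  | 2, 3 => vM 2
  | _, _ => idM

theorem vM_facts : (∀ k, comp (vM k) (vM k) = idM ∧ comp (vM k) pT = comp pT (vM k) ∧ pword (vWord k) = vM k) ∧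
    PlaneFix (comp (vM 1) (permM CfsgPSp43Rec.swap23)) ∧ vM 0 = idM := by decide +kernel

theorem pair_facts : ∀ i j : Fin 4, i < j →
    comp (pairM i j) pT = comp pT (pairM i j) ∧ PlaneFix (comp (vM i) (comp (pairM i j) (vM 0))) ∧
      PlaneFix (comp (vM j) (comp (pairM i j) (vM 1))) := by decide +kernel

theorem pair_words : ∀ i j : Fin 4, i < j → ∃ w ∈ ([[], [2], [2, 2], [0, 2, 0, 2, 2], [0, 2, 0, 2], [1, 0, 1, 1, 0, 0]] :
    List (List (Fin 4))), pword w = pairM i j := by decide +kernel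

theorem plane_perm : (gam.all fun M => decide (comp M pT = comp pT M → ∀ k, ∃ l, PlaneFix (comp (vM l) (comp M (vM k))))) =
    true := by decide +kernel

theorem plane_move : ∀ k : Fin 4, ∀ v : V4, app pT v = v → ¬ InPlane k v →
    (app fromP (app (vM k) v)).2.2.2 ≠ 0 := by decide +kernel

variable {G : Type u} [Group G]

namespace Frame

variable [Finite G] (F : Frame G)

theorem exists_vN (k : Fin 4) : ∃ n, F.Lift n (vM k) :=
  (F.split ((vM_facts.1 k).2.2 ▸ F.act_word (vWord k))).elim fun _ h => ⟨_, h⟩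

/-- The lifts carrying the first quaternion group to the others. -/
noncomputable def vN (k : Fin 4) : G := (F.exists_vN k).choose

theorem vN_lift (k : Fin 4) : F.Lift (F.vN k) (vM k) := (F.exists_vN k).choose_spec

theorem vN_sq (k : Fin 4) : F.vN k * F.vN k = 1 := F.lift_invol (F.vN_lift k) (vM_facts.1 k).1

theorem vN_inv (k : Fin 4) : (F.vN k)⁻¹ = F.vN k := inv_eq_of_mul_eq_one_right (F.vN_sq k)

theorem vN_zero : F.vN 0 = 1 := F.lift_unique (F.vN_lift 0) (vM_facts.2.2.symm ▸ F.lift_one)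

theorem lift_nT_comm {n : G} {M : M4} (hn : F.Lift n M) (h : comp M pT = comp pT M) : Commute n F.nT :=
  F.lift_comm hn F.lift_nT h

theorem vN_nT (k : Fin 4) : Commute (F.vN k) F.nT := F.lift_nT_comm (F.vN_lift k) (vM_facts.1 k).2.1

theorem Quat_plane {g : G} (hg : g ∈ F.Quat) (i j : ℕ) : Commute g (F.e (i • zv4 + j • xv4)) := by
  rw [F.e_add, ← F.e_pow, F.x_pow, show F.e zv4 = F.D.z from F.e_z]
  exact ((show Commute g F.D.z from hg.2.1).pow_right i).mul_right ((show Commute g F.x4 from hg.2.2.1).pow_right j)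

/-- A lift stabilizing the plane normalizes the quaternion group. -/
theorem Quat_lift {n : G} {M : M4} (hn : F.Lift n M) (hM : PlaneFix M) {g : G} (hg : g ∈ F.Quat) :
    n * g * n⁻¹ ∈ F.Quat := by
  obtain ⟨hT, ⟨i, hi⟩, i', j', hij⟩ := hM
  have key : ∀ v : V4, Commute g (F.e v) → Commute (n * g * n⁻¹) (F.e (app M v)) := fun v h => by
    rw [← hn.1]; exact h.conj n
  refine ⟨by rw [conj_pow, hg.1, mul_one, mul_inv_cancel], ?_, ?_, ?_⟩
  · rw [← F.e_z, show ((1, 1, 1, 0) : V4) = app M (i.val • zv4) from hi.symm]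
    refine key _ ?_
    have := F.Quat_plane hg i.val 0
    rwa [zero_smul, add_zero] at this
  · exact (hij ▸ key _ (F.Quat_plane hg i'.val j'.val) : Commute (n * g * n⁻¹) (F.e xv4))
  · have h := (show Commute g F.nT from hg.2.2.2).conj n
    rwa [(F.lift_nT_comm hn hT).eq, mul_inv_cancel_right] at h

/-- The quaternion groups. -/
noncomputable def Qk (k : Fin 4) : Subgroup G := F.Quat.map (MulAut.conj (F.vN k)).toMonoidHom

theorem mem_Qk {k : Fin 4} {a : G} : a ∈ F.Qk k ↔ F.vN k * a * F.vN k ∈ F.Quat := by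
  constructor
  · rintro ⟨g, hg, rfl⟩
    show F.vN k * (F.vN k * g * (F.vN k)⁻¹) * F.vN k ∈ F.Quat
    rwa [F.vN_inv, show F.vN k * (F.vN k * g * F.vN k) * F.vN k = F.vN k * F.vN k * g * (F.vN k * F.vN k) by group,
      F.vN_sq, one_mul, mul_one]
  · intro h
    refine ⟨_, h, ?_⟩
    show F.vN k * (F.vN k * a * F.vN k) * (F.vN k)⁻¹ = a
    rw [mul_assoc (F.vN k) a, ← mul_assoc (F.vN k), F.vN_sq, one_mul, mul_inv_cancel_right]

theorem Qk_zero : F.Qk 0 = F.Quat := Subgroup.ext fun a => by rw [F.mem_Qk, F.vN_zero, one_mul, mul_one]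

theorem card_Qk (k : Fin 4) : Nat.card (F.Qk k) = 8 := by
  rw [Qk, card_map_of_injective (f := (MulAut.conj (F.vN k)).toMonoidHom) (MulAut.conj (F.vN k)).injective, F.card_Quat]

theorem nT_Qk (k : Fin 4) : F.nT ∈ F.Qk k := by
  rw [F.mem_Qk, (F.vN_nT k).eq, mul_assoc, F.vN_sq, mul_one]; exact F.nT_Quat

/-- A lift carrying one quaternion group onto another. -/
theorem Qk_lift {n : G} {M : M4} (hn : F.Lift n M) {k l : Fin 4} (h : PlaneFix (comp (vM l) (comp M (vM k)))) :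
    (F.Qk k).map (MulAut.conj n).toMonoidHom = F.Qk l := by
  refine eq_of_le_of_card_ge ?_ (by
    rw [card_map_of_injective (f := (MulAut.conj n).toMonoidHom) (MulAut.conj n).injective, F.card_Qk, F.card_Qk])
  rintro _ ⟨_, ⟨g, hg, rfl⟩, rfl⟩
  rw [F.mem_Qk]
  have := F.Quat_lift (F.lift_mul (F.vN_lift l) (F.lift_mul hn (F.vN_lift k))) h hg
  rw [mul_inv_rev, mul_inv_rev, F.vN_inv, F.vN_inv] at this
  show F.vN l * (n * (F.vN k * g * (F.vN k)⁻¹) * n⁻¹) * F.vN l ∈ F.Quat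
  rw [F.vN_inv]
  simpa only [mul_assoc] using this

theorem Qk_comm {i j : Fin 4} (hij : i ≠ j) {a b : G} (ha : a ∈ F.Qk i) (hb : b ∈ F.Qk j) : Commute a b := by
  have h1 : (F.Quat).map (MulAut.conj F.nW).toMonoidHom = F.Qk 1 := by
    rw [← F.Qk_zero]
    refine F.Qk_lift (F.perN_lift _) ?_
    rw [vM_facts.2.2, show comp (permM CfsgPSp43Rec.swap23) idM = permM CfsgPSp43Rec.swap23 from by decide +kernel]
    exact vM_facts.2.1
  have key : ∀ i j : Fin 4, i < j → ∀ a ∈ F.Qk i, ∀ b ∈ F.Qk j, Commute a b := by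
    intro i j hlt a ha b hb
    obtain ⟨-, hi, hj⟩ := pair_facts i j hlt
    obtain ⟨w, -, hw⟩ := pair_words i j hlt
    obtain ⟨c, hc⟩ := F.split (hw ▸ F.act_word w)
    rw [← F.Qk_lift hc hi] at ha
    rw [← F.Qk_lift hc hj, ← h1] at hb
    obtain ⟨g, hg, rfl⟩ := ha
    obtain ⟨_, ⟨h, hh, rfl⟩, rfl⟩ := hb
    rw [F.Qk_zero] at hg
    refine Commute.map ?_ _
    show Commute g (F.nW * h * F.nW⁻¹)
    rw [F.nW_inv]
    exact F.Quat_comm hg hh
  rcases lt_or_gt_of_ne hij with h | h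
  · exact key i j h a ha b hb
  · exact (key j i h b hb a ha).symm

theorem Qk_nT {k : Fin 4} {a : G} (ha : a ∈ F.Qk k) : Commute a F.nT := by
  have h := (show Commute (F.vN k * a * F.vN k) F.nT from (F.mem_Qk.1 ha).2.2.2).conj (F.vN k)
  rwa [(F.vN_nT k).eq, mul_inv_cancel_right, F.vN_inv,
    show F.vN k * (F.vN k * a * F.vN k) * F.vN k = F.vN k * F.vN k * a * (F.vN k * F.vN k) by group, F.vN_sq, one_mul,
    mul_one] at h

theorem Qk_four {k : Fin 4} {a : G} (ha : a ∈ F.Qk k) : a ^ 4 = 1 := by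
  obtain ⟨g, hg, rfl⟩ := ha
  rw [← map_pow, hg.1, map_one]

theorem Qk_fix {k : Fin 4} {a : G} (ha : a ∈ F.Qk k) {v : V4} (hv : InPlane k v) : Commute a (F.e v) := by
  obtain ⟨i, j, rfl⟩ := hv
  obtain ⟨g, hg, rfl⟩ := ha
  rw [← (F.vN_lift k).1]
  exact (F.Quat_plane hg i.val j.val).conj _

/-- Translations fixed by the reflection normalize the quaternion groups. -/
theorem Qk_conj {k : Fin 4} {a : G} (ha : a ∈ F.Qk k) {v : V4} (hv : app pT v = v) :
    F.e v * a * (F.e v)⁻¹ ∈ F.Qk k := by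
  rw [F.mem_Qk] at ha ⊢
  have hc : F.vN k * F.e v = F.e (app (vM k) v) * F.vN k := F.lift_e (F.vN_lift k) v
  have hfix : app pT (app (vM k) v) = app (vM k) v := by
    rw [← app_comp, ← (vM_facts.1 k).2.1, app_comp, hv]
  have h : (F.e v)⁻¹ * F.vN k = F.vN k * (F.e (app (vM k) v))⁻¹ := by
    rw [inv_mul_eq_iff_eq_mul, ← mul_assoc, eq_mul_inv_iff_mul_eq]
    have := congrArg (fun y => F.vN k * y * F.vN k) hc
    rw [← mul_assoc, F.vN_sq, one_mul, mul_assoc (F.vN k) (F.e _ * F.vN k), mul_assoc (F.e _), F.vN_sq, mul_one] at this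
    rw [this]
  rw [show F.vN k * (F.e v * a * (F.e v)⁻¹) * F.vN k = (F.vN k * F.e v) * a * ((F.e v)⁻¹ * F.vN k) by group, hc, h]
  refine (congrArg (· ∈ F.Quat) (by group : F.e (app (vM k) v) * F.vN k * a * (F.vN k * (F.e (app (vM k) v))⁻¹) =
    F.e (app (vM k) v) * (F.vN k * a * F.vN k) * (F.e (app (vM k) v))⁻¹)).mpr (F.Quat_norm ?_ ?_ ?_ ha)
  · rw [← F.e_z]; exact F.e_comm _ _
  · exact F.e_comm _ _
  · exact (F.nT_fix hfix).symm

theorem Qk_sq {k : Fin 4} {a : G} (ha : a ∈ F.Qk k) : (a = 1 ∨ a = F.nT) ∨ a * a = F.nT := by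
  obtain ⟨g, hg, rfl⟩ := ha
  have hnT : MulAut.conj (F.vN k) F.nT = F.nT := by
    show F.vN k * F.nT * (F.vN k)⁻¹ = F.nT
    rw [(F.vN_nT k).eq, mul_inv_cancel_right]
  rcases sl_qt _ (QuP.qt hg) with h | h | h
  · left; left
    rw [hg.uniq (F.Quat.one_mem) (by rw [h, show (⟨1, _⟩ : F.D.Ct) = 1 from rfl, map_one]; rfl), map_one]
  · left; right
    rw [hg.uniq quP_nT (by rw [h, show (⟨F.nT, _⟩ : F.D.Ct) = ⟨F.nT, F.nT_Ct⟩ from rfl, F.ψ_nT])]
    exact hnT
  · right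
    rw [← map_mul, hg.sq h]; exact hnT

theorem Qk_fpf {k : Fin 4} {a : G} (ha : a ∈ F.Qk k) {v : V4} (hv : app pT v = v) (hn : ¬ InPlane k v)
    (h : F.e v * a * (F.e v)⁻¹ = a ∨ F.e v * a * (F.e v)⁻¹ = a * F.nT) : a = 1 ∨ a = F.nT := by
  obtain ⟨g, hg, rfl⟩ := ha
  have hel : F.el (app fromP (app (vM k) v)) = F.e (app (vM k) v) := rfl
  have e1 : ∀ y, F.vN k * (F.e v * (F.vN k * y * (F.vN k)⁻¹) * (F.e v)⁻¹) * (F.vN k)⁻¹ =
      F.e (app (vM k) v) * y * (F.e (app (vM k) v))⁻¹ := fun y => by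
    rw [← (F.vN_lift k).1, F.vN_inv]
    have h2 := F.vN_sq k
    simp only [mul_inv_rev, F.vN_inv, mul_assoc]
  have hT : F.vN k * F.nT * (F.vN k)⁻¹ = F.nT := by rw [(F.vN_nT k).eq, mul_inv_cancel_right]
  rcases F.Quat_fpf (plane_move k v hv hn) hg (by
    rw [hel, ← e1]
    rcases h with h | h
    · left
      rw [show F.e v * (F.vN k * g * (F.vN k)⁻¹) * (F.e v)⁻¹ = F.vN k * g * (F.vN k)⁻¹ from h, F.vN_inv,
        show F.vN k * (F.vN k * g * F.vN k) * F.vN k = F.vN k * F.vN k * g * (F.vN k * F.vN k) by group, F.vN_sq,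
        one_mul, mul_one]
    · right
      rw [show F.e v * (F.vN k * g * (F.vN k)⁻¹) * (F.e v)⁻¹ = F.vN k * g * (F.vN k)⁻¹ * F.nT from h, F.vN_inv,
        show F.vN k * (F.vN k * g * F.vN k * F.nT) * F.vN k = F.vN k * F.vN k * g * (F.vN k * F.nT * F.vN k) by group,
        F.vN_sq, one_mul]
      rw [F.vN_inv] at hT
      rw [hT]) with r | r
  · left; rw [r, map_one]
  · right; rw [r]; exact hT

/-- Conjugation by the normalizer inside the centralizer of the reflection permutes the four groups. -/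
theorem Qk_perm {n : G} {M : M4} (hn : F.Lift n M) (hT : comp M pT = comp pT M) (k : Fin 4) :
    ∃ l, (F.Qk k).map (MulAut.conj n).toMonoidHom = F.Qk l := by
  obtain ⟨M', hM', hA, -⟩ := F.act_gam (F.mem_N hn.1)
  obtain rfl := F.act_unique hn.1 hA
  obtain ⟨l, hl⟩ := of_decide_eq_true (List.all_eq_true.1 plane_perm M hM') hT k
  exact ⟨l, F.Qk_lift hn hl⟩

end Frame

end CfsgLib.O8T
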