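import Cfsg.Agent.Lib.OEightPlusThree.Stab

/-!
The element of the normalizer of `J` moving the centre, in adapted coordinates.
-/

set_option autoImplicit false
set_option synthInstance.maxSize 4096

namespace CfsgLib.O8T

open Subgroup

universe u

/-- Candidates moving the centre into a forbidden place. -/
def badList : List (M4 × List (Fin 4)) := [
  (((0, 1, 1, 0), (0, 0, 0, 1), (1, 0, 0, 1), (0, 0, 1, 2)), [0, 0, 0, 0]),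
  (((0, 1, 1, 0), (0, 0, 0, 1), (1, 0, 0, 1), (0, 1, 2, 2)), [0, 1, 0, 0]),
  (((0, 1, 1, 0), (0, 0, 0, 1), (1, 0, 0, 1), (0, 2, 0, 2)), [0, 1, 0, 0, 0]),
  (((0, 1, 1, 0), (0, 0, 0, 1), (1, 0, 0, 1), (1, 0, 1, 2)), [0, 0, 0, 0]),
  (((0, 1, 1, 0), (0, 0, 0, 1), (1, 0, 0, 1), (1, 1, 2, 2)), [0, 1, 0, 0]),
  (((0, 1, 1, 0), (0, 0, 0, 1), (1, 0, 0, 1), (1, 2, 0, 2)), [0, 1, 0, 0, 0]),
  (((0, 1, 1, 0), (0, 0, 0, 1), (1, 0, 0, 1), (2, 0, 1, 2)), [0, 1, 0, 0]),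
  (((0, 1, 1, 0), (0, 0, 0, 1), (1, 0, 0, 1), (2, 1, 2, 2)), [0, 1, 0, 0]),
  (((0, 1, 1, 0), (0, 0, 0, 1), (1, 0, 0, 2), (0, 0, 2, 0)), [0, 0, 3, 0]),
  (((0, 1, 1, 0), (0, 0, 0, 1), (1, 0, 0, 2), (0, 2, 1, 0)), [0, 0, 3, 0]),
  (((0, 1, 1, 0), (0, 0, 0, 1), (1, 0, 0, 2), (1, 0, 2, 0)), [0, 0, 3, 0]),
  (((0, 1, 1, 0), (0, 0, 0, 1), (1, 0, 0, 2), (1, 1, 0, 0)), [0, 2, 0, 1, 0, 3, 0]),
  (((0, 1, 1, 0), (0, 0, 0, 1), (1, 0, 0, 2), (1, 2, 1, 0)), [0, 0, 3, 0]),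
  (((0, 1, 1, 0), (0, 0, 0, 1), (1, 0, 0, 2), (2, 0, 2, 0)), [0, 0, 3, 0]),
  (((0, 1, 1, 0), (0, 0, 0, 1), (1, 0, 0, 2), (2, 1, 0, 0)), [0, 2, 0, 1, 0, 3, 0]),
  (((0, 1, 1, 0), (0, 0, 0, 1), (1, 0, 0, 2), (2, 2, 1, 0)), [0, 0, 3, 0]),
  (((0, 1, 1, 0), (0, 0, 0, 1), (2, 0, 0, 1), (0, 0, 2, 2)), [0, 1, 0, 0]),
  (((0, 1, 1, 0), (0, 0, 0, 1), (2, 0, 0, 1), (0, 1, 0, 2)), [0, 1, 0, 0, 0]),
  (((0, 1, 1, 0), (0, 0, 0, 1), (2, 0, 0, 1), (0, 2, 1, 2)), [0, 1, 0, 0]),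
  (((0, 1, 1, 0), (0, 0, 0, 1), (2, 0, 0, 1), (1, 0, 2, 2)), [0, 1, 0, 0]),
  (((0, 1, 1, 0), (0, 0, 0, 1), (2, 0, 0, 1), (1, 2, 1, 2)), [0, 0, 0, 0]),
  (((0, 1, 1, 0), (0, 0, 0, 1), (2, 0, 0, 1), (2, 0, 2, 2)), [0, 1, 0, 0]),
  (((0, 1, 1, 0), (0, 0, 0, 1), (2, 0, 0, 1), (2, 1, 0, 2)), [0, 1, 0, 0, 0]),
  (((0, 1, 1, 0), (0, 0, 0, 1), (2, 0, 0, 1), (2, 2, 1, 2)), [0, 0, 0, 0]),
  (((0, 1, 1, 0), (0, 0, 0, 1), (2, 0, 0, 2), (0, 0, 1, 0)), [0, 0, 3, 0]),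
  (((0, 1, 1, 0), (0, 0, 0, 1), (2, 0, 0, 2), (0, 1, 2, 0)), [0, 0, 3, 0]),
  (((0, 1, 1, 0), (0, 0, 0, 1), (2, 0, 0, 2), (1, 0, 1, 0)), [0, 0, 3, 0]),
  (((0, 1, 1, 0), (0, 0, 0, 1), (2, 0, 0, 2), (1, 1, 2, 0)), [0, 0, 3, 0]),
  (((0, 1, 1, 0), (0, 0, 0, 1), (2, 0, 0, 2), (1, 2, 0, 0)), [0, 1, 0, 1, 0, 3, 0]),
  (((0, 1, 1, 0), (0, 0, 0, 1), (2, 0, 0, 2), (2, 0, 1, 0)), [0, 0, 3, 0]),
  (((0, 1, 1, 0), (0, 0, 0, 1), (2, 0, 0, 2), (2, 1, 2, 0)), [0, 0, 3, 0]),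
  (((0, 1, 1, 0), (0, 0, 0, 1), (2, 0, 0, 2), (2, 2, 0, 0)), [0, 1, 0, 1, 0, 3, 0]),
  (((0, 1, 1, 0), (1, 0, 0, 1), (0, 0, 0, 1), (0, 1, 0, 2)), [0, 0, 0, 0]),
  (((0, 1, 1, 0), (1, 0, 0, 1), (0, 0, 0, 1), (0, 2, 1, 2)), [0, 1, 0, 0]),
  (((0, 1, 1, 0), (1, 0, 0, 1), (0, 0, 0, 1), (1, 0, 2, 2)), [0, 1, 0, 0, 0]),
  (((0, 1, 1, 0), (1, 0, 0, 1), (0, 0, 0, 1), (1, 1, 0, 2)), [0, 0, 0, 0]),
  (((0, 1, 1, 0), (1, 0, 0, 1), (0, 0, 0, 1), (1, 2, 1, 2)), [0, 1, 0, 0]),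
  (((0, 1, 1, 0), (1, 0, 0, 1), (0, 0, 0, 1), (2, 0, 2, 2)), [0, 1, 0, 0, 0]),
  (((0, 1, 1, 0), (1, 0, 0, 1), (0, 0, 0, 1), (2, 1, 0, 2)), [0, 1, 0, 0]),
  (((0, 1, 1, 0), (1, 0, 0, 1), (0, 0, 0, 1), (2, 2, 1, 2)), [0, 1, 0, 0]),
  (((0, 1, 1, 0), (1, 0, 0, 1), (0, 0, 0, 2), (0, 1, 0, 0)), [0, 0, 3, 0]),
  (((0, 1, 1, 0), (1, 0, 0, 1), (0, 0, 0, 2), (0, 2, 1, 0)), [0, 0, 3, 0]),
  (((0, 1, 1, 0), (1, 0, 0, 1), (0, 0, 0, 2), (1, 0, 2, 0)), [0, 2, 0, 1, 0, 3, 0]),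
  (((0, 1, 1, 0), (1, 0, 0, 1), (0, 0, 0, 2), (1, 1, 0, 0)), [0, 0, 3, 0]),
  (((0, 1, 1, 0), (1, 0, 0, 1), (0, 0, 0, 2), (1, 2, 1, 0)), [0, 0, 3, 0]),
  (((0, 1, 1, 0), (1, 0, 0, 1), (0, 0, 0, 2), (2, 0, 2, 0)), [0, 2, 0, 1, 0, 3, 0]),
  (((0, 1, 1, 0), (1, 0, 0, 1), (0, 0, 0, 2), (2, 1, 0, 0)), [0, 0, 3, 0]),
  (((0, 1, 1, 0), (1, 0, 0, 1), (0, 0, 0, 2), (2, 2, 1, 0)), [0, 0, 3, 0]),
  (((0, 1, 1, 0), (1, 0, 0, 1), (1, 0, 0, 2), (0, 0, 1, 0)), [0, 0, 3, 0]),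
  (((0, 1, 1, 0), (1, 0, 0, 1), (1, 0, 0, 2), (0, 2, 0, 0)), [0, 0, 3, 0]),
  (((0, 1, 1, 0), (1, 0, 0, 1), (1, 0, 0, 2), (1, 0, 1, 0)), [0, 0, 3, 0]),
  (((0, 1, 1, 0), (1, 0, 0, 1), (1, 0, 0, 2), (1, 1, 2, 0)), [0, 1, 0, 1, 0, 3, 0]),
  (((0, 1, 1, 0), (1, 0, 0, 1), (1, 0, 0, 2), (1, 2, 0, 0)), [0, 0, 3, 0]),
  (((0, 1, 1, 0), (1, 0, 0, 1), (1, 0, 0, 2), (2, 0, 1, 0)), [0, 0, 3, 0]),
  (((0, 1, 1, 0), (1, 0, 0, 1), (1, 0, 0, 2), (2, 1, 2, 0)), [0, 1, 0, 1, 0, 3, 0]),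
  (((0, 1, 1, 0), (1, 0, 0, 1), (1, 0, 0, 2), (2, 2, 0, 0)), [0, 0, 3, 0]),
  (((0, 1, 1, 0), (1, 0, 0, 1), (2, 0, 0, 1), (0, 0, 1, 2)), [0, 1, 0, 0]),
  (((0, 1, 1, 0), (1, 0, 0, 1), (2, 0, 0, 1), (0, 1, 2, 2)), [0, 1, 0, 0, 0]),
  (((0, 1, 1, 0), (1, 0, 0, 1), (2, 0, 0, 1), (0, 2, 0, 2)), [0, 0, 0, 0]),
  (((0, 1, 1, 0), (1, 0, 0, 1), (2, 0, 0, 1), (1, 0, 1, 2)), [0, 1, 0, 0]),
  (((0, 1, 1, 0), (1, 0, 0, 1), (2, 0, 0, 1), (1, 2, 0, 2)), [0, 1, 0, 0]),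
  (((0, 1, 1, 0), (1, 0, 0, 1), (2, 0, 0, 1), (2, 0, 1, 2)), [0, 1, 0, 0]),
  (((0, 1, 1, 0), (1, 0, 0, 1), (2, 0, 0, 1), (2, 1, 2, 2)), [0, 1, 0, 0, 0]),
  (((0, 1, 1, 0), (1, 0, 0, 1), (2, 0, 0, 1), (2, 2, 0, 2)), [0, 0, 0, 0]),
  (((0, 1, 1, 0), (2, 0, 0, 1), (0, 0, 0, 1), (0, 1, 2, 2)), [0, 1, 0, 0]),
  (((0, 1, 1, 0), (2, 0, 0, 1), (0, 0, 0, 1), (0, 2, 0, 2)), [0, 1, 0, 0]),
  (((0, 1, 1, 0), (2, 0, 0, 1), (0, 0, 0, 1), (1, 0, 1, 2)), [0, 1, 0, 0, 0]),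
  (((0, 1, 1, 0), (2, 0, 0, 1), (0, 0, 0, 1), (1, 1, 2, 2)), [0, 0, 0, 0]),
  (((0, 1, 1, 0), (2, 0, 0, 1), (0, 0, 0, 1), (1, 2, 0, 2)), [0, 1, 0, 0]),
  (((0, 1, 1, 0), (2, 0, 0, 1), (0, 0, 0, 1), (2, 0, 1, 2)), [0, 1, 0, 0, 0]),
  (((0, 1, 1, 0), (2, 0, 0, 1), (0, 0, 0, 1), (2, 1, 2, 2)), [0, 0, 0, 0]),
  (((0, 1, 1, 0), (2, 0, 0, 1), (0, 0, 0, 1), (2, 2, 0, 2)), [0, 1, 0, 0]),
  (((0, 1, 1, 0), (2, 0, 0, 1), (0, 0, 0, 2), (0, 1, 2, 0)), [0, 0, 3, 0]),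
  (((0, 1, 1, 0), (2, 0, 0, 1), (0, 0, 0, 2), (0, 2, 0, 0)), [0, 0, 3, 0]),
  (((0, 1, 1, 0), (2, 0, 0, 1), (0, 0, 0, 2), (1, 0, 1, 0)), [0, 1, 0, 1, 0, 3, 0]),
  (((0, 1, 1, 0), (2, 0, 0, 1), (0, 0, 0, 2), (1, 1, 2, 0)), [0, 0, 3, 0]),
  (((0, 1, 1, 0), (2, 0, 0, 1), (0, 0, 0, 2), (1, 2, 0, 0)), [0, 0, 3, 0]),
  (((0, 1, 1, 0), (2, 0, 0, 1), (0, 0, 0, 2), (2, 0, 1, 0)), [0, 1, 0, 1, 0, 3, 0]),
  (((0, 1, 1, 0), (2, 0, 0, 1), (0, 0, 0, 2), (2, 1, 2, 0)), [0, 0, 3, 0]),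
  (((0, 1, 1, 0), (2, 0, 0, 1), (0, 0, 0, 2), (2, 2, 0, 0)), [0, 0, 3, 0]),
  (((0, 1, 1, 0), (2, 0, 0, 1), (1, 0, 0, 1), (0, 0, 2, 2)), [0, 0, 0, 0]),
  (((0, 1, 1, 0), (2, 0, 0, 1), (1, 0, 0, 1), (0, 1, 0, 2)), [0, 1, 0, 0]),
  (((0, 1, 1, 0), (2, 0, 0, 1), (1, 0, 0, 1), (0, 2, 1, 2)), [0, 1, 0, 0, 0]),
  (((0, 1, 1, 0), (2, 0, 0, 1), (1, 0, 0, 1), (1, 0, 2, 2)), [0, 1, 0, 0]),
  (((0, 1, 1, 0), (2, 0, 0, 1), (1, 0, 0, 1), (1, 1, 0, 2)), [0, 1, 0, 0]),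
  (((0, 1, 1, 0), (2, 0, 0, 1), (1, 0, 0, 1), (1, 2, 1, 2)), [0, 1, 0, 0, 0]),
  (((0, 1, 1, 0), (2, 0, 0, 1), (1, 0, 0, 1), (2, 0, 2, 2)), [0, 0, 0, 0]),
  (((0, 1, 1, 0), (2, 0, 0, 1), (1, 0, 0, 1), (2, 1, 0, 2)), [0, 1, 0, 0]),
  (((0, 1, 1, 0), (2, 0, 0, 1), (2, 0, 0, 2), (0, 0, 2, 0)), [0, 0, 3, 0]),
  (((0, 1, 1, 0), (2, 0, 0, 1), (2, 0, 0, 2), (0, 1, 0, 0)), [0, 0, 3, 0]),
  (((0, 1, 1, 0), (2, 0, 0, 1), (2, 0, 0, 2), (1, 0, 2, 0)), [0, 0, 3, 0]),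
  (((0, 1, 1, 0), (2, 0, 0, 1), (2, 0, 0, 2), (1, 1, 0, 0)), [0, 0, 3, 0]),
  (((0, 1, 1, 0), (2, 0, 0, 1), (2, 0, 0, 2), (1, 2, 1, 0)), [0, 2, 0, 1, 0, 3, 0]),
  (((0, 1, 1, 0), (2, 0, 0, 1), (2, 0, 0, 2), (2, 0, 2, 0)), [0, 0, 3, 0]),
  (((0, 1, 1, 0), (2, 0, 0, 1), (2, 0, 0, 2), (2, 1, 0, 0)), [0, 0, 3, 0]),
  (((0, 1, 1, 0), (2, 0, 0, 1), (2, 0, 0, 2), (2, 2, 1, 0)), [0, 2, 0, 1, 0, 3, 0])]

/-- Candidates making the stabilizer of the centre too large. -/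
def bigList : List (M4 × List (Fin 4)) := [
  (((0, 1, 1, 0), (0, 0, 0, 1), (1, 0, 0, 1), (2, 2, 0, 2)), [0, 0, 0, 1, 1, 0, 0]),
  (((0, 1, 1, 0), (0, 0, 0, 1), (2, 0, 0, 2), (0, 2, 0, 0)), [0, 1, 0, 1, 0]),
  (((0, 1, 1, 0), (1, 0, 0, 1), (1, 0, 0, 2), (0, 1, 2, 0)), [0, 1, 0, 1, 0]),
  (((0, 1, 1, 0), (1, 0, 0, 1), (2, 0, 0, 1), (1, 1, 2, 2)), [0, 0, 0, 1, 1, 0, 0]),
  (((0, 1, 1, 0), (2, 0, 0, 1), (0, 0, 0, 1), (0, 0, 1, 2)), [0, 0, 0, 1, 1, 0, 0]),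
  (((0, 1, 1, 0), (2, 0, 0, 1), (0, 0, 0, 2), (0, 0, 1, 0)), [0, 1, 0, 1, 0])]

/-- The remaining candidates. -/
def goodList : List (M4) := [
  ((0, 1, 1, 0), (0, 0, 0, 1), (1, 0, 0, 2), (0, 1, 0, 0)),
  ((0, 1, 1, 0), (0, 0, 0, 1), (2, 0, 0, 1), (1, 1, 0, 2)),
  ((0, 1, 1, 0), (1, 0, 0, 1), (0, 0, 0, 1), (0, 0, 2, 2)),
  ((0, 1, 1, 0), (1, 0, 0, 1), (0, 0, 0, 2), (0, 0, 2, 0)),
  ((0, 1, 1, 0), (2, 0, 0, 1), (1, 0, 0, 1), (2, 2, 1, 2)),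
  ((0, 1, 1, 0), (2, 0, 0, 1), (2, 0, 0, 2), (0, 2, 1, 0))]

/-- The generators. -/
def gen4 (H : M4) (i : Fin 4) : M4 := [H, Basis.mA, Basis.mB, mT].getD i.val idM

/-- The value of a word. -/
def wordM (H : M4) : List (Fin 4) → M4
  | [] => idM
  | i :: r => comp (gen4 H i) (wordM H r)

/-- A place in the first core where no conjugate of the centre lies. -/
def Forbidden (v : V4) : Prop :=
  v.2.2.2 = 0 ∧ ((v.2.1 = 0 ∧ v.2.2.1 ≠ 0) ∨ (v.2.1 ≠ 0 ∧ v.2.2.1 = 0))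

instance (v : V4) : Decidable (Forbidden v) := inferInstanceAs (Decidable (_ ∧ _))

/-- The stabilizer list. -/
def stList : List M4 :=
  (List.finRange 3).flatMap fun i => (List.finRange 3).flatMap fun j => (List.finRange 2).flatMap fun k =>
    (List.finRange 2).map fun l => stM i.val j.val k.val l.val

/-- The stabilizer list inside SL(2,3). -/
def stListOne : List M4 :=
  (List.finRange 3).flatMap fun i => (List.finRange 3).flatMap fun j => (List.finRange 2).map fun k =>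
    stM i.val j.val k.val 0

/-- The matrix of the moving element. -/
def mH : M4 := ((0, 1, 1, 0), (0, 0, 0, 1), (2, 0, 0, 1), (1, 1, 0, 2))

/-- Its companion, present with the outer involution. -/
def mH' : M4 := ((0, 1, 1, 0), (0, 0, 0, 1), (1, 0, 0, 2), (0, 1, 0, 0))

/-- The change of the last basis element. -/
def mS (k : ZMod 3) : M4 := ((1, 0, 0, 0), (0, 1, 0, 0), (0, 0, 1, 0), (k, 0, 0, 1))

theorem bad_check : ∀ p ∈ badList, Forbidden (app (wordM p.1 p.2) (1, 0, 0, 0)) := by decide +kernel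

theorem big_check : ∀ p ∈ bigList, app (wordM p.1 p.2) (1, 0, 0, 0) = (1, 0, 0, 0) ∧ wordM p.1 p.2 ∉ stList := by
  decide +kernel

theorem outer_check : app (wordM mH' [0, 1, 0, 2, 0]) (1, 0, 0, 0) = (1, 0, 0, 0) ∧
    wordM mH' [0, 1, 0, 2, 0] ∉ stListOne ∧ comp mH' mO = mH := by decide +kernel

theorem gauge_check_all : (goodList.all fun H => decide (∃ k : ZMod 3,
    comp (mS (-k)) (comp H (mS k)) = mH ∨ comp (mS (-k)) (comp H (mS k)) = mH')) = true := by decide +kernel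

theorem gauge_check (H : M4) (h : H ∈ goodList) : ∃ k : ZMod 3,
    comp (mS (-k)) (comp H (mS k)) = mH ∨ comp (mS (-k)) (comp H (mS k)) = mH' :=
  of_decide_eq_true (List.all_eq_true.1 gauge_check_all H h)

theorem gauge_facts : ∀ k : ZMod 3, comp (mS k) (mS (-k)) = idM ∧
    comp (mS (-k)) (comp mT (mS k)) = mT ∧ comp (mS (-k)) (comp mO (mS k)) = mO := by decide +kernel

theorem complete : ∀ β α δ γ : ZMod 3, (α = 1 ∨ (α = 0 ∧ β = 1)) → β * γ - α * δ ≠ 0 → ∀ n : V4, n.2.1 ≠ n.2.2.1 →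
    comp (comp Basis.mA Basis.mB) ((0, 1, 1, 0), (β, 0, 0, α), (δ, 0, 0, γ), n) =
      comp ((0, 1, 1, 0), (β, 0, 0, α), (δ, 0, 0, γ), n)
        (comp (powM Basis.mA (2 * α).val) (powM Basis.mB γ.val)) →
    ((0, 1, 1, 0), (β, 0, 0, α), (δ, 0, 0, γ), n) ∈ (badList.map Prod.fst ++ bigList.map Prod.fst ++ goodList) := by
  decide +kernel

theorem kernel_vector : ∀ β α δ γ : ZMod 3, β * γ - α * δ = 0 →
    ∃ u1 u2 : ZMod 3, (u1, u2) ≠ 0 ∧ u1 * β + u2 * δ = 0 ∧ u1 * α + u2 * γ = 0 := by decide +kernel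

variable {G : Type u} [Group G]

namespace Basis

variable [Finite G] (B : Basis G)

theorem forbidden {n : G} {M : M4} (hn : B.Acts n M) : ¬ Forbidden (app M (1, 0, 0, 0)) := by
  intro ⟨h4, h⟩
  have e := hn (1, 0, 0, 0)
  rw [B.el_basis.1] at e
  obtain ⟨u, hu⟩ : ∃ u, app M (1, 0, 0, 0) = u := ⟨_, rfl⟩
  rw [hu] at e h4 h
  have hQ : (B.D.conj n).z ∈ B.D.Q := by
    show n * B.D.z * n⁻¹ ∈ B.D.Q
    rw [e]; exact B.el_Q.2 h4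
  obtain ⟨i, j, k, l⟩ := u
  obtain rfl : l = 0 := h4
  have hnZ : (B.D.conj n).z ∉ B.D.Zc := by
    intro hz
    change n * B.D.z * n⁻¹ ∈ B.D.Zc at hz
    rw [e] at hz
    rcases h with ⟨-, h⟩ | ⟨h, -⟩
    · exact h (B.el_Q1 (B.D.Zc_le_Q1 hz)).1
    · exact h (B.el_Q2 (B.D.Zc_le_Q2 hz)).1
  have A : Adj B.D (B.D.conj n) := ⟨hQ, hnZ⟩
  rcases h with ⟨h, -⟩ | ⟨-, h⟩
  · refine A.x_nQ2 ?_
    show n * B.D.z * n⁻¹ ∈ B.D.Q2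
    obtain rfl : j = 0 := h
    rw [e]
    simp only [el, ZMod.val_zero, pow_zero, mul_one]
    exact mul_mem (pow_mem (B.D.Zc_le_Q2 (mem_zpowers _)) _) (pow_mem B.x_Q _)
  · refine A.x_nQ1 ?_
    show n * B.D.z * n⁻¹ ∈ B.D.Q1
    obtain rfl : k = 0 := h
    rw [e]
    simp only [el, ZMod.val_zero, pow_zero, mul_one]
    exact mul_mem (pow_mem (B.D.Zc_le_Q1 (mem_zpowers _)) _) (pow_mem B.q_Q _)

theorem word_acts {h τ : G} {H : M4} (hh : B.Acts h H) (hτ : B.Acts τ mT) :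
    ∀ w : List (Fin 4), ∃ n, B.Acts n (wordM H w) := by
  intro w
  induction w with
  | nil => exact ⟨1, B.acts_one⟩
  | cons i r ih =>
    obtain ⟨n, hn⟩ := ih
    have : ∃ m, B.Acts m (gen4 H i) := by
      fin_cases i
      exacts [⟨h, hh⟩, ⟨B.a, B.acts_a⟩, ⟨B.b, B.acts_b⟩, ⟨τ, hτ⟩]
    obtain ⟨m, hm⟩ := this
    exact ⟨m * n, B.acts_mul hm hn⟩

theorem stab_mem {n : G} {M : M4} (hn : B.Acts n M) (hz : app M (1, 0, 0, 0) = (1, 0, 0, 0)) :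
    M ∈ stList ∧ ((∀ y : B.D.Ct, (B.D.ψ y).2 = 1) → M ∈ stListOne) := by
  have hC : n ∈ B.D.Ct := B.D.mem_Ct.2 (by
    have := hn (1, 0, 0, 0)
    rw [hz, B.el_basis.1] at this
    exact mul_inv_eq_iff_eq_mul.1 this)
  obtain ⟨i, j, k, l, hM, hl, -⟩ := B.stab hC (B.acts_norm hn)
  obtain rfl := B.acts_unique hn hM
  refine ⟨?_, fun h => ?_⟩
  · simp only [stList, List.mem_flatMap, List.mem_map, List.mem_finRange, true_and]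
    exact ⟨i, j, k, l, rfl⟩
  · simp only [stListOne, List.mem_flatMap, List.mem_map, List.mem_finRange, true_and]
    exact ⟨i, j, k, by rw [hl h]⟩

/-- Changing the last basis element. -/
def shift (k : ZMod 3) : Basis G :=
  { B with
    w := B.el (k, 0, 0, 1)
    w_J := by
      simp only [el, ZMod.val_zero, pow_zero, mul_one, show (1 : ZMod 3).val = 1 from rfl, pow_one]
      exact mul_mem (pow_mem (B.adj.symm.A_le_J0 (mem_sup_right (mem_zpowers _))) _) B.w_J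
    w_Q := fun h => by
      have := B.el_Q.1 h
      exact absurd this (show (1 : ZMod 3) ≠ 0 by decide)
    a_w := by
      rw [B.acts_a (k, 0, 0, 1),
        show app mA (k, 0, 0, 1) = (0, 1, 0, 0) + (k, 0, 0, 1) by simp [app, mA],
        B.el_add, B.el_basis.2.1]
    b_w := by
      rw [B.acts_b (k, 0, 0, 1),
        show app mB (k, 0, 0, 1) = (0, 0, 1, 0) + (k, 0, 0, 1) by simp [app, mB],
        B.el_add, B.el_basis.2.2.1] }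

theorem el_pow (v : V4) (m : ℕ) : B.el v ^ m = B.el (m • v) := by
  induction m with
  | zero => rw [pow_zero, zero_smul, B.el_zero]
  | succ m ih => rw [pow_succ, ih, succ_nsmul, B.el_add]

theorem shift_el (k : ZMod 3) (v : V4) : (B.shift k).el v = B.el (app (mS k) v) := by
  obtain ⟨e1, e2, e3, -⟩ := B.el_basis
  show B.D.z ^ v.1.val * B.q ^ v.2.1.val * B.x ^ v.2.2.1.val * B.el (k, 0, 0, 1) ^ v.2.2.2.val = _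
  rw [← e1, ← e2, ← e3, B.el_pow, B.el_pow, B.el_pow, B.el_pow, ← B.el_add, ← B.el_add, ← B.el_add]
  congr 1
  simp [app, mS, nsmul_eq_mul, ZMod.natCast_zmod_val]

theorem shift_acts (k : ZMod 3) {n : G} {M : M4} (h : B.Acts n M) :
    (B.shift k).Acts n (comp (mS (-k)) (comp M (mS k))) := fun v => by
  rw [B.shift_el, B.shift_el, h, ← app_comp, ← app_comp]
  congr 2
  obtain ⟨h1, -⟩ := gauge_facts k
  rw [show comp (mS k) (comp (mS (-k)) (comp M (mS k))) = comp M (mS k) from ?_]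
  have hassoc : ∀ P Q R : M4, comp P (comp Q R) = comp (comp P Q) R := fun P Q R =>
    Prod.ext (app_comp P Q R.1).symm (Prod.ext (app_comp P Q R.2.1).symm
      (Prod.ext (app_comp P Q R.2.2.1).symm (app_comp P Q R.2.2.2).symm))
  have hid : ∀ M : M4, comp idM M = M := fun M => by simp only [comp, app_idM]
  rw [hassoc, h1, hid]

/-- An element carrying the first setting to the second inside the normalizer of `J`. -/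
def Mover (h : G) : Prop :=
  h * B.D.z * h⁻¹ = B.D'.z ∧ B.Norm h ∧ (∀ a ∈ B.D.Q, h * a * h⁻¹ ∈ B.D'.Q) ∧
    (∀ a, h * a * h⁻¹ ∈ B.D'.Q → a ∈ B.D.Q)

theorem mover_mul {h s : G} (hh : B.Mover h) (hs : s ∈ B.D.Ct) (hN : B.Norm s) : B.Mover (h * s) := by
  obtain ⟨h1, h2, h3, h4⟩ := hh
  refine ⟨?_, fun a ha => ?_, fun a ha => ?_, fun a ha => ?_⟩
  · rw [← h1, show h * s * B.D.z * (h * s)⁻¹ = h * (s * B.D.z * s⁻¹) * h⁻¹ by group, B.D.mem_Ct.1 hs,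
      mul_inv_cancel_right]
  · rw [show h * s * a * (h * s)⁻¹ = h * (s * a * s⁻¹) * h⁻¹ by group]
    exact h2 _ (hN a ha)
  · rw [show h * s * a * (h * s)⁻¹ = h * (s * a * s⁻¹) * h⁻¹ by group]
    exact h3 _ (B.D.conj_Q hs ha)
  · rw [show h * s * a * (h * s)⁻¹ = h * (s * a * s⁻¹) * h⁻¹ by group] at ha
    have := B.D.conj_Q (inv_mem hs) (h4 _ ha)
    rwa [show s⁻¹ * (s * a * s⁻¹) * s⁻¹⁻¹ = a by group] at this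

theorem el_x0 : B.el (0, 1, 1, 0) = B.D'.z := by
  rw [B.x0_eq, show ((0, 1, 1, 0) : V4) = (0, 1, 0, 0) + (0, 0, 1, 0) by simp, B.el_add, B.el_basis.2.1,
    B.el_basis.2.2.1]

theorem el_J0' {v : V4} : B.el v ∈ B.D'.J0 B.D ↔ v.2.1 = v.2.2.1 := by
  obtain ⟨i, j, k, l⟩ := v
  have hz : B.D.z ∈ B.D'.J0 B.D := B.adj.symm.A_le_J0 (mem_sup_right (mem_zpowers _))
  have hx0 : B.D'.z ∈ B.D'.J0 B.D := B.adj.symm.A_le_J0 (mem_sup_left (mem_zpowers _))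
  have hbase : ∀ i j l : ZMod 3, B.el (i, j, j, l) ∈ B.D'.J0 B.D := fun i j l => by
    have e : B.el (i, j, j, l) = B.D.z ^ i.val * B.D'.z ^ j.val * B.w ^ l.val := by
      rw [← B.el_x0, ← B.el_basis.1, B.el_pow, B.el_pow, ← B.el_basis.2.2.2, B.el_pow, ← B.el_add, ← B.el_add]
      congr 1
      simp [nsmul_eq_mul, ZMod.natCast_zmod_val]
    rw [e]
    exact mul_mem (mul_mem (pow_mem hz _) (pow_mem hx0 _)) (pow_mem B.w_J _)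
  show B.el (i, j, k, l) ∈ _ ↔ j = k
  refine ⟨fun h => ?_, fun h => h ▸ hbase i j l⟩
  have hd : B.el (0, j - k, 0, 0) ∈ B.D'.J0 B.D := by
    have e : B.el (i, j, k, l) = B.el (0, j - k, 0, 0) * B.el (i, k, k, l) := by rw [← B.el_add]; simp
    rw [e] at h
    exact (mul_mem_cancel_right (hbase i k l)).1 h
  have hQ1 : B.el (0, j - k, 0, 0) ∈ B.D.J0 B.D' := by
    simp only [el, ZMod.val_zero, pow_zero, mul_one, one_mul]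
    exact pow_mem B.q_J _
  obtain ⟨a, ha, b, hb, e⟩ := mem_sup_comm
    (fun a ha b hb => (B.D.comm_Zc (B.D.Q_z _ ((zpowers_le.2 B.adj.x_Q) hb)) ha).symm)
    (B.adj.J0_inf.le ⟨hQ1, hd.1⟩)
  obtain ⟨m, -, ea⟩ : ∃ m : ℕ, m < 3 ∧ a = B.D.z ^ m := by
    rcases B.D.mem_Zc.1 ha with e | e | e
    exacts [⟨0, by norm_num, by rw [e, pow_zero]⟩, ⟨1, by norm_num, by rw [e, pow_one]⟩,
      ⟨2, by norm_num, by rw [e, pow_two]⟩]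
  obtain ⟨r, -, eb⟩ : ∃ r : ℕ, r < 3 ∧ b = B.D'.z ^ r := by
    rcases B.D'.mem_Zc.1 hb with e | e | e
    exacts [⟨0, by norm_num, by rw [e, pow_zero]⟩, ⟨1, by norm_num, by rw [e, pow_one]⟩,
      ⟨2, by norm_num, by rw [e, pow_two]⟩]
  rw [ea, eb, ← B.el_x0, ← B.el_basis.1, B.el_pow, B.el_pow, ← B.el_add] at e
  have h2 := congrArg (fun v : V4 => v.2.1) (B.el_inj e)
  have h3 := congrArg (fun v : V4 => v.2.2.1) (B.el_inj e)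
  simp [nsmul_eq_mul] at h2 h3
  rw [← h3] at h2
  exact sub_eq_zero.1 h2

/-- The shape of a mover. -/
theorem mover_shape {h : G} (hh : B.Mover h) : ∃ (β ρ α δ σ γ : ZMod 3) (n : V4),
    B.Acts h ((0, 1, 1, 0), (β, ρ, ρ, α), (δ, σ, σ, γ), n) ∧ n.2.1 ≠ n.2.2.1 ∧
    comp (comp mA mB) ((0, 1, 1, 0), (β, ρ, ρ, α), (δ, σ, σ, γ), n) =
      comp ((0, 1, 1, 0), (β, ρ, ρ, α), (δ, σ, σ, γ), n) (comp (powM mA (2 * α).val) (powM mB γ.val)) := by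
  obtain ⟨h1, h2, h3, h4⟩ := hh
  obtain ⟨M, hM⟩ := B.norm_acts h2
  obtain ⟨b1, b2, b3, b4⟩ := app_basis M
  obtain ⟨e1, e2, e3, e4⟩ := B.el_basis
  have hJ0' : ∀ a ∈ B.D.J0 B.D', h * a * h⁻¹ ∈ B.D'.J0 B.D := fun a ha => by
    rw [← B.adj.symm.J_inf_Q, B.D.J_symm]
    exact ⟨h2 a (B.adj.J0_le_J ha), h3 a ha.1⟩
  have hz : M.1 = (0, 1, 1, 0) := B.el_inj (by
    have := hM (1, 0, 0, 0)
    rw [b1, e1, h1] at this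
    rw [← this, B.el_x0])
  have hq := hJ0' _ B.q_J
  rw [← e2, hM, b2, B.el_J0'] at hq
  have hx := hJ0' _ B.x_J
  rw [← e3, hM, b3, B.el_J0'] at hx
  have hw : M.2.2.2.2.1 ≠ M.2.2.2.2.2.1 := fun e => B.w_Q (by
    refine h4 _ ?_
    rw [← e4, hM, b4]
    exact (B.el_J0'.2 e).1)
  obtain ⟨M1, ⟨β, ρ, ρ', α⟩, ⟨δ, σ, σ', γ⟩, n⟩ := M
  obtain rfl : M1 = (0, 1, 1, 0) := hz
  obtain rfl : ρ = ρ' := hq
  obtain rfl : σ = σ' := hx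
  refine ⟨β, ρ, α, δ, σ, γ, n, hM, hw, ?_⟩
  obtain ⟨d, hd⟩ : ∃ d, d = h⁻¹ * (B.a * B.b) * h := ⟨_, rfl⟩
  have hdQ : d ∈ B.D.Q := h4 d (by rw [hd, show h * (h⁻¹ * (B.a * B.b) * h) * h⁻¹ = B.a * B.b by group]; exact B.ab_Q)
  obtain ⟨i, j, hij, -⟩ := B.Q_acts hdQ
  have e := B.acts_unique (B.acts_mul (B.acts_mul B.acts_a B.acts_b) hM) (by
    have := B.acts_mul hM hij
    rwa [hd, show h * (h⁻¹ * (B.a * B.b) * h) = B.a * B.b * h by group] at this)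
  have hi := congrArg (fun M : M4 => M.2.1.2.1) e
  have hj := congrArg (fun M : M4 => M.2.2.1.2.1) e
  rw [powAB] at hi hj
  simp only [comp, app, mA, mB] at hi hj
  ring_nf at hi hj
  have h32 : ∀ a : ZMod 3, a * 4 = a := by decide
  have ei : 2 * α = (i.val : ZMod 3) := by
    have : α = (i.val : ZMod 3) * 2 := by linear_combination hi
    rw [this, show 2 * ((i.val : ZMod 3) * 2) = (i.val : ZMod 3) * 4 by ring, h32]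
  have ej : γ = (j.val : ZMod 3) := by linear_combination hj
  rw [show (2 * α).val = i.val by rw [ei, ZMod.val_cast_of_lt i.2],
    show γ.val = j.val by rw [ej, ZMod.val_cast_of_lt j.2]]
  exact e

theorem exists_normal_mover {g : G} (hg : B.D' = B.D.conj g) {τ : B.D.Ct} (hτ : B.Acts τ mT) :
    ∃ (h : G) (β α δ γ : ZMod 3) (n : V4), (α = 1 ∨ (α = 0 ∧ β = 1)) ∧ β * γ - α * δ ≠ 0 ∧ n.2.1 ≠ n.2.2.1 ∧
    B.Acts h ((0, 1, 1, 0), (β, 0, 0, α), (δ, 0, 0, γ), n) ∧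
    comp (comp mA mB) ((0, 1, 1, 0), (β, 0, 0, α), (δ, 0, 0, γ), n) =
      comp ((0, 1, 1, 0), (β, 0, 0, α), (δ, 0, 0, γ), n) (comp (powM mA (2 * α).val) (powM mB γ.val)) := by
  obtain ⟨h, h1, h2, -, h3, h4⟩ := B.adj.exists_move_J hg
  have hm : B.Mover h := ⟨h1, fun a ha => (h2 a).2 ha, h3, h4⟩
  obtain ⟨β, ρ, α, δ, σ, γ, n, hM, -, -⟩ := B.mover_shape hm
  -- remove the coefficients on the conjugate
  obtain ⟨i, hi⟩ : ∃ i : Fin 3, ρ + 2 * (i.val : ZMod 3) = 0 := by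
    exact (show ∀ ρ : ZMod 3, ∃ i : Fin 3, ρ + 2 * (i.val : ZMod 3) = 0 by decide) ρ
  obtain ⟨j, hj⟩ : ∃ j : Fin 3, σ + (j.val : ZMod 3) = 0 := by
    exact (show ∀ σ : ZMod 3, ∃ j : Fin 3, σ + (j.val : ZMod 3) = 0 by decide) σ
  obtain ⟨s, hs⟩ : ∃ s, s = B.a ^ i.val * B.b ^ j.val := ⟨_, rfl⟩
  have hsC : s ∈ B.D.Ct := hs ▸ B.D.Q_le_Ct (mul_mem (pow_mem B.a_Q.1 _) (pow_mem (B.D.Q2_le B.b_Q) _))
  have hsA : B.Acts s _ := hs ▸ B.acts_mul (B.acts_pow B.acts_a i.val) (B.acts_pow B.acts_b j.val)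
  have hm1 := B.mover_mul hm hsC (B.acts_norm hsA)
  obtain ⟨β1, ρ1, α1, δ1, σ1, γ1, n1, hM1, -, -⟩ := B.mover_shape hm1
  have e := B.acts_unique hM1 (B.acts_mul hM hsA)
  rw [powAB] at e
  obtain ⟨-, eq1, ex1, -⟩ := by simpa only [comp, Prod.mk.injEq] using e
  simp only [app, Prod.mk.injEq] at eq1 ex1
  obtain ⟨-, eρ, -, -⟩ := eq1
  obtain ⟨-, eσ, -, -⟩ := ex1
  obtain rfl : ρ1 = 0 := by rw [eρ]; linear_combination hi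
  obtain rfl : σ1 = 0 := by rw [eσ]; linear_combination hj
  have hdet : ∀ (h : G) (β α δ γ : ZMod 3) (n : V4),
      B.Acts h ((0, 1, 1, 0), (β, 0, 0, α), (δ, 0, 0, γ), n) → β * γ - α * δ ≠ 0 := by
    intro h β α δ γ n hM h0
    obtain ⟨u1, u2, hu, e1, e2⟩ : ∃ u1 u2 : ZMod 3, (u1, u2) ≠ 0 ∧ u1 * β + u2 * δ = 0 ∧ u1 * α + u2 * γ = 0 := by
      exact kernel_vector β α δ γ h0
    have := hM (0, u1, u2, 0)
    rw [show app ((0, 1, 1, 0), (β, 0, 0, α), (δ, 0, 0, γ), n) (0, u1, u2, 0) = 0 by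
      simp [app, e1, e2], B.el_zero, mul_inv_eq_one, mul_eq_left, ← B.el_zero] at this
    have := B.el_inj this
    exact hu (by simpa [Prod.ext_iff] using this)
  by_cases hn : α1 = 1 ∨ (α1 = 0 ∧ β1 = 1)
  · obtain ⟨β2, ρ2, α2, δ2, σ2, γ2, n2, hM2, hn2, hr2⟩ := B.mover_shape hm1
    have e2 := B.acts_unique hM2 hM1
    simp only [Prod.mk.injEq] at e2
    obtain ⟨-, ⟨rfl, rfl, -, rfl⟩, ⟨rfl, rfl, -, rfl⟩, rfl⟩ := e2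
    exact ⟨_, β2, α2, δ2, γ2, n2, hn, hdet _ _ _ _ _ _ hM1, hn2, hM1, hr2⟩
  · have hm2 := B.mover_mul hm1 τ.2 (B.acts_norm hτ)
    obtain ⟨β2, ρ2, α2, δ2, σ2, γ2, n2, hM2, hn2, hr2⟩ := B.mover_shape hm2
    have e2 := B.acts_unique hM2 (B.acts_mul hM1 hτ)
    obtain ⟨-, eq2, ex2, -⟩ := by simpa only [comp, Prod.mk.injEq] using e2
    simp only [app, mT, Prod.mk.injEq] at eq2 ex2
    obtain ⟨eβ, eρ, -, eα⟩ := eq2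
    obtain ⟨-, eσ, -, -⟩ := ex2
    obtain rfl : ρ2 = 0 := by rw [eρ]; ring
    obtain rfl : σ2 = 0 := by rw [eσ]; ring
    refine ⟨_, β2, α2, δ2, γ2, n2, ?_, hdet _ _ _ _ _ _ hM2, hn2, hM2, hr2⟩
    have h0 := hdet _ _ _ _ _ _ hM1
    have fin : ∀ a b d g : ZMod 3, b * g - a * d ≠ 0 → ¬(a = 1 ∨ (a = 0 ∧ b = 1)) →
        2 * a = 1 ∨ (2 * a = 0 ∧ 2 * b = 1) := by decide +kernel
    rw [eα, eβ]
    simpa using fin α1 β1 δ1 γ1 h0 hn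

end Basis

/-- Adapted coordinates, with the element moving the centre. -/
structure Frame (G : Type u) [Group G] extends Basis G where
  /-- the moving element -/
  h : G
  /-- the involution -/
  τ : G
  h_acts : ∀ v, h * toBasis.el v * h⁻¹ = toBasis.el (app mH v)
  τ_acts : ∀ v, τ * toBasis.el v * τ⁻¹ = toBasis.el (app mT v)

theorem Basis.frame_of [Finite G] (B : Basis G) {g : G} (hg : B.D' = B.D.conj g) :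
    ∃ F : Frame G, F.D = B.D ∧ F.D' = B.D' := by
  obtain ⟨τ, hτ, -⟩ := B.exists_t
  obtain ⟨h, β, α, δ, γ, n, hn, hdet, hn2, hM, hr⟩ := B.exists_normal_mover hg hτ
  rcases List.mem_append.1 (complete β α δ γ hn hdet n hn2 hr) with hc | hc
  · rcases List.mem_append.1 hc with hc | hc
    · obtain ⟨⟨H, w⟩, hp, rfl⟩ := List.mem_map.1 hc
      obtain ⟨m, hm⟩ := B.word_acts hM hτ w
      exact absurd (bad_check _ hp) (B.forbidden hm)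
    · obtain ⟨⟨H, w⟩, hp, rfl⟩ := List.mem_map.1 hc
      obtain ⟨m, hm⟩ := B.word_acts hM hτ w
      exact absurd (B.stab_mem hm (big_check _ hp).1).1 (big_check _ hp).2
  · obtain ⟨k, hk⟩ := gauge_check _ hc
    have hM' := B.shift_acts k hM
    have hτ' : (B.shift k).Acts τ mT := (gauge_facts k).2.1 ▸ B.shift_acts k hτ
    rcases hk with hk | hk <;> rw [hk] at hM'
    · exact ⟨{ toBasis := B.shift k, h := h, τ := τ, h_acts := hM', τ_acts := hτ' }, rfl, rfl⟩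
    · by_cases hout : ∀ y : (B.shift k).D.Ct, ((B.shift k).D.ψ y).2 = 1
      · obtain ⟨m, hm⟩ := (B.shift k).word_acts hM' hτ' [0, 1, 0, 2, 0]
        exact absurd (((B.shift k).stab_mem hm outer_check.1).2 hout) outer_check.2.1
      · push Not at hout
        obtain ⟨o, ho, -, -⟩ := (B.shift k).exists_o hout
        exact ⟨{ toBasis := B.shift k, h := h * o, τ := τ, h_acts := outer_check.2.2 ▸ (B.shift k).acts_mul hM' ho,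
                 τ_acts := hτ' }, rfl, rfl⟩

theorem Setting.exists_frame [Finite G] (D : Setting G) : ∃ F : Frame G, F.D = D := by
  obtain ⟨g, hg, hgz⟩ := D.conj_in
  have A : Adj D (D.conj g) := ⟨hg, hgz⟩
  obtain ⟨B, hB, hB'⟩ := A.exists_basis
  obtain ⟨F, hF, -⟩ := B.frame_of (g := g) (by rw [hB', hB])
  exact ⟨F, hF.trans hB⟩

end CfsgLib.O8T
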