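import Cfsg.Agent.Lib.OEightPlusThree.CentXT
import Cfsg.Agent.Lib.CoprimeGen

/-!
Signalizers of the fixed part of `J` in the centralizer of the reflection lie in `W`.
-/

set_option autoImplicit false
set_option synthInstance.maxSize 4096
set_option maxRecDepth 8000

namespace CfsgLib.O8T

open Subgroup

universe u

variable {G : Type u} [Group G]

namespace Frame

variable [Finite G] (F : Frame G)

/-- The plane spanned by two single supports. -/
def planeC : Subgroup G where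
  carrier := {x | ∃ i j : ZMod 3, x = F.e (uC i j)}
  one_mem' := ⟨0, 0, by rw [uC_facts.2.1, F.e_zero]⟩
  mul_mem' := by
    rintro _ _ ⟨i, j, rfl⟩ ⟨i', j', rfl⟩
    exact ⟨i + i', j + j', by rw [← F.e_add, uC_facts.1]⟩
  inv_mem' := by
    rintro _ ⟨i, j, rfl⟩
    refine ⟨-i, -j, inv_eq_of_mul_eq_one_right ?_⟩
    rw [← F.e_add, uC_facts.1, add_neg_cancel, add_neg_cancel, uC_facts.2.1, F.e_zero]

theorem card_planeC : Nat.card F.planeC = 9 := by
  let f : ZMod 3 × ZMod 3 → F.planeC := fun p => ⟨F.e (uC p.1 p.2), p.1, p.2, rfl⟩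
  have hf : Function.Bijective f :=
    ⟨fun p p' h => uC_facts.2.2.1 _ _ _ _ (F.e_inj (congrArg Subtype.val h)),
      fun ⟨x, i, j, hx⟩ => ⟨(i, j), Subtype.ext hx.symm⟩⟩
  rw [← Nat.card_eq_of_bijective f hf, Nat.card_prod, Nat.card_zmod]

/-- An element of `W` times an element of `J` of order prime to three lies in `W`. -/
theorem Wj_trivial {K : Subgroup G} (hcop : (Nat.card K).Coprime 3) {q : G} (hq : q ∈ F.W) {c : V4}
    (hc : app pT c = c) (h : q * F.e c ∈ K) : c = 0 := by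
  have key : ∀ m : ℕ, ∃ q' ∈ F.W, (q * F.e c) ^ m = q' * F.e c ^ m := by
    intro m
    induction m with
    | zero => exact ⟨1, one_mem _, by simp⟩
    | succ m ih =>
      obtain ⟨q', hq', e⟩ := ih
      refine ⟨q' * (F.e c ^ m * q * (F.e c ^ m)⁻¹), mul_mem hq' (F.W_norm (pow_mem (F.J_le_N (F.e_mem c)) m)
        ((show Commute (F.e c) F.nT from (F.nT_fix hc).symm).pow_left m) hq), ?_⟩
      rw [pow_succ (q * F.e c), e, pow_succ]
      group
  obtain ⟨q', hq', e⟩ := key (Nat.card K)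
  have h1 : (q * F.e c) ^ Nat.card K = 1 := congrArg Subtype.val (pow_card_eq_one' (x := (⟨_, h⟩ : K)))
  rw [e, mul_eq_one_iff_eq_inv] at h1
  have hN : q' ∈ F.N := h1 ▸ inv_mem (pow_mem (F.J_le_N (F.e_mem c)) _)
  have hsq : q' * q' = 1 := F.eq_of_triv_sq (F.W_inf_N hq' hN)
  rw [h1, ← mul_inv_rev, ← pow_add, inv_eq_one] at hsq
  have hd : orderOf (F.e c) ∣ 1 := by
    have h2 := Nat.dvd_gcd (orderOf_dvd_of_pow_eq_one hsq) (orderOf_dvd_of_pow_eq_one (F.e_cube c))
    rwa [show Nat.gcd (Nat.card K + Nat.card K) 3 = 1 from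
      Nat.Coprime.gcd_eq_one (by rw [← two_mul]; exact Nat.Coprime.mul_left (by norm_num) hcop)] at h2
  exact F.e_inj ((orderOf_eq_one_iff.1 (Nat.dvd_one.1 hd)).trans F.e_zero.symm)

/-- A product of an element of `W` and an element of the normalizer in a signalizer. -/
theorem sig_prod {K : Subgroup G} (hcop : (Nat.card K).Coprime 3)
    (hJ : ∀ v, app pT v = v → ∀ k ∈ K, F.e v * k * (F.e v)⁻¹ ∈ K) {q n : G} (hq : q ∈ F.W) (hn : n ∈ F.N)
    (hnt : Commute n F.nT) (hk : q * n ∈ K) : q * n ∈ F.W := by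
  obtain ⟨M, m, c, hm, rfl, hA⟩ := F.exists_aff hn
  obtain ⟨hc, hM⟩ := F.aff_nT hm hnt
  have hfix : ∀ v, app pT v = v → app M v = v := by
    intro v hv
    have hev : Commute (F.e v) F.nT := (F.nT_fix hv).symm
    have hev' : F.e v ∈ F.N := F.J_le_N (F.e_mem v)
    have h1 := mul_mem (hJ v hv _ hk) (inv_mem hk)
    have hMv : app pT (v - app M v) = v - app M v := by
      rw [sub_eq_add_neg, app_add, hv, ← neg_one_zsmul (app M v)]
      congr 1
      rw [neg_one_zsmul]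
      have h0 : app pT (app M v) = app M v := by rw [← app_comp, ← hM, app_comp, hv]
      have h2 := app_add pT (app M v) (-app M v)
      rw [add_neg_cancel, h0, show app pT 0 = 0 from by decide] at h2
      exact (neg_eq_of_add_eq_zero_right h2.symm).symm
    have e : F.e v * (q * (F.e c * m)) * (F.e v)⁻¹ * (q * (F.e c * m))⁻¹ =
        (F.e v * q * (F.e v)⁻¹) * (F.e (v - app M v) * q⁻¹ * (F.e (v - app M v))⁻¹) * F.e (v - app M v) := by
      have h3 : F.e c * m * (F.e v)⁻¹ * (F.e c * m)⁻¹ = F.e (-app M v) := by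
        rw [F.e_neg, ← conj_inv, hA]
      rw [sub_eq_add_neg, F.e_add, ← h3]
      group
    rw [e] at h1
    have h4 := F.Wj_trivial hcop (mul_mem (F.W_norm hev' hev hq) (F.W_norm (F.J_le_N (F.e_mem _))
      (show Commute _ F.nT from (F.nT_fix hMv).symm) (inv_mem hq))) hMv h1
    exact (sub_eq_zero.1 h4).symm
  obtain ⟨M', hM', hA', -⟩ := F.act_gam hn
  obtain rfl := F.act_unique hA hA'
  rcases of_decide_eq_true (List.all_eq_true.1 sig_facts.1 M hM') (hfix _ (by decide)) (hfix _ (by decide))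
    (hfix _ sig_facts.2.2.1) with rfl | rfl
  · obtain rfl := F.lift_unique hm F.lift_one
    rw [mul_one] at hk ⊢
    rw [F.Wj_trivial hcop hq hc hk, F.e_zero, mul_one]
    exact hq
  · obtain rfl := F.lift_unique hm F.lift_nT
    have e : q * (F.e c * F.nT) = q * F.nT * F.e c := by
      rw [← (show Commute F.nT (F.e c) from F.nT_fix hc).eq, mul_assoc]
    rw [e] at hk ⊢
    rw [F.Wj_trivial hcop (mul_mem hq F.nT_W) hc hk, F.e_zero, mul_one]
    exact mul_mem hq F.nT_W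

theorem sigT_x {K : Subgroup G} (hcop : (Nat.card K).Coprime 3) (hKt : ∀ k ∈ K, Commute k F.nT)
    (hJ : ∀ v, app pT v = v → ∀ k ∈ K, F.e v * k * (F.e v)⁻¹ ∈ K) {k : G} (hk : k ∈ K) (hkx : k ∈ F.Cx) :
    k ∈ F.W := by
  obtain ⟨q, hq, n, hn, rfl⟩ := F.mem_Ux (F.cent_xt hkx (hKt k hk))
  exact F.sig_prod hcop hJ (F.Q01_le_W hq) (F.mem_CNx.1 hn).1 (F.mem_CNx.1 hn).2.2 hk

/-- Subgroups of order prime to three in the centralizer of the reflection invariant under the fixed part of `J`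
lie in `W`. -/
theorem sigT {K : Subgroup G} (hcop : (Nat.card K).Coprime 3) (hKt : ∀ k ∈ K, Commute k F.nT)
    (hJ : ∀ v, app pT v = v → ∀ k ∈ K, F.e v * k * (F.e v)⁻¹ ∈ K) : K ≤ F.W := by
  haveI : IsMulCommutative F.planeC := ⟨⟨by
    rintro ⟨_, i, j, rfl⟩ ⟨_, i', j', rfl⟩
    exact Subtype.ext (F.e_comm _ _)⟩⟩
  have hnc : ¬ IsCyclic F.planeC := by
    intro hc
    obtain ⟨g, hg⟩ := IsCyclic.exists_ofOrder_eq_natCard (α := F.planeC)
    rw [F.card_planeC] at hg
    obtain ⟨i, j, e⟩ := g.2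
    have h3 : orderOf g ∣ 3 := orderOf_dvd_of_pow_eq_one (Subtype.ext (e ▸ F.e_cube _ : (g : G) ^ 3 = 1))
    rw [hg] at h3
    norm_num at h3
  have hle : F.planeC ≤ normalizer (K : Set G) := by
    rintro _ ⟨i, j, rfl⟩
    refine mem_normalizer_iff.2 fun k => ⟨hJ _ (uC_facts.2.2.2.1 i j) k, fun h => ?_⟩
    have hv : app pT (uC (-i) (-j)) = uC (-i) (-j) := uC_facts.2.2.2.1 _ _
    have he : F.e (uC (-i) (-j)) = (F.e (uC i j))⁻¹ := eq_inv_of_mul_eq_one_left (by
      rw [← F.e_add, uC_facts.1, neg_add_cancel, neg_add_cancel, uC_facts.2.1, F.e_zero])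
    have := hJ _ hv _ h
    rwa [he, inv_inv, show (F.e (uC i j))⁻¹ * (F.e (uC i j) * k * (F.e (uC i j))⁻¹) * F.e (uC i j) = k by group] at this
  rw [← CfsgLib.coprime_generated_by_centralizers hnc hle
    (by rw [F.card_planeC, show 9 = 3 ^ 2 by norm_num]; exact hcop.symm.pow_left 2)]
  refine iSup₂_le fun a ha k hk => ?_
  obtain ⟨⟨i, j, rfl⟩, ha1⟩ := ha
  obtain ⟨hkK, hka⟩ := hk
  have hka' : Commute k (F.e (uC i j)) := mem_centralizer_singleton_iff.1 hka
  have hne : (i, j) ≠ 0 := fun h => ha1 (by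
    rw [Prod.mk_eq_zero] at h; rw [h.1, h.2, uC_facts.2.1, F.e_zero])
  rcases uC_facts.2.2.2.2 i j hne with h | ⟨m, h | h⟩
  · simpa using F.sig_prod hcop hJ (one_mem _) (F.cent_v h hka'.eq) (hKt k hkK) (by simpa using hkK)
  · refine F.sigT_x hcop hKt hJ hkK (F.mem_Cx.2 ?_)
    show k * F.e xv4 = F.e xv4 * k
    rw [← h, ← F.e_pow]
    exact (hka'.pow_right _).eq
  · -- move the second line to the first
    set v := F.vN 3
    have hvT : Commute v F.nT := F.vN_nT 3
    let K' : Subgroup G := K.map (MulAut.conj v).toMonoidHom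
    have hK'c : (Nat.card K').Coprime 3 := by
      rwa [card_map_of_injective (f := (MulAut.conj v).toMonoidHom) (MulAut.conj v).injective]
    have hvi : v⁻¹ = v := F.vN_inv 3
    have hK't : ∀ y ∈ K', Commute y F.nT := by
      rintro _ ⟨y, hy, rfl⟩
      show Commute (v * y * v⁻¹) F.nT
      exact (hvT.mul_left (hKt y hy)).mul_left hvT.inv_left
    have hK'J : ∀ w, app pT w = w → ∀ y ∈ K', F.e w * y * (F.e w)⁻¹ ∈ K' := by
      rintro w hw _ ⟨y, hy, rfl⟩
      have hfix : app pT (app (vM 3) w) = app (vM 3) w := by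
        rw [← app_comp, ← (vM_facts.1 3).2.1, app_comp, hw]
      refine ⟨F.e (app (vM 3) w) * y * (F.e (app (vM 3) w))⁻¹, hJ _ hfix y hy, ?_⟩
      show v * (F.e (app (vM 3) w) * y * (F.e (app (vM 3) w))⁻¹) * v⁻¹ = F.e w * (v * y * v⁻¹) * (F.e w)⁻¹
      have e : v * F.e (app (vM 3) w) = F.e w * v := by
        rw [F.lift_e (F.vN_lift 3), ← app_comp, (vM_facts.1 3).1, app_idM]
      rw [eq_mul_inv_of_mul_eq e.symm]
      group
    have hx : v * k * v⁻¹ ∈ F.Cx := by
      refine F.mem_Cx.2 ?_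
      show v * k * v⁻¹ * F.e xv4 = F.e xv4 * (v * k * v⁻¹)
      have hk3 : Commute k (F.e (0, 0, 1, 0)) := by rw [← h, ← F.e_pow]; exact hka'.pow_right _
      have e : F.e xv4 = v * F.e (0, 0, 1, 0) * v⁻¹ := by rw [(F.vN_lift 3).1, sig_facts.2.2.2]
      rw [e]
      exact ((hk3.conj v)).eq
    have h1 := F.sigT_x hK'c hK't hK'J ⟨k, hkK, rfl⟩ hx
    have h2 := F.W_norm (F.mem_N (F.vN_lift 3).1) hvT h1
    have e : v * (v * k * v⁻¹) * v⁻¹ = k := by
      rw [show v * (v * k * v⁻¹) * v⁻¹ = v * v * k * (v * v)⁻¹ by group, F.vN_sq, one_mul, inv_one, mul_one]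
    exact e ▸ h2

end Frame

end CfsgLib.O8T
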