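import Cfsg.Agent.Lib.OEightPlusThree.TwoPart
import Cfsg.Agent.Lib.OEightPlusThree.SigT

/-!
The normalizer of `W` in the centralizer of `t` is `K₀`; two-groups containing `W` lie there and control fusion
inside `W`.
-/

set_option autoImplicit false
set_option synthInstance.maxSize 4096
set_option maxRecDepth 8000

namespace CfsgLib.O8T

open Subgroup

universe u

/-- The translates of `x₀` as a mask. -/
def yMask : ℕ := 16509916775461411436637622732790429515631481260590773582981815683896318099456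

/-- The membership in the translates. -/
def yb (s : Fin 256) : Bool := yMask.testBit s.val

/-- The state with one component. -/
def e1 (k : Fin 4) (a : Fin 4) : Fin 256 := ⟨(a.val * 4 ^ k.val) % 256, Nat.mod_lt _ (by norm_num)⟩

/-- The state of `x₀` shifted in each component. -/
def shState (v : Fin 4 → Fin 3) : Fin 256 :=
  mk4 ⟨v 0 + 1, by omega⟩ ⟨v 1 + 1, by omega⟩ ⟨v 2 + 1, by omega⟩ ⟨v 3 + 1, by omega⟩

/-- The shift of a non-trivial digit. -/
def shD (i : Fin 3) (a : Fin 4) : Fin 4 := if a = 0 then 0 else ⟨1 + (a.val - 1 + i.val) % 3, by omega⟩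

theorem yb_iff : ∀ s : Fin 256, IsY s ↔ yb s = true := by decide +kernel

theorem one_char : ((List.finRange 256).all fun s => (swt s == 1) ==
    ((swt s % 2 == 1) && (List.finRange 256).all fun y => !yb y || !yb (sx s y))) = true := by decide +kernel

theorem tr_one : ∀ c : V4, app pT c = c → ∀ k : Fin 4, ∀ a : Fin 4, a ≠ 0 →
    swt (tr c (e1 k a)) = 1 ∧ swt (sx (e1 k a) (tr c (e1 k a))) ≤ 1 := by decide +kernel

theorem one_forms : (∀ s : Fin 256, swt s = 1 → ∃ k a, a ≠ 0 ∧ s = e1 k a) ∧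
    (∀ k a, a ≠ 0 → swt (e1 k a) = 1) ∧
    (∀ k, ∀ a : Fin 4, a ≠ 0 → ∀ s : Fin 256, swt s = 1 → swt (sx (e1 k a) s) ≤ 1 → ∃ b, b ≠ 0 ∧ s = e1 k b) ∧
    (∀ k a b, e1 k a = e1 k b → a = b) ∧
    (∀ s : Fin 256, s = sx (sx (sx (e1 0 (dg s 0)) (e1 1 (dg s 1))) (e1 2 (dg s 2))) (e1 3 (dg s 3))) ∧
    (∀ k, e1 k 0 = 0) ∧ (∀ s : Fin 256, sx s 0 = s ∧ sx s s = 0) ∧
    (∀ s r : Fin 256, sx s r = 0 → s = r) := by decide +kernel

theorem shift_three : ∀ p : Fin 4 → Fin 4, (∀ a, p a = 0 ↔ a = 0) → (∀ a, p (p (p a)) = a) →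
    ∃ i : Fin 3, ∀ a, p a = shD i a := by decide +kernel

theorem shift_Y : ∀ v : Fin 4 → Fin 3, yb (shState v) = true →
    ∃ γ : V4, app pT γ = γ ∧ ∀ k a, tr γ (e1 k a) = e1 k (shD (v k) a) := by decide +kernel

theorem shift_state : ∀ v : Fin 4 → Fin 3,
    sx (sx (sx (e1 0 (shD (v 0) 1)) (e1 1 (shD (v 1) 1))) (e1 2 (shD (v 2) 1))) (e1 3 (shD (v 3) 1)) = shState v := by
  decide +kernel

theorem rot_facts : (∀ i : Fin 3, ∀ c : V4, app pT c = c →
      (∀ k a, tr c (fIx (0, 0, 0, i, 0) (e1 k a)) = e1 k a) → i = 0) ∧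
    (∀ c : V4, app pT c = c → (∀ k a, tr c (e1 k a) = e1 k a) → c = 0) ∧
    (∀ i : Fin 3, powM pB i.val = comp (matIx (0, 0, 0, i, 0)) (powM pT (0 : Fin 2).val)) ∧
    (dg 85 0 = 1 ∧ dg 85 1 = 1 ∧ dg 85 2 = 1 ∧ dg 85 3 = 1) ∧ yb 85 = true := by decide +kernel

theorem itS_id : ∀ (n : ℕ) (s : Fin 256), itS (fun s => s) n s = s
  | 0, _ => rfl
  | n + 1, s => itS_id n s

variable {G : Type u} [Group G]

namespace Frame

variable [Finite G] (F : Frame G)

theorem st_exists (s : Fin 256) : ∃ w, F.Is w s :=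
  ⟨_, _, fun k => F.rep_mem k (dg s k), rfl, fun _ => Sim.refl F _⟩

theorem Mv.at {g : G} {f : Fin 256 → Fin 256} (h : F.Mv g f) {f' : Fin 256 → Fin 256} (h' : F.Mv g f')
    (s : Fin 256) : f s = f' s := by
  obtain ⟨w, hw⟩ := F.st_exists s
  exact Mv.unique F h h' hw

theorem Mv.inv_of {g : G} {f f' : Fin 256 → Fin 256} (h : F.Mv g f) (h' : F.Mv g⁻¹ f') (s : Fin 256) :
    f (f' s) = s ∧ f' (f s) = s := by
  constructor
  · have h2 := Mv.mul F h h'
    rw [mul_inv_cancel] at h2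
    exact Mv.at F h2 F.mv_one s
  · have h2 := Mv.mul F h' h
    rw [inv_mul_cancel] at h2
    exact Mv.at F h2 F.mv_one s

theorem Mv.sx {g : G} {f : Fin 256 → Fin 256} (h : F.Mv g f) (a b : Fin 256) : f (sx a b) = CfsgLib.O8T.sx (f a) (f b) := by
  obtain ⟨v, hv⟩ := F.st_exists a
  obtain ⟨w, hw⟩ := F.st_exists b
  refine Is.unique F (h.2 _ _ (Is.mul F hv hw)) (Is.mul F (h.2 v a hv) (h.2 w b hw)) (.inl ?_)
  group

theorem Mv.zero {g : G} {f : Fin 256 → Fin 256} (h : F.Mv g f) : f 0 = 0 :=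
  Is.unique F (h.2 1 0 F.is_one) F.is_one (.inl (by group))

/-- The action of an element normalizing `W` and centralizing `t`. -/
theorem exists_mv {g : G} (ht : g ∈ F.Kt) (hn : g ∈ normalizer (F.W : Set G)) : ∃ f, F.Mv g f := by
  choose w hw using F.st_exists
  choose f hf using fun s => F.is_exists ((mem_normalizer_iff.1 hn (w s)).1 (Is.mem F (hw s)))
  exact ⟨f, F.mem_Kt.1 ht, fun v s hv =>
    Is.of_sim F (hf s) (Sim.conj F (Is.sim F hv (hw s)) (F.mem_Kt.1 ht))⟩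

theorem Mv.parity {g : G} {f : Fin 256 → Fin 256} (h : F.Mv g f) (s : Fin 256) : swt (f s) % 2 = swt s % 2 := by
  obtain ⟨w, hw⟩ := F.st_exists s
  have e1 := Is.sq F (h.2 w s hw)
  rw [show g * w * g⁻¹ * (g * w * g⁻¹) = g * (w * w) * g⁻¹ by group, Is.sq F hw,
    (h.1.pow_right _).eq, mul_inv_cancel_right, F.nT_pow_mod, F.nT_pow_mod (swt (f s))] at e1
  rcases Nat.mod_two_eq_zero_or_one (swt s) with a | a <;> rcases Nat.mod_two_eq_zero_or_one (swt (f s)) with b | b <;>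
    rw [a, b] at e1 ⊢
  · rw [pow_zero, pow_one] at e1; exact absurd e1.symm F.nT_ne
  · rw [pow_zero, pow_one] at e1; exact absurd e1 F.nT_ne

theorem Mv.Y {g : G} {f f' : Fin 256 → Fin 256} (h : F.Mv g f) (h' : F.Mv g⁻¹ f') {s : Fin 256}
    (hs : yb s = true) : yb (f s) = true := by
  obtain ⟨w, hw⟩ := F.st_exists s
  refine (yb_iff _).1 (Is.of_Tc F (h.2 w s hw) (Tc.conj F (Is.Y F hw ((yb_iff _).2 hs)).1 g) fun e => ?_)
  have := (Mv.inv_of F h h' s).2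
  rw [e, Mv.zero F h'] at this
  exact absurd (this ▸ hs) (by decide +kernel)

theorem Mv.single {g : G} {f f' : Fin 256 → Fin 256} (h : F.Mv g f) (h' : F.Mv g⁻¹ f') {s : Fin 256}
    (hs : swt s = 1) : swt (f s) = 1 := by
  have hc := List.all_eq_true.1 one_char
  have h1 := hc s (List.mem_finRange s)
  have h2 := hc (f s) (List.mem_finRange _)
  rw [beq_iff_eq] at h1 h2
  rw [hs, beq_self_eq_true, eq_comm] at h1
  simp only [Bool.and_eq_true, beq_iff_eq, List.all_eq_true,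
    List.mem_finRange, true_implies, Bool.or_eq_true, Bool.not_eq_true'] at h1
  suffices (swt (f s) == 1) = true from beq_iff_eq.1 this
  rw [h2]
  simp only [Bool.and_eq_true, beq_iff_eq, List.all_eq_true, List.mem_finRange, true_implies, Bool.or_eq_true,
    Bool.not_eq_true']
  refine ⟨by rw [Mv.parity F h, hs], fun y => ?_⟩
  by_contra hne
  push_neg at hne
  obtain ⟨hy, hys⟩ := hne
  simp only [ne_eq, Bool.not_eq_false] at hy hys
  have hy' := Mv.Y F h' (by rwa [inv_inv]) hy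
  have hys' := Mv.Y F h' (by rwa [inv_inv]) hys
  rw [Mv.sx F h', (Mv.inv_of F h h' s).2] at hys'
  rcases h1.2 (f' y) with e | e
  · rw [e] at hy'; exact absurd hy' (by decide)
  · rw [e] at hys'; exact absurd hys' (by decide)

/-- Maps agreeing on the states with one component. -/
theorem Mv.ext_one {g : G} {f : Fin 256 → Fin 256} (h : F.Mv g f) {d : G} {f' : Fin 256 → Fin 256}
    (h' : F.Mv d f') (e : ∀ k a, a ≠ 0 → f (e1 k a) = f' (e1 k a)) (s : Fin 256) : f s = f' s := by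
  have e' : ∀ k a, f (e1 k a) = f' (e1 k a) := fun k a => by
    by_cases ha : a = 0
    · rw [ha, one_forms.2.2.2.2.2.1, Mv.zero F h, Mv.zero F h']
    · exact e k a ha
  rw [one_forms.2.2.2.2.1 s, Mv.sx F h, Mv.sx F h, Mv.sx F h, Mv.sx F h', Mv.sx F h', Mv.sx F h', e', e', e', e']

/-- A translation conjugated by an element normalizing `W` acts as a translation. -/
theorem conj_tr {g : G} (ht : g ∈ F.Kt) (hn : g ∈ normalizer (F.W : Set G)) {c : V4} (hc : app pT c = c) :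
    ∃ γ, app pT γ = γ ∧ F.Mv (g * F.e c * g⁻¹) (tr γ) := by
  obtain ⟨f, hf⟩ := F.exists_mv ht hn
  obtain ⟨f', hf'⟩ := F.exists_mv (inv_mem ht) (inv_mem hn)
  obtain ⟨φ, hφd⟩ : ∃ φ : Fin 256 → Fin 256, φ = fun s => f (tr c (f' s)) := ⟨_, rfl⟩
  have hφ : F.Mv (g * F.e c * g⁻¹) φ := by
    have h1 := Mv.mul F hf (F.mv_e hc)
    have h2 := Mv.mul F h1 hf'
    rw [hφd]
    exact h2
  have hcube : ∀ s, φ (φ (φ s)) = s := by
    have h3 := Mv.mul F hφ (Mv.mul F hφ hφ)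
    rw [show g * F.e c * g⁻¹ * (g * F.e c * g⁻¹ * (g * F.e c * g⁻¹)) = g * F.e c ^ 3 * g⁻¹ by rw [pow_succ, pow_two]; group, F.e_cube, mul_one,
      mul_inv_cancel] at h3
    exact Mv.at F h3 F.mv_one
  have hpl : ∀ k a, a ≠ 0 → ∃ b, b ≠ 0 ∧ φ (e1 k a) = e1 k b := fun k a ha => by
    have hs : swt (f' (e1 k a)) = 1 := Mv.single F hf' (by rwa [inv_inv]) (one_forms.2.1 k a ha)
    obtain ⟨l, a', ha', e⟩ := one_forms.1 _ hs
    obtain ⟨h1, h2⟩ := tr_one c hc l a' ha'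
    rw [hφd]
    refine one_forms.2.2.1 k a ha _ (Mv.single F hf hf' (e.symm ▸ h1)) ?_
    have := Mv.sx F hf (e1 l a') (tr c (e1 l a'))
    rw [← e, (Mv.inv_of F hf hf' _).1] at this
    show swt (CfsgLib.O8T.sx (e1 k a) (f (tr c (f' (e1 k a))))) ≤ 1
    rw [← this]
    rcases Nat.le_one_iff_eq_zero_or_eq_one.1 h2 with h2 | h2
    · rw [← e] at h2
      have key : ∀ s, swt s = 0 → s = 0 := cover_facts.2.2.2.2.1
      rw [key _ h2, Mv.zero F hf]
      decide +kernel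
    · rw [← e] at h2
      rw [Mv.single F hf hf' h2]
  classical
  choose p hp0 hp using hpl
  let q : Fin 4 → Fin 4 → Fin 4 := fun k a => if h : a = 0 then 0 else p k a h
  have hq : ∀ k a, φ (e1 k a) = e1 k (q k a) := fun k a => by
    by_cases h : a = 0
    · subst h
      simp only [q, dite_true]
      rw [one_forms.2.2.2.2.2.1, Mv.zero F hφ]
    · simp only [q, dif_neg h]; exact hp k a h
  choose v hv using fun k => shift_three (q k) (fun a => by
    by_cases h : a = 0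
    · simp [q, h]
    · simp only [q, dif_neg h, iff_false_right h]; exact hp0 k a h)
    (fun a => one_forms.2.2.2.1 k _ _ (by rw [← hq, ← hq, ← hq, hcube]))
  have h85 : φ 85 = shState v := by
    rw [one_forms.2.2.2.2.1 85, rot_facts.2.2.2.1.1, rot_facts.2.2.2.1.2.1, rot_facts.2.2.2.1.2.2.1,
      rot_facts.2.2.2.1.2.2.2, Mv.sx F hφ, Mv.sx F hφ, Mv.sx F hφ, hq, hq, hq, hq, hv, hv, hv, hv]
    exact shift_state v
  have hY : yb (shState v) = true := by
    obtain ⟨φ', hφ'⟩ := F.exists_mv (inv_mem (mul_mem (mul_mem ht (F.e_Jt.2 hc).2) (inv_mem ht)))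
      (inv_mem (mul_mem (mul_mem hn (F.W_mem_normalizer (F.J_le_N (F.e_mem c)) (F.nT_fix hc).symm)) (inv_mem hn)))
    rw [← h85]
    exact Mv.Y F hφ hφ' rot_facts.2.2.2.2
  obtain ⟨γ, hγ, hγv⟩ := shift_Y v hY
  refine ⟨γ, hγ, hφ.1, fun w s hw => ?_⟩
  have := Mv.ext_one F hφ (F.mv_e hγ) (fun k a _ => by rw [hq, hv, hγv]) s
  exact this ▸ hφ.2 w s hw

/-- The elements acting trivially on the states. -/
def CW : Subgroup G where
  carrier := {g | F.Mv g (fun s => s)}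
  one_mem' := F.mv_one
  mul_mem' := fun ha hb => Mv.mul F ha hb
  inv_mem' := by
    intro a ha
    have h := Mv.pow F (show F.Mv a (fun s => s) from ha) (orderOf a - 1)
    rw [show a ^ (orderOf a - 1) = a⁻¹ from eq_inv_of_mul_eq_one_left (by
      rw [← pow_succ, Nat.sub_add_cancel (orderOf_pos a), pow_orderOf_eq_one])] at h
    exact ⟨h.1, fun w s hw => itS_id (orderOf a - 1) s ▸ h.2 w s hw⟩

theorem CW_norm : F.CW ≤ normalizer (F.W : Set G) ⊓ F.Kt := fun g hg => by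
  refine ⟨mem_normalizer_iff.2 fun w => ⟨fun hw => ?_, fun hw => ?_⟩, F.mem_Kt.2 hg.1⟩
  · obtain ⟨s, hs⟩ := F.is_exists hw
    exact Is.mem F (hg.2 w s hs)
  · obtain ⟨s, hs⟩ := F.is_exists hw
    have := Is.mem F ((F.CW.inv_mem hg).2 _ s hs)
    simpa [mul_assoc] using this

theorem CW_conj {g k : G} (hg : g ∈ normalizer (F.W : Set G) ⊓ F.Kt) (hk : k ∈ F.CW) : g * k * g⁻¹ ∈ F.CW := by
  obtain ⟨f, hf⟩ := F.exists_mv hg.2 hg.1
  obtain ⟨f', hf'⟩ := F.exists_mv (inv_mem hg.2) (inv_mem hg.1)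
  have h := Mv.mul F (Mv.mul F hf hk) hf'
  refine ⟨h.1, fun w s hw => ?_⟩
  have := h.2 w s hw
  simp only [(Mv.inv_of F hf hf' s).1] at this ⊢
  exact this

theorem P81_CW {g : G} (hg : g ∈ F.P81) (h : g ∈ F.CW) : g = 1 := by
  obtain ⟨c, hc, i, rfl⟩ := F.mem_P81 hg
  have hb : F.b ^ i.val ∈ F.CN := pow_mem (show F.b ∈ F.CN from ⟨F.mem_N F.act_b, F.b_Kt⟩) _
  obtain ⟨x, p, c', hc', hA, hm⟩ := F.CN_mv hb
  obtain rfl := matIx_eq ((F.act_unique hA (F.act_pow F.act_b i.val)).trans (rot_facts.2.2.1 i))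
  have hall := Mv.at F (Mv.mul F (F.mv_e hc) hm) h
  have hsum : ∀ d d' : V4, app pT d = d → app pT d' = d' → ∀ k a, tr d (tr d' (e1 k a)) = tr (d + d') (e1 k a) := by
    intro d d' hd hd' k a
    have hh := Mv.mul F (F.mv_e hd) (F.mv_e hd')
    rw [← F.e_add] at hh
    exact Mv.at F hh (F.mv_e (by rw [app_add, hd, hd'])) _
  have hh : ∀ s, tr (c + c') (fIx (0, 0, 0, i, 0) s) = s := by
    intro s
    have hh := Mv.mul F (Mv.mul F (F.mv_e hc) (F.mv_e hc')) (Mv.mul F F.mv_one F.mv_one)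
    have hh2 := Mv.mul F (F.mv_e hc) (F.mv_e hc')
    rw [← F.e_add] at hh2
    rw [← Mv.at F hh2 (F.mv_e (by rw [app_add, hc, hc'])) (fIx (0, 0, 0, i, 0) s)]
    exact hall s
  have hi := rot_facts.1 i (c + c') (by rw [app_add, hc, hc']) fun k a => hh _
  subst hi
  rw [show F.b ^ ((0 : Fin 3) : ℕ) = 1 from pow_zero _, mul_one] at h ⊢
  rw [rot_facts.2.1 c hc fun k a => Mv.at F (F.mv_e hc) h _, F.e_zero]

theorem CW_le : F.CW ≤ F.W := by
  haveI : Fact (Nat.Prime 3) := ⟨Nat.prime_three⟩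
  have h81 : F.P81 ≤ normalizer (F.W : Set G) ⊓ F.Kt := le_inf (F.P81_le_K0.trans F.K0_norm) F.P81_le
  have hcop : (Nat.card F.CW).Coprime 3 := by
    refine ((Nat.Prime.coprime_iff_not_dvd Nat.prime_three).2 fun hd => ?_).symm
    obtain ⟨k, hk⟩ := exists_prime_orderOf_dvd_card' 3 hd
    obtain ⟨c, hcC, hc⟩ := conj_into h81 F.P81_isP (fun P h1 h2 h3 => F.P81_max (h1.trans inf_le_right) h2 h3)
      (R := zpowers (k : G)) (zpowers_le.2 (F.CW_norm k.2))
      (IsPGroup.of_card (n := 1) (by rw [Nat.card_zpowers, orderOf_submonoid k |>.trans hk, pow_one]))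
    have h1 := F.P81_CW (hc _ (mem_zpowers _)) (F.CW_conj hcC k.2)
    rw [conj_eq_one_iff] at h1
    rw [OneMemClass.coe_eq_one] at h1
    rw [h1, orderOf_one] at hk
    omega
  refine F.sigT hcop (fun k hk => (show F.Mv k _ from hk).1) fun v hv k hk => F.CW_conj ⟨?_, ?_⟩ hk
  · exact F.W_mem_normalizer (F.J_le_N (F.e_mem v)) (F.nT_fix hv).symm
  · exact (F.e_Jt.2 hv).2

/-- The normalizer of `W` in the centralizer of `t`. -/
theorem norm_W_le {g : G} (ht : g ∈ F.Kt) (hn : g ∈ normalizer (F.W : Set G)) : g ∈ F.K0 := by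
  have hJK : F.Jt ≤ F.K0 := (le_sup_left : F.Jt ≤ F.P81).trans F.P81_le_K0
  have hJW : F.Jt ≤ normalizer (F.W : Set G) := hJK.trans F.K0_norm
  have hJ3 : IsPGroup 3 F.Jt := F.P81_isP.to_le le_sup_left
  have hmap : F.Jt.map (MulAut.conj g).toMonoidHom ≤ F.W ⊔ F.Jt := by
    rintro _ ⟨a, ha, rfl⟩
    obtain ⟨c, hc, rfl⟩ := F.Jt_e ha
    obtain ⟨γ, hγ, hm⟩ := F.conj_tr ht hn hc
    have hneg : app pT (-γ) = -γ := by
      have key : ∀ γ : V4, app pT γ = γ → app pT (-γ) = -γ := by decide +kernel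
      exact key γ hγ
    have h1 := Mv.mul F hm (F.mv_e hneg)
    have h2 : g * F.e c * g⁻¹ * F.e (-γ) ∈ F.CW := ⟨h1.1, fun w s hw => by
      have h3 := Mv.mul F (F.mv_e hγ) (F.mv_e hneg)
      rw [← F.e_add, add_neg_cancel, F.e_zero] at h3
      have := h1.2 w s hw
      have e := Mv.at F h3 F.mv_one s
      simp only at e this ⊢
      rwa [e] at this⟩
    have h3 := mul_mem (mem_sup_left (F.CW_le h2) : _ ∈ F.W ⊔ F.Jt) (mem_sup_right (F.e_Jt.2 hγ))
    rwa [mul_assoc, ← F.e_add, neg_add_cancel, F.e_zero, mul_one] at h3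
  haveI : Fact (Nat.Prime 3) := ⟨Nat.prime_three⟩
  have hmax : ∀ P : Subgroup G, P ≤ F.W ⊔ F.Jt → IsPGroup 3 P → F.Jt ≤ P → P ≤ F.Jt := by
    intro P hP h3 hle a ha
    have h' : a ∈ ((F.W ⊔ F.Jt : Subgroup G) : Set G) := hP ha
    rw [coe_mul_of_right_le_normalizer_left _ _ hJW] at h'
    obtain ⟨w, hw, j, hj, rfl⟩ := h'
    have hwP : w ∈ P := by simpa using mul_mem ha (inv_mem (hle hj))
    obtain ⟨n, hn'⟩ := h3 ⟨w, hwP⟩
    have h1 : w ^ 3 ^ n = 1 := congrArg Subtype.val hn'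
    have h2 := Nat.dvd_gcd (orderOf_dvd_of_pow_eq_one h1) (orderOf_dvd_of_pow_eq_one (F.W_four hw))
    rw [Nat.Coprime.gcd_eq_one (Nat.Coprime.pow_left n (by norm_num)), Nat.dvd_one, orderOf_eq_one_iff] at h2
    show w * j ∈ F.Jt
    rwa [h2, one_mul]
  obtain ⟨k, hk, hconj⟩ := conj_into (le_sup_right : F.Jt ≤ F.W ⊔ F.Jt) hJ3 hmax hmap (hJ3.map _)
  have hk0 : k ∈ F.K0 := sup_le F.W_le_K0 hJK hk
  obtain ⟨-, -, -, -, -, h0, hw0, -⟩ := cls_facts
  obtain ⟨d, hd, e⟩ := F.Jt_e (hconj _ ⟨F.e (vv 0), F.e_Jt.2 h0, rfl⟩)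
  have hN : (k * g)⁻¹ ∈ F.N := F.ctrl_two (c := d) (d := vv 0) (by
    rw [← e]; show (k * g)⁻¹ * (k * (g * F.e (vv 0) * g⁻¹) * k⁻¹) * (k * g)⁻¹⁻¹ = F.e (vv 0); group) hw0
  have hkg : k * g ∈ F.CN := ⟨by simpa using inv_mem hN, mul_mem (F.K0_le_Kt hk0) ht⟩
  simpa using mul_mem (inv_mem hk0) (F.CN_le_K0 hkg)

theorem W_comm {a b : G} (ha : a ∈ F.W) (hb : b ∈ F.W) : F.Sim (a * b) (b * a) := by
  obtain ⟨r, hr⟩ := F.is_exists ha
  obtain ⟨s, hs⟩ := F.is_exists hb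
  have key : sx r s = sx s r := dg_ext fun k => by
    rw [dg_sx, dg_sx]
    have k2 : ∀ a b : Fin 4, dx a b = dx b a := by decide +kernel
    exact k2 _ _
  exact Is.sim F (key ▸ Is.mul F hr hs) (Is.mul F hs hr)

theorem card_W : Nat.card F.W = 512 := by
  classical
  choose w hw using F.st_exists
  let f : Fin 256 × Fin 2 → F.W := fun p => ⟨w p.1 * F.nT ^ p.2.val, mul_mem (Is.mem F (hw p.1)) (pow_mem F.nT_W _)⟩
  have hf : Function.Bijective f := by
    refine ⟨fun p q h => ?_, fun v => ?_⟩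
    · have e : w p.1 * F.nT ^ p.2.val = w q.1 * F.nT ^ q.2.val := congrArg Subtype.val h
      have hb : ∀ a : Fin 2, a = 0 ∨ a = 1 := by decide
      have hs : ∀ p : Fin 256 × Fin 2, F.Is (w p.1 * F.nT ^ p.2.val) p.1 := fun p => Is.of_sim F (hw p.1) (by
        rcases hb p.2 with a | a <;> rw [a]
        · exact .inl (by simp)
        · exact .inr (by simp))
      have h1 : p.1 = q.1 := Is.unique F (hs p) (hs q) (.inl e)
      rw [h1, mul_right_inj] at e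
      refine Prod.ext h1 ?_
      rcases hb p.2 with a | a <;> rcases hb q.2 with b | b <;> rw [a, b] at e ⊢
      · exact absurd (by simpa using e) F.nT_ne.symm
      · exact absurd (by simpa using e) F.nT_ne
    · obtain ⟨s, hs⟩ := F.is_exists v.2
      rcases Is.sim F hs (hw s) with e | e
      · exact ⟨(s, 0), Subtype.ext (by simp [f, e])⟩
      · exact ⟨(s, 1), Subtype.ext (by simp [f, e])⟩
  rw [← Nat.card_eq_of_bijective f hf]
  simp

/-- An element of the centralizer of `t` moving `W` into a two-subgroup of `K₀` lies in `K₀`. -/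
theorem into_K0 {R : Subgroup G} (hR : IsPGroup 2 R) (hR0 : R ≤ F.K0) {g : G} (hg : g ∈ F.Kt)
    (hsub : ∀ w ∈ F.W, g * w * g⁻¹ ∈ R) : g ∈ F.K0 := by
  haveI : Fact (Nat.Prime 2) := ⟨Nat.prime_two⟩
  obtain ⟨k, hk, hconj⟩ := conj_sylow F.P2_le F.P2_isP F.P2_index hR0 hR
  have hkg : Commute (k * g) F.nT := (F.mem_Kt.1 (F.K0_le_Kt hk)).mul_left (F.mem_Kt.1 hg)
  have hE : F.W.map (MulAut.conj (k * g)).toMonoidHom ≤ F.W := by
    refine F.unique_W ?_ ?_ ?_ ?_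
    · rintro _ ⟨w, hw, rfl⟩
      have := hconj _ (hsub w hw)
      show k * g * w * (k * g)⁻¹ ∈ F.P2
      rwa [show k * g * w * (k * g)⁻¹ = k * (g * w * g⁻¹) * k⁻¹ by group]
    · rw [card_map_of_injective (f := (MulAut.conj (k * g)).toMonoidHom) (MulAut.conj _).injective, F.card_W]
    · rintro _ ⟨w, hw, rfl⟩
      rw [← map_mul]
      show F.Triv (k * g * (w * w) * (k * g)⁻¹)
      rcases F.W_sq hw with e | e <;> rw [e]
      · exact .inl (by group)
      · exact .inr (by rw [hkg.eq, mul_inv_cancel_right])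
    · rintro _ ⟨a, ha, rfl⟩ _ ⟨b, hb, rfl⟩
      rw [← map_mul, ← map_mul]
      exact Sim.conj F (F.W_comm ha hb) hkg
  have hn : k * g ∈ normalizer (F.W : Set G) := by
    have heq : F.W.map (MulAut.conj (k * g)).toMonoidHom = F.W :=
      eq_of_le_of_card_ge hE (card_map_of_injective (f := (MulAut.conj (k * g)).toMonoidHom) (MulAut.conj _).injective).ge
    refine mem_normalizer_iff.2 fun w => ⟨fun hw => hE ⟨w, hw, rfl⟩, fun hw => ?_⟩
    obtain ⟨a, ha, e⟩ := heq.ge hw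
    obtain rfl : a = w := (MulAut.conj (k * g)).injective e
    exact ha
  refine F.norm_W_le hg ?_
  simpa using mul_mem (inv_mem (F.K0_norm hk)) hn

/-- A two-subgroup of the centralizer of `t` containing `W` lies in `K₀`. -/
theorem two_le {R : Subgroup G} (hW : F.W ≤ R) (hR : IsPGroup 2 R) (hK : R ≤ F.Kt) : R ≤ F.K0 := by
  haveI : Fact (Nat.Prime 2) := ⟨Nat.prime_two⟩
  haveI := hR.isNilpotent
  by_contra hne
  have hlt : (R ⊓ F.K0).subgroupOf R < ⊤ :=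
    lt_top_iff_ne_top.2 fun e => hne ((subgroupOf_eq_top.1 e).trans inf_le_right)
  obtain ⟨g, hgn, hgJ⟩ := SetLike.exists_of_lt (normalizerCondition_of_isNilpotent _ hlt)
  refine hgJ (mem_subgroupOf.2 ⟨g.2, F.into_K0 (hR.to_le inf_le_left : IsPGroup 2 (R ⊓ F.K0 : Subgroup G))
    inf_le_right (hK g.2) fun w hw => ?_⟩)
  exact mem_subgroupOf.1 ((mem_normalizer_iff.1 hgn ⟨w, hW hw⟩).1 (mem_subgroupOf.2 ⟨hW hw, F.W_le_K0 hw⟩))

/-- The centralizer modulo `t` of an element in a subgroup. -/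
def simCent (C : Subgroup G) (hC : C ≤ F.Kt) (w : G) : Subgroup G where
  carrier := {d | d ∈ C ∧ F.Sim (d * w * d⁻¹) w}
  one_mem' := ⟨one_mem _, .inl (by group)⟩
  mul_mem' := by
    rintro a b ⟨ha, ea⟩ ⟨hb, eb⟩
    refine ⟨mul_mem ha hb, Sim.trans F ?_ ea⟩
    have := Sim.conj F eb (F.mem_Kt.1 (hC ha))
    rwa [show a * b * w * (a * b)⁻¹ = a * (b * w * b⁻¹) * a⁻¹ by group]
  inv_mem' := by
    rintro a ⟨ha, ea⟩
    refine ⟨inv_mem ha, Sim.symm F ?_⟩
    have := Sim.conj F ea (F.mem_Kt.1 (hC (inv_mem ha)))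
    rwa [show a⁻¹ * (a * w * a⁻¹) * a⁻¹⁻¹ = w by group] at this

/-- Elements of `W` conjugate modulo `t` in a subgroup containing `W` are conjugate in its part in `K₀`. -/
theorem fuse {C : Subgroup G} (hC : C ≤ F.Kt) (hW : F.W ≤ C) {g : G} (hg : g ∈ C) {w w' : G} (hw : w ∈ F.W)
    (hw' : w' ∈ F.W) (h : F.Sim (g * w * g⁻¹) w') : ∃ k ∈ C, k ∈ F.K0 ∧ F.Sim (k * w * k⁻¹) w' := by
  haveI : Fact (Nat.Prime 2) := ⟨Nat.prime_two⟩
  have hgt : Commute g F.nT := F.mem_Kt.1 (hC hg)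
  set D := F.simCent C hC w'
  have hsim : ∀ v ∈ F.W, ∀ u ∈ F.W, F.Sim (v * u * v⁻¹) u := fun v hv u hu => by
    rcases F.W_comm hv hu with e | e
    · exact .inl (by rw [e, mul_inv_cancel_right])
    · refine .inr ?_
      rw [e, mul_assoc _ F.nT, ← (F.W_nT hv).inv_left.eq]
      group
  have hWD : F.W ≤ D := fun v hv => ⟨hW hv, hsim v hv w' hw'⟩
  have hW'D : F.W.map (MulAut.conj g).toMonoidHom ≤ D := by
    rintro _ ⟨v, hv, rfl⟩
    refine ⟨mul_mem (mul_mem hg (hW hv)) (inv_mem hg), ?_⟩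
    show F.Sim (g * v * g⁻¹ * w' * (g * v * g⁻¹)⁻¹) w'
    have hvt : Commute (g * v * g⁻¹) F.nT := (hgt.mul_left (F.W_nT hv)).mul_left hgt.inv_left
    refine Sim.trans F (Sim.conj F (Sim.symm F h) hvt) (Sim.trans F ?_ h)
    rw [show g * v * g⁻¹ * (g * w * g⁻¹) * (g * v * g⁻¹)⁻¹ = g * (v * w * v⁻¹) * g⁻¹ by group]
    exact Sim.conj F (hsim v hv w hw) hgt
  have hW2 : IsPGroup 2 F.W := F.P2_isP.to_le F.W_le_P2
  obtain ⟨S, hS⟩ := (hW2.of_equiv (subgroupOfEquivOfLe hWD).symm).exists_le_sylow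
  obtain ⟨S', hS'⟩ := ((hW2.map (MulAut.conj g).toMonoidHom).of_equiv (subgroupOfEquivOfLe hW'D).symm).exists_le_sylow
  obtain ⟨d, hd⟩ := MulAction.exists_smul_eq D S' S
  have hR : F.W ≤ (S : Subgroup D).map D.subtype := fun v hv => ⟨⟨v, hWD hv⟩, hS (mem_subgroupOf.2 hv), rfl⟩
  have hR2 : IsPGroup 2 ((S : Subgroup D).map D.subtype) := S.2.map _
  have hRK : (S : Subgroup D).map D.subtype ≤ F.Kt := fun a ha => hC (map_subtype_le _ ha).1
  refine ⟨(d : G) * g, mul_mem d.2.1 hg, F.into_K0 hR2 (F.two_le hR hR2 hRK) (mul_mem (hC d.2.1) (hC hg))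
    fun v hv => ?_, ?_⟩
  · have h1 : (⟨g * v * g⁻¹, hW'D ⟨v, hv, rfl⟩⟩ : D) ∈ (S' : Subgroup D) := hS' (mem_subgroupOf.2 ⟨v, hv, rfl⟩)
    refine ⟨d * ⟨g * v * g⁻¹, hW'D ⟨v, hv, rfl⟩⟩ * d⁻¹, ?_, ?_⟩
    · rw [SetLike.mem_coe, ← hd]
      exact Subgroup.smul_mem_pointwise_smul _ (MulAut.conj d) _ h1
    · show (d : G) * (g * v * g⁻¹) * (d : G)⁻¹ = _
      group
  · rw [show (d : G) * g * w * ((d : G) * g)⁻¹ = d * (g * w * g⁻¹) * (d : G)⁻¹ by group]
    exact Sim.trans F (Sim.conj F h (F.mem_Kt.1 (hC d.2.1))) d.2.2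

end Frame

end CfsgLib.O8T
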