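import Cfsg.Agent.Lib.OEightPlusThree.Section

/-!
Orbits on `J`; the centralizer of the centre and a second element of weight two lies in the normalizer.
-/

set_option autoImplicit false
set_option synthInstance.maxSize 4096

namespace CfsgLib.O8T

open Subgroup

universe u

/-- Words reaching the orbit of `(1, 0, 0, 0)`. -/
def xList : List (V4 × List (Fin 4)) := [
  ((0, 0, 0, 1), [2, 0, 0]),
  ((0, 0, 0, 2), [0, 0, 2]),
  ((0, 0, 1, 0), [1, 1]),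
  ((0, 0, 2, 0), [0, 0, 0]),
  ((0, 1, 0, 0), [1]),
  ((0, 2, 0, 0), [0, 0, 1, 0]),
  ((1, 0, 0, 0), []),
  ((1, 1, 1, 1), [0, 1, 1]),
  ((1, 1, 1, 2), [2, 0, 0, 0, 0]),
  ((1, 1, 2, 1), [0, 1, 0]),
  ((1, 1, 2, 2), [1, 0]),
  ((1, 2, 1, 1), [2, 0]),
  ((1, 2, 1, 2), [0]),
  ((1, 2, 2, 1), [1, 0, 1]),
  ((1, 2, 2, 2), [0, 2]),
  ((2, 0, 0, 0), [2, 0, 2]),
  ((2, 1, 1, 1), [2, 2]),
  ((2, 1, 1, 2), [2]),
  ((2, 1, 2, 1), [1, 1, 0, 1]),
  ((2, 1, 2, 2), [1, 0, 2]),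
  ((2, 2, 1, 1), [0, 1]),
  ((2, 2, 1, 2), [0, 0, 1]),
  ((2, 2, 2, 1), [0, 0]),
  ((2, 2, 2, 2), [0, 0, 0, 0])]

/-- Words reaching the orbit of `(1, 2, 0, 0)`. -/
def vList : List (V4 × List (Fin 4)) := [
  ((0, 0, 1, 1), [2, 0, 0]),
  ((0, 0, 1, 2), [0, 0]),
  ((0, 0, 2, 1), [1, 1, 0]),
  ((0, 0, 2, 2), [2, 1, 1, 0]),
  ((0, 1, 0, 1), [0, 3, 1]),
  ((0, 1, 0, 2), [1, 0, 3]),
  ((0, 1, 1, 0), [2, 2, 0]),
  ((0, 1, 2, 0), [1]),
  ((0, 2, 0, 1), [1, 0]),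
  ((0, 2, 0, 2), [2, 1, 0]),
  ((0, 2, 1, 0), [1, 3]),
  ((0, 2, 2, 0), [0, 0, 0]),
  ((1, 0, 0, 1), [2, 0, 3]),
  ((1, 0, 0, 2), [0, 3]),
  ((1, 0, 1, 0), [2, 2, 1, 0]),
  ((1, 0, 2, 0), [3, 1]),
  ((1, 1, 0, 0), [0, 1]),
  ((1, 2, 0, 0), []),
  ((2, 0, 0, 1), [0]),
  ((2, 0, 0, 2), [2, 0]),
  ((2, 0, 1, 0), [1, 1]),
  ((2, 0, 2, 0), [1, 0, 0, 0]),
  ((2, 1, 0, 0), [3]),
  ((2, 2, 0, 0), [0, 1, 3])]

theorem x_check : xList.all (fun p => decide (app (pword p.2) (1, 0, 0, 0) = p.1)) = true := by decide +kernel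

theorem v_check : vList.all (fun p => decide (app (pword p.2) (1, 2, 0, 0) = p.1)) = true := by decide +kernel

theorem orbit_complete : ∀ c : V4, (wt c = 1 ∨ wt c = 4 → c ∈ xList.map Prod.fst) ∧
    (wt c = 2 → c ∈ vList.map Prod.fst) := by decide +kernel

theorem wt_two_place : ∀ c : V4, wt c = 2 → (app fromP c).2.2.2 = 0 →
    (app fromP c).2.2.1 = 0 ∧ (app fromP c).2.1 ≠ 0 := by decide +kernel

theorem wt_two_gen : ∀ c : V4, ∀ i : Fin 4, wt (app (pgen i) c) = 2 → wt c = 2 := by decide +kernel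

theorem wt_two_word : ∀ (w : List (Fin 4)) (c : V4), wt (app (pword w) c) = 2 → wt c = 2
  | [], c, h => by rwa [pword, app_idM] at h
  | i :: r, c, h => by
    rw [pword, app_comp] at h
    exact wt_two_word r c (wt_two_gen _ i h)

theorem sl_quat_part : ∀ m : SL23, m * m * m = 1 → m ≠ 1 → ∀ k : SL23,
    ∃ s : Fin 3, Qt (k * (m ^ s.val)⁻¹) := by decide +kernel

theorem sl_qt : ∀ k : SL23, Qt k → k = 1 ∨ k = -1 ∨ k * k = -1 := by decide +kernel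

theorem sl_root : ∀ m : SL23, m * m * m = 1 → m ≠ 1 → ∀ s : Fin 3,
    ((1 : SL23) * m ^ s.val) ^ 81 = 1 ∧ ((-1 : SL23) * m ^ s.val) ^ 81 ≠ 1 := by decide +kernel

theorem mul2_pow81 : ∀ e : Multiplicative (ZMod 2), e ^ 81 = 1 → e = 1 := by decide +kernel

theorem reach_x {c : V4} (h : wt c = 1 ∨ wt c = 4) :
    ∃ w, app (pword w) (1, 0, 0, 0) = c := by
  obtain ⟨⟨c', w⟩, hp, rfl⟩ := List.mem_map.1 ((orbit_complete c).1 h)
  have hh := List.all_eq_true.1 x_check (c', w) hp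
  simp only [decide_eq_true_eq] at hh
  exact ⟨w, hh⟩

theorem reach_v {c : V4} (h : wt c = 2) : ∃ w, app (pword w) (1, 2, 0, 0) = c := by
  obtain ⟨⟨c', w⟩, hp, rfl⟩ := List.mem_map.1 ((orbit_complete c).2 h)
  have hh := List.all_eq_true.1 v_check (c', w) hp
  simp only [decide_eq_true_eq] at hh
  exact ⟨w, hh⟩

variable {G : Type u} [Group G]

namespace Basis

variable [Finite G] (B : Basis G)

/-- An element of the centralizer fixing `q` modulo the centre, with image in SL(2,3). -/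
theorem image_of_fix_q {n : B.D.Ct} (hn : (B.D.ψ n).2 = 1) (hq : (n : G) * B.q * (n : G)⁻¹ * B.q⁻¹ ∈ B.D.Zc) :
    ∃ s : Fin 3, B.D.ψ n = B.v ^ s.val := by
  obtain ⟨m, hm3, hm1, hm⟩ := B.exists_m
  obtain ⟨⟨k, e⟩, hk⟩ : ∃ u, B.D.ψ n = u := ⟨_, rfl⟩
  rw [hk] at hn
  obtain rfl : e = 1 := hn
  obtain ⟨s, hs⟩ := sl_quat_part m hm3 hm1 k
  refine ⟨s, ?_⟩
  rw [hk, hm, Prod.pow_mk, one_pow]
  set n1 : B.D.Ct := n * (⟨B.w, B.w_Ct⟩ ^ s.val)⁻¹ with hn1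
  have hn1ψ : B.D.ψ n1 = (k * (m ^ s.val)⁻¹, 1) := by
    rw [hn1, map_mul, map_inv, map_pow, hk, show B.D.ψ ⟨B.w, B.w_Ct⟩ = B.v from rfl, hm, Prod.pow_mk, one_pow]
    exact Prod.ext rfl (by simp)
  have hfix : (n1 : G) * B.q * (n1 : G)⁻¹ * B.q⁻¹ ∈ B.D.Zc := by
    have hw : (B.w ^ s.val)⁻¹ * B.q * (B.w ^ s.val) = B.q := by
      rw [mul_assoc, B.adj.J_comm _ B.q_mem _ (pow_mem B.w_mem _), inv_mul_cancel_left]
    have e : (n1 : G) * B.q * (n1 : G)⁻¹ = (n : G) * ((B.w ^ s.val)⁻¹ * B.q * (B.w ^ s.val)) * (n : G)⁻¹ := by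
      simp only [hn1, coe_mul, coe_inv, SubgroupClass.coe_pow]; group
    rw [e, hw]; exact hq
  have hvec : B.D.ρ n1 (B.D.vec ⟨B.q, B.q_Q.1⟩) = B.D.vec ⟨B.q, B.q_Q.1⟩ := by
    rw [B.D.ρ_vec, ← sub_eq_zero]
    have : B.D.vec (B.D.conjQ n1 ⟨B.q, B.q_Q.1⟩) - B.D.vec ⟨B.q, B.q_Q.1⟩ =
        B.D.vec (B.D.conjQ n1 ⟨B.q, B.q_Q.1⟩ * ⟨B.q, B.q_Q.1⟩⁻¹) := by
      rw [eq_comm, eq_sub_iff_add_eq, ← B.D.vec_mul]; group
    rw [this, B.D.vec_zero]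
    exact hfix
  rcases sl_qt _ hs with h | h | h
  · exact Prod.ext (by simpa using mul_inv_eq_one.1 h) rfl
  · exfalso
    have e : B.D.ρ n1 = B.D.ρ B.D.t := B.D.ρ_congr (by rw [hn1ψ, h, B.D.t_ψ])
    rw [e, B.D.ρ_t_Q1 B.q_Q, neg_eq_iff_add_eq_zero, ← B.D.vec_mul, B.D.vec_zero] at hvec
    exact B.q_nZ (B.D.sq_mem B.q_Q.1 hvec)
  · exact absurd (B.D.free_Q1 h hn1ψ B.q_Q (.inl hvec)) B.q_nZ

theorem norm_of_fix_q {n : B.D.Ct} (hq : (n : G) * B.q * (n : G)⁻¹ * B.q⁻¹ ∈ B.D.Zc) : B.Norm (n : G) := by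
  by_cases h2 : (B.D.ψ n).2 = 1
  · obtain ⟨s, hs⟩ := B.image_of_fix_q h2 hq
    refine B.norm_of_image ?_
    rw [hs]
    exact mul_mem (mul_mem (pow_mem (mem_zpowers _) _) (mem_zpowers _)) (inv_mem (pow_mem (mem_zpowers _) _))
  · obtain ⟨o, ho, ho2, -⟩ := B.exists_o ⟨n, h2⟩
    have hoq : (o : G) * B.q * (o : G)⁻¹ = B.q := by
      have := ho (0, 1, 0, 0)
      rwa [B.el_basis.2.1, show app mO (0, 1, 0, 0) = (0, 1, 0, 0) by decide, B.el_basis.2.1] at this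
    have hno : ((n * o : B.D.Ct) : G) * B.q * ((n * o : B.D.Ct) : G)⁻¹ * B.q⁻¹ ∈ B.D.Zc := by
      rw [coe_mul, show (n : G) * o * B.q * ((n : G) * o)⁻¹ = (n : G) * ((o : G) * B.q * (o : G)⁻¹) * (n : G)⁻¹ by
        group, hoq]
      exact hq
    obtain ⟨s, hs⟩ := B.image_of_fix_q (n := n * o) (by
      rw [map_mul]
      show (B.D.ψ n).2 * (B.D.ψ o).2 = 1
      exact (show ∀ a b : Multiplicative (ZMod 2), a ≠ 1 → b ≠ 1 → a * b = 1 by decide) _ _ h2 ho2) hno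
    have h1 : B.Norm ((n : G) * o) := B.norm_of_image (n := n * o) (by
      rw [hs]
      exact mul_mem (mul_mem (pow_mem (mem_zpowers _) _) (mem_zpowers _)) (inv_mem (pow_mem (mem_zpowers _) _)))
    intro a ha
    obtain ⟨u, rfl⟩ := B.el_surj ha
    have hu := ho (app mO u)
    rw [← app_comp, show comp mO mO = idM by decide +kernel, app_idM] at hu
    have := h1 _ (B.el_mem (app mO u))
    rwa [show (n : G) * o * B.el (app mO u) * ((n : G) * o)⁻¹ =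
      (n : G) * ((o : G) * B.el (app mO u) * (o : G)⁻¹) * (n : G)⁻¹ by group, hu] at this

end Basis

namespace Frame

variable [Finite G] (F : Frame G)

theorem J_le_N : F.Jg ≤ F.N := fun _ ha => F.mem_N (F.act_J ha)

theorem mem_N_of_norm {n : G} (h : F.Norm n) : n ∈ F.N := by
  obtain ⟨M, hM⟩ := F.norm_acts h
  exact F.mem_N (F.act_of hM (P := comp toP (comp M fromP)) (by rw [comp_assoc, p_facts.1]; simp only [comp, app_idM]))

/-- The centralizer of a conjugate of the centre and an element of weight two. -/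
theorem cent_pair {u c : V4} (hu : wt u = 3) (hc : wt c = 2) {g : G}
    (hgu : g * F.e u = F.e u * g) (hgc : g * F.e c = F.e c * g) : g ∈ F.N := by
  obtain ⟨w, hw, hw'⟩ := F.reach hu
  obtain ⟨d, hd⟩ : ∃ d, F.e d = (F.word w)⁻¹ * F.e c * F.word w := by
    obtain ⟨W, hW⟩ := F.exists_act (inv_mem (F.word_N w))
    exact ⟨app W c, by rw [← hW, inv_inv]⟩
  have hwd : app (pword w) d = c := F.e_inj (by rw [← F.act_word w, hd]; group)
  have hd2 : wt d = 2 := wt_two_word w d (by rw [hwd]; exact hc)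
  set n := (F.word w)⁻¹ * g * F.word w with hn
  have hnz : n * F.D.z * n⁻¹ = F.D.z := by
    calc n * F.D.z * n⁻¹ = (F.word w)⁻¹ * (g * (F.word w * F.D.z * (F.word w)⁻¹) * g⁻¹) * F.word w := by
          rw [hn]; group
      _ = F.D.z := by rw [hw, hgu, mul_inv_cancel_right, ← hw]; group
  have hnd : n * F.e d * n⁻¹ = F.e d := by
    calc n * F.e d * n⁻¹ = (F.word w)⁻¹ * (g * F.e c * g⁻¹) * F.word w := by rw [hn, hd]; group
      _ = F.e d := by rw [hgc, mul_inv_cancel_right, hd]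
  have hnC : n ∈ F.D.Ct := F.D.mem_Ct.2 (mul_inv_eq_iff_eq_mul.1 hnz)
  suffices n ∈ F.N by
    have h2 : F.word w * n * (F.word w)⁻¹ ∈ F.N := mul_mem (mul_mem (F.word_N w) this) (inv_mem (F.word_N w))
    rwa [hn, show F.word w * ((F.word w)⁻¹ * g * F.word w) * (F.word w)⁻¹ = g by group] at h2
  rw [e] at hnd
  obtain ⟨u', hu'⟩ : ∃ u', app fromP d = u' := ⟨_, rfl⟩
  rw [hu'] at hnd
  obtain ⟨m, hm3, hm1, hm⟩ := F.exists_m
  by_cases h4 : u'.2.2.2 = 0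
  · obtain ⟨h3, h2⟩ := wt_two_place d hd2 (by rw [hu']; exact h4)
    rw [hu'] at h2 h3
    obtain ⟨i, j, k, l⟩ := u'
    obtain rfl : l = 0 := h4
    obtain rfl : k = 0 := h3
    refine F.mem_N_of_norm (F.norm_of_fix_q (n := ⟨n, hnC⟩) ?_)
    -- `n` fixes the middle power
    have hj : n * F.q ^ j.val * n⁻¹ = F.q ^ j.val := by
      have e1 : F.el (i, j, 0, 0) = F.D.z ^ i.val * F.q ^ j.val := by simp [Basis.el]
      rw [e1] at hnd
      have hzi : n * F.D.z ^ i.val * n⁻¹ = F.D.z ^ i.val := by rw [← conj_pow, hnz]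
      refine mul_left_cancel (a := F.D.z ^ i.val) ?_
      calc F.D.z ^ i.val * (n * F.q ^ j.val * n⁻¹) = n * F.D.z ^ i.val * n⁻¹ * (n * F.q ^ j.val * n⁻¹) := by rw [hzi]
        _ = n * (F.D.z ^ i.val * F.q ^ j.val) * n⁻¹ := by group
        _ = _ := hnd
    have hq : n * F.q * n⁻¹ = F.q := by
      have hlt := ZMod.val_lt j
      have hne : j.val ≠ 0 := fun h => h2 ((ZMod.val_eq_zero j).1 h)
      rcases (show j.val = 1 ∨ j.val = 2 by omega) with h | h <;> rw [h] at hj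
      · rwa [pow_one] at hj
      · have hq2 : F.q = (F.q ^ 2)⁻¹ := eq_inv_of_mul_eq_one_left (by
          rw [← pow_succ']; exact F.D.Q_exp _ F.q_Q.1)
        rw [hq2, show n * (F.q ^ 2)⁻¹ * n⁻¹ = (n * F.q ^ 2 * n⁻¹)⁻¹ by group, hj]
    rw [show ((⟨n, hnC⟩ : F.D.Ct) : G) = n from rfl, hq, mul_inv_cancel]
    exact one_mem _
  · refine F.mem_N_of_norm (F.norm_of_image (n := ⟨n, hnC⟩) ?_)
    have hconj : F.D.ψ ⟨n, hnC⟩ * F.v ^ u'.2.2.2.val * (F.D.ψ ⟨n, hnC⟩)⁻¹ = F.v ^ u'.2.2.2.val := by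
      rw [← F.el_ψ, ← map_inv, ← map_mul, ← map_mul]
      exact congrArg F.D.ψ (Subtype.ext hnd)
    have hlt := ZMod.val_lt u'.2.2.2
    have hne : u'.2.2.2.val ≠ 0 := fun h => h4 ((ZMod.val_eq_zero _).1 h)
    rcases (show u'.2.2.2.val = 1 ∨ u'.2.2.2.val = 2 by omega) with h | h <;> rw [h] at hconj
    · rw [pow_one] at hconj; rw [hconj]; exact mem_zpowers _
    · have hv2 : F.v = (F.v ^ 2)⁻¹ := eq_inv_of_mul_eq_one_left (by
        rw [← pow_succ', hm, Prod.pow_mk, one_pow, pow_succ, pow_two, hm3]; rfl)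
      rw [hv2]
      rw [show F.D.ψ ⟨n, hnC⟩ * (F.v ^ 2)⁻¹ * (F.D.ψ ⟨n, hnC⟩)⁻¹ =
        (F.D.ψ ⟨n, hnC⟩ * F.v ^ 2 * (F.D.ψ ⟨n, hnC⟩)⁻¹)⁻¹ by group, hconj]
      exact mem_zpowers _

/-- An abelian subgroup of order 81 of the normalizer centralizing a conjugate of the centre. -/
theorem unique81 {T : Subgroup G} (hcard : Nat.card T = 81) (hc : ∀ a ∈ T, ∀ b ∈ T, a * b = b * a)
    (hN : T ≤ F.N) {u : V4} (hu : wt u = 3) (hTu : ∀ a ∈ T, a * F.e u = F.e u * a) : T = F.Jg := by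
  obtain ⟨w, hw, -⟩ := F.reach hu
  set T' : Subgroup G := T.map (MulAut.conj (F.word w)⁻¹).toMonoidHom with hT'
  have hT'c : Nat.card T' = 81 := by
    rw [hT', card_map_of_injective (f := (MulAut.conj (F.word w)⁻¹).toMonoidHom) (MulAut.conj _).injective, hcard]
  have hT'C : T' ≤ F.D.Ct := by
    rintro _ ⟨a, ha, rfl⟩
    show (F.word w)⁻¹ * a * (F.word w)⁻¹⁻¹ ∈ F.D.Ct
    rw [F.D.mem_Ct]
    calc (F.word w)⁻¹ * a * (F.word w)⁻¹⁻¹ * F.D.z = (F.word w)⁻¹ * (a * (F.word w * F.D.z * (F.word w)⁻¹)) * F.word w := by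
          group
      _ = F.D.z * ((F.word w)⁻¹ * a * (F.word w)⁻¹⁻¹) := by rw [hw, hTu a ha, ← hw]; group
  have hT'N : T' ≤ F.N := by
    rintro _ ⟨a, ha, rfl⟩
    exact mul_mem (mul_mem (inv_mem (F.word_N w)) (hN ha)) (inv_mem (inv_mem (F.word_N w)))
  obtain ⟨m, hm3, hm1, hm⟩ := F.exists_m
  have e := F.adj.unique hT'C (by
      rintro _ ⟨a, ha, rfl⟩ _ ⟨b, hb, rfl⟩
      rw [← map_mul, ← map_mul, hc a ha b hb]) hT'c F.w_J F.w_Q (fun a ha => by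
    have hnorm : F.Norm a := fun x hx => (hT'N ha x).2 hx
    obtain ⟨⟨k, e⟩, hk⟩ : ∃ u, F.D.ψ ⟨a, hT'C ha⟩ = u := ⟨_, rfl⟩
    obtain ⟨u', hu'⟩ := F.el_surj (hnorm _ F.w_mem)
    have hconj : F.v ^ u'.2.2.2.val = (k * m * k⁻¹, 1) := by
      rw [← F.el_ψ, show (⟨F.el u', F.adj.J_le_Ct (F.el_mem u')⟩ : F.D.Ct) =
        ⟨a, hT'C ha⟩ * ⟨F.w, F.w_Ct⟩ * ⟨a, hT'C ha⟩⁻¹ from Subtype.ext hu', map_mul, map_mul, map_inv, hk,
        show F.D.ψ ⟨F.w, F.w_Ct⟩ = F.v from rfl, hm]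
      exact Prod.ext rfl (by simp)
    rw [hm, Prod.pow_mk, Prod.mk.injEq] at hconj
    have hkm : k * m * k⁻¹ = m ∨ k * m * k⁻¹ = m * m := by
      have hlt := ZMod.val_lt u'.2.2.2
      rcases (show u'.2.2.2.val = 0 ∨ u'.2.2.2.val = 1 ∨ u'.2.2.2.val = 2 by omega) with h | h | h <;>
        rw [h] at hconj
      · exact absurd (conj_eq_one_iff.1 (by rw [← hconj.1, pow_zero])) hm1
      · exact .inl (by rw [← hconj.1, pow_one])
      · exact .inr (by rw [← hconj.1, pow_two])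
    obtain ⟨s, hs⟩ := sl_norm_three m hm3 hm1 k hkm
    have h81 : ((k, e) : SX) ^ 81 = 1 := by
      rw [← hk, ← map_pow]
      have hd : (⟨a, ha⟩ : T') ^ Nat.card T' = 1 := pow_card_eq_one'
      rw [hT'c] at hd
      rw [show (⟨a, hT'C ha⟩ : F.D.Ct) ^ 81 = 1 from Subtype.ext (by simpa using congrArg Subtype.val hd), map_one]
    rw [Prod.pow_mk, Prod.mk_eq_one] at h81
    obtain rfl := mul2_pow81 e h81.2
    rw [show F.D.ψ ⟨F.w, (F.adj.symm.J0_le_P F.w_J).2⟩ = F.v from rfl, hk, hm]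
    rcases hs with h | h
    · rw [show k = m ^ s.val from mul_inv_eq_one.1 h]
      exact mem_zpowers_iff.2 ⟨(s.val : ℤ), by rw [zpow_natCast, Prod.pow_mk, one_pow]⟩
    · exfalso
      have h' : k = -1 * m ^ s.val := by rw [← h, inv_mul_cancel_right]
      exact (sl_root m hm3 hm1 s).2 (h' ▸ h81.1))
  refine eq_of_le_of_card_ge (fun a ha => ?_) (by rw [hcard]; exact F.adj.card_J.le)
  have h1 : (F.word w)⁻¹ * a * (F.word w)⁻¹⁻¹ ∈ F.Jg := e.le ⟨a, ha, rfl⟩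
  exact (inv_mem (F.word_N w) a).1 h1

end Frame

end CfsgLib.O8T
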