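import Cfsg.Agent.Lib.OEightPlusThree.StHom
import Cfsg.Agent.Lib.OEightPlusThree.CentV

/-!
The subgroup `M` contains `J` and `W`, is normalized by the normalizer of `J`, and has trivial centralizer; the
subgroup `H = MN` contains the centralizers of `z`, `x` and of the elements of weight two.
-/

set_option autoImplicit false
set_option synthInstance.maxSize 4096
set_option maxRecDepth 8000

namespace CfsgLib.O8T

open Subgroup

universe u

/-- A matrix permuting the frame, fixing the second reflection and the first plane. -/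
def GoodM (S : M4) : Prop :=
  comp S pT = comp pT S ∧ PlaneFix S ∧ comp S rM = comp rM S ∧ ∀ i, ∃ j, comp S (nM i) = comp (nM j) S

instance (S : M4) : Decidable (GoodM S) := inferInstanceAs (Decidable (_ ∧ _ ∧ _ ∧ _))

/-- The generators of the normalizer with the corrections bringing them to good matrices. -/
def gensN : List (M4 × Fin 3 × List Bool × Fin 4 × M4) :=
  [(pH, 2, [true, false, false], 3, pT), (pA, 2, [], 0, idM), (pB, 0, [], 0, pB), (pT, 0, [], 0, pT), (pO, 0, [], 0, pO)]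

theorem gens_check : (gensN.all fun p => decide
    (comp (vM p.2.2.2.1) (comp (symM p.2.2.1) (comp (powM pA p.2.1.val) p.1)) = p.2.2.2.2)) = true ∧
    (gensN.all fun p => decide (GoodM p.2.2.2.2)) = true := by
  decide +kernel

theorem gam_form : ∀ i j : Fin 3, ∀ k l : Fin 2,
    stP i.val j.val k.val l.val = comp (comp (comp (powM pA i.val) (powM pB j.val)) (powM pT k.val)) (powM pO l.val) := by
  decide +kernel

theorem gam_decomp {M : M4} (hM : M ∈ gam) :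
    ∃ w : List (Fin 4), ∃ l : Fin 2, M = comp (pword w) (powM pO l.val) := by
  simp only [gam, List.mem_flatMap, List.mem_map, List.mem_finRange, true_and] at hM
  obtain ⟨p, -, i, j, k, l, rfl⟩ := hM
  have hap : ∀ u v : List (Fin 4), pword (u ++ v) = comp (pword u) (pword v) := by
    intro u v
    induction u with
    | nil => simp only [List.nil_append, pword, comp, app_idM]
    | cons a r ih => simp only [List.cons_append, pword, ih, comp_assoc]
  have hrep : ∀ (a : Fin 4) (n : Fin 3), pword (List.replicate n.val a) = powM (pgen a) n.val := by decide +kernel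
  have hrep2 : ∀ (n : Fin 2), pword (List.replicate n.val 3) = powM pT n.val := by decide +kernel
  refine ⟨p.2 ++ (List.replicate i.val 1 ++ List.replicate j.val 2 ++ List.replicate k.val 3), l, ?_⟩
  rw [hap, hap, hap, hrep, hrep, hrep2, gam_form, ← comp_assoc (pword p.2)]
  rfl

theorem frame_span : (∀ c : V4, c = (cfd c 0).val • vv 0 + (cfd c 1).val • vv 1 + (cfd c 2).val • vv 2 +
      (cfd c 3).val • vv 3) ∧
    (∀ c : V4, (∀ i, app (nM i) c = c) → c = 0) ∧ (∀ i, app (nM i) (vv i) = -vv i) ∧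
    (∀ i, -(vv i + vv i) = vv i) ∧ vM 1 = comp (nM 2) (nM 3) ∧ vM 2 = comp (nM 0) (comp (nM 1) (nM 2)) ∧
    vM 3 = comp (nM 0) (nM 3) ∧
    (∀ i, ∃ j, comp pB (nM i) = comp (nM j) pB) ∧ (∀ i, ∃ j, comp sM (nM i) = comp (nM j) sM) := by decide +kernel

theorem nM_inj : ∀ i j, nM i = nM j → i = j := by decide +kernel

theorem split_pair : ∃ δ γ : V4, app pT δ = δ ∧ app pT γ = γ ∧ ¬ InPlane 3 δ ∧ ¬ InPlane 3 γ ∧
    ∀ k : Fin 4, k ≠ 3 → InPlane k δ ∨ InPlane k γ := by decide +kernel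

variable {G : Type u} [Group G]

namespace Frame

variable [Finite G] (F : Frame G)

theorem nR_M (i : Fin 4) : F.nR i ∈ F.M := by
  have key : ∃ r : Fin 24, bse r = some i ∧ pof r = 0 := by revert i; decide +kernel
  obtain ⟨r, h, h'⟩ := key
  have := F.rt_M r
  rwa [rt, h, h', F.e_zero, one_mul, inv_one, mul_one] at this

theorem x0_M : F.x0 ∈ F.M := by
  have := F.rt_M 22
  rwa [rt, show bse 22 = none from rfl, show pof 22 = 0 from rfl, F.e_zero, one_mul, inv_one, mul_one] at this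

theorem e_vv_M (i : Fin 4) : F.e (vv i) ∈ F.M := by
  have key : ∃ r : Fin 24, bse r = some i ∧ pof r = vv i := by revert i; decide +kernel
  obtain ⟨r, h, h'⟩ := key
  have h1 := F.rt_M r
  rw [rt, h, h'] at h1
  have h2 := mul_mem (F.nR_M i) h1
  have e : F.nR i * (F.e (vv i) * F.nR i * (F.e (vv i))⁻¹) = F.e (vv i) := by
    rw [← mul_assoc, ← mul_assoc, F.lift_e (F.nR_lift i), frame_span.2.2.1, mul_assoc (F.e _) (F.nR i), F.nR_sq, mul_one,
      ← F.e_neg, ← F.e_add, ← neg_add, frame_span.2.2.2.1]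
  exact e ▸ h2

theorem J_M (c : V4) : F.e c ∈ F.M := by
  rw [frame_span.1 c, F.e_add, F.e_add, F.e_add, ← F.e_pow, ← F.e_pow, ← F.e_pow, ← F.e_pow]
  exact mul_mem (mul_mem (mul_mem (pow_mem (F.e_vv_M 0) _) (pow_mem (F.e_vv_M 1) _)) (pow_mem (F.e_vv_M 2) _))
    (pow_mem (F.e_vv_M 3) _)

theorem Jg_M : F.Jg ≤ F.M := fun a ha => by
  obtain ⟨c, rfl⟩ := F.e_surj ha
  exact F.J_M c

theorem XS_M (δ : V4) : F.XS δ ∈ F.M := mul_mem (mul_mem (F.J_M δ) F.x0_M) (inv_mem (F.J_M δ))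

theorem nT_M : F.nT ∈ F.M := F.nR_one ▸ F.nR_M 1

theorem vN_M (k : Fin 4) : F.vN k ∈ F.M := by
  obtain ⟨-, -, -, -, h1, h2, h3, -⟩ := frame_span
  fin_cases k
  · show F.vN 0 ∈ F.M
    rw [F.vN_zero]; exact one_mem _
  · show F.vN 1 ∈ F.M
    rw [F.lift_unique (F.vN_lift 1) (h1 ▸ F.lift_mul (F.nR_lift 2) (F.nR_lift 3))]
    exact mul_mem (F.nR_M 2) (F.nR_M 3)
  · show F.vN 2 ∈ F.M
    rw [F.lift_unique (F.vN_lift 2) (h2 ▸ F.lift_mul (F.nR_lift 0) (F.lift_mul (F.nR_lift 1) (F.nR_lift 2)))]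
    exact mul_mem (F.nR_M 0) (mul_mem (F.nR_M 1) (F.nR_M 2))
  · show F.vN 3 ∈ F.M
    rw [F.lift_unique (F.vN_lift 3) (h3 ▸ F.lift_mul (F.nR_lift 0) (F.nR_lift 3))]
    exact mul_mem (F.nR_M 0) (F.nR_M 3)

theorem Qk_not_triv_move {k : Fin 4} {q : G} (hq : q ∈ F.Qk k) (hn : ¬ F.Triv q) {v : V4} (hv : app pT v = v)
    (hp : ¬ InPlane k v) : ¬ F.Triv (F.e v * q * (F.e v)⁻¹ * q⁻¹) := by
  intro h
  refine hn (F.Qk_fpf hq hv hp ?_)
  rcases h with h | h
  · exact .inl (mul_inv_eq_one.1 h)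
  · exact .inr (by rw [(mul_inv_eq_iff_eq_mul.1 h : _ = F.nT * q), (F.Qk_nT hq).eq])

theorem xf_not_triv (k : Fin 4) : ¬ F.Triv (F.xf k) := fun h => by
  have := F.xf_sq k
  rw [F.eq_of_triv_sq h] at this
  exact F.nT_ne this.symm

theorem W_M : F.W ≤ F.M := by
  obtain ⟨δ, γ, hδ, hγ, h3δ, h3γ, hk⟩ := split_pair
  obtain ⟨hc, he⟩ := F.W_conj_e F.xf_comp hδ
  obtain ⟨y, hy⟩ : ∃ y, y = (fun k => F.e δ * F.xf k * (F.e δ)⁻¹) * F.xf := ⟨_, rfl⟩
  have hyc : F.Comp y := hy ▸ Comp.mul F hc F.xf_comp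
  have hyM : wp y ∈ F.M := by
    rw [hy, F.wp_mul hc F.xf_comp, ← he]
    have hXM := mul_mem (F.XS_M δ) F.x0_M
    have e : F.e δ * wp F.xf * (F.e δ)⁻¹ * wp F.xf = F.XS δ * F.x0 := by
      rw [XS, x0, show F.e δ * (wp F.xf * F.nT) * (F.e δ)⁻¹ * (wp F.xf * F.nT) =
        F.e δ * wp F.xf * (F.nT * (F.e δ)⁻¹ * wp F.xf) * F.nT by group,
        (((show Commute F.nT (F.e δ) from F.nT_fix hδ).inv_right).mul_right
          (F.W_nT (⟨_, F.xf_comp, rfl⟩ : wp F.xf ∈ F.W)).symm |>.eq ▸ mul_assoc F.nT (F.e δ)⁻¹ (wp F.xf) :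
          F.nT * (F.e δ)⁻¹ * wp F.xf = (F.e δ)⁻¹ * wp F.xf * F.nT)]
      rw [show F.e δ * wp F.xf * ((F.e δ)⁻¹ * wp F.xf * F.nT) * F.nT =
        F.e δ * wp F.xf * (F.e δ)⁻¹ * wp F.xf * (F.nT * F.nT) by group, F.nT_sq, mul_one]
    exact e ▸ hXM
  obtain ⟨hc', he'⟩ := F.W_conj_e hyc hγ
  obtain ⟨z, hz⟩ : ∃ z, z = (fun k => F.e γ * y k * (F.e γ)⁻¹) * y⁻¹ := ⟨_, rfl⟩
  have hzM : wp z ∈ F.M := by
    rw [hz, F.wp_mul hc' (Comp.inv F hyc), ← he', F.wp_inv hyc]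
    exact mul_mem (mul_mem (mul_mem (F.J_M γ) hyM) (inv_mem (F.J_M γ))) (inv_mem hyM)
  have hzk : ∀ k : Fin 4, k ≠ 3 → z k = 1 := fun k hk3 => by
    rw [hz, Pi.mul_apply, Pi.inv_apply, mul_inv_eq_one]
    rcases hk k hk3 with h | h
    · have e : y k = F.nT := by
        rw [hy, Pi.mul_apply, ← (F.Qk_fix (F.xf_comp k) h).eq, mul_inv_cancel_right, F.xf_sq]
      rw [e, ← (show Commute F.nT (F.e γ) from F.nT_fix hγ).eq, mul_inv_cancel_right]
    · rw [← (F.Qk_fix (hyc k) h).eq, mul_inv_cancel_right]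
  have h1 : ¬ F.Triv (y 3) := fun h => by
    refine F.xf_not_triv 3 (F.Qk_fpf (F.xf_comp 3) hδ h3δ ?_)
    rw [hy, Pi.mul_apply] at h
    have hi : (F.xf 3)⁻¹ = F.xf 3 * F.nT := inv_eq_of_mul_eq_one_right (by
      rw [← mul_assoc, F.xf_sq, F.nT_sq])
    rcases h with h | h
    · exact .inr ((eq_inv_of_mul_eq_one_left h).trans hi)
    · refine .inl ?_
      rw [← eq_mul_inv_iff_mul_eq] at h
      rw [h, hi, ← mul_assoc, ← (F.Qk_nT (F.xf_comp 3)).eq, mul_assoc, F.nT_sq, mul_one]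
  have hz3 : ¬ F.Triv (z 3) := by
    rw [hz, Pi.mul_apply, Pi.inv_apply]
    exact F.Qk_not_triv_move (hyc 3) h1 hγ h3γ
  have hwz : wp z = z 3 := by
    rw [wp, hzk 0 (by decide), hzk 1 (by decide), hzk 2 (by decide), one_mul, one_mul, one_mul]
  have hz3Q : z 3 ∈ F.Qk 3 := hz ▸ mul_mem (hc' 3) (inv_mem (hyc 3))
  obtain ⟨g, hg, hgz⟩ := F.exists_cQ hz3Q
  have hgM : g ∈ F.M := by
    have hv := mul_mem (mul_mem (F.vN_M 3) (hwz ▸ hzM)) (F.vN_M 3)
    rw [hgz, F.cQ_apply, show F.vN 3 * (F.vN 3 * g * F.vN 3) * F.vN 3 = F.vN 3 * F.vN 3 * g * (F.vN 3 * F.vN 3) by group,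
      F.vN_sq, one_mul, mul_one] at hv
    exact hv
  have hg2 : g * g = F.nT := by
    refine (F.Quat_sq hg).resolve_left fun h => hz3 ?_
    rw [hgz]
    rcases h with rfl | rfl
    · exact .inl (map_one _)
    · exact .inr (F.cQ_nT 3)
  have hfull : F.Quat ⊓ F.M = F.Quat := by
    refine F.Quat_full inf_le_left (g := g) ⟨hg, hgM⟩ hg2 (u := app fromP (zvv 2)) twenty_three.2.2.1 ?_
    exact mem_inf.2 ⟨F.Quat_e hg twenty_three.2.1,
      (mul_mem (mul_mem (F.J_M _) hgM) (inv_mem (F.J_M _)) : F.e (zvv 2) * g * (F.e (zvv 2))⁻¹ ∈ F.M)⟩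
  refine F.W_le fun k a ha => ?_
  have h := hfull.ge (F.mem_Qk.1 ha)
  have h' := mul_mem (mul_mem (F.vN_M k) h.2) (F.vN_M k)
  rwa [show F.vN k * (F.vN k * a * F.vN k) * F.vN k = F.vN k * F.vN k * a * (F.vN k * F.vN k) by group,
    F.vN_sq, one_mul, mul_one] at h'

theorem Quat_M : F.Quat ≤ F.M := F.Quat_le_W.trans F.W_M

theorem a_M : F.a ∈ F.M := by
  set g := F.xa
  have hg := F.xa_Quat
  set y := g * F.q * g⁻¹ with hy
  have hqQ : F.q ∈ F.D.Q := F.D.Q1_le F.q_Q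
  have hgC : g ∈ F.D.Ct := F.D.mem_Ct.2 hg.2.1
  have hyQ : y ∈ F.D.Q := F.D.conj_Q hgC hqQ
  have hyM : y ∈ F.M := mul_mem (mul_mem (F.Quat_M hg) (F.e_qv ▸ F.J_M _)) (inv_mem (F.Quat_M hg))
  have hy1 : y ∈ F.D.Q1 := by
    obtain ⟨b, hb, c, hc, e⟩ := F.D.exists_decomp hyQ
    have hcc : ∀ d ∈ F.D.Q2, c * d = d * c := fun d hd => by
      have h1 : Commute y d := by
        have h0 := (show Commute F.q d from F.D.Q1_comm_Q2 F.q_Q hd).conj g
        rwa [show g * d * g⁻¹ = d by rw [QuP.q2 hg hd, mul_inv_cancel_right]] at h0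
      have h2 : Commute (b⁻¹ * y) d := (show Commute b d from F.D.Q1_comm_Q2 hb hd).inv_left.mul_left h1
      rwa [e, inv_mul_cancel_left] at h2
    rw [e]
    exact mul_mem hb (F.D.Zc_le_Q1 (F.D.centre_Q2 hc hcc))
  have hnJ : y ∉ F.Jg := by
    intro h
    obtain ⟨d, hd⟩ := F.e_surj h
    have h1 : g⁻¹ * F.e d * g⁻¹⁻¹ = F.e qv := by rw [hd, hy, F.e_qv]; group
    have h2 := F.ctrl_two h1 uB_facts.2.2.2.2
    exact F.xa_not_triv (F.W_inf_N (F.Quat_le_W hg) (by simpa using inv_mem h2))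
  obtain ⟨i, hi⟩ := F.Q1_form hy1
  have hi0 : i.val ≠ 0 := fun h => by
    rw [h, pow_zero, inv_one, mul_one] at hi
    exact hnJ (F.adj.J0_le_J hi)
  have hai : F.a ^ i.val ∈ F.M := by
    have := mul_mem (inv_mem (F.Jg_M (F.adj.J0_le_J hi))) hyM
    simpa using this
  have ha3 : F.a ^ 3 = 1 := F.D.Q_exp _ (F.D.Q1_le F.a_Q)
  rcases (show i.val = 1 ∨ i.val = 2 by omega) with h | h <;> rw [h] at hai
  · rwa [pow_one] at hai
  · have := pow_mem hai 2
    rwa [← pow_mul, show 2 * 2 = 3 + 1 from rfl, pow_add, ha3, one_mul, pow_one] at this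

/-- Elements normalizing `M`. -/
theorem norm_of {n : G} {S : M4} (hn : F.Lift n S) (hx : n * F.x0 * n⁻¹ ∈ F.M)
    (hR : ∀ i, ∃ j, n * F.nR i * n⁻¹ = F.nR j) : n ∈ normalizer (F.M : Set G) := by
  have hgen : ∀ r, n * F.rt r * n⁻¹ ∈ F.M := fun r => by
    rw [rt, F.conj_comm_e hn]
    refine mul_mem (mul_mem (F.J_M _) ?_) (inv_mem (F.J_M _))
    rcases bse r with _ | i
    · exact hx
    · obtain ⟨j, hj⟩ := hR i
      exact hj ▸ F.nR_M j
  have hle : F.M.map (MulAut.conj n).toMonoidHom ≤ F.M := by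
    rintro _ ⟨_, ⟨s, rfl⟩, rfl⟩
    refine PresentedGroup.generated_by _ ((F.M.comap (MulAut.conj n).toMonoidHom).comap F.sth) (fun p => ?_) s
    show n * F.sth (PresentedGroup.of p) * n⁻¹ ∈ F.M
    rw [sth, PresentedGroup.toGroup.of, genv]
    split
    · rw [mul_one, mul_inv_cancel]; exact one_mem _
    · exact hgen _
  have heq : F.M.map (MulAut.conj n).toMonoidHom = F.M := eq_of_le_of_card_ge hle (by
    rw [card_map_of_injective (f := (MulAut.conj n).toMonoidHom) (MulAut.conj n).injective])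
  refine mem_normalizer_iff.2 fun y => ⟨fun hy => hle ⟨y, hy, rfl⟩, fun hy => ?_⟩
  obtain ⟨w, hw, e⟩ := heq.ge hy
  obtain rfl : w = y := (MulAut.conj n).injective e
  exact hw

theorem M_le_normalizer : F.M ≤ normalizer (F.M : Set G) := le_normalizer

theorem lift_R {n : G} {S : M4} (hn : F.Lift n S) (h : ∀ i, ∃ j, comp S (nM i) = comp (nM j) S) :
    ∀ i, ∃ j, n * F.nR i * n⁻¹ = F.nR j := fun i => by
  obtain ⟨j, hj⟩ := h i
  exact ⟨j, F.lift_conj_eq (F.nR_lift i) (F.nR_lift j) hn hj⟩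

theorem dR_norm : F.dR ∈ normalizer (F.M : Set G) :=
  F.norm_of F.dR_lift (by rw [F.x0_dR]; exact F.x0_M) (F.lift_R F.dR_lift frame_span.2.2.2.2.2.2.2.1)

theorem sR_norm : F.sR ∈ normalizer (F.M : Set G) :=
  F.norm_of F.sR_lift (by rw [F.x0_sR]; exact F.x0_M) (F.lift_R F.sR_lift frame_span.2.2.2.2.2.2.2.2)

theorem sym_norm : ∀ w : List Bool, ∃ n, F.Lift n (symM w) ∧ n ∈ normalizer (F.M : Set G)
  | [] => ⟨1, F.lift_one, one_mem _⟩
  | b :: r => by
    obtain ⟨n, hn, hm⟩ := sym_norm r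
    cases b
    · exact ⟨_, F.lift_mul F.dR_lift hn, mul_mem F.dR_norm hm⟩
    · exact ⟨_, F.lift_mul F.sR_lift hn, mul_mem F.sR_norm hm⟩

theorem exists_aR : ∀ i : ℕ, ∃ n, F.Lift n (powM pA i) ∧ n ∈ F.M
  | 0 => ⟨1, F.lift_one, one_mem _⟩
  | i + 1 => by
    obtain ⟨n, hn, hm⟩ := exists_aR i
    obtain ⟨c, hc⟩ := F.split F.act_a
    exact ⟨_, F.lift_mul hn hc, mul_mem hm (mul_mem (F.J_M c) F.a_M)⟩

set_option maxHeartbeats 1000000 in
/-- A lift preserving the frame and the first plane fixes `x₀`. -/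
theorem x0_good {n : G} {S : M4} (hn : F.Lift n S) (hS : GoodM S) : n * F.x0 * n⁻¹ = F.x0 := by
  obtain ⟨hT, hP, hr, hR⟩ := hS
  let k : G ≃* G := MulAut.conj n
  have kT : k F.nT = F.nT := F.lift_conj_eq F.lift_nT F.lift_nT hn hT
  choose π hπ using F.lift_R hn hR
  have kn : ∀ i y, k (F.cR i y) = F.cR (π i) (k y) := fun i y => by
    show n * (F.nR i * y * (F.nR i)⁻¹) * n⁻¹ = F.nR (π i) * (n * y * n⁻¹) * (F.nR (π i))⁻¹
    rw [← hπ i]; group
  have hinj : ∀ i j, π i = π j → i = j := fun i j e => by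
    have h := hπ j
    rw [← e, ← hπ i] at h
    have h2 : F.nR j = F.nR i := mul_left_cancel (mul_right_cancel h)
    have h3 := F.act_unique (F.nR_lift i).1 (h2 ▸ (F.nR_lift j).1)
    exact nM_inj _ _ h3
  have hπ1 : π 1 = 1 := by
    have h := hπ 1
    rw [F.nR_one, show n * F.nT * n⁻¹ = F.nT from kT, ← F.nR_one] at h
    have h3 := F.act_unique (F.nR_lift 1).1 (h ▸ (F.nR_lift (π 1)).1)
    exact (nM_inj _ _ h3).symm
  have hne : ∀ i, i ≠ 1 → π i ≠ 1 := fun i hi e => hi (hinj i 1 (e.trans hπ1.symm))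
  have hg : k F.xa ∈ F.Quat := F.Quat_lift hn hP F.xa_Quat
  have hρ : k F.rho = F.rho := F.lift_conj_eq F.rho_lift F.rho_lift hn hr
  have hgf : F.Triv (F.rho * k F.xa * F.rho⁻¹ * (k F.xa)⁻¹) := .inr (by
    have e : F.rho * F.xa * F.rho⁻¹ * F.xa⁻¹ = F.nT := by
      rw [F.xa_rho, (show Commute F.xa F.nT from F.xa_Quat.2.2.2).eq, mul_inv_cancel_right]
    have := congrArg k e
    rwa [map_mul, map_mul, map_mul, map_inv, map_inv, hρ, kT] at this)
  obtain ⟨τ, hτ, hτa⟩ : ∃ τ, F.Triv τ ∧ k F.xa = τ * F.xa := by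
    rcases F.xa_uniq hg hgf with h | h
    · refine absurd ?_ F.xa_not_triv
      rcases h with h | h
      · exact .inl (k.injective (h.trans (map_one k).symm))
      · exact .inr (k.injective (h.trans kT.symm))
    · exact ⟨_, h, (inv_mul_cancel_right _ _).symm⟩
  have hcτ : ∀ i, F.cR i τ = τ := fun i => by
    rcases hτ with rfl | rfl
    · exact map_one _
    · exact F.cR_nT i
  show k F.x0 = F.x0
  simp only [x0, wp, xf, Matrix.cons_val_zero, Matrix.cons_val_one, Matrix.cons_val, map_mul, kT, kn, hτa, hcτ]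
  congr 1
  have ha : Commute F.xa F.nT := F.xa_Quat.2.2.2
  have hci : ∀ i, Commute τ (F.cR i F.xa) := fun i => F.triv_comm hτ (by
    simpa only [MulEquiv.coe_toMonoidHom, F.cR_nT] using ha.map (F.cR i).toMonoidHom)
  have hca : Commute τ F.xa := F.triv_comm hτ ha
  have c03 := F.Qk_comm (show (2 : Fin 4) ≠ 1 by decide) (F.xf_comp 2) (F.xf_comp 1)
  have c02 := F.Qk_comm (show (3 : Fin 4) ≠ 1 by decide) (F.xf_comp 3) (F.xf_comp 1)
  have c32 := F.Qk_comm (show (3 : Fin 4) ≠ 2 by decide) (F.xf_comp 3) (F.xf_comp 2)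
  simp only [xf, Matrix.cons_val_zero, Matrix.cons_val_one, Matrix.cons_val] at c03 c02 c32
  have key : ∀ i j l : Fin 4, i ≠ 1 → j ≠ 1 → l ≠ 1 → i ≠ j → i ≠ l → j ≠ l →
      F.cR i F.xa * F.cR j F.xa * F.cR l F.xa = F.cR 0 F.xa * F.cR 3 F.xa * F.cR 2 F.xa := by
    intro i j l hi hj hl hij hil hjl
    fin_cases i <;> fin_cases j <;> fin_cases l <;> first
      | exact absurd rfl hi | exact absurd rfl hj | exact absurd rfl hl
      | exact absurd rfl hij | exact absurd rfl hil | exact absurd rfl hjl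
      | simp only [Fin.zero_eta, Fin.mk_one, Fin.reduceFinMk, mul_assoc, c03.eq, c02.eq, c32.eq, c03.left_comm,
          c02.left_comm, c32.left_comm]
  rw [mul_assoc F.xa (F.cR 0 F.xa), mul_assoc F.xa, ← key (π 0) (π 3) (π 2) (hne 0 (by decide)) (hne 3 (by decide))
    (hne 2 (by decide)) (fun e => absurd (hinj _ _ e) (by decide)) (fun e => absurd (hinj _ _ e) (by decide))
    (fun e => absurd (hinj _ _ e) (by decide))]
  rw [show τ * F.xa * (τ * F.cR (π 0) F.xa) * (τ * F.cR (π 3) F.xa) * (τ * F.cR (π 2) F.xa) =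
      τ * (F.xa * τ) * F.cR (π 0) F.xa * τ * (F.cR (π 3) F.xa * τ) * F.cR (π 2) F.xa by group,
    ← hca.eq, ← (hci (π 3)).eq, ← mul_assoc τ τ, F.eq_of_triv_sq hτ, one_mul,
    ← mul_assoc _ τ (F.cR (π 3) F.xa), mul_assoc _ τ τ, F.eq_of_triv_sq hτ, mul_one, ← mul_assoc, ← mul_assoc]

/-- A lift of a generator of the normalizer normalizes `M`. -/
theorem gen_norm {n : G} {S : M4} (hn : F.Lift n S) (hS : S ∈ gensN.map Prod.fst) :
    n ∈ normalizer (F.M : Set G) := by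
  obtain ⟨⟨S', i, w, v, T⟩, hq, rfl⟩ := List.mem_map.1 hS
  have he := of_decide_eq_true (List.all_eq_true.1 gens_check.1 _ hq)
  have hG := of_decide_eq_true (List.all_eq_true.1 gens_check.2 _ hq)
  simp only at he hG hn
  obtain ⟨s, hs, hsN⟩ := F.sym_norm w
  obtain ⟨p, hp, hpM⟩ := F.exists_aR i.val
  have hl := he ▸ F.lift_mul (F.vN_lift v) (F.lift_mul hs (F.lift_mul hp hn))
  have h1 : F.vN v * (s * (p * n)) ∈ normalizer (F.M : Set G) :=
    F.norm_of hl (by rw [F.x0_good hl hG]; exact F.x0_M) (F.lift_R hl hG.2.2.2)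
  have h2 := mul_mem (inv_mem (F.M_le_normalizer hpM)) (mul_mem (inv_mem hsN)
    (mul_mem (inv_mem (F.M_le_normalizer (F.vN_M v))) h1))
  simpa using h2

theorem word_norm : ∀ w : List (Fin 4), ∃ n, F.Lift n (pword w) ∧ n ∈ normalizer (F.M : Set G)
  | [] => ⟨1, F.lift_one, one_mem _⟩
  | i :: r => by
    obtain ⟨n, hn, hm⟩ := word_norm r
    obtain ⟨c, hc⟩ := F.split (F.act_gen i)
    refine ⟨_, F.lift_mul hc hn, mul_mem (F.gen_norm hc ?_) hm⟩
    fin_cases i <;> simp [gensN, pgen]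

theorem N_norm {g : G} (hg : g ∈ F.N) : g ∈ normalizer (F.M : Set G) := by
  obtain ⟨M', n, c, hn, rfl, hA⟩ := F.exists_aff hg
  refine mul_mem (F.M_le_normalizer (F.J_M c)) ?_
  obtain ⟨M'', hM, hA', -⟩ := F.act_gam hg
  obtain rfl := F.act_unique hA hA'
  obtain ⟨w, l, e⟩ := gam_decomp hM
  obtain ⟨k, hk, hkN⟩ := F.word_norm w
  subst e
  fin_cases l
  · have h : n = k := F.lift_unique hn (by
      have := F.lift_mul hk F.lift_one
      rwa [mul_one] at this)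
    exact h ▸ hkN
  · -- the odd part
    obtain ⟨N', hN'⟩ := F.exists_act (inv_mem (F.mem_N hk.1))
    have hid : comp (pword w) N' = idM := F.act_unique (F.act_mul hk.1 hN') (by rw [mul_inv_cancel]; exact F.act_one)
    have hid' : comp N' (pword w) = idM := F.act_unique (F.act_mul hN' hk.1) (by rw [inv_mul_cancel]; exact F.act_one)
    have hki : F.Lift k⁻¹ N' := ⟨hN', ((show Commute F.ε k from hk.2).inv_right).eq⟩
    have h1 : F.Lift (k⁻¹ * n) pO := by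
      have h2 := F.lift_mul hki hn
      rw [comp_assoc, hid', show powM pO _ = pO from (by decide +kernel : powM pO 1 = pO)] at h2
      rwa [show comp idM pO = pO from by decide +kernel] at h2
    have h3 := mul_mem hkN (F.gen_norm h1 (by simp [gensN]))
    rwa [mul_inv_cancel_left] at h3

theorem cent_M : centralizer (F.M : Set G) = ⊥ := by
  refine (eq_bot_iff_forall _).2 fun g hg => ?_
  have hc : ∀ m ∈ F.M, m * g = g * m := fun m hm => hg m hm
  obtain ⟨c, rfl⟩ := F.e_surj (F.cent_Jg fun c => (hc _ (F.J_M c)).symm)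
  rw [frame_span.2.1 c fun i => ?_, F.e_zero]
  refine F.e_inj (mul_right_cancel (b := F.nR i) ?_)
  rw [← F.lift_e (F.nR_lift i)]
  exact hc _ (F.nR_M i)

/-- The subgroup `MN`. -/
noncomputable def Hg : Subgroup G := F.M ⊔ F.N

theorem M_le_Hg : F.M ≤ F.Hg := le_sup_left

theorem N_le_Hg : F.N ≤ F.Hg := le_sup_right

theorem Hg_norm : F.Hg ≤ normalizer (F.M : Set G) := sup_le F.M_le_normalizer fun _ hg => F.N_norm hg

theorem mem_Hg {g : G} (h : g ∈ F.Hg) : ∃ m ∈ F.M, ∃ n ∈ F.N, g = m * n := by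
  have h' : g ∈ ((F.M ⊔ F.N : Subgroup G) : Set G) := h
  rw [coe_mul_of_right_le_normalizer_left _ _ fun _ hn => F.N_norm hn] at h'
  obtain ⟨a, ha, b, hb, rfl⟩ := h'
  exact ⟨a, ha, b, hb, rfl⟩

theorem cent_z_le : F.D.Ct ≤ F.Hg := by
  intro g hg
  obtain ⟨m, hm3, hm1, hmv⟩ := F.exists_m
  obtain ⟨s, hs⟩ := sl_quat_part m hm3 hm1 (F.D.ψ ⟨g, hg⟩).1
  obtain ⟨q, hq, e⟩ := F.exists_quP hs
  have hqC : q ∈ F.D.Ct := F.D.mem_Ct.2 hq.2.1
  have hwC : F.w ∈ F.D.Ct := F.w_Ct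
  have hg' : (q⁻¹ * g) * (F.w ^ s.val)⁻¹ ∈ F.D.Ct := mul_mem (mul_mem (inv_mem hqC) hg) (inv_mem (pow_mem hwC _))
  have h1 : (F.D.ψ ⟨_, hg'⟩).1 = 1 := by
    have e' : (⟨_, hg'⟩ : F.D.Ct) = (⟨q, hqC⟩ : F.D.Ct)⁻¹ * ⟨g, hg⟩ * (⟨F.w, hwC⟩ ^ s.val)⁻¹ := Subtype.ext rfl
    rw [e', map_mul, map_mul, map_inv, map_inv, map_pow, show F.D.ψ ⟨F.w, hwC⟩ = (m, 1) from hmv, Prod.fst_mul,
      Prod.fst_mul, Prod.fst_inv, Prod.fst_inv, Prod.pow_fst, e]
    group
  have h2 : (q⁻¹ * g) * (F.w ^ s.val)⁻¹ ∈ F.N :=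
    F.mem_N_of_norm (F.norm_of_image (by rw [F.central_image (.inl h1)]; exact mem_zpowers _))
  have h3 : F.w ^ s.val ∈ F.Hg := F.N_le_Hg (pow_mem (F.J_le_N F.w_mem) _)
  have h4 := mul_mem (mul_mem (F.M_le_Hg (F.Quat_M hq)) (F.N_le_Hg h2)) h3
  simpa [mul_assoc] using h4

theorem cent_x_le : F.Cx ≤ F.Hg :=
  F.Cx_le (inf_le_right.trans F.N_le_Hg) (inf_le_right.trans F.cent_z_le)

theorem cent_wtwo_le {c : V4} (hc : wt c = 2) : centralizer ({F.e c} : Set G) ≤ F.Hg := fun _ hg =>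
  F.N_le_Hg (F.cent_v hc (mem_centralizer_singleton_iff.1 hg))

end Frame

end CfsgLib.O8T
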