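import Cfsg.Agent.Lib.OEightPlusThree.WClass

/-!
The group `K₀` generated by `W` and the part of the normalizer of `J` centralizing `t`, and its action on the
states.
-/

set_option autoImplicit false
set_option synthInstance.maxSize 4096
set_option maxRecDepth 8000

namespace CfsgLib.O8T

open Subgroup

universe u

/-- The reflection of the outer part fixing the second plane. -/
def oM : M4 := comp pO pT

/-- Exponents. -/
abbrev Ix : Type := Fin 2 × Fin 2 × Fin 2 × Fin 3 × Fin 2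

/-- The matrix with given exponents. -/
def matIx (x : Ix) : M4 :=
  comp (powM (nM 0) x.1.val) (comp (powM (nM 2) x.2.1.val) (comp (powM (nM 3) x.2.2.1.val)
    (comp (powM pB x.2.2.2.1.val) (powM oM x.2.2.2.2.val))))

/-- The permutations of the planes. -/
def pi0 : Equiv.Perm (Fin 4) := Equiv.swap 0 1 * Equiv.swap 2 3

/-- The permutations of the planes. -/
def pi2 : Equiv.Perm (Fin 4) := Equiv.swap 0 3 * Equiv.swap 1 2

/-- The permutations of the planes. -/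
def pi3 : Equiv.Perm (Fin 4) := Equiv.swap 0 2 * Equiv.swap 1 3

/-- The permutations of the planes. -/
def piB : Equiv.Perm (Fin 4) := Equiv.swap 1 2 * Equiv.swap 2 3

/-- The permutations of the planes. -/
def piO : Equiv.Perm (Fin 4) := Equiv.swap 2 3

/-- Iterates. -/
def itS (f : Fin 256 → Fin 256) : ℕ → Fin 256 → Fin 256
  | 0, s => s
  | n + 1, s => f (itS f n s)

/-- The action of the matrix with given exponents on the states. -/
def fIx (x : Ix) (s : Fin 256) : Fin 256 :=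
  itS (gs (nM 0) pi0) x.1.val (itS (gs (nM 2) pi2) x.2.1.val (itS (gs (nM 3) pi3) x.2.2.1.val
    (itS (gs pB piB) x.2.2.2.1.val (itS (gs oM piO) x.2.2.2.2.val s))))

theorem perm_facts :
    (∀ k, PlaneFix (comp (vM (pi0 k)) (comp (nM 0) (vM k)))) ∧ (∀ k, PlaneFix (comp (vM (pi2 k)) (comp (nM 2) (vM k)))) ∧
    (∀ k, PlaneFix (comp (vM (pi3 k)) (comp (nM 3) (vM k)))) ∧ (∀ k, PlaneFix (comp (vM (piB k)) (comp pB (vM k)))) ∧
    (∀ k, PlaneFix (comp (vM (piO k)) (comp oM (vM k)))) ∧ GoodM oM ∧ comp oM pT = comp pT oM ∧ comp oM oM = idM ∧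
    comp oM pO = comp pO oM := by decide +kernel

theorem cpt_decomp : (gam.all fun M => decide (comp M pT = comp pT M → ∃ x : Ix, ∃ p : Fin 2,
    M = comp (matIx x) (powM pT p.val))) = true := by decide +kernel

/-- The matrices commuting with `pT` and the reflection. -/
def L96 : List M4 := gam.filter fun M => decide (comp M pT = comp pT M)

variable {G : Type u} [Group G]

namespace Frame

variable [Finite G] (F : Frame G)

/-- The elements of the normalizer centralizing `t` with matrix in a closed list. -/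
def actSub (L : List M4) (h1 : idM ∈ L) (hmul : ∀ M ∈ L, ∀ N ∈ L, comp M N ∈ L) : Subgroup G where
  carrier := {g | Commute g F.nT ∧ ∃ M ∈ L, F.Act g M}
  one_mem' := ⟨Commute.one_left _, idM, h1, F.act_one⟩
  mul_mem' := by
    rintro a b ⟨ha, M, hM, hAM⟩ ⟨hb, N, hN, hAN⟩
    exact ⟨ha.mul_left hb, _, hmul M hM N hN, F.act_mul hAM hAN⟩
  inv_mem' := by
    rintro a ⟨ha, M, hM, hAM⟩
    refine ⟨ha.inv_left, powM M (orderOf a - 1), ?_, ?_⟩
    · induction (orderOf a - 1) with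
      | zero => exact h1
      | succ n ih => exact hmul _ ih M hM
    · have h := F.act_pow hAM (orderOf a - 1)
      rwa [show a ^ (orderOf a - 1) = a⁻¹ from eq_inv_of_mul_eq_one_left (by
        rw [← pow_succ, Nat.sub_add_cancel (orderOf_pos a), pow_orderOf_eq_one])] at h

/-- The part of the normalizer of `J` centralizing `t`. -/
abbrev CN : Subgroup G := F.N ⊓ F.Kt

theorem CN_act {g : G} (h : g ∈ F.CN) : ∃ M ∈ L96, F.Act g M := by
  obtain ⟨M, hM, hA, -⟩ := F.act_gam h.1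
  refine ⟨M, List.mem_filter.2 ⟨hM, decide_eq_true ?_⟩, hA⟩
  exact F.act_unique (F.act_mul hA F.lift_nT.1) (by rw [(F.mem_Kt.1 h.2).eq]; exact F.act_mul F.lift_nT.1 hA)

/-- The subgroup `W C_N(t)`. -/
noncomputable def K0 : Subgroup G := F.W ⊔ F.CN

theorem CN_norm : F.CN ≤ normalizer (F.W : Set G) := fun _ h => F.W_mem_normalizer h.1 (F.mem_Kt.1 h.2)

theorem W_le_K0 : F.W ≤ F.K0 := le_sup_left

theorem CN_le_K0 : F.CN ≤ F.K0 := le_sup_right

theorem mem_K0 {g : G} (h : g ∈ F.K0) : ∃ w ∈ F.W, ∃ n ∈ F.CN, g = w * n := by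
  have h' : g ∈ ((F.W ⊔ F.CN : Subgroup G) : Set G) := h
  rw [coe_mul_of_right_le_normalizer_left _ _ F.CN_norm] at h'
  obtain ⟨a, ha, b, hb, rfl⟩ := h'
  exact ⟨a, ha, b, hb, rfl⟩

theorem W_le_Kt : F.W ≤ F.Kt := fun _ h => F.mem_Kt.2 (F.W_nT h)

theorem K0_le_Kt : F.K0 ≤ F.Kt := sup_le F.W_le_Kt inf_le_right

theorem K0_le_Hg : F.K0 ≤ F.Hg := sup_le (F.W_M.trans F.M_le_Hg) (inf_le_left.trans F.N_le_Hg)

theorem K0_norm : F.K0 ≤ normalizer (F.W : Set G) := sup_le le_normalizer F.CN_norm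

/-- An element acting on the states by a given map. -/
def Mv (g : G) (f : Fin 256 → Fin 256) : Prop :=
  Commute g F.nT ∧ ∀ w s, F.Is w s → F.Is (g * w * g⁻¹) (f s)

theorem Mv.mul {g h : G} {f f' : Fin 256 → Fin 256} (hg : F.Mv g f) (hh : F.Mv h f') :
    F.Mv (g * h) (fun s => f (f' s)) := by
  refine ⟨hg.1.mul_left hh.1, fun w s hw => ?_⟩
  rw [show g * h * w * (g * h)⁻¹ = g * (h * w * h⁻¹) * g⁻¹ by group]
  exact hg.2 _ _ (hh.2 w s hw)

theorem mv_one : F.Mv 1 (fun s => s) := ⟨Commute.one_left _, fun w s h => by simpa using h⟩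

theorem Mv.pow {g : G} {f : Fin 256 → Fin 256} (hg : F.Mv g f) : ∀ n : ℕ, F.Mv (g ^ n) (itS f n)
  | 0 => by rw [pow_zero]; exact F.mv_one
  | n + 1 => by
    have h := Mv.mul F hg (Mv.pow hg n)
    rw [← pow_succ'] at h
    exact h

theorem Mv.unique {g : G} {f f' : Fin 256 → Fin 256} (h : F.Mv g f) (h' : F.Mv g f') {s : Fin 256}
    {w : G} (hw : F.Is w s) : f s = f' s :=
  Is.unique F (h.2 w s hw) (h'.2 w s hw) (Sim.refl F _)

theorem mv_W {w : G} (hw : w ∈ F.W) : F.Mv w (fun s => s) := by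
  refine ⟨F.W_nT hw, fun v s hv => ?_⟩
  obtain ⟨r, hr⟩ := F.is_exists hw
  have hi : F.Is w⁻¹ r := Is.of_sim F hr (by
    rcases F.W_sq hw with h | h
    · exact .inl (inv_eq_of_mul_eq_one_left h)
    · exact .inr (inv_eq_of_mul_eq_one_left (by
        rw [mul_assoc, ← (F.W_nT hw).eq, ← mul_assoc, h, F.nT_sq])))
  have h := Is.mul F (Is.mul F hr hv) hi
  have key : ∀ r s : Fin 256, sx (sx r s) r = s := by
    intro r s
    refine dg_ext fun k => ?_
    rw [dg_sx, dg_sx]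
    have k2 : ∀ a b : Fin 4, dx (dx a b) a = b := by decide +kernel
    exact k2 _ _
  rwa [key] at h

theorem mv_e {c : V4} (hc : app pT c = c) : F.Mv (F.e c) (tr c) :=
  ⟨(F.nT_fix hc).symm, fun _ _ h => Is.conj_e F h hc⟩

theorem mv_lift {n : G} {M : M4} (hn : F.Lift n M) (hx : n * F.x0 * n⁻¹ = F.x0) (hT : comp M pT = comp pT M)
    (π : Equiv.Perm (Fin 4)) (hπ : ∀ k, PlaneFix (comp (vM (π k)) (comp M (vM k)))) : F.Mv n (gs M π) :=
  ⟨F.lift_nT_comm hn hT, fun _ _ h => Is.conj_lift F h hn hx hT π hπ⟩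

theorem mv_nR0 : F.Mv (F.nR 0) (gs (nM 0) pi0) :=
  F.mv_lift (F.nR_lift 0) (F.x0_cR 0) (frame_facts.2.2.2.1 0) pi0 perm_facts.1

theorem mv_nR2 : F.Mv (F.nR 2) (gs (nM 2) pi2) :=
  F.mv_lift (F.nR_lift 2) (F.x0_cR 2) (frame_facts.2.2.2.1 2) pi2 perm_facts.2.1

theorem mv_nR3 : F.Mv (F.nR 3) (gs (nM 3) pi3) :=
  F.mv_lift (F.nR_lift 3) (F.x0_cR 3) (frame_facts.2.2.2.1 3) pi3 perm_facts.2.2.1

theorem mv_dR : F.Mv F.dR (gs pB piB) :=
  F.mv_lift F.dR_lift F.x0_dR sym_facts.2.2.1 piB perm_facts.2.2.2.1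

theorem mv_oM {n : G} (hn : F.Lift n oM) : F.Mv n (gs oM piO) :=
  F.mv_lift hn (F.x0_good hn perm_facts.2.2.2.2.2.1) perm_facts.2.2.2.2.2.2.1 piO perm_facts.2.2.2.2.1

theorem lift_pow {n : G} {M : M4} (h : F.Lift n M) : ∀ k : ℕ, F.Lift (n ^ k) (powM M k)
  | 0 => by rw [pow_zero]; exact F.lift_one
  | k + 1 => by rw [pow_succ]; exact F.lift_mul (lift_pow h k) h

/-- The factors of a lift. -/
noncomputable def inPart (x : Ix) : G :=
  F.nR 0 ^ x.1.val * (F.nR 2 ^ x.2.1.val * (F.nR 3 ^ x.2.2.1.val * F.dR ^ x.2.2.2.1.val))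

/-- The shape of an element of the normalizer centralizing `t`. -/
theorem CN_shape {g : G} (h : g ∈ F.CN) : ∃ (x : Ix) (p : Fin 2) (c : V4) (o : G), app pT c = c ∧
    F.Act g (comp (matIx x) (powM pT p.val)) ∧ (x.2.2.2.2 = 0 → o = 1) ∧
    (x.2.2.2.2 = 1 → F.Lift o oM) ∧ g = F.e c * (F.inPart x * o * F.nT ^ p.val) := by
  obtain ⟨M, n, c, hn, rfl, hA⟩ := F.exists_aff h.1
  obtain ⟨hc, hM⟩ := F.aff_nT hn (F.mem_Kt.1 h.2)
  obtain ⟨M', hM', hA', -⟩ := F.act_gam h.1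
  obtain rfl := F.act_unique hA hA'
  obtain ⟨x, p, hx⟩ := of_decide_eq_true (List.all_eq_true.1 cpt_decomp M hM') hM
  refine ⟨x, p, c, (F.inPart x)⁻¹ * n * F.nT ^ p.val, hc, hx ▸ hA, ?_, ?_, ?_⟩
  · intro hm
    have hl : F.Lift (F.inPart x * F.nT ^ p.val) M := by
      have := F.lift_mul (F.lift_mul (F.lift_pow (F.nR_lift 0) x.1.val) (F.lift_mul (F.lift_pow (F.nR_lift 2) x.2.1.val)
        (F.lift_mul (F.lift_pow (F.nR_lift 3) x.2.2.1.val) (F.lift_pow F.dR_lift x.2.2.2.1.val))))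
        (F.lift_pow F.lift_nT p.val)
      rw [hx, matIx, hm]
      have e : ∀ A : M4, comp A idM = A := fun A => by simp only [comp, idM, app]; ext <;> simp
      rwa [show powM oM ((0 : Fin 2) : ℕ) = idM from rfl, e]
    rw [F.lift_unique hn hl]
    have hp : F.nT ^ p.val * F.nT ^ p.val = 1 := by rw [← (Commute.refl F.nT).mul_pow, F.nT_sq, one_pow]
    rw [show (F.inPart x)⁻¹ * (F.inPart x * F.nT ^ p.val) * F.nT ^ p.val = F.nT ^ p.val * F.nT ^ p.val by group, hp]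
  · intro hm
    have hrev : F.Lift (F.inPart x)⁻¹ (comp (powM pB (3 - x.2.2.2.1.val)) (comp (powM (nM 3) x.2.2.1.val)
        (comp (powM (nM 2) x.2.1.val) (powM (nM 0) x.1.val)))) := by
      have e : (F.inPart x)⁻¹ = F.dR ^ (3 - x.2.2.2.1.val) * (F.nR 3 ^ x.2.2.1.val * (F.nR 2 ^ x.2.1.val *
          F.nR 0 ^ x.1.val)) := by
        refine inv_eq_of_mul_eq_one_left ?_
        have hs : ∀ i k, F.nR i ^ k * F.nR i ^ k = 1 := fun i k => by rw [← (Commute.refl (F.nR i)).mul_pow, F.nR_sq, one_pow]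
        have hd : F.dR ^ (3 - x.2.2.2.1.val) * F.dR ^ x.2.2.2.1.val = 1 := by
          rw [← pow_add, Nat.sub_add_cancel (by omega)]
          exact F.lift_unique (F.lift_pow F.dR_lift 3) ((by decide +kernel : powM pB 3 = idM) ▸ F.lift_one)
        rw [inPart]
        calc F.dR ^ (3 - x.2.2.2.1.val) * (F.nR 3 ^ x.2.2.1.val * (F.nR 2 ^ x.2.1.val * F.nR 0 ^ x.1.val)) *
              (F.nR 0 ^ x.1.val * (F.nR 2 ^ x.2.1.val * (F.nR 3 ^ x.2.2.1.val * F.dR ^ x.2.2.2.1.val))) =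
            F.dR ^ (3 - x.2.2.2.1.val) * (F.nR 3 ^ x.2.2.1.val * (F.nR 2 ^ x.2.1.val *
              (F.nR 0 ^ x.1.val * F.nR 0 ^ x.1.val) * F.nR 2 ^ x.2.1.val) * F.nR 3 ^ x.2.2.1.val) *
              F.dR ^ x.2.2.2.1.val := by group
          _ = 1 := by rw [hs, mul_one, hs, mul_one, hs, mul_one, hd]
      rw [e]
      exact F.lift_mul (F.lift_pow F.dR_lift _) (F.lift_mul (F.lift_pow (F.nR_lift 3) _)
        (F.lift_mul (F.lift_pow (F.nR_lift 2) _) (F.lift_pow (F.nR_lift 0) _)))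
    have key : ∀ x : Ix, ∀ p : Fin 2, x.2.2.2.2 = 1 → comp (comp (comp (powM pB (3 - x.2.2.2.1.val))
        (comp (powM (nM 3) x.2.2.1.val) (comp (powM (nM 2) x.2.1.val) (powM (nM 0) x.1.val))))
        (comp (matIx x) (powM pT p.val))) (powM pT p.val) = oM := by decide +kernel
    have := F.lift_mul (F.lift_mul hrev (hx ▸ hn)) (F.lift_pow F.lift_nT p.val)
    rwa [key x p hm] at this
  · have hp : F.nT ^ p.val * F.nT ^ p.val = 1 := by rw [← (Commute.refl F.nT).mul_pow, F.nT_sq, one_pow]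
    rw [show F.inPart x * ((F.inPart x)⁻¹ * n * F.nT ^ p.val) * F.nT ^ p.val = n * (F.nT ^ p.val * F.nT ^ p.val) by group,
      hp, mul_one]

/-- The action of an element of `C_N(t)` on the states. -/
theorem CN_mv {g : G} (h : g ∈ F.CN) : ∃ (x : Ix) (p : Fin 2) (c : V4), app pT c = c ∧
    F.Act g (comp (matIx x) (powM pT p.val)) ∧ F.Mv g (fun s => tr c (fIx x s)) := by
  obtain ⟨x, p, c, o, hc, hA, h0, h1, rfl⟩ := F.CN_shape h
  refine ⟨x, p, c, hc, hA, ?_⟩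
  have ho : F.Mv o (itS (gs oM piO) x.2.2.2.2.val) := by
    have hb : ∀ m : Fin 2, m = 0 ∨ m = 1 := by decide
    rcases hb x.2.2.2.2 with e | e
    · rw [h0 e, e]; exact F.mv_one
    · have := Mv.pow F (F.mv_oM (h1 e)) 1
      rw [pow_one] at this
      rwa [e]
  have hin := Mv.mul F (Mv.pow F F.mv_nR0 x.1.val) (Mv.mul F (Mv.pow F F.mv_nR2 x.2.1.val)
    (Mv.mul F (Mv.pow F F.mv_nR3 x.2.2.1.val) (Mv.pow F F.mv_dR x.2.2.2.1.val)))
  have ht : F.Mv (F.nT ^ p.val) (fun s => s) := F.mv_W (pow_mem F.nT_W _)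
  have h2 := Mv.mul F (F.mv_e hc) (Mv.mul F (Mv.mul F hin ho) ht)
  exact h2

/-- The action of an element of `K₀` on the states. -/
theorem K0_mv {g : G} (h : g ∈ F.K0) : ∃ (x : Ix) (c : V4), app pT c = c ∧ F.Mv g (fun s => tr c (fIx x s)) := by
  obtain ⟨w, hw, n, hn, rfl⟩ := F.mem_K0 h
  obtain ⟨x, p, c, hc, -, hm⟩ := F.CN_mv hn
  have h2 := Mv.mul F (F.mv_W hw) hm
  exact ⟨x, c, hc, h2⟩

end Frame

end CfsgLib.O8T
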