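import Cfsg.Agent.Lib.OEightPlusThree.Local

/-!
No conjugate of the centre under the centralizer of `q` lies outside `J` in the first core.
-/

set_option autoImplicit false

namespace CfsgLib.O8T

open Subgroup

universe u

variable {G : Type u} [Group G]

namespace Basis

variable [Finite G] (B : Basis G)

theorem b_pow_nJ {k : ℕ} (hk : k % 3 ≠ 0) : B.b ^ k ∉ B.D.J0 B.D' := by
  intro h
  have hb : B.b ∈ B.D.J0 B.D' := by
    have h3 : B.b ^ k = B.b ^ (k % 3) := pow_eq_pow_mod k (B.D.Q_exp _ (B.D.Q2_le B.b_Q))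
    rw [h3] at h
    rcases (show k % 3 = 1 ∨ k % 3 = 2 by omega) with e | e <;> rw [e] at h
    · rwa [pow_one] at h
    · have : B.b = (B.b ^ 2)⁻¹ :=
        eq_inv_of_mul_eq_one_left (by rw [← pow_succ']; exact B.D.Q_exp _ (B.D.Q2_le B.b_Q))
      rw [this]; exact inv_mem h
  have h := B.b_w
  rw [B.adj.J_comm _ (B.adj.J0_le_J hb) _ B.w_mem, mul_inv_cancel_right] at h
  have : B.x = 1 := mul_eq_right.1 h.symm
  exact B.x_nZ (this ▸ one_mem _)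

/-- No element fuses the centre to the other part. -/
theorem no_fuse {g : G} {k i : ℕ} (hk : k % 3 ≠ 0) : g * B.D.z * g⁻¹ ≠ B.b ^ k * B.q ^ i := by
  intro e
  have hq3 := B.D.Q_exp _ B.q_Q.1
  have hQ : (B.D.conj g).z ∈ B.D.Q := by
    show g * B.D.z * g⁻¹ ∈ B.D.Q
    rw [e]; exact mul_mem (pow_mem (B.D.Q2_le B.b_Q) _) (pow_mem B.q_Q.1 _)
  have hbk : B.b ^ k ∉ B.D.Zc := fun h => B.b_pow_nJ hk (B.adj.A_le_J0 (mem_sup_left h))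
  have hnZ : (B.D.conj g).z ∉ B.D.Zc := by
    intro h
    change g * B.D.z * g⁻¹ ∈ B.D.Zc at h
    rw [e] at h
    refine hbk (B.D.Q1_inf_Q2.le (mem_inf.2 ⟨?_, pow_mem B.b_Q _⟩))
    have : B.b ^ k = (B.b ^ k * B.q ^ i) * (B.q ^ i)⁻¹ := by group
    rw [this]
    exact mul_mem (B.D.Zc_le_Q1 h) (inv_mem (pow_mem B.q_Q _))
  have A : Adj B.D (B.D.conj g) := ⟨hQ, hnZ⟩
  by_cases hi : i % 3 = 0
  · refine A.x_nQ2 ?_
    show g * B.D.z * g⁻¹ ∈ B.D.Q2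
    rw [e, pow_eq_pow_mod i hq3, hi, pow_zero, mul_one]
    exact pow_mem B.b_Q _
  obtain ⟨C, hC, hC'⟩ := A.exists_basis
  have hcomm : B.b ^ k * B.q ^ i = B.q ^ i * B.b ^ k :=
    (B.D.Q1_comm_Q2 (pow_mem B.q_Q i) (pow_mem B.b_Q k)).symm
  have hzJ : B.q ^ i * B.b ^ k ∈ B.D.J0 (B.D.conj g) := by
    rw [← hcomm, ← e]
    exact A.A_le_J0 (mem_sup_right (mem_zpowers _))
  obtain ⟨hqJ, hbJ⟩ := A.components (pow_mem B.q_Q i) (pow_mem B.b_Q k) hzJ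
  obtain ⟨c, hc, hcQ⟩ := A.symm.exists_out
  obtain ⟨m', -, -, hm'⟩ := A.symm.ψ_out hc hcQ
  -- the third element fixes `q`
  have hqc : c * B.q * c⁻¹ * B.q⁻¹ ∈ B.D.Zc := by
    have h1 := hqJ.2 c hc
    have hne : i % 3 = 1 ∨ i % 3 = 2 := by omega
    rw [pow_eq_pow_mod i hq3] at h1
    rcases hne with h | h <;> rw [h] at h1
    · rwa [pow_one] at h1
    · have hq2 : B.q = (B.q ^ 2)⁻¹ := eq_inv_of_mul_eq_one_left (by rw [← pow_succ']; exact hq3)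
      have e2 : c * B.q * c⁻¹ * B.q⁻¹ = (B.q ^ 2)⁻¹ * (c * B.q ^ 2 * c⁻¹ * (B.q ^ 2)⁻¹)⁻¹ * (B.q ^ 2) := by
        conv_lhs => rw [hq2]
        group
      rw [e2]
      have := B.D.conj_Zc (inv_mem (B.D.Q_le_Ct (pow_mem B.q_Q.1 2))) (inv_mem h1)
      rw [inv_inv] at this
      rw [this]; exact inv_mem h1
  obtain ⟨s, hs⟩ := B.image_of_fix_q (n := ⟨c, hc.2⟩) (by rw [hm']) hqc
  have hcQ' : c * (B.w ^ s.val)⁻¹ ∈ B.D.Q := by
    have := (B.D.ψ_ker (⟨c, hc.2⟩ * ((⟨B.w, B.w_Ct⟩ : B.D.Ct) ^ s.val)⁻¹)).1 (by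
      rw [map_mul, map_inv, map_pow, hs, show B.D.ψ ⟨B.w, B.w_Ct⟩ = B.v from rfl, mul_inv_cancel])
    simpa using this
  have hs0 : s.val ≠ 0 := fun h => hcQ (by rw [h, pow_zero, inv_one, mul_one] at hcQ'; exact hcQ')
  refine B.b_pow_nJ hk (B.adj.mem_J0_of (pow_mem (B.D.Q2_le B.b_Q) k) (c := B.w ^ s.val)
    (pow_mem (B.adj.w_P B.w_J) _) (fun h => hcQ ?_) ?_)
  · have := mul_mem hcQ' h
    rwa [inv_mul_cancel_right] at this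
  · set q0 := c * (B.w ^ s.val)⁻¹ with hq0
    have hw : B.w ^ s.val = q0⁻¹ * c := by rw [hq0]; group
    have e1 : B.w ^ s.val * B.b ^ k * (B.w ^ s.val)⁻¹ * (B.b ^ k)⁻¹ =
        q0⁻¹ * (c * B.b ^ k * c⁻¹ * (B.b ^ k)⁻¹) * q0⁻¹⁻¹ * (q0⁻¹ * B.b ^ k * q0⁻¹⁻¹ * (B.b ^ k)⁻¹) := by
      rw [hw]; group
    rw [e1, B.D.conj_Zc (inv_mem (B.D.Q_le_Ct hcQ')) (hbJ.2 c hc)]
    exact mul_mem (hbJ.2 c hc) (B.D.Q_comm _ (inv_mem hcQ') _ (pow_mem (B.D.Q2_le B.b_Q) k))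

end Basis

end CfsgLib.O8T
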