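import Cfsg.Agent.Lib.OEightPlusThree.Frame

/-!
Monomial coordinates, the conjugates of the centre in `J`, and the lifts of the normalizer's action.
-/

set_option autoImplicit false
set_option synthInstance.maxSize 4096

namespace CfsgLib.O8T

open Subgroup

universe u

/-- From monomial coordinates. -/
def fromP : M4 := ((0, 0, 1, 2), (0, 2, 1, 2), (1, 1, 1, 2), (0, 0, 1, 0))

/-- To monomial coordinates. -/
def toP : M4 := ((1, 1, 1, 0), (1, 2, 0, 0), (0, 0, 0, 1), (2, 0, 0, 1))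

/-- The generators in monomial coordinates. -/
def pH : M4 := ((1, 2, 1, 2), (2, 2, 1, 1), (1, 1, 1, 1), (1, 2, 2, 1))

/-- The generators in monomial coordinates. -/
def pA : M4 := ((0, 1, 0, 0), (0, 0, 1, 0), (1, 0, 0, 0), (0, 0, 0, 1))

/-- The generators in monomial coordinates. -/
def pB : M4 := ((2, 1, 1, 2), (1, 2, 1, 2), (1, 1, 2, 2), (1, 1, 1, 1))

/-- The generators in monomial coordinates. -/
def pT : M4 := ((0, 1, 0, 0), (1, 0, 0, 0), (0, 0, 1, 0), (0, 0, 0, 1))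

/-- The outer generator in monomial coordinates. -/
def pO : M4 := ((1, 0, 0, 0), (0, 1, 0, 0), (0, 0, 1, 0), (0, 0, 0, 2))

/-- The generators. -/
def pgen (i : Fin 4) : M4 := [pH, pA, pB, pT].getD i.val idM

/-- The value of a word. -/
def pword : List (Fin 4) → M4
  | [] => idM
  | i :: r => comp (pgen i) (pword r)

/-- The number of non-zero coordinates. -/
def wt (c : V4) : ℕ :=
  (if c.1 = 0 then 0 else 1) + (if c.2.1 = 0 then 0 else 1) + (if c.2.2.1 = 0 then 0 else 1) +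
    (if c.2.2.2 = 0 then 0 else 1)

/-- Words reaching the conjugates of the centre. -/
def reachList : List (V4 × List (Fin 4)) := [
  ((0, 1, 1, 1), [3, 2, 0, 0, 0]),
  ((0, 1, 1, 2), [0, 2, 0, 1, 0]),
  ((0, 1, 2, 1), [1, 0]),
  ((0, 1, 2, 2), [0, 1, 0, 0]),
  ((0, 2, 1, 1), [3, 2, 0]),
  ((0, 2, 1, 2), [0, 0, 1, 0, 0]),
  ((0, 2, 2, 1), [2, 0, 0]),
  ((0, 2, 2, 2), [0, 0]),
  ((1, 0, 1, 1), [2, 0, 0, 0]),
  ((1, 0, 1, 2), [2, 2, 0, 0, 0]),
  ((1, 0, 2, 1), [3, 1, 0]),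
  ((1, 0, 2, 2), [0, 3, 1, 0]),
  ((1, 1, 0, 1), [2, 1, 0, 0, 0]),
  ((1, 1, 0, 2), [2, 2, 1, 0, 0, 0]),
  ((1, 1, 1, 0), []),
  ((1, 1, 2, 0), [0, 2, 0]),
  ((1, 2, 0, 1), [0]),
  ((1, 2, 0, 2), [0, 2, 0, 0]),
  ((1, 2, 1, 0), [2, 0, 1, 0]),
  ((1, 2, 2, 0), [3, 0, 0, 0]),
  ((2, 0, 1, 1), [2, 0]),
  ((2, 0, 1, 2), [0, 0, 2, 0]),
  ((2, 0, 2, 1), [0, 1, 0]),
  ((2, 0, 2, 2), [1, 0, 0]),
  ((2, 1, 0, 1), [3, 0]),
  ((2, 1, 0, 2), [0, 0, 3, 0]),
  ((2, 1, 1, 0), [2, 2, 0, 0]),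
  ((2, 1, 2, 0), [0, 0, 0]),
  ((2, 2, 0, 1), [0, 0, 1, 0]),
  ((2, 2, 0, 2), [1, 1, 0, 0]),
  ((2, 2, 1, 0), [1, 0, 0, 0]),
  ((2, 2, 2, 0), [0, 3, 0])]

/-- Words carrying each vector into the first core. -/
def coverList : List (V4 × List (Fin 4)) := [
  ((0, 0, 0, 0), []),
  ((0, 0, 0, 1), []),
  ((0, 0, 0, 2), []),
  ((0, 0, 1, 0), [0]),
  ((0, 0, 1, 1), [0, 0]),
  ((0, 0, 1, 2), [0, 1, 1]),
  ((0, 0, 2, 0), [0]),
  ((0, 0, 2, 1), [0, 1, 1]),
  ((0, 0, 2, 2), [0, 0]),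
  ((0, 1, 0, 0), [0, 1]),
  ((0, 1, 0, 1), [0, 0]),
  ((0, 1, 0, 2), [0]),
  ((0, 1, 1, 0), [0, 0, 0]),
  ((0, 1, 1, 1), [0, 1]),
  ((0, 1, 1, 2), [0]),
  ((0, 1, 2, 0), []),
  ((0, 1, 2, 1), []),
  ((0, 1, 2, 2), []),
  ((0, 2, 0, 0), [0, 1]),
  ((0, 2, 0, 1), [0]),
  ((0, 2, 0, 2), [0, 0]),
  ((0, 2, 1, 0), []),
  ((0, 2, 1, 1), []),
  ((0, 2, 1, 2), []),
  ((0, 2, 2, 0), [0, 0, 0]),
  ((0, 2, 2, 1), [0]),
  ((0, 2, 2, 2), [0, 1]),
  ((1, 0, 0, 0), [0, 0]),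
  ((1, 0, 0, 1), [0]),
  ((1, 0, 0, 2), [0, 1]),
  ((1, 0, 1, 0), [0, 1]),
  ((1, 0, 1, 1), [0]),
  ((1, 0, 1, 2), [0, 3]),
  ((1, 0, 2, 0), []),
  ((1, 0, 2, 1), []),
  ((1, 0, 2, 2), []),
  ((1, 1, 0, 0), [0]),
  ((1, 1, 0, 1), [0, 0]),
  ((1, 1, 0, 2), [0, 1]),
  ((1, 1, 1, 0), []),
  ((1, 1, 1, 1), []),
  ((1, 1, 1, 2), []),
  ((1, 1, 2, 0), [0]),
  ((1, 1, 2, 1), [0, 1]),
  ((1, 1, 2, 2), [0, 1, 0]),
  ((1, 2, 0, 0), []),
  ((1, 2, 0, 1), []),
  ((1, 2, 0, 2), []),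
  ((1, 2, 1, 0), [0, 0]),
  ((1, 2, 1, 1), [0, 3]),
  ((1, 2, 1, 2), [0]),
  ((1, 2, 2, 0), [0, 0, 1]),
  ((1, 2, 2, 1), [0, 0]),
  ((1, 2, 2, 2), [0]),
  ((2, 0, 0, 0), [0, 0]),
  ((2, 0, 0, 1), [0, 1]),
  ((2, 0, 0, 2), [0]),
  ((2, 0, 1, 0), []),
  ((2, 0, 1, 1), []),
  ((2, 0, 1, 2), []),
  ((2, 0, 2, 0), [0, 1]),
  ((2, 0, 2, 1), [0, 3]),
  ((2, 0, 2, 2), [0]),
  ((2, 1, 0, 0), []),
  ((2, 1, 0, 1), []),
  ((2, 1, 0, 2), []),
  ((2, 1, 1, 0), [0, 0, 1]),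
  ((2, 1, 1, 1), [0]),
  ((2, 1, 1, 2), [0, 0]),
  ((2, 1, 2, 0), [0, 0]),
  ((2, 1, 2, 1), [0]),
  ((2, 1, 2, 2), [0, 3]),
  ((2, 2, 0, 0), [0]),
  ((2, 2, 0, 1), [0, 1]),
  ((2, 2, 0, 2), [0, 0]),
  ((2, 2, 1, 0), [0]),
  ((2, 2, 1, 1), [0, 1, 0]),
  ((2, 2, 1, 2), [0, 1]),
  ((2, 2, 2, 0), []),
  ((2, 2, 2, 1), []),
  ((2, 2, 2, 2), [])]

theorem p_facts : comp fromP toP = idM ∧ comp toP fromP = idM ∧
    comp fromP pH = comp mH fromP ∧ comp fromP pA = comp Basis.mA fromP ∧ comp fromP pB = comp Basis.mB fromP ∧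
    comp fromP pT = comp mT fromP ∧ comp fromP pO = comp mO fromP ∧ app toP (1, 0, 0, 0) = (1, 1, 1, 0) := by
  decide +kernel

theorem wt_gen : ∀ c : V4, ∀ i : Fin 4, wt c = 3 → wt (app (pgen i) c) = 3 := by decide +kernel

theorem reach_check : reachList.all (fun p => decide (app (pword p.2) (1, 1, 1, 0) = p.1)) = true := by decide +kernel

theorem reach_complete : ∀ c : V4, wt c = 3 → c ∈ reachList.map Prod.fst := by decide +kernel

theorem cover_check : coverList.all (fun p => decide ((app fromP (app (pword p.2) p.1)).2.2.2 = 0)) = true := by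
  decide +kernel

theorem cover_complete : ∀ c : V4, c ∈ coverList.map Prod.fst := by decide +kernel

theorem place_wt : ∀ u : V4, u ≠ 0 → u.2.2.2 = 0 → ¬ Forbidden u → wt (app toP u) = 3 := by decide +kernel

theorem wt_neg : wt (0 : V4) = 0 ∧ pword [3, 0, 3, 2, 1, 0] =
    ((2, 0, 0, 0), (0, 2, 0, 0), (0, 0, 2, 0), (0, 0, 0, 2)) := by decide +kernel

theorem app_neg : ∀ c : V4, app ((2, 0, 0, 0), (0, 2, 0, 0), (0, 0, 2, 0), (0, 0, 0, 2)) c = -c := by decide +kernel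

theorem comp_assoc (P Q R : M4) : comp P (comp Q R) = comp (comp P Q) R :=
  Prod.ext (app_comp P Q R.1).symm (Prod.ext (app_comp P Q R.2.1).symm
    (Prod.ext (app_comp P Q R.2.2.1).symm (app_comp P Q R.2.2.2).symm))

variable {G : Type u} [Group G]

namespace Basis

variable [Finite G] (B : Basis G)

theorem place {n : G} {u : V4} (e : n * B.D.z * n⁻¹ = B.el u) : ¬ Forbidden u := by
  intro ⟨h4, h⟩
  have hQ : (B.D.conj n).z ∈ B.D.Q := by
    show n * B.D.z * n⁻¹ ∈ B.D.Q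
    rw [e]; exact B.el_Q.2 h4
  obtain ⟨i, j, k, l⟩ := u
  obtain rfl : l = 0 := h4
  have hnZ : (B.D.conj n).z ∉ B.D.Zc := by
    intro hz
    change n * B.D.z * n⁻¹ ∈ B.D.Zc at hz
    rw [e] at hz
    rcases h with ⟨-, h⟩ | ⟨h, -⟩
    · exact h (B.el_Q1 (B.D.Zc_le_Q1 hz)).1
    · exact h (B.el_Q2 (B.D.Zc_le_Q2 hz)).1
  have A : Adj B.D (B.D.conj n) := ⟨hQ, hnZ⟩
  rcases h with ⟨h, -⟩ | ⟨-, h⟩
  · refine A.x_nQ2 ?_
    show n * B.D.z * n⁻¹ ∈ B.D.Q2
    obtain rfl : j = 0 := h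
    rw [e]
    simp only [el, ZMod.val_zero, pow_zero, mul_one]
    exact mul_mem (pow_mem (B.D.Zc_le_Q2 (mem_zpowers _)) _) (pow_mem B.x_Q _)
  · refine A.x_nQ1 ?_
    show n * B.D.z * n⁻¹ ∈ B.D.Q1
    obtain rfl : k = 0 := h
    rw [e]
    simp only [el, ZMod.val_zero, pow_zero, mul_one]
    exact mul_mem (pow_mem (B.D.Zc_le_Q1 (mem_zpowers _)) _) (pow_mem B.q_Q _)

end Basis

namespace Frame

variable (F : Frame G)

/-- The element with given monomial coordinates. -/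
def e (c : V4) : G := F.el (app fromP c)

/-- Acting with a matrix in monomial coordinates. -/
abbrev Act (n : G) (M : M4) : Prop := ∀ c, n * F.e c * n⁻¹ = F.e (app M c)

/-- The subgroup `J`. -/
abbrev Jg : Subgroup G := F.D.J F.D'

/-- The normalizer of `J`. -/
def N : Subgroup G where
  carrier := {n | ∀ a, n * a * n⁻¹ ∈ F.Jg ↔ a ∈ F.Jg}
  one_mem' := fun a => by simp
  mul_mem' := fun {m n} hm hn a => by
    rw [show m * n * a * (m * n)⁻¹ = m * (n * a * n⁻¹) * m⁻¹ by group]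
    exact (hm _).trans (hn a)
  inv_mem' := fun {n} hn a => by
    rw [← hn (n⁻¹ * a * n⁻¹⁻¹), show n * (n⁻¹ * a * n⁻¹⁻¹) * n⁻¹ = a by group]

variable [Finite G]

theorem act_iff {n : G} {M : M4} : F.Act n M ↔ F.Acts n (comp fromP (comp M toP)) := by
  constructor
  · intro h v
    have := h (app toP v)
    rw [e, e, ← app_comp fromP toP, p_facts.1, app_idM] at this
    rw [app_comp, app_comp]; exact this
  · intro h c
    rw [e, h, app_comp, app_comp, ← app_comp toP fromP, p_facts.2.1, app_idM]; rfl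

theorem act_of {n : G} {M P : M4} (h : F.Acts n M) (hP : comp fromP P = comp M fromP) : F.Act n P := fun c => by
  rw [e, h, ← app_comp, ← hP, app_comp]; rfl

theorem e_add (c d : V4) : F.e (c + d) = F.e c * F.e d := by rw [e, app_add, F.el_add]; rfl

theorem e_zero : F.e 0 = 1 := by rw [e, show app fromP 0 = 0 by decide, F.el_zero]

theorem e_inj {c d : V4} (h : F.e c = F.e d) : c = d := by
  have := congrArg (app toP) (F.el_inj h)
  rwa [← app_comp, ← app_comp, p_facts.2.1, app_idM, app_idM] at this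

theorem e_mem (c : V4) : F.e c ∈ F.Jg := F.el_mem _

theorem e_surj {a : G} (ha : a ∈ F.Jg) : ∃ c, F.e c = a := by
  obtain ⟨v, rfl⟩ := F.el_surj ha
  exact ⟨app toP v, by rw [e, ← app_comp, p_facts.1, app_idM]⟩

theorem e_z : F.e (1, 1, 1, 0) = F.D.z := by
  rw [← p_facts.2.2.2.2.2.2.2, e, ← app_comp, p_facts.1, app_idM, F.el_basis.1]

theorem e_ne {c : V4} (h : c ≠ 0) : F.e c ≠ 1 := fun h1 => h (F.e_inj (h1.trans F.e_zero.symm))

theorem e_cube (c : V4) : F.e c ^ 3 = 1 := F.adj.J_exp (F.e_mem c)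

theorem e_comm (c d : V4) : F.e c * F.e d = F.e d * F.e c := by rw [← F.e_add, ← F.e_add, add_comm]

theorem e_pow (c : V4) (m : ℕ) : F.e c ^ m = F.e (m • c) := by
  induction m with
  | zero => rw [pow_zero, zero_smul, F.e_zero]
  | succ m ih => rw [pow_succ, ih, succ_nsmul, F.e_add]

theorem e_neg (c : V4) : F.e (-c) = (F.e c)⁻¹ :=
  eq_inv_of_mul_eq_one_left (by rw [← F.e_add, neg_add_cancel, F.e_zero])

theorem mem_N {n : G} {M : M4} (h : F.Act n M) : n ∈ F.N := by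
  have h1 : ∀ a ∈ F.Jg, n * a * n⁻¹ ∈ F.Jg := fun a ha => by
    obtain ⟨c, rfl⟩ := F.e_surj ha
    rw [h]; exact F.e_mem _
  have hT : F.Jg.map (MulAut.conj n).toMonoidHom = F.Jg := eq_of_le_of_card_ge
    (by rintro _ ⟨a, ha, rfl⟩; exact h1 a ha)
    (by rw [card_map_of_injective (f := (MulAut.conj n).toMonoidHom) (MulAut.conj n).injective])
  refine fun a => ⟨fun ha => ?_, h1 a⟩
  rw [← hT] at ha
  obtain ⟨b, hb, eb⟩ := ha
  rwa [← (MulAut.conj n).injective eb]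

theorem exists_act {n : G} (h : n ∈ F.N) : ∃ M, F.Act n M := by
  obtain ⟨M, hM⟩ := F.norm_acts (fun a ha => (h a).2 ha)
  exact ⟨comp toP (comp M fromP), F.act_of hM (by
    rw [comp_assoc, p_facts.1]; simp only [comp, app_idM])⟩

theorem act_one : F.Act 1 idM := fun c => by simp [app_idM]

theorem act_mul {n m : G} {M N : M4} (hn : F.Act n M) (hm : F.Act m N) : F.Act (n * m) (comp M N) := fun c => by
  rw [app_comp, ← hn, ← hm]; group

theorem act_J {n : G} (hn : n ∈ F.Jg) : F.Act n idM := fun c => by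
  rw [app_idM, F.adj.J_comm n hn _ (F.e_mem c), mul_inv_cancel_right]

theorem act_unique {n : G} {M N : M4} (hM : F.Act n M) (hN : F.Act n N) : M = N := by
  have e : ∀ v, app M v = app N v := fun v => F.e_inj ((hM v).symm.trans (hN v))
  exact Prod.ext ((app_basis M).1.symm.trans ((e _).trans (app_basis N).1))
    (Prod.ext ((app_basis M).2.1.symm.trans ((e _).trans (app_basis N).2.1))
      (Prod.ext ((app_basis M).2.2.1.symm.trans ((e _).trans (app_basis N).2.2.1))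
        ((app_basis M).2.2.2.symm.trans ((e _).trans (app_basis N).2.2.2))))

theorem act_h : F.Act F.h pH := F.act_of F.h_acts p_facts.2.2.1

theorem act_a : F.Act F.a pA := F.act_of F.acts_a p_facts.2.2.2.1

theorem act_b : F.Act F.b pB := F.act_of F.acts_b p_facts.2.2.2.2.1

theorem act_τ : F.Act F.τ pT := F.act_of F.τ_acts p_facts.2.2.2.2.2.1

/-- The generators as elements. -/
def gen (i : Fin 4) : G := [F.h, F.a, F.b, F.τ].getD i.val 1

/-- A word as an element. -/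
def word : List (Fin 4) → G
  | [] => 1
  | i :: r => F.gen i * word r

theorem act_gen (i : Fin 4) : F.Act (F.gen i) (pgen i) := by
  fin_cases i
  exacts [F.act_h, F.act_a, F.act_b, F.act_τ]

theorem act_word (w : List (Fin 4)) : F.Act (F.word w) (pword w) := by
  induction w with
  | nil => exact F.act_one
  | cons i r ih => exact F.act_mul (F.act_gen i) ih

theorem word_N (w : List (Fin 4)) : F.word w ∈ F.N := F.mem_N (F.act_word w)

theorem reach {c : V4} (hc : wt c = 3) : ∃ w, F.word w * F.D.z * (F.word w)⁻¹ = F.e c ∧ app (pword w) (1, 1, 1, 0) = c := by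
  obtain ⟨⟨c', w⟩, hp, rfl⟩ := List.mem_map.1 (reach_complete c hc)
  have h := of_decide_eq_true (List.all_eq_true.1 reach_check _ hp)
  refine ⟨w, ?_, h⟩
  rw [← F.e_z, F.act_word w, h]

/-- The conjugates of the centre in `J`. -/
theorem zconj_iff {c : V4} : (∃ g : G, g * F.D.z * g⁻¹ = F.e c) ↔ wt c = 3 := by
  refine ⟨fun ⟨g, hg⟩ => ?_, fun h => (F.reach h).elim fun w hw => ⟨_, hw.1⟩⟩
  obtain ⟨⟨c', w⟩, hp, rfl⟩ := List.mem_map.1 (cover_complete c)
  have h4 := of_decide_eq_true (List.all_eq_true.1 cover_check _ hp)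
  have e1 : (F.word w * g) * F.D.z * (F.word w * g)⁻¹ = F.el (app fromP (app (pword w) c')) := by
    have := F.act_word w c'
    rw [← hg] at this
    show _ = F.e (app (pword w) c')
    rw [← this]; group
  have hne : app fromP (app (pword w) c') ≠ 0 := fun h0 => by
    rw [h0, F.el_zero, mul_inv_eq_one, mul_eq_left] at e1
    exact F.D.z_ne e1
  have h3 := place_wt _ hne h4 (F.place e1)
  rw [← app_comp toP fromP, p_facts.2.1, app_idM] at h3
  -- the weight is invariant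
  have key : ∀ (w : List (Fin 4)) (c : V4), wt c = 3 → wt (app (pword w) c) = 3 := by
    intro w
    induction w with
    | nil => intro c h; rw [pword, app_idM]; exact h
    | cons i r ih => intro c h; rw [pword, app_comp]; exact wt_gen _ i (ih c h)
  obtain ⟨u, hu, hu'⟩ := F.reach h3
  -- the inverse element acts by a matrix
  obtain ⟨M, hM⟩ := F.exists_act (inv_mem (F.word_N w))
  have e2 : app M (app (pword w) c') = c' := F.e_inj (by rw [← hM, ← F.act_word w]; group)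
  have e3 : ((F.word w)⁻¹ * F.word u) * F.D.z * ((F.word w)⁻¹ * F.word u)⁻¹ = F.e c' := by
    rw [← e2, ← hM, ← hu]; group
  by_contra hc
  -- powers of the word exhaust the inverse
  obtain ⟨m, hm⟩ : ∃ m : ℕ, (F.word w)⁻¹ = F.word w ^ m :=
    ⟨orderOf (F.word w) - 1, inv_eq_of_mul_eq_one_right (by
      rw [← pow_succ', Nat.sub_add_cancel (orderOf_pos _)]; exact pow_orderOf_eq_one _)⟩
  have hpow : ∀ m : ℕ, ∀ c : V4, wt c = 3 → ∀ d, F.word w ^ m * F.e c * (F.word w ^ m)⁻¹ = F.e d → wt d = 3 := by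
    intro m
    induction m with
    | zero => intro c h d hd; simp only [pow_zero, one_mul, inv_one, mul_one] at hd; exact F.e_inj hd ▸ h
    | succ m ih =>
      intro c h d hd
      refine ih _ (key w c h) d ?_
      rw [← F.act_word w c, ← hd, pow_succ]; group
  exact hc (hpow m _ h3 c' (by rw [← hm, hM, e2]))

theorem cent_Jg {n : G} (hn : ∀ c, n * F.e c = F.e c * n) : n ∈ F.Jg :=
  F.cent_J fun a ha => by obtain ⟨c, rfl⟩ := F.e_surj ha; exact hn c

theorem mem_J_of_act {n : G} (h : F.Act n idM) : n ∈ F.Jg :=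
  F.cent_Jg fun c => mul_inv_eq_iff_eq_mul.1 (by rw [h, app_idM])

end Frame

end CfsgLib.O8T
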