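import Cfsg.Agent.Lib.OEightPlusThree.KNorm
import Cfsg.Agent.S0111

/-!
The outer reflection is not conjugate to an inner involution, so there is a normal subgroup omitting it.
-/

set_option autoImplicit false
set_option synthInstance.maxSize 4096
set_option maxRecDepth 8000

namespace CfsgLib.O8T

open Subgroup

universe u

/-- The inner matrices of the two-part. -/
def L16 : List M4 :=
  [((0, 1, 0, 0), (1, 0, 0, 0), (0, 0, 0, 1), (0, 0, 1, 0)), ((0, 1, 0, 0), (1, 0, 0, 0), (0, 0, 0, 2), (0, 0, 2, 0)), ((0, 1, 0, 0), (1, 0, 0, 0), (0, 0, 1, 0), (0, 0, 0, 1)), ((0, 1, 0, 0), (1, 0, 0, 0), (0, 0, 2, 0), (0, 0, 0, 2)), ((0, 2, 0, 0), (2, 0, 0, 0), (0, 0, 0, 1), (0, 0, 1, 0)), ((0, 2, 0, 0), (2, 0, 0, 0), (0, 0, 0, 2), (0, 0, 2, 0)), ((0, 2, 0, 0), (2, 0, 0, 0), (0, 0, 1, 0), (0, 0, 0, 1)), ((0, 2, 0, 0), (2, 0, 0, 0), (0, 0, 2, 0), (0, 0, 0, 2)), ((1, 0, 0, 0), (0, 1, 0, 0), (0, 0, 0, 1), (0, 0, 1,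 0)), ((1, 0, 0, 0), (0, 1, 0, 0), (0, 0, 0, 2), (0, 0, 2, 0)), ((1, 0, 0, 0), (0, 1, 0, 0), (0, 0, 1, 0), (0, 0, 0, 1)), ((1, 0, 0, 0), (0, 1, 0, 0), (0, 0, 2, 0), (0, 0, 0, 2)), ((2, 0, 0, 0), (0, 2, 0, 0), (0, 0, 0, 1), (0, 0, 1, 0)), ((2, 0, 0, 0), (0, 2, 0, 0), (0, 0, 0, 2), (0, 0, 2, 0)), ((2, 0, 0, 0), (0, 2, 0, 0), (0, 0, 1, 0), (0, 0, 0, 1)), ((2, 0, 0, 0), (0, 2, 0, 0), (0, 0, 2, 0), (0, 0, 0, 2))]

theorem oC : ((gam.all fun M => decide (comp M oM = comp oM M → powM M 8 = idM)) = true) := by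
  decide +kernel

theorem oR : ((gam.all fun M => decide (comp M oM ≠ comp rM M)) = true) := by
  decide +kernel

theorem uM_wt : (∀ c : V4, app uM c = c → wt c ≠ 3) := by
  decide +kernel

theorem oM_z : app oM zv4 = zv4 := by
  decide +kernel

theorem oM_vv : app oM (vv 0) = vv 0 := by
  decide +kernel

theorem oM_L32 : oM ∈ L32 := by
  decide +kernel

theorem oM_L16 : oM ∉ L16 := by
  decide +kernel

theorem oT_L16 : comp oM pT ∉ L16 := by
  decide +kernel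

theorem out16 : ((L32.all fun M => L16.contains M || L16.contains (comp M oM)) = true) := by
  decide +kernel

theorem not16 : (L16.all fun M => !L16.contains (comp M oM)) = true := by
  decide +kernel

theorem one16 : idM ∈ L16 := by
  decide +kernel

theorem mul16 : (L16.all fun M => L16.all fun N => L16.contains (comp M N)) = true := by
  decide +kernel

theorem inner16 : ((gamOne.all fun M => decide (M ∈ L32 → M ∈ L16)) = true) := by
  decide +kernel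

theorem form16 : (L16.all fun M => decide (∃ x : Fin 2 × Fin 2 × Fin 2, ∃ p : Fin 2, M = comp (matIx (x.1, x.2.1, x.2.2, 0, 0)) (powM pT p.val))) = true := by
  decide +kernel

theorem pO_pT : comp pO pT = oM := by
  decide +kernel

theorem L16_sub {M : M4} (h : M ∈ L16) : M ∈ L32 := by
  have k : (L16.all fun M => L32.contains M) = true := by decide +kernel
  exact List.contains_iff_mem.1 (List.all_eq_true.1 k M h)

theorem L16_mul {M N : M4} (hM : M ∈ L16) (hN : N ∈ L16) : comp M N ∈ L16 :=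
  List.contains_iff_mem.1 (List.all_eq_true.1 (List.all_eq_true.1 mul16 M hM) N hN)

theorem L16_out {M : M4} (hM : M ∈ L32) (h : M ∉ L16) : comp M oM ∈ L16 := by
  have k := List.all_eq_true.1 out16 M hM
  rw [Bool.or_eq_true, List.contains_iff_mem, List.contains_iff_mem] at k
  exact k.resolve_left h

theorem card_fix_oM : Nat.card {c : V4 // app oM c = c} = 9 := by
  rw [Nat.card_eq_fintype_card]; decide +kernel

theorem coboundary : ∀ x : Fin 2 × Fin 2 × Fin 2, x ≠ 0 → ∀ s : Fin 256,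
    fIx (x.1, x.2.1, x.2.2, 0, 0) s = s → ∃ r : Fin 256, sx r (fIx (x.1, x.2.1, x.2.2, 0, 0) r) = s := by
  decide +kernel

variable {G : Type u} [Group G]

namespace Frame

variable [Finite G] (F : Frame G)

theorem exists_oR (hout : ¬ F.Inner) : ∃ n, F.Lift n oM := by
  unfold Inner at hout
  push Not at hout
  obtain ⟨o, ho, -, -⟩ := F.exists_o hout
  obtain ⟨c, hc⟩ := F.split (F.act_of ho p_facts.2.2.2.2.2.2.1)
  exact ⟨_, pO_pT ▸ F.lift_mul hc F.lift_nT⟩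

section Outer

variable {F}
variable {o : G} (ho : F.Lift o oM)
include ho

/-- The part of `J` centralized by the outer reflection. -/
abbrev Jo (F : Frame G) (o : G) : Subgroup G := F.Jg ⊓ centralizer ({o} : Set G)

theorem e_Jo {c : V4} : F.e c ∈ F.Jo o ↔ app oM c = c := by
  refine ⟨fun h => F.e_inj (mul_right_cancel (b := o) ?_), fun h => ⟨F.e_mem _, mem_centralizer_singleton_iff.2 ?_⟩⟩
  · rw [← F.lift_e ho]
    exact (mem_centralizer_singleton_iff.1 h.2).symm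
  · rw [F.lift_e ho, h]

omit ho in
theorem Jo_isP : IsPGroup 3 (F.Jo o) := fun g => ⟨1, Subtype.ext (by
  rw [SubgroupClass.coe_pow, coe_one, pow_one]; exact F.adj.J_exp g.2.1)⟩

theorem card_Jo : Nat.card (F.Jo o) ≤ 9 := by
  rw [← card_fix_oM]
  refine Nat.card_le_card_of_surjective (fun c => (⟨F.e c.1, (e_Jo ho).2 c.2⟩ : F.Jo o)) fun g => ?_
  obtain ⟨c, hc⟩ := F.e_surj g.2.1
  exact ⟨⟨c, (e_Jo ho).1 (by rw [hc]; exact g.2)⟩, Subtype.ext hc⟩

theorem Jo_max {P : Subgroup G} (hP : P ≤ centralizer ({o} : Set G)) (h3 : IsPGroup 3 P)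
    (hle : F.Jo o ≤ P) : P ≤ F.Jo o := by
  haveI : Fact (Nat.Prime 3) := ⟨Nat.prime_three⟩
  have hC := oC
  have hv := oM_vv
  obtain ⟨-, -, -, -, -, -, hw0, -⟩ := cls_facts
  by_contra hne
  haveI := h3.isNilpotent
  have hlt : (F.Jo o).subgroupOf P < ⊤ := lt_top_iff_ne_top.2 fun e => hne (subgroupOf_eq_top.1 e)
  obtain ⟨g, hgn, hgJ⟩ := SetLike.exists_of_lt (normalizerCondition_of_isNilpotent ((F.Jo o).subgroupOf P) hlt)
  have h1 : (g : G) * F.e (vv 0) * (g : G)⁻¹ ∈ F.Jo o := by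
    have := (mem_normalizer_iff.1 hgn ⟨F.e (vv 0), hle ((e_Jo ho).2 hv)⟩).1 (mem_subgroupOf.2 ((e_Jo ho).2 hv))
    exact mem_subgroupOf.1 this
  obtain ⟨c, hc⟩ := F.e_surj h1.1
  have hgN : (g : G)⁻¹ ∈ F.N := F.ctrl_two (c := c) (d := vv 0) (by rw [hc]; group) hw0
  obtain ⟨M, hM, hA, -⟩ := F.act_gam (inv_mem hgN)
  rw [inv_inv] at hA
  have hgu := mem_centralizer_singleton_iff.1 (hP g.2)
  have hMu : comp M oM = comp oM M := F.act_unique (F.act_mul hA ho.1) (by rw [hgu]; exact F.act_mul ho.1 hA)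
  obtain ⟨k, hk⟩ := h3 g
  exact hgJ (mem_subgroupOf.2 ⟨F.three_J hA (by simpa using congrArg Subtype.val hk) (m := 8) (by norm_num)
    (of_decide_eq_true (List.all_eq_true.1 hC M hM) hMu), hP g.2⟩)

theorem o_not_Tc : ¬ F.Tc o := by
  rintro ⟨g, hg⟩
  obtain ⟨k, -, hk⟩ := conj_into (G := G) inf_le_right Jo_isP (fun P h1 h2 h3 => Jo_max ho h1 h2 h3)
    (R := F.P81.map (MulAut.conj g).toMonoidHom) (by
      rintro _ ⟨r, hr, rfl⟩
      refine mem_centralizer_singleton_iff.2 ?_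
      rw [← hg]
      show g * r * g⁻¹ * (g * F.nT * g⁻¹) = g * F.nT * g⁻¹ * (g * r * g⁻¹)
      calc g * r * g⁻¹ * (g * F.nT * g⁻¹) = g * (r * F.nT) * g⁻¹ := by group
        _ = g * (F.nT * r) * g⁻¹ := by rw [(F.mem_Kt.1 (F.P81_le hr)).eq]
        _ = _ := by group) (F.P81_isP.map _)
  have hle : (F.P81.map (MulAut.conj g).toMonoidHom).map (MulAut.conj k).toMonoidHom ≤ F.Jo o := by
    rintro _ ⟨r, hr, rfl⟩
    exact hk r hr
  have := card_le_of_le hle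
  rw [card_map_of_injective (f := (MulAut.conj k).toMonoidHom) (MulAut.conj k).injective,
    card_map_of_injective (f := (MulAut.conj g).toMonoidHom) (MulAut.conj _).injective] at this
  have := F.card_P81; have := card_Jo ho
  omega

theorem o_not_Uc : ¬ F.Uc o := by
  rintro ⟨g, hg⟩
  have hz : F.e zv4 ∈ F.Jo o := (e_Jo ho).2 oM_z
  obtain ⟨g', f, -, hf, -, hgf⟩ := pull inf_le_right F.Ju_isP (fun P a b c => F.Ju_max a b c) hg
    (mem_centralizer_singleton_iff.1 hz.2).symm (F.e_cube zv4)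
  obtain ⟨c, rfl⟩ := F.e_surj hf.1
  refine uM_wt c (F.e_Ju.1 hf) (F.zconj_iff.1 ⟨g'⁻¹, ?_⟩)
  rw [show F.D.z = F.e zv4 from F.e_z.symm, ← hgf]
  group

theorem o_not_Ec : ¬ F.Ec o := by
  rintro ⟨g, hg⟩
  obtain ⟨g', f, h', hf, -, hgf⟩ := pull (s := o) inf_le_right Jo_isP (fun P a b c => Jo_max ho a b c) (g := g⁻¹)
    (v := F.rho) (by rw [← hg]; group) F.rho_vv (F.e_cube _)
  obtain ⟨c, rfl⟩ := F.e_surj hf.1
  obtain ⟨M, hM, hA, -⟩ := F.act_gam (F.ctrl_two hgf cls_facts.2.2.2.2.2.2.2.2.2.1)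
  refine of_decide_eq_true (List.all_eq_true.1 oR M hM) ?_
  refine F.act_unique (F.act_mul hA ho.1) ?_
  rw [show g' * o = F.rho * g' from mul_inv_eq_iff_eq_mul.1 h']
  exact F.act_mul F.rho_lift.1 hA

end Outer

/-- Lifts with inner matrices in the two-part. -/
def N16 : Subgroup G where
  carrier := {g | ∃ M ∈ L16, F.Lift g M}
  one_mem' := ⟨idM, one16, F.lift_one⟩
  mul_mem' := by
    rintro a b ⟨M, hM, ha⟩ ⟨N, hN, hb⟩
    exact ⟨_, L16_mul hM hN, F.lift_mul ha hb⟩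
  inv_mem' := by
    rintro a ⟨M, hM, ha⟩
    obtain ⟨-, h16, -⟩ := of_decide_eq_true (List.all_eq_true.1 L32_facts.2.2 M (L16_sub hM))
    refine ⟨powM M 15, ?_, ?_⟩
    · have : ∀ n, powM M n ∈ L16 := by
        intro n
        induction n with
        | zero => exact one16
        | succ n ih => exact L16_mul ih hM
      exact this 15
    · have h := F.lift_pow ha 15
      have e : a ^ 16 = 1 := F.lift_unique (F.lift_pow ha 16) (h16 ▸ F.lift_one)
      rwa [show a ^ 15 = a⁻¹ from eq_inv_of_mul_eq_one_left (by rw [← pow_succ, e])] at h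

theorem N16_le : F.N16 ≤ F.N2 := fun _ ⟨M, hM, hg⟩ => ⟨M, (L16_sub hM), hg⟩

/-- The inner part of the Sylow two-subgroup. -/
noncomputable def P16 : Subgroup G := F.W ⊔ F.N16

theorem P16_le : F.P16 ≤ F.P2 := sup_le_sup_left F.N16_le _

theorem mem_P16 {g : G} (h : g ∈ F.P16) : ∃ w ∈ F.W, ∃ n ∈ F.N16, g = w * n := by
  have h' : g ∈ ((F.W ⊔ F.N16 : Subgroup G) : Set G) := h
  rw [coe_mul_of_right_le_normalizer_left _ _ ((F.N16_le.trans F.N2_le).trans F.CN_norm)] at h'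
  obtain ⟨a, ha, b, hb, rfl⟩ := h'
  exact ⟨a, ha, b, hb, rfl⟩

theorem P16_of_prod {w n : G} (hw : w ∈ F.W) {M : M4} (hn : F.Lift n M) (h : w * n ∈ F.P16) : M ∈ L16 := by
  obtain ⟨v, hv, m, ⟨M', hM', hm⟩, e⟩ := F.mem_P16 h
  have hT : n * m⁻¹ = w⁻¹ * v := by rw [eq_inv_mul_iff_mul_eq, ← mul_assoc, e, mul_inv_cancel_right]
  have hN : n * m⁻¹ ∈ F.N := mul_mem (F.mem_N hn.1) (inv_mem (F.mem_N hm.1))
  rcases F.W_inf_N (hT ▸ mul_mem (inv_mem hw) hv) hN with h1 | h1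
  · rw [mul_inv_eq_one] at h1
    subst h1
    rwa [F.act_unique hn.1 hm.1]
  · rw [mul_inv_eq_iff_eq_mul] at h1
    subst h1
    rw [F.act_unique hn.1 (F.act_mul F.lift_nT.1 hm.1)]
    refine L16_mul ?_ hM'
    decide +kernel

/-- `P2` is a Sylow subgroup of the whole group. -/
theorem P2_sylow : ∃ P : Sylow 2 G, (P : Subgroup G) = F.P2 := by
  haveI : Fact (Nat.Prime 2) := ⟨Nat.prime_two⟩
  obtain ⟨P, hP⟩ := F.P2_isP.exists_le_sylow
  refine ⟨P, le_antisymm ?_ hP⟩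
  by_contra hne
  haveI := P.2.isNilpotent
  have hlt : F.P2.subgroupOf P < ⊤ := lt_top_iff_ne_top.2 fun e => hne (subgroupOf_eq_top.1 e)
  obtain ⟨g, hgn, hgJ⟩ := SetLike.exists_of_lt (normalizerCondition_of_isNilpotent _ hlt)
  refine hgJ (mem_subgroupOf.2 ?_)
  have hcj : ∀ a ∈ F.P2, (g : G) * a * (g : G)⁻¹ ∈ F.P2 := fun a ha =>
    mem_subgroupOf.1 ((mem_normalizer_iff.1 hgn ⟨a, hP ha⟩).1 (mem_subgroupOf.2 ha))
  have hci : ∀ a ∈ F.P2, (g : G)⁻¹ * a * (g : G) ∈ F.P2 := fun a ha => by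
    have := (mem_normalizer_iff.1 (inv_mem hgn) ⟨a, hP ha⟩).1 (mem_subgroupOf.2 ha)
    simpa using mem_subgroupOf.1 this
  set c := (g : G) * F.nT * (g : G)⁻¹ with hc
  have hcP : c ∈ F.P2 := hcj _ (F.W_le_P2 F.nT_W)
  have hcomm : ∀ a ∈ F.P2, Commute c a := fun a ha => by
    have h1 := (F.mem_Kt.1 (F.K0_le_Kt (F.P2_le (hci a ha)))).symm.conj (g : G)
    rwa [show (g : G) * ((g : G)⁻¹ * a * g) * (g : G)⁻¹ = a by group] at h1
  have hmv : F.Mv c (fun s => s) := by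
    refine ⟨hcomm _ (F.W_le_P2 F.nT_W), fun w s hw => ?_⟩
    rwa [(hcomm _ (F.W_le_P2 (Is.mem F hw))).eq, mul_inv_cancel_right]
  have hcW : c ∈ F.W := F.CW_le hmv
  obtain ⟨s, hs⟩ := F.is_exists hcW
  have hs0 : s = 0 := by
    by_contra hne0
    obtain ⟨a, ha, e⟩ := Is.conj_nT F hs hne0
    rw [← (hcomm a (F.W_le_P2 ha)).eq, mul_inv_cancel_right] at e
    exact F.nT_ne (mul_eq_left.1 e.symm)
  subst hs0
  rcases Is.zero F hs with e | e
  · rw [hc, conj_eq_one_iff] at e; exact absurd e F.nT_ne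
  have hK : (g : G) ∈ F.Kt := F.mem_Kt.2 (mul_inv_eq_iff_eq_mul.1 (hc ▸ e))
  -- the group generated is a two-group in the centralizer
  have hR : F.P2 ⊔ zpowers (g : G) ≤ F.K0 := F.two_le (F.W_le_P2.trans le_sup_left)
    (P.2.to_le (sup_le hP (zpowers_le.2 g.2))) (sup_le (F.P2_le.trans F.K0_le_Kt) (zpowers_le.2 hK))
  have hidx := F.P2_index
  have hle : F.P2 ⊔ zpowers (g : G) ≤ F.P2 := by
    have hp : IsPGroup 2 ((F.P2 ⊔ zpowers (g : G)).subgroupOf F.K0) :=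
      (P.2.to_le (sup_le hP (zpowers_le.2 g.2))).of_equiv (subgroupOfEquivOfLe hR).symm
    have h0 : IsPGroup 2 (F.P2.subgroupOf F.K0) := F.P2_isP.of_equiv (subgroupOfEquivOfLe F.P2_le).symm
    have e := (h0.toSylow hidx).3 hp ((IsPGroup.toSylow_coe h0 hidx).le.trans (fun a ha => mem_subgroupOf.2 (mem_sup_left (mem_subgroupOf.1 ha))))
    intro a ha
    exact mem_subgroupOf.1 ((e.trans (IsPGroup.toSylow_coe h0 hidx)).le (show (⟨a, hR ha⟩ : F.K0) ∈ _ from mem_subgroupOf.2 ha))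
  exact hle (mem_sup_right (mem_zpowers _))

theorem inPart_inner (x : Fin 2 × Fin 2 × Fin 2) : F.Lift (F.nR 0 ^ x.1.val * (F.nR 2 ^ x.2.1.val * F.nR 3 ^ x.2.2.val))
    (comp (matIx (x.1, x.2.1, x.2.2, 0, 0)) (powM pT (0 : Fin 2).val)) := by
  have key : ∀ x : Fin 2 × Fin 2 × Fin 2, comp (powM (nM 0) x.1.val) (comp (powM (nM 2) x.2.1.val) (powM (nM 3) x.2.2.val)) =
      comp (matIx (x.1, x.2.1, x.2.2, 0, 0)) (powM pT (0 : Fin 2).val) := by decide +kernel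
  exact key x ▸ F.lift_mul (F.lift_pow (F.nR_lift 0) _) (F.lift_mul (F.lift_pow (F.nR_lift 2) _) (F.lift_pow (F.nR_lift 3) _))

theorem prod_class (x : Fin 2 × Fin 2 × Fin 2) (hx : x ≠ 0) (n : G)
    (hn : n = F.nR 0 ^ x.1.val * (F.nR 2 ^ x.2.1.val * F.nR 3 ^ x.2.2.val)) :
    (F.TH n ∨ F.UH n ∨ F.EH n) ∧ (F.TH (n * F.nT) ∨ F.UH (n * F.nT) ∨ F.EH (n * F.nT)) := by
  rw [← F.nR_one]
  have e : F.nR 0 * (F.nR 2 * F.nR 3) = F.rho := by rw [rho, (F.nR_comm 2 3).eq]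
  have hb : ∀ y : Fin 2 × Fin 2 × Fin 2, y = (0, 0, 0) ∨ y = (0, 0, 1) ∨ y = (0, 1, 0) ∨ y = (0, 1, 1) ∨
      y = (1, 0, 0) ∨ y = (1, 0, 1) ∨ y = (1, 1, 0) ∨ y = (1, 1, 1) := by decide +kernel
  have hp : ∀ i j : Fin 4, i ≠ j → F.UH (F.nR i * F.nR j) := fun _ _ h => F.pair_UH h
  have ht : ∀ i j l : Fin 4, i ≠ j → i ≠ l → j ≠ l → F.EH (F.nR i * F.nR j * F.nR l) :=
    fun _ _ _ a b c => F.triple_EH a b c
  have v0 : ((0 : Fin 2) : ℕ) = 0 := rfl
  have v1 : ((1 : Fin 2) : ℕ) = 1 := rfl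
  rcases hb x with rfl | rfl | rfl | rfl | rfl | rfl | rfl | rfl <;>
    simp only [v0, v1, pow_zero, pow_one, one_mul, mul_one] at hn <;> subst hn
  · exact absurd rfl hx
  · exact ⟨.inl (F.nR_TH 3), .inr (.inl (hp 3 1 (by decide)))⟩
  · exact ⟨.inl (F.nR_TH 2), .inr (.inl (hp 2 1 (by decide)))⟩
  · exact ⟨.inr (.inl (hp 2 3 (by decide))), .inr (.inr (ht 2 3 1 (by decide) (by decide) (by decide)))⟩
  · exact ⟨.inl (F.nR_TH 0), .inr (.inl (hp 0 1 (by decide)))⟩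
  · exact ⟨.inr (.inl (hp 0 3 (by decide))), .inr (.inr (ht 0 3 1 (by decide) (by decide) (by decide)))⟩
  · exact ⟨.inr (.inl (hp 0 2 (by decide))), .inr (.inr (ht 0 2 1 (by decide) (by decide) (by decide)))⟩
  · refine ⟨.inr (.inr ?_), .inr (.inr ?_)⟩
    · rw [← mul_assoc]; exact ht 0 2 3 (by decide) (by decide) (by decide)
    · rw [e, F.nR_one]; exact F.rho_nT_EH

/-- An involution in an inner coset of `W` is conjugate in `W` to one of two representatives. -/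
theorem coset_inv {x : Fin 2 × Fin 2 × Fin 2} (hx : x ≠ 0) {n0 : G}
    (hn0d : n0 = F.nR 0 ^ x.1.val * (F.nR 2 ^ x.2.1.val * F.nR 3 ^ x.2.2.val)) {v : G} (hv : v ∈ F.W)
    (h2 : v * n0 * (v * n0) = 1) :
    ∃ a ∈ F.W, v * n0 = a * n0 * a⁻¹ ∨ v * n0 = a * (n0 * F.nT) * a⁻¹ := by
  obtain ⟨s, hs⟩ := F.is_exists hv
  have hn0 : F.Lift n0 (comp (matIx (x.1, x.2.1, x.2.2, 0, 0)) (powM pT (0 : Fin 2).val)) := hn0d ▸ F.inPart_inner x
  have hn0T : Commute n0 F.nT := hn0d ▸ ((F.nR_nT 0).pow_left _).mul_left (((F.nR_nT 2).pow_left _).mul_left ((F.nR_nT 3).pow_left _))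
  have hn02 : n0 * n0 = 1 := F.lift_unique (F.lift_mul hn0 hn0) (by
    have key : ∀ y : Fin 2 × Fin 2 × Fin 2, comp (comp (matIx (y.1, y.2.1, y.2.2, 0, 0)) (powM pT (0 : Fin 2).val))
        (comp (matIx (y.1, y.2.1, y.2.2, 0, 0)) (powM pT (0 : Fin 2).val)) = idM := by decide +kernel
    rw [key]; exact F.lift_one)
  have hmv : F.Mv n0 (fIx (x.1, x.2.1, x.2.2, 0, 0)) := by
    have h := Mv.mul F (Mv.pow F F.mv_nR0 x.1.val) (Mv.mul F (Mv.pow F F.mv_nR2 x.2.1.val) (Mv.pow F F.mv_nR3 x.2.2.val))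
    rw [← hn0d] at h
    exact h
  have hfix : fIx (x.1, x.2.1, x.2.2, 0, 0) s = s := by
    refine Is.unique F (hmv.2 v s hs) hs ?_
    have e2 : n0 * v * n0⁻¹ = v⁻¹ := by
      rw [inv_eq_of_mul_eq_one_right hn02]
      refine eq_inv_of_mul_eq_one_left ?_
      calc n0 * v * n0 * v = v⁻¹ * (v * n0 * (v * n0)) * v := by group
        _ = 1 := by rw [h2]; group
    rw [e2]
    rcases F.W_sq hv with h | h
    · exact .inl (inv_eq_of_mul_eq_one_left h)
    · exact .inr (inv_eq_of_mul_eq_one_left (by rw [mul_assoc, ← (F.W_nT hv).eq, ← mul_assoc, h, F.nT_sq]))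
  obtain ⟨r, hr⟩ := coboundary x hx s hfix
  obtain ⟨a, ha⟩ := F.st_exists r
  have hai : F.Is a⁻¹ r := Is.of_sim F ha (by
    rcases F.W_sq (Is.mem F ha) with h | h
    · exact .inl (inv_eq_of_mul_eq_one_left h)
    · exact .inr (inv_eq_of_mul_eq_one_left (by
        rw [mul_assoc, ← (F.W_nT (Is.mem F ha)).eq, ← mul_assoc, h, F.nT_sq])))
  have hh := hr ▸ Is.mul F ha (hmv.2 _ _ hai)
  refine ⟨a, Is.mem F ha, ?_⟩
  rcases Is.sim F hs hh with e | e
  · exact .inl (by rw [e]; group)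
  · refine .inr ?_
    have haT : Commute a F.nT := F.W_nT (Is.mem F ha)
    rw [e]
    calc a * (n0 * a⁻¹ * n0⁻¹) * F.nT * n0 = a * n0 * a⁻¹ * n0⁻¹ * (F.nT * n0) := by group
      _ = a * n0 * (a⁻¹ * F.nT) := by rw [← hn0T.eq]; group
      _ = _ := by rw [haT.inv_left.eq]; group

/-- The involutions of the inner part of the Sylow two-subgroup. -/
theorem P16_inv {g : G} (hg : g ∈ F.P16) (h2 : g * g = 1) (h1 : g ≠ 1) : F.TH g ∨ F.UH g ∨ F.EH g := by
  obtain ⟨w, hw, n, ⟨M, hM, hn⟩, rfl⟩ := F.mem_P16 hg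
  obtain ⟨x, p, rfl⟩ := of_decide_eq_true (List.all_eq_true.1 form16 M hM)
  obtain ⟨n0, hn0d⟩ : ∃ n0, n0 = F.nR 0 ^ x.1.val * (F.nR 2 ^ x.2.1.val * F.nR 3 ^ x.2.2.val) := ⟨_, rfl⟩
  have hn0 : F.Lift n0 (comp (matIx (x.1, x.2.1, x.2.2, 0, 0)) (powM pT (0 : Fin 2).val)) := hn0d ▸ F.inPart_inner x
  have hnn : n = n0 * F.nT ^ p.val := F.lift_unique hn (by
    have h := F.lift_mul hn0 (F.lift_pow F.lift_nT p.val)
    rwa [show comp (comp (matIx (x.1, x.2.1, x.2.2, 0, 0)) (powM pT (0 : Fin 2).val)) (powM pT p.val) =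
      comp (matIx (x.1, x.2.1, x.2.2, 0, 0)) (powM pT p.val) by
        have key : ∀ y : Fin 2 × Fin 2 × Fin 2, ∀ p : Fin 2,
            comp (comp (matIx (y.1, y.2.1, y.2.2, 0, 0)) (powM pT (0 : Fin 2).val)) (powM pT p.val) =
              comp (matIx (y.1, y.2.1, y.2.2, 0, 0)) (powM pT p.val) := by decide +kernel
        exact key x p] at h)
  subst hnn
  have hn0T : Commute n0 F.nT := hn0d ▸ ((F.nR_nT 0).pow_left _).mul_left (((F.nR_nT 2).pow_left _).mul_left ((F.nR_nT 3).pow_left _))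
  -- absorb the power of the reflection into the part in W
  obtain ⟨v, hv, e⟩ : ∃ v ∈ F.W, w * (n0 * F.nT ^ p.val) = v * n0 :=
    ⟨w * F.nT ^ p.val, mul_mem hw (pow_mem F.nT_W _), by rw [(hn0T.pow_right _).eq, mul_assoc]⟩
  rw [e] at h2 h1 ⊢
  obtain ⟨s, hs⟩ := F.is_exists hv
  by_cases hx : x = 0
  · subst hx
    rw [show n0 = 1 by rw [hn0d]; simp] at h2 h1 ⊢
    rw [mul_one] at h2 h1 ⊢
    have hpar : swt s % 2 = 0 := by
      rw [Is.sq F hs, F.nT_pow_mod] at h2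
      by_contra hne
      rw [show swt s % 2 = 1 by omega, pow_one] at h2
      exact F.nT_ne h2
    have key : ∀ s : Fin 256, swt s % 2 = 0 → s = 0 ∨ swt s = 2 ∨ swt s = 4 := by decide +kernel
    rcases key s hpar with rfl | h | h
    · rcases Is.zero F hs with e | e
      · exact absurd e h1
      · exact .inl ⟨1, one_mem _, by rw [e]; group⟩
    · exact .inr (.inl (Is.twoH F hs h))
    · by_cases hY : IsY s
      · exact .inl (Is.YH F hs hY).1
      · exact .inr (.inr (Is.fourH F hs h hY))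


  obtain ⟨a, haW, e'⟩ := F.coset_inv hx hn0d hv h2
  have hA : a ∈ F.Hg := F.M_le_Hg (F.W_M haW)
  obtain ⟨hc1, hc2⟩ := F.prod_class x hx n0 hn0d
  rcases e' with e' | e' <;> rw [e']
  · rcases hc1 with h | h | h
    exacts [.inl (TH.conj F h hA), .inr (.inl (UH.conj F h hA)), .inr (.inr (EH.conj F h hA))]
  · rcases hc2 with h | h | h
    exacts [.inl (TH.conj F h hA), .inr (.inl (UH.conj F h hA)), .inr (.inr (EH.conj F h hA))]

theorem inner_P2 (hin : F.Inner) : F.P2 ≤ F.P16 := fun g hg => by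
  obtain ⟨w, hw, n, ⟨M, hM, hn⟩, rfl⟩ := F.mem_P2 hg
  obtain ⟨M', hM', hA, hone⟩ := F.act_gam (F.mem_N hn.1)
  obtain rfl := F.act_unique hn.1 hA
  exact mul_mem (mem_sup_left hw) (mem_sup_right ⟨M, of_decide_eq_true (List.all_eq_true.1 inner16 M (hone hin)) hM, hn⟩)

theorem x0_TH : F.TH F.x0 := by simpa [F.XS_zero] using F.XS_TH 0

theorem rt_TH (r : Fin 24) : F.TH (F.rt r) := by
  rw [rt]
  refine TH.conj F ?_ (F.e_Hg _)
  rcases bse r with _ | i
  · exact F.x0_TH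
  · exact F.nR_TH i

/-- A normal subgroup containing `t` contains `M`. -/
theorem M_le_normal {L : Subgroup G} [L.Normal] (ht : F.nT ∈ L) : F.M ≤ L := by
  rintro _ ⟨s, rfl⟩
  refine PresentedGroup.generated_by _ (L.comap F.sth) (fun p => ?_) s
  show F.sth (PresentedGroup.of p) ∈ L
  rw [sth, PresentedGroup.toGroup.of, genv]
  split
  · exact one_mem _
  · obtain ⟨h, -, e⟩ := F.rt_TH _
    exact e ▸ ‹L.Normal›.conj_mem _ ht h

/-- The inner subgroup. -/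
theorem exists_G0 : ∃ G0 : Subgroup G, G0.Normal ∧ F.M ≤ G0 ∧ (∀ g : G, g ^ 3 = 1 → g ∈ G0) ∧
    (∀ g ∈ G0, g ∈ F.P2 → g ∈ F.P16) ∧ ∀ g : G, g ∈ G0 ∨ ∃ o, F.Lift o oM ∧ g * o ∈ G0 := by
  by_cases hin : F.Inner
  · exact ⟨⊤, inferInstance, le_top, fun _ _ => mem_top _, fun g _ hg => F.inner_P2 hin hg, fun g => .inl (mem_top g)⟩
  haveI : Fact (Nat.Prime 2) := ⟨Nat.prime_two⟩
  obtain ⟨o, ho⟩ := F.exists_oR hin
  have hoP : o ∈ F.P2 := mem_sup_right ⟨oM, oM_L32, ho⟩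
  have hoQ : o ∉ F.P16 := fun h => oM_L16 (F.P16_of_prod (one_mem _) ho (by rwa [one_mul]))
  have hcos : ∀ g ∈ F.P2, g ∉ F.P16 → g * o ∈ F.P16 := fun g hg hn => by
    obtain ⟨w, hw, n, ⟨M, hM, hnl⟩, rfl⟩ := F.mem_P2 hg
    have hM' : M ∉ L16 := fun h => hn (mul_mem (mem_sup_left hw) (mem_sup_right ⟨M, h, hnl⟩))
    rw [mul_assoc]
    exact mul_mem (mem_sup_left hw) (mem_sup_right ⟨_, L16_out hM hM', F.lift_mul hnl ho⟩)
  obtain ⟨P, hP⟩ := F.P2_sylow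
  have ho2 : o * o = 1 := F.lift_invol ho perm_facts.2.2.2.2.2.2.2.1
  have ho1 : o ≠ 1 := fun h => hoQ (h ▸ one_mem _)
  have hrel : F.P16.relIndex (P : Subgroup G) = 2 := by
    rw [hP, relIndex, index_eq_two_iff]
    refine ⟨⟨o, hoP⟩, fun b => ?_⟩
    simp only [mem_subgroupOf, coe_mul]
    by_cases hb : (b : G) ∈ F.P16
    · refine .inr ⟨hb, fun h => hoQ ?_⟩
      have := mul_mem (inv_mem hb) h
      rwa [inv_mul_cancel_left] at this
    · exact .inl ⟨hcos b b.2 hb, hb⟩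
  rcases Cfsg.Agent.S0111.result P F.P16 (hP.symm ▸ F.P16_le) hrel o
    (orderOf_eq_prime (by rw [pow_two, ho2]) ho1) (hP.symm ▸ hoP) hoQ with ⟨L, hLn, hLi, hoL⟩ | ⟨g, hg⟩
  · haveI := hLn
    have hsq : ∀ a b : G, a * b ∈ L ↔ (a ∈ L ↔ b ∈ L) := fun a b => mul_mem_iff_of_index_two hLi
    have ht : F.nT ∈ L := by
      have e : F.rho * F.xa * F.rho⁻¹ * F.xa⁻¹ = F.nT := by
        rw [F.xa_rho, (show Commute F.xa F.nT from F.xa_Quat.2.2.2).eq, mul_inv_cancel_right]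
      rw [← e]
      simp only [hsq, inv_mem_iff]
      tauto
    refine ⟨L, hLn, F.M_le_normal ht, fun g hg => ?_, fun g hg hgP => ?_, fun g => (em (g ∈ L)).imp_right fun h =>
      ⟨o, ho, (hsq g o).2 (iff_of_false h hoL)⟩⟩
    · by_contra hgL
      have h2 : g * g ∈ L := (hsq g g).2 Iff.rfl
      have h3 : g * g * g ∈ L := by
        rw [show g * g * g = g ^ 3 by rw [pow_succ, pow_two], hg]; exact one_mem _
      exact hgL (((hsq (g * g) g).1 h3).1 h2)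
    · by_contra hn
      have h16 : g * o ∈ L := by
        have hle : F.P16 ≤ L := sup_le (F.W_M.trans (F.M_le_normal ht)) fun n ⟨M, hM, hnl⟩ => by
          obtain ⟨x, p, rfl⟩ := of_decide_eq_true (List.all_eq_true.1 form16 M hM)
          have := F.lift_unique hnl (by
            have h := F.lift_mul (F.inPart_inner x) (F.lift_pow F.lift_nT p.val)
            have key : ∀ y : Fin 2 × Fin 2 × Fin 2, ∀ p : Fin 2,
              comp (comp (matIx (y.1, y.2.1, y.2.2, 0, 0)) (powM pT (0 : Fin 2).val)) (powM pT p.val) =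
                comp (matIx (y.1, y.2.1, y.2.2, 0, 0)) (powM pT p.val) := by decide +kernel
            exact key x p ▸ h)
          rw [this]
          exact F.M_le_normal ht (mul_mem (mul_mem (pow_mem (F.nR_M 0) _) (mul_mem (pow_mem (F.nR_M 2) _)
            (pow_mem (F.nR_M 3) _))) (pow_mem F.nT_M _))
        exact hle (hcos g hgP hn)
      exact hoL (((hsq g o).1 h16).1 hg)
  · exfalso
    have e2 : g * o * g⁻¹ * (g * o * g⁻¹) = 1 := by
      rw [show g * o * g⁻¹ * (g * o * g⁻¹) = g * (o * o) * g⁻¹ by group, ho2]; group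
    have ne1 : g * o * g⁻¹ ≠ 1 := fun h => ho1 (conj_eq_one_iff.1 h)
    have back : g⁻¹ * (g * o * g⁻¹) * g⁻¹⁻¹ = o := by group
    rcases F.P16_inv hg e2 ne1 with h | h | h
    · exact o_not_Tc ho (back ▸ Tc.conj F (TH.tc F h) g⁻¹)
    · exact o_not_Uc ho (back ▸ Uc.conj F (UH.uc F h) g⁻¹)
    · exact o_not_Ec ho (back ▸ Ec.conj F (EH.ec F h) g⁻¹)

end Frame

end CfsgLib.O8T
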