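import Cfsg.Agent.Lib.OEightPlusThree.SigJ

/-!
The reflection `nT` and the quaternion group of `z` commuting with it and with `x`.
-/

set_option autoImplicit false
set_option synthInstance.maxSize 4096

namespace CfsgLib.O8T

open Subgroup

universe u

/-- The vector of `x`. -/
def xv4 : V4 := (0, 0, 0, 1)

/-- The vector of `z`. -/
def zv4 : V4 := (1, 1, 1, 0)

theorem quat_vecs : app fromP xv4 = (0, 0, 1, 0) ∧ app pT zv4 = zv4 ∧ app pT xv4 = xv4 ∧ app pO xv4 = -xv4 ∧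
    comp pT pT = idM := by decide +kernel

theorem sl_quat_facts : (∀ m : SL23, m * m * m = 1 → m ≠ 1 → ∀ s : Fin 3,
      (m ^ s.val * -1) * (m ^ s.val * -1) = 1 → s = 0) ∧
    (∀ m n : SL23, Qt m → Qt n → m * m = -1 → n * n = -1 → n ≠ m → n ≠ -m → m * n * m⁻¹ = n * n * n ∧
      (m * n) * (m * n) = -1) ∧
    (∀ m : SL23, m * m * m = 1 → m ≠ 1 → ∀ k : SL23, Qt k → (m * k * m⁻¹ = k ∨ m * k * m⁻¹ = -k) → k = 1 ∨ k = -1) ∧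
    Fintype.card {m : SL23 // Qt m} = 8 := by decide +kernel

variable {G : Type u} [Group G]

namespace Frame

variable [Finite G] (F : Frame G)

/-- The element `x`. -/
abbrev x4 : G := F.e xv4

theorem x4_eq : F.x4 = F.x := by rw [x4, e, quat_vecs.1, F.el_basis.2.2.1]

theorem x4_Q2 : F.x4 ∈ F.D.Q2 := F.x4_eq ▸ F.x_Q

theorem z_x4 : F.D.z * F.x4 = F.x4 * F.D.z := by rw [← F.e_z]; exact F.e_comm _ _

theorem exists_refl : ∃ n, F.Lift n pT := (F.split F.act_τ).elim fun _ h => ⟨_, h⟩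

/-- The reflection. -/
noncomputable def nT : G := F.exists_refl.choose

theorem lift_nT : F.Lift F.nT pT := F.exists_refl.choose_spec

theorem nT_sq : F.nT * F.nT = 1 := F.lift_invol F.lift_nT quat_vecs.2.2.2.2

theorem nT_inv : F.nT⁻¹ = F.nT := inv_eq_of_mul_eq_one_right F.nT_sq

theorem nT_fix {c : V4} (h : app pT c = c) : F.nT * F.e c = F.e c * F.nT := by rw [F.lift_e F.lift_nT, h]

theorem nT_z : F.nT * F.D.z = F.D.z * F.nT := by rw [← F.e_z]; exact F.nT_fix quat_vecs.2.1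

theorem nT_x4 : F.nT * F.x4 = F.x4 * F.nT := F.nT_fix quat_vecs.2.2.1

theorem nT_Ct : F.nT ∈ F.D.Ct := F.D.mem_Ct.2 F.nT_z

theorem ψ_nT : F.D.ψ ⟨F.nT, F.nT_Ct⟩ = (-1, 1) := by
  obtain ⟨τ, hτ, hτψ⟩ := F.exists_t
  have hτA : F.Act (τ : G) pT := F.act_of hτ p_facts.2.2.2.2.2.1
  obtain ⟨W, hW⟩ := F.exists_act (inv_mem (F.mem_N hτA))
  have hid : comp pT W = idM := F.act_unique (F.act_mul hτA hW) (by rw [mul_inv_cancel]; exact F.act_one)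
  obtain ⟨u, hu⟩ := F.el_surj (F.mem_J_of_act (n := F.nT * (τ : G)⁻¹) fun d => by
    rw [F.act_mul F.lift_nT.1 hW, hid])
  have e : (⟨F.nT, F.nT_Ct⟩ : F.D.Ct) = ⟨F.el u, F.adj.J_le_Ct (F.el_mem u)⟩ * τ :=
    Subtype.ext (by show F.nT = F.el u * τ; rw [hu, inv_mul_cancel_right])
  obtain ⟨m, hm3, hm1, hm⟩ := F.exists_m
  rw [e, map_mul, F.el_ψ, hτψ, hm, Prod.pow_mk, one_pow, Prod.mk_mul_mk, one_mul]
  have h2 : F.D.ψ (⟨F.nT, F.nT_Ct⟩ * ⟨F.nT, F.nT_Ct⟩) = 1 := by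
    rw [show (⟨F.nT, F.nT_Ct⟩ : F.D.Ct) * ⟨F.nT, F.nT_Ct⟩ = 1 from Subtype.ext F.nT_sq, map_one]
  rw [map_mul, e, map_mul, F.el_ψ, hτψ, hm, Prod.pow_mk, one_pow] at h2
  simp only [Prod.mk_mul_mk, one_mul] at h2
  have h0 := sl_quat_facts.1 m hm3 hm1 ⟨u.2.2.2.val, ZMod.val_lt _⟩ (congrArg Prod.fst h2)
  rw [show u.2.2.2.val = 0 from congrArg Fin.val h0, pow_zero, one_mul]

theorem nT_four : F.nT ^ 4 = 1 := by rw [show (4 : ℕ) = 2 * 2 from rfl, pow_mul, pow_two F.nT, F.nT_sq, one_pow]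

theorem nT_Q2 {a : G} (ha : a ∈ F.D.Q2) : F.nT * a = a * F.nT :=
  F.D.quat_comm (x := ⟨F.nT, F.nT_Ct⟩) F.nT_four (by rw [F.ψ_nT]) ha

theorem fixQ {a : G} (ha : a ∈ F.D.Q) (h : F.nT * a = a * F.nT) : a ∈ F.D.Q2 := by
  obtain ⟨b, hb, c, hc, rfl⟩ := F.D.exists_decomp ha
  have hbc : F.nT * b = b * F.nT := by
    have : (F.nT * b) * c = (b * F.nT) * c := by
      rw [mul_assoc b, F.nT_Q2 hc, ← mul_assoc b, ← h, mul_assoc]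
    exact mul_right_cancel this
  have hv : F.D.ρ ⟨F.nT, F.nT_Ct⟩ (F.D.vec ⟨b, hb.1⟩) = F.D.vec ⟨b, hb.1⟩ := by
    rw [F.D.ρ_vec]
    exact congrArg F.D.vec (Subtype.ext (by show F.nT * b * F.nT⁻¹ = b; rw [hbc, mul_inv_cancel_right]))
  rw [F.D.ρ_congr (b := F.D.t) (by rw [F.ψ_nT, F.D.t_ψ]), F.D.ρ_t_Q1 hb, neg_eq_iff_add_eq_zero, ← F.D.vec_mul,
    F.D.vec_zero] at hv
  exact mul_mem (F.D.Zc_le_Q2 (F.D.sq_mem hb.1 hv)) hc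

theorem inv_x4 {y : F.D.Ct} (h2 : (F.D.ψ y).2 = 1) : (y : G) * F.x4 * (y : G)⁻¹ * F.x4⁻¹ ∈ F.D.Zc := by
  obtain ⟨m, hm3, hm1, hm⟩ := F.exists_m
  obtain ⟨s, hs⟩ := sl_quat_part m hm3 hm1 (F.D.ψ y).1
  obtain ⟨l, hl4, hlψ⟩ := F.D.exists_lift4 _ hs
  set w : F.D.Ct := ⟨F.w, F.w_Ct⟩
  set p := l⁻¹ * y * (w ^ s.val)⁻¹ with hp
  have hpQ : (p : G) ∈ F.D.Q := (F.D.ψ_ker p).1 (by
    rw [hp, map_mul, map_mul, map_inv, map_inv, map_pow, hlψ, show F.D.ψ w = F.v from rfl, hm, Prod.pow_mk, one_pow]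
    obtain ⟨⟨k, e⟩, hk⟩ : ∃ u, F.D.ψ y = u := ⟨_, rfl⟩
    rw [hk] at h2 ⊢
    obtain rfl : e = 1 := h2
    refine Prod.ext ?_ (by simp)
    show ((k * (m ^ s.val)⁻¹))⁻¹ * k * (m ^ s.val)⁻¹ = 1
    group)
  have hy : (y : G) = (l : G) * p * F.w ^ s.val := by
    rw [hp]
    simp only [coe_mul, coe_inv, SubgroupClass.coe_pow, w]
    group
  have hwx : Commute (F.w ^ s.val) F.x4 := F.adj.J_comm _ (pow_mem F.w_mem _) _ (F.e_mem _)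
  have hc : (p : G) * F.x4 * (p : G)⁻¹ * F.x4⁻¹ ∈ F.D.Zc := F.D.Q_comm _ hpQ _ (F.D.Q2_le F.x4_Q2)
  set c := (p : G) * F.x4 * (p : G)⁻¹ * F.x4⁻¹
  have hlx : Commute (l : G) F.x4 := F.D.quat_comm hl4 (by rw [hlψ]) F.x4_Q2
  have hlc : Commute (l : G) c := F.D.comm_Zc (F.D.mem_Ct.1 l.2) hc
  have e : (y : G) * F.x4 * (y : G)⁻¹ * F.x4⁻¹ = c := by
    rw [hy]
    calc (l : G) * p * F.w ^ s.val * F.x4 * ((l : G) * p * F.w ^ s.val)⁻¹ * F.x4⁻¹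
        = (l : G) * p * (F.w ^ s.val * F.x4 * (F.w ^ s.val)⁻¹) * (p : G)⁻¹ * (l : G)⁻¹ * F.x4⁻¹ := by group
      _ = (l : G) * (c * F.x4) * (l : G)⁻¹ * F.x4⁻¹ := by rw [hwx.eq, mul_inv_cancel_right]; simp only [c]; group
      _ = c := by rw [(hlc.mul_right hlx).eq, mul_inv_cancel_right, mul_inv_cancel_right]
  rwa [e]

/-- An element commuting with `z` and `x` maps into SL(2,3). -/
theorem psi_snd {g : F.D.Ct} (hx : (g : G) * F.x4 = F.x4 * g) : (F.D.ψ g).2 = 1 := by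
  by_contra h
  obtain ⟨o, ho, ho2, -⟩ := F.exists_o ⟨g, h⟩
  have hoA : F.Act (o : G) pO := F.act_of ho p_facts.2.2.2.2.2.2.1
  have h2 : (F.D.ψ (g * o)).2 = 1 := by
    rw [map_mul]
    exact (show ∀ a b : Multiplicative (ZMod 2), a ≠ 1 → b ≠ 1 → a * b = 1 by decide) _ _ h ho2
  have h3 := F.inv_x4 h2
  rw [coe_mul, show (g : G) * o * F.x4 * ((g : G) * o)⁻¹ = (g : G) * ((o : G) * F.x4 * (o : G)⁻¹) * (g : G)⁻¹ by group,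
    hoA xv4, quat_vecs.2.2.2.1, F.e_neg, show (g : G) * (F.x4)⁻¹ * (g : G)⁻¹ = ((g : G) * F.x4 * (g : G)⁻¹)⁻¹ by group,
    hx, mul_inv_cancel_right, ← mul_inv_rev, inv_mem_iff] at h3
  exact F.x_nZ (F.x4_eq ▸ F.D.sq_mem (F.D.Q2_le F.x4_Q2) h3)

/-- Membership in the quaternion group of `z`. -/
def QuP (g : G) : Prop := g ^ 4 = 1 ∧ g * F.D.z = F.D.z * g ∧ g * F.x4 = F.x4 * g ∧ g * F.nT = F.nT * g

variable {F}

theorem QuP.snd {g : G} (h : F.QuP g) : (F.D.ψ ⟨g, F.D.mem_Ct.2 h.2.1⟩).2 = 1 := F.psi_snd h.2.2.1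

theorem QuP.qt {g : G} (h : F.QuP g) : Qt (F.D.ψ ⟨g, F.D.mem_Ct.2 h.2.1⟩).1 := by
  have e : F.D.ψ (⟨g, F.D.mem_Ct.2 h.2.1⟩ ^ 4) = 1 := by
    rw [show (⟨g, F.D.mem_Ct.2 h.2.1⟩ : F.D.Ct) ^ 4 = 1 from Subtype.ext h.1, map_one]
  rw [map_pow] at e
  have := congrArg Prod.fst e
  simpa [Qt, pow_succ] using this

theorem QuP.q2 {g : G} (h : F.QuP g) {a : G} (ha : a ∈ F.D.Q2) : g * a = a * g :=
  F.D.quat_comm (x := ⟨g, F.D.mem_Ct.2 h.2.1⟩) h.1 h.snd ha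

theorem QuP.uniq {g h : G} (hg : F.QuP g) (hh : F.QuP h)
    (e : (F.D.ψ ⟨g, F.D.mem_Ct.2 hg.2.1⟩).1 = (F.D.ψ ⟨h, F.D.mem_Ct.2 hh.2.1⟩).1) : g = h := by
  have hq : g⁻¹ * h ∈ F.D.Q := (F.D.ψ_ker (⟨g, F.D.mem_Ct.2 hg.2.1⟩⁻¹ * ⟨h, F.D.mem_Ct.2 hh.2.1⟩)).1 (by
    rw [map_mul, map_inv]
    refine inv_mul_eq_one.2 (Prod.ext e ?_)
    rw [hg.snd, hh.snd])
  have hn : F.nT * (g⁻¹ * h) = g⁻¹ * h * F.nT :=
    ((show Commute F.nT g from hg.2.2.2.symm).inv_right.mul_right (show Commute F.nT h from hh.2.2.2.symm)).eq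
  set q := g⁻¹ * h with hqd
  have hq2 := F.fixQ hq hn
  have hz : q ∈ F.D.Zc := F.D.centre_Q2 hq2 fun b hb =>
    ((show Commute g b from hg.q2 hb).inv_left.mul_left (show Commute h b from hh.q2 hb)).eq
  have hgq : Commute g q := hg.q2 hq2
  have h4 : q ^ 4 = 1 := by
    have := hh.1
    rwa [show h = g * q by rw [hqd, mul_inv_cancel_left], hgq.mul_pow, hg.1, one_mul] at this
  have h1 : q = 1 := by
    rwa [pow_succ, F.D.Q_exp _ hq, one_mul] at h4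
  exact inv_mul_eq_one.1 h1

theorem QuP.conj {g a : G} (hg : F.QuP g) (hz : a * F.D.z = F.D.z * a) (hx : a * F.x4 = F.x4 * a)
    (ht : a * F.nT = F.nT * a) : F.QuP (a * g * a⁻¹) := by
  have hc : ∀ c : G, a * c = c * a → g * c = c * g → a * g * a⁻¹ * c = c * (a * g * a⁻¹) := fun c h1 h2 =>
    (((show Commute a c from h1).mul_left (show Commute g c from h2)).mul_left (show Commute a c from h1).inv_left).eq
  exact ⟨by rw [conj_pow, hg.1, mul_one, mul_inv_cancel], hc _ hz hg.2.1, hc _ hx hg.2.2.1, hc _ ht hg.2.2.2⟩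

theorem quP_nT : F.QuP F.nT := ⟨F.nT_four, F.nT_z, F.nT_x4, rfl⟩

theorem quP_pow {g : G} (h : F.QuP g) (k : ℕ) : F.QuP (g ^ k) :=
  ⟨by rw [← pow_mul, mul_comm, pow_mul, h.1, one_pow], ((show Commute g F.D.z from h.2.1).pow_left k).eq,
    ((show Commute g F.x4 from h.2.2.1).pow_left k).eq, ((show Commute g F.nT from h.2.2.2).pow_left k).eq⟩

theorem QuP.sq {g : G} (h : F.QuP g) (e : (F.D.ψ ⟨g, F.D.mem_Ct.2 h.2.1⟩).1 * (F.D.ψ ⟨g, F.D.mem_Ct.2 h.2.1⟩).1 = -1) :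
    g * g = F.nT := by
  have h2 : F.QuP (g * g) := pow_two g ▸ quP_pow h 2
  refine h2.uniq quP_nT ?_
  rw [show (⟨F.nT, F.D.mem_Ct.2 quP_nT.2.1⟩ : F.D.Ct) = ⟨F.nT, F.nT_Ct⟩ from rfl, F.ψ_nT]
  show (F.D.ψ (⟨g, F.D.mem_Ct.2 h.2.1⟩ * ⟨g, F.D.mem_Ct.2 h.2.1⟩)).1 = -1
  rw [map_mul]
  exact e

theorem QuP.mul {g h : G} (hg : F.QuP g) (hh : F.QuP h) : F.QuP (g * h) := by
  refine ⟨?_, ((show Commute g _ from hg.2.1).mul_left hh.2.1).eq, ((show Commute g _ from hg.2.2.1).mul_left hh.2.2.1).eq,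
    ((show Commute g _ from hg.2.2.2).mul_left hh.2.2.2).eq⟩
  obtain ⟨m, hm⟩ : ∃ m, (F.D.ψ ⟨g, F.D.mem_Ct.2 hg.2.1⟩).1 = m := ⟨_, rfl⟩
  obtain ⟨n, hn⟩ : ∃ n, (F.D.ψ ⟨h, F.D.mem_Ct.2 hh.2.1⟩).1 = n := ⟨_, rfl⟩
  have hmt := hm ▸ hg.qt
  have hnt := hn ▸ hh.qt
  have hsmall : ∀ {g : G} (hg : F.QuP g) (k : SL23), (F.D.ψ ⟨g, F.D.mem_Ct.2 hg.2.1⟩).1 = k → (k = 1 ∨ k = -1) →
      g = 1 ∨ g = F.nT := by
    intro g hg k hk h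
    rcases h with h | h
    · left
      refine hg.uniq (pow_zero g ▸ quP_pow hg 0) ?_
      rw [hk, h, show (⟨1, _⟩ : F.D.Ct) = 1 from rfl, map_one]; rfl
    · right
      refine hg.uniq quP_nT ?_
      rw [hk, h, show (⟨F.nT, F.D.mem_Ct.2 quP_nT.2.1⟩ : F.D.Ct) = ⟨F.nT, F.nT_Ct⟩ from rfl, F.ψ_nT]
  have hfour : ∀ {g h : G}, F.QuP g → F.QuP h → Commute g h → (g * h) ^ 4 = 1 := fun {g h} hg hh hc => by
    rw [hc.mul_pow, hg.1, hh.1, one_mul]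
  rcases sl_qt m hmt with h1 | h1 | h1
  · rcases hsmall hg m hm (.inl h1) with rfl | rfl
    exacts [hfour hg hh (Commute.one_left h), hfour hg hh hh.2.2.2.symm]
  · rcases hsmall hg m hm (.inr h1) with rfl | rfl
    exacts [hfour hg hh (Commute.one_left h), hfour hg hh hh.2.2.2.symm]
  rcases sl_qt n hnt with h2 | h2 | h2
  · rcases hsmall hh n hn (.inl h2) with rfl | rfl
    exacts [hfour hg hh (Commute.one_right g), hfour hg hh hg.2.2.2]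
  · rcases hsmall hh n hn (.inr h2) with rfl | rfl
    exacts [hfour hg hh (Commute.one_right g), hfour hg hh hg.2.2.2]
  have hgg := hg.sq (by rw [hm]; exact h1)
  by_cases h3 : n = m
  · obtain rfl := hh.uniq hg (by rw [hn, hm, h3])
    exact hfour hh hh (Commute.refl h)
  by_cases h4 : n = -m
  · have h5 : F.QuP (F.nT * g) := ⟨hfour quP_nT hg hg.2.2.2.symm,
      ((show Commute F.nT _ from quP_nT.2.1).mul_left hg.2.1).eq,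
      ((show Commute F.nT _ from quP_nT.2.2.1).mul_left hg.2.2.1).eq,
      ((show Commute F.nT _ from quP_nT.2.2.2).mul_left hg.2.2.2).eq⟩
    obtain rfl := hh.uniq h5 (by
      rw [hn, h4]
      show -m = (F.D.ψ (⟨F.nT, F.nT_Ct⟩ * ⟨g, F.D.mem_Ct.2 hg.2.1⟩)).1
      rw [map_mul, F.ψ_nT, Prod.fst_mul, hm, neg_one_mul])
    exact hfour hg h5 ((show Commute g F.nT from hg.2.2.2).mul_right (Commute.refl g))
  obtain ⟨h5, h6⟩ := sl_quat_facts.2.1 m n hmt hnt h1 h2 h3 h4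
  have hh2 := hh.sq (by rw [hn]; exact h2)
  have hconj : g * h * g⁻¹ = h * h * h := by
    refine (hh.conj hg.2.1 hg.2.2.1 hg.2.2.2).uniq ((pow_three' h) ▸ quP_pow hh 3) ?_
    show (F.D.ψ (⟨g, F.D.mem_Ct.2 hg.2.1⟩ * ⟨h, F.D.mem_Ct.2 hh.2.1⟩ * ⟨g, F.D.mem_Ct.2 hg.2.1⟩⁻¹)).1 =
      (F.D.ψ (⟨h, F.D.mem_Ct.2 hh.2.1⟩ * ⟨h, F.D.mem_Ct.2 hh.2.1⟩ * ⟨h, F.D.mem_Ct.2 hh.2.1⟩)).1
    simp only [map_mul, map_inv, Prod.fst_mul, Prod.fst_inv, hm, hn]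
    exact h5
  have e : g * h * (g * h) = F.nT := by
    rw [show g * h * (g * h) = g * h * g⁻¹ * (g * g) * h by group, hconj, hgg, mul_assoc (h * h * h),
      ← hh.2.2.2, ← mul_assoc, show h * h * h * h = (h * h) * (h * h) by group, hh2, F.nT_sq, one_mul]
  rw [show (4 : ℕ) = 2 * 2 from rfl, pow_mul, pow_two (g * h), e, pow_two, F.nT_sq]

variable (F)

/-- The quaternion group. -/
def Quat : Subgroup G where
  carrier := {g | F.QuP g}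
  one_mem' := ⟨one_pow 4, by simp, by simp, by simp⟩
  mul_mem' hg hh := hg.mul hh
  inv_mem' {g} hg := by
    have : g⁻¹ = g ^ 3 := inv_eq_of_mul_eq_one_right (by rw [← pow_succ']; exact hg.1)
    show F.QuP g⁻¹
    rw [this]; exact quP_pow hg 3

theorem mem_Quat {g : G} : g ∈ F.Quat ↔ F.QuP g := Iff.rfl

theorem exists_quP {m : SL23} (hm : Qt m) : ∃ g, ∃ h : F.QuP g, (F.D.ψ ⟨g, F.D.mem_Ct.2 h.2.1⟩).1 = m := by
  obtain ⟨l, hl4, hlψ⟩ := F.D.exists_lift4 m hm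
  rcases sl_qt m hm with h1 | h1 | h1
  · exact ⟨1, F.Quat.one_mem, by rw [show (⟨1, _⟩ : F.D.Ct) = 1 from rfl, map_one, h1]; rfl⟩
  · exact ⟨F.nT, quP_nT, by rw [show (⟨F.nT, _⟩ : F.D.Ct) = ⟨F.nT, F.nT_Ct⟩ from rfl, F.ψ_nT, h1]⟩
  set q := F.nT * ((l : G) * l) with hqd
  have hqQ : q ∈ F.D.Q := (F.D.ψ_ker (⟨F.nT, F.nT_Ct⟩ * (l * l))).1 (by
    rw [map_mul, map_mul, F.ψ_nT, hlψ, Prod.mk_mul_mk, Prod.mk_mul_mk, h1, neg_mul_neg, one_mul, one_mul, one_mul]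
    rfl)
  have hll : (l : G) * l = F.nT * q := by rw [hqd, ← mul_assoc, F.nT_sq, one_mul]
  have hinv : F.nT * q * F.nT = q⁻¹ := eq_inv_of_mul_eq_one_left (by
    rw [mul_assoc, ← hll, show (l : G) * l * ((l : G) * l) = (l : G) ^ 4 by simp only [pow_succ, pow_zero, one_mul, mul_assoc], hl4])
  have hq3 : q⁻¹ * q⁻¹ = q := by
    rw [← mul_inv_rev]
    exact inv_eq_of_mul_eq_one_left (by rw [← mul_assoc]; exact F.D.cube hqQ)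
  -- conjugating moves the square onto the reflection
  have hsq : q * F.nT * q⁻¹ = F.nT * q := by
    have h1 : q * F.nT = F.nT * q⁻¹ := by
      rw [← hinv, ← mul_assoc F.nT (F.nT * q), ← mul_assoc F.nT F.nT, F.nT_sq, one_mul]
    rw [h1, mul_assoc, hq3]
  set g : G := q⁻¹ * l * q with hgd
  have hgg : g * g = F.nT := by
    rw [hgd, show q⁻¹ * (l : G) * q * (q⁻¹ * l * q) = q⁻¹ * ((l : G) * l) * q by group, hll, ← hsq]; group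
  have hg4 : g ^ 4 = 1 := by rw [show (4 : ℕ) = 2 * 2 from rfl, pow_mul, pow_two g, hgg, pow_two, F.nT_sq]
  have hgC : g ∈ F.D.Ct := mul_mem (mul_mem (inv_mem (F.D.Q_le_Ct hqQ)) l.2) (F.D.Q_le_Ct hqQ)
  have hψ : F.D.ψ ⟨g, hgC⟩ = (m, 1) := by
    have : F.D.ψ ⟨q, F.D.Q_le_Ct hqQ⟩ = 1 := (F.D.ψ_ker _).2 hqQ
    show F.D.ψ (⟨q, F.D.Q_le_Ct hqQ⟩⁻¹ * l * ⟨q, F.D.Q_le_Ct hqQ⟩) = (m, 1)
    rw [map_mul, map_mul, map_inv, this, hlψ, inv_one, one_mul, mul_one]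
  have hgx : g * F.x4 = F.x4 * g := F.D.quat_comm (x := ⟨g, hgC⟩) hg4 (by rw [hψ]) F.x4_Q2
  exact ⟨g, ⟨hg4, F.D.mem_Ct.1 hgC, hgx, (show Commute g F.nT from hgg ▸ (Commute.refl g).mul_right (Commute.refl g)).eq⟩, by rw [hψ]⟩

theorem nT_Quat : F.nT ∈ F.Quat := quP_nT

theorem card_Quat : Nat.card F.Quat = 8 := by
  let f : F.Quat → {m : SL23 // Qt m} := fun g => ⟨(F.D.ψ ⟨g, F.D.mem_Ct.2 g.2.2.1⟩).1, QuP.qt g.2⟩
  have hf : Function.Bijective f := by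
    refine ⟨fun g h e => Subtype.ext (QuP.uniq g.2 h.2 (congrArg Subtype.val e)), fun ⟨m, hm⟩ => ?_⟩
    obtain ⟨g, hg, e⟩ := F.exists_quP hm
    exact ⟨⟨g, hg⟩, Subtype.ext e⟩
  rw [Nat.card_eq_of_bijective f hf, Nat.card_eq_fintype_card, sl_quat_facts.2.2.2]

theorem Quat_norm {a g : G} (hz : a * F.D.z = F.D.z * a) (hx : a * F.x4 = F.x4 * a) (ht : a * F.nT = F.nT * a)
    (hg : g ∈ F.Quat) : a * g * a⁻¹ ∈ F.Quat := QuP.conj hg hz hx ht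

/-- An element of `J` outside the kernel of `ψ` moves every element outside the centre. -/
theorem Quat_fpf {u : V4} (hu : u.2.2.2 ≠ 0) {g : G} (hg : g ∈ F.Quat)
    (h : F.el u * g * (F.el u)⁻¹ = g ∨ F.el u * g * (F.el u)⁻¹ = g * F.nT) : g = 1 ∨ g = F.nT := by
  obtain ⟨m, hm3, hm1, hm⟩ := F.exists_m
  obtain ⟨k, hk⟩ : ∃ k, (F.D.ψ ⟨g, F.D.mem_Ct.2 hg.2.1⟩).1 = k := ⟨_, rfl⟩
  have hu' : F.D.ψ ⟨F.el u, F.adj.J_le_Ct (F.el_mem u)⟩ = (m ^ u.2.2.2.val, 1) := by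
    rw [F.el_ψ, hm, Prod.pow_mk, one_pow]
  have hconj : m ^ u.2.2.2.val * k * (m ^ u.2.2.2.val)⁻¹ = k ∨ m ^ u.2.2.2.val * k * (m ^ u.2.2.2.val)⁻¹ = -k := by
    have e : ∀ (y : G) (hy : y ∈ F.D.Ct), F.el u * g * (F.el u)⁻¹ = y →
        m ^ u.2.2.2.val * k * (m ^ u.2.2.2.val)⁻¹ = (F.D.ψ ⟨y, hy⟩).1 := by
      intro y hy e
      rw [show (⟨y, hy⟩ : F.D.Ct) = ⟨F.el u, F.adj.J_le_Ct (F.el_mem u)⟩ * ⟨g, F.D.mem_Ct.2 hg.2.1⟩ *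
        ⟨F.el u, F.adj.J_le_Ct (F.el_mem u)⟩⁻¹ from Subtype.ext e.symm, map_mul, map_mul, map_inv, hu',
        Prod.fst_mul, Prod.fst_mul, Prod.fst_inv, hk]
    rcases h with h | h
    · exact .inl ((e g (F.D.mem_Ct.2 hg.2.1) h).trans hk)
    · refine .inr ((e _ (mul_mem (F.D.mem_Ct.2 hg.2.1) F.nT_Ct) h).trans ?_)
      show (F.D.ψ (⟨g, F.D.mem_Ct.2 hg.2.1⟩ * ⟨F.nT, F.nT_Ct⟩)).1 = -k
      rw [map_mul, Prod.fst_mul, hk, F.ψ_nT, mul_neg_one]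
  have hne : u.2.2.2.val ≠ 0 := fun h => hu ((ZMod.val_eq_zero _).1 h)
  have hlt := ZMod.val_lt u.2.2.2
  have hpow : (m ^ u.2.2.2.val) * (m ^ u.2.2.2.val) * (m ^ u.2.2.2.val) = 1 ∧ m ^ u.2.2.2.val ≠ 1 := by
    rcases (show u.2.2.2.val = 1 ∨ u.2.2.2.val = 2 by omega) with e | e <;> rw [e]
    · rw [pow_one]; exact ⟨hm3, hm1⟩
    · refine ⟨?_, fun h => hm1 ?_⟩
      · calc m ^ 2 * m ^ 2 * m ^ 2 = (m * m * m) * (m * m * m) := by simp only [pow_two, mul_assoc]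
          _ = 1 := by rw [hm3, one_mul]
      · calc m = m * m ^ 2 * (m ^ 2)⁻¹ := by group
          _ = 1 := by rw [← pow_succ', pow_succ, pow_two, hm3, one_mul, ← pow_two, h, inv_one]
  have hkt : Qt k := hk ▸ QuP.qt hg
  rcases sl_quat_facts.2.2.1 _ hpow.1 hpow.2 k hkt hconj with e | e
  · left
    refine QuP.uniq hg F.Quat.one_mem ?_
    rw [hk, e, show (⟨1, _⟩ : F.D.Ct) = 1 from rfl, map_one]; rfl
  · right
    refine QuP.uniq hg quP_nT ?_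
    rw [hk, e, show (⟨F.nT, _⟩ : F.D.Ct) = ⟨F.nT, F.nT_Ct⟩ from rfl, F.ψ_nT]

/-- The quaternion group meets the normalizer of `J` in its centre. -/
theorem Quat_inf_N {g : G} (hg : g ∈ F.Quat) (hN : g ∈ F.N) : g = 1 ∨ g = F.nT := by
  obtain ⟨u, hu⟩ := F.el_surj ((hN _).2 F.w_mem)
  obtain ⟨m, hm3, hm1, hm⟩ := F.exists_m
  obtain ⟨k, hk⟩ : ∃ k, (F.D.ψ ⟨g, F.D.mem_Ct.2 hg.2.1⟩).1 = k := ⟨_, rfl⟩
  have e : m ^ u.2.2.2.val = k * m * k⁻¹ := by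
    have h := congrArg Prod.fst (congrArg F.D.ψ (show (⟨F.el u, F.adj.J_le_Ct (F.el_mem u)⟩ : F.D.Ct) =
      ⟨g, F.D.mem_Ct.2 hg.2.1⟩ * ⟨F.w, F.w_Ct⟩ * ⟨g, F.D.mem_Ct.2 hg.2.1⟩⁻¹ from Subtype.ext hu))
    rw [F.el_ψ, map_mul, map_mul, map_inv, show F.D.ψ ⟨F.w, F.w_Ct⟩ = F.v from rfl, hm, Prod.pow_mk,
      Prod.fst_mul, Prod.fst_mul, Prod.fst_inv, hk] at h
    exact h
  have hlt := ZMod.val_lt u.2.2.2
  have hkm : k * m * k⁻¹ = m ∨ k * m * k⁻¹ = m * m := by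
    rcases (show u.2.2.2.val = 0 ∨ u.2.2.2.val = 1 ∨ u.2.2.2.val = 2 by omega) with h | h | h <;> rw [h] at e
    · exact absurd (conj_eq_one_iff.1 (by rw [← e, pow_zero])) hm1
    · exact .inl (by rw [← e, pow_one])
    · exact .inr (by rw [← e, pow_two])
  have hkt : Qt k := hk ▸ QuP.qt hg
  have h2 : k = 1 ∨ k = -1 := sl_sq k (sl_norm m hm3 hm1 k hkt hkm)
  rcases h2 with h | h
  · left
    refine QuP.uniq hg F.Quat.one_mem ?_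
    rw [hk, h, show (⟨1, _⟩ : F.D.Ct) = 1 from rfl, map_one]; rfl
  · right
    refine QuP.uniq hg quP_nT ?_
    rw [hk, h, show (⟨F.nT, _⟩ : F.D.Ct) = ⟨F.nT, F.nT_Ct⟩ from rfl, F.ψ_nT]

end Frame

end CfsgLib.O8T
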