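import Cfsg.Agent.Lib.OEightPlusThree.XRec

/-!
The two quaternion groups centralizing `x` and the reflection commute.
-/

set_option autoImplicit false
set_option synthInstance.maxSize 4096

namespace CfsgLib.O8T

open Subgroup Equiv

universe u

theorem sl_neg_ne : (1 : SL23) ≠ -1 := by decide +kernel

theorem twenty_three : app (permM CfsgPSp43Rec.swap23) zv4 = zvv 2 ∧ app pT (zvv 2) = zvv 2 ∧
    (app fromP (zvv 2)).2.2.2 ≠ 0 ∧ comp (permM CfsgPSp43Rec.swap23) (permM CfsgPSp43Rec.swap23) = idM ∧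
    comp (permM CfsgPSp43Rec.swap23) pT = comp pT (permM CfsgPSp43Rec.swap23) := by decide +kernel

variable {G : Type u} [Group G]

namespace Frame

variable [Finite G] (F : Frame G)

/-- The lift interchanging the two quaternion groups. -/
noncomputable abbrev nW : G := F.perN CfsgPSp43Rec.swap23

theorem nW_sq : F.nW * F.nW = 1 := F.lift_invol (F.perN_lift _) twenty_three.2.2.2.1

theorem nW_inv : F.nW⁻¹ = F.nW := inv_eq_of_mul_eq_one_right F.nW_sq

theorem nW_z : F.nW * F.D.z * F.nW⁻¹ = F.e (zvv 2) := by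
  rw [← F.e_z, (F.perN_lift _).1]
  exact congrArg F.e twenty_three.1

theorem nW_x4 : F.nW * F.x4 = F.x4 * F.nW := F.mem_Cx.1 (F.perN_Cx _)

theorem nW_nT : F.nW * F.nT = F.nT * F.nW :=
  F.lift_unique (F.lift_mul (F.perN_lift _) F.lift_nT) (twenty_three.2.2.2.2.symm ▸ F.lift_mul F.lift_nT (F.perN_lift _))

/-- A subgroup of the quaternion group invariant under an element of `J` moving it and containing an element of
order four is everything. -/
theorem Quat_full {C : Subgroup G} (hC : C ≤ F.Quat) {g : G} (hg : g ∈ C) (hg2 : g * g = F.nT) {u : V4}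
    (hu : u.2.2.2 ≠ 0) (hinv : F.el u * g * (F.el u)⁻¹ ∈ C) : C = F.Quat := by
  have hgQ := hC hg
  have hne : F.nT ≠ 1 := fun h => by
    have e := F.ψ_nT
    rw [show (⟨F.nT, F.nT_Ct⟩ : F.D.Ct) = 1 from Subtype.ext h, map_one] at e
    exact sl_neg_ne (congrArg Prod.fst e)
  have hg4 : g ^ 4 = 1 := hgQ.1
  have hord : orderOf g = 4 := by
    refine (Nat.dvd_prime_pow Nat.prime_two).1 (show orderOf g ∣ 2 ^ 2 from orderOf_dvd_of_pow_eq_one hg4) |>.elim fun n hn => ?_
    obtain ⟨hn2, e⟩ := hn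
    interval_cases n
    · exact absurd (by rw [← hg2, orderOf_eq_one_iff.1 e, one_mul]) hne
    · exact absurd (by rw [← hg2, ← pow_two, ← show orderOf g = 2 from e, pow_orderOf_eq_one]) hne
    · exact e
  have hnot : F.el u * g * (F.el u)⁻¹ ∉ zpowers g := by
    intro h
    obtain ⟨k, hk⟩ := (isOfFinOrder_of_finite g).mem_powers_iff_mem_zpowers.2 h
    change g ^ k = _ at hk
    rw [pow_eq_pow_mod k hg4] at hk
    have hlt := Nat.mod_lt k (show 4 > 0 by norm_num)
    have hfix : ∀ {y : G}, y = F.el u * g * (F.el u)⁻¹ → (y = g ∨ y = g * F.nT) → False := fun {y} e h' => by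
      rcases F.Quat_fpf hu hgQ (e ▸ h') with r | r
      · rw [r, one_mul] at hg2; exact hne hg2.symm
      · rw [r, F.nT_sq] at hg2; exact hne hg2.symm
    rcases (show k % 4 = 0 ∨ k % 4 = 1 ∨ k % 4 = 2 ∨ k % 4 = 3 by omega) with r | r | r | r <;> rw [r] at hk
    · rw [pow_zero, eq_comm, conj_eq_one_iff] at hk
      rw [hk, one_mul] at hg2; exact hne hg2.symm
    · exact hfix hk (.inl (pow_one g))
    · rw [pow_two, hg2] at hk
      have h2 : F.el u * (g * g) * (F.el u)⁻¹ = F.nT * F.nT := by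
        rw [show F.el u * (g * g) * (F.el u)⁻¹ = F.el u * g * (F.el u)⁻¹ * (F.el u * g * (F.el u)⁻¹) by group, ← hk]
      rw [hg2, F.nT_sq] at h2
      exact hne (conj_eq_one_iff.1 h2)
    · exact hfix hk (.inr (by rw [pow_succ', pow_two, hg2]))
  have h4 : Nat.card (zpowers g) = 4 := by rw [Nat.card_zpowers, hord]
  have hlt : zpowers g < C := lt_of_le_of_ne (zpowers_le.2 hg) fun h => hnot (h ▸ hinv)
  have h5 : 4 < Nat.card C := by
    by_contra h
    exact hlt.ne (eq_of_le_of_card_ge hlt.le (by omega))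
  refine eq_of_le_of_card_ge hC ?_
  rw [F.card_Quat]
  have hd : Nat.card C ∣ 2 ^ 3 := by
    have := card_dvd_of_le hC
    rwa [F.card_Quat] at this
  obtain ⟨n, hn, e⟩ := (Nat.dvd_prime_pow Nat.prime_two).1 hd
  rw [e] at h5 ⊢
  interval_cases n <;> first | omega | norm_num

/-- An element of order four and its image commute. -/
theorem exists_commuting : ∃ g ∈ F.Quat, g * g = F.nT ∧ Commute g (F.nW * g * F.nW) := by
  obtain ⟨X0, E, hz, hφ⟩ := F.exists_recX
  obtain ⟨i, hi, hI⟩ := E.exists_quat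
  have hcomm := E.rel_comm hi hI
  obtain ⟨g, hg, eg⟩ := F.bx_surj (i : F.Cx ⧸ F.Zx)
  have hga : F.bx hg * F.za = F.za * F.bx hg := by
    have h := congrArg Subtype.val hI.comm.eq
    rw [Subgroup.coe_mul, Subgroup.coe_mul, hz, eg] at h
    rw [show F.za = F.bx (F.J_le_Cx (F.e_mem (zvv 3))) from congrArg QuotientGroup.mk (Subtype.ext (by
      show F.D.z = F.e (zvv 3); rw [zvv_facts.1]; exact F.e_z.symm))]
    exact h
  have hgz := F.D.mem_Ct.1 (F.comm_z hg hga)
  have hsq : F.bx (mul_mem hg hg) = F.bx (F.mem_Cx.2 F.nT_x4) := by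
    have h := congrArg Subtype.val hi
    rw [Subgroup.coe_mul, eg, show E.t = E.φ CfsgPSp43Rec.swap01 from rfl, hφ] at h
    refine Eq.trans h (congrArg QuotientGroup.mk (Subtype.ext ?_))
    exact F.perN_t
  obtain ⟨j, hj⟩ := F.mem_zx.1 ((F.bx_eq _ _).1 hsq)
  rw [inv_mul_eq_iff_eq_mul, F.x_pow] at hj
  -- correct by a power of x
  have hgx : Commute g F.x4 := F.mem_Cx.1 hg
  obtain ⟨k, hk, hkk⟩ : ∃ k, k = g * (F.x4 ^ j.val)⁻¹ ∧ k * k = F.nT := by
    refine ⟨_, rfl, ?_⟩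
    have hc : Commute g (F.x4 ^ j.val)⁻¹ := (hgx.pow_right _).inv_right
    have h3 : (F.x4 ^ j.val)⁻¹ * (F.x4 ^ j.val)⁻¹ = F.x4 ^ j.val := by
      rw [← mul_inv_rev]
      refine inv_eq_of_mul_eq_one_left ?_
      rw [← pow_add, ← pow_add, show j.val + (j.val + j.val) = 3 * j.val by omega, pow_mul, F.x4_cube, one_pow]
    rw [show g * (F.x4 ^ j.val)⁻¹ * (g * (F.x4 ^ j.val)⁻¹) = g * ((F.x4 ^ j.val)⁻¹ * g) * (F.x4 ^ j.val)⁻¹ by group,
      ← hc.eq, show g * (g * (F.x4 ^ j.val)⁻¹) * (F.x4 ^ j.val)⁻¹ = g * g * ((F.x4 ^ j.val)⁻¹ * (F.x4 ^ j.val)⁻¹) by group,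
      h3, ← hj]
  have hkx : Commute k F.x4 := hk ▸ hgx.mul_left ((Commute.refl F.x4).pow_left _).inv_left
  have hkQ : k ∈ F.Quat := by
    refine ⟨?_, ?_, hkx.eq, ?_⟩
    · rw [show (4 : ℕ) = 2 * 2 from rfl, pow_mul, pow_two k, hkk, pow_two, F.nT_sq]
    · exact (hk ▸ (show Commute g F.D.z from hgz).mul_left ((show Commute F.x4 F.D.z from F.z_x4.symm).pow_left _).inv_left :
        Commute k F.D.z).eq
    · exact (hkk ▸ (Commute.refl k).mul_right (Commute.refl k) : Commute k F.nT).eq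
  refine ⟨k, hkQ, hkk, ?_⟩
  have hkC : k ∈ F.Cx := F.mem_Cx.2 hkx.eq
  have hek : (i : F.Cx ⧸ F.Zx) = F.bx hkC := by
    rw [eg]
    refine (F.bx_eq _ _).2 ?_
    rw [hk, inv_mul_cancel_left]
    exact inv_mem (pow_mem (mem_zpowers _) _)
  set h := F.nW * k * F.nW
  have hhC : h ∈ F.Cx := mul_mem (mul_mem (F.perN_Cx _) hkC) (F.perN_Cx _)
  have e : F.bx hkC * F.bx hhC = F.bx hhC * F.bx hkC := by
    have h1 := congrArg Subtype.val hcomm.eq
    simp only [Subgroup.coe_mul, hφ, hek] at h1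
    exact h1
  obtain ⟨m, hm⟩ := F.mem_zx.1 ((F.bx_eq (mul_mem hkC hhC) (mul_mem hhC hkC)).1 e)
  rw [inv_mul_eq_iff_eq_mul] at hm
  have hx1 : ∀ a ∈ F.Cx, Commute a (F.e (m.val • xv4)) := fun a ha => by
    rw [F.x_pow]; exact (show Commute a F.x4 from F.mem_Cx.1 ha).pow_right _
  -- conjugation multiplies by a power of x
  have hconj : k⁻¹ * h * k = h * F.e (m.val • xv4) := by
    rw [mul_assoc, hm, mul_assoc, inv_mul_cancel_left]
  have hh4 : h ^ 4 = 1 := by
    rw [show h = F.nW * k * F.nW⁻¹ by rw [F.nW_inv], conj_pow, hkQ.1, mul_one, mul_inv_cancel]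
  have h4 : (F.e (m.val • xv4)) ^ 4 = 1 := by
    have h2 := congrArg (· ^ 4) hconj
    simp only [(hx1 h hhC).mul_pow, hh4, one_mul] at h2
    rw [← h2, show k⁻¹ * h * k = k⁻¹ * h * k⁻¹⁻¹ by rw [inv_inv], conj_pow, hh4, mul_one, mul_inv_cancel]
  have h1 : F.e (m.val • xv4) = 1 := by rwa [pow_succ, F.e_cube, one_mul] at h4
  rw [h1, mul_one] at hm
  exact hm.symm

/-- The quaternion group commutes with its conjugate by the interchanging lift. -/
theorem Quat_comm {g h : G} (hg : g ∈ F.Quat) (hh : h ∈ F.Quat) : Commute g (F.nW * h * F.nW) := by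
  obtain ⟨k, hk, hk2, hkc⟩ := F.exists_commuting
  set u := app fromP (zvv 2)
  have hel : F.el u = F.e (zvv 2) := rfl
  -- conjugation by the element of `J`
  have hmove : ∀ a ∈ F.Quat, F.el u * a * (F.el u)⁻¹ ∈ F.Quat := fun a ha => F.Quat_norm (by
      rw [hel, ← F.e_z]; exact F.e_comm _ _) (by rw [hel]; exact F.e_comm _ _) (by
      rw [hel]; exact (F.nT_fix twenty_three.2.1).symm) ha
  have hfix : ∀ b ∈ F.Quat, Commute (F.el u) (F.nW * b * F.nW) := fun b hb => by
    have h1 : Commute F.D.z b := (show Commute b F.D.z from hb.2.1).symm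
    have h2 := h1.conj F.nW
    rwa [F.nW_z, F.nW_inv, ← hel] at h2
  have key : ∀ b ∈ F.Quat, Commute k (F.nW * b * F.nW) → ∀ a ∈ F.Quat, Commute a (F.nW * b * F.nW) := by
    intro b hb hkb a ha
    have hfull := F.Quat_full (C := F.Quat ⊓ centralizer ({F.nW * b * F.nW} : Set G)) inf_le_left (g := k)
      (mem_inf.2 ⟨hk, mem_centralizer_singleton_iff.2 hkb.eq⟩) hk2 (u := u) twenty_three.2.2.1
      (mem_inf.2 ⟨hmove k hk, mem_centralizer_singleton_iff.2
        (((hfix b hb).mul_left hkb).mul_left (hfix b hb).inv_left).eq⟩)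
    exact mem_centralizer_singleton_iff.1 (mem_inf.1 (hfull.ge ha)).2
  have hall : ∀ a ∈ F.Quat, Commute k (F.nW * a * F.nW) := fun a ha => by
    have h1 := key k hk hkc a ha
    have h2 := (h1.conj F.nW).symm
    rwa [F.nW_inv, show F.nW * (F.nW * k * F.nW) * F.nW = F.nW * F.nW * k * (F.nW * F.nW) by group, F.nW_sq, one_mul,
      mul_one] at h2
  exact key h hh (hall h hh) g hg

end Frame

end CfsgLib.O8T
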