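import Cfsg.Agent.Lib.OEightPlusThree.Orbit

/-!
The normalizer of `J` is a split extension: the lifts commuting with a fixed-point-free involution.
-/

set_option autoImplicit false
set_option synthInstance.maxSize 4096

namespace CfsgLib.O8T

open Subgroup

universe u

/-- The stabilizer of the centre in monomial coordinates. -/
def stP (i j k l : ℕ) : M4 := comp toP (comp (stM i j k l) fromP)

/-- The matrices of the normalizer inside SL(2,3). -/
def gamOne : List M4 :=
  reachList.flatMap fun p => (List.finRange 3).flatMap fun i => (List.finRange 3).flatMap fun j =>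
    (List.finRange 2).map fun k => comp (pword p.2) (stP i.val j.val k.val 0)

/-- The matrices of the normalizer. -/
def gam : List M4 :=
  reachList.flatMap fun p => (List.finRange 3).flatMap fun i => (List.finRange 3).flatMap fun j =>
    (List.finRange 2).flatMap fun k => (List.finRange 2).map fun l => comp (pword p.2) (stP i.val j.val k.val l.val)

/-- Negation. -/
def negM : M4 := ((2, 0, 0, 0), (0, 2, 0, 0), (0, 0, 2, 0), (0, 0, 0, 2))

theorem neg_comm (M : M4) : comp negM M = comp M negM := by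
  have h : ∀ c, app negM c = -c := app_neg
  have hn : ∀ c, app M (-c) = -app M c := fun c => by
    simp only [app]
    ext <;> simp only [Prod.fst_neg, Prod.snd_neg] <;> ring
  obtain ⟨b1, b2, b3, b4⟩ := app_basis M
  refine Prod.ext ?_ (Prod.ext ?_ (Prod.ext ?_ ?_)) <;> simp only [comp, h]
  · rw [← b1, ← hn, ← h]; rfl
  · rw [← b2, ← hn, ← h]; rfl
  · rw [← b3, ← hn, ← h]; rfl
  · rw [← b4, ← hn, ← h]; rfl

theorem double_eq_zero : ∀ c : V4, c + c = 0 → c = 0 := by decide +kernel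

variable {G : Type u} [Group G]

namespace Frame

variable [Finite G] (F : Frame G)

/-- The action inside SL(2,3). -/
def Inner : Prop := ∀ y : F.D.Ct, (F.D.ψ y).2 = 1

theorem act_gam {n : G} (hn : n ∈ F.N) :
    ∃ M ∈ gam, F.Act n M ∧ (F.Inner → M ∈ gamOne) := by
  obtain ⟨M, hM⟩ := F.exists_act hn
  have hc : ∃ g : G, g * F.D.z * g⁻¹ = F.e (app M (1, 1, 1, 0)) := ⟨n, by rw [← hM, F.e_z]⟩
  obtain ⟨⟨c, w⟩, hp, hcw⟩ := List.mem_map.1 (reach_complete _ (F.zconj_iff.1 hc))
  have h := of_decide_eq_true (List.all_eq_true.1 reach_check _ hp)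
  simp only at hcw h
  obtain ⟨W, hW⟩ := F.exists_act (inv_mem (F.word_N w))
  have hz : ((F.word w)⁻¹ * n) * F.D.z * ((F.word w)⁻¹ * n)⁻¹ = F.D.z := by
    rw [show (F.word w)⁻¹ * n * F.D.z * ((F.word w)⁻¹ * n)⁻¹ =
      (F.word w)⁻¹ * (n * F.D.z * n⁻¹) * (F.word w) by group, ← F.e_z, hM, ← hcw, ← h, ← F.act_word w]
    group
  have hC : (F.word w)⁻¹ * n ∈ F.D.Ct := F.D.mem_Ct.2 (mul_inv_eq_iff_eq_mul.1 hz)
  have hN : (F.word w)⁻¹ * n ∈ F.N := mul_mem (inv_mem (F.word_N w)) hn
  obtain ⟨i, j, k, l, hS, hl, -⟩ := F.stab hC (fun a ha => (hN a).2 ha)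
  have hS' : F.Act ((F.word w)⁻¹ * n) (stP i.val j.val k.val l.val) := F.act_of hS (by
    rw [stP, comp_assoc, p_facts.1]; simp only [comp, app_idM])
  have hM' := F.act_mul (F.act_word w) hS'
  rw [mul_inv_cancel_left] at hM'
  refine ⟨_, ?_, hM', fun hin => ?_⟩
  · simp only [gam, List.mem_flatMap, List.mem_map, List.mem_finRange, true_and]
    exact ⟨_, hp, i, j, k, l, rfl⟩
  · simp only [gamOne, List.mem_flatMap, List.mem_map, List.mem_finRange, true_and]
    exact ⟨_, hp, i, j, k, by rw [hl hin]⟩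

/-- The fixed-point-free involution. -/
noncomputable def ε : G := F.word [3, 0, 3, 2, 1, 0]

theorem act_ε : F.Act F.ε negM := fun c => by
  rw [ε, F.act_word, wt_neg.2]; rfl

theorem ε_inv (c : V4) : F.ε * F.e c * F.ε⁻¹ = F.e (-c) := (F.act_ε c).trans (congrArg F.e (app_neg c))

theorem fix_ε {c : V4} (h : F.ε * F.e c = F.e c * F.ε) : c = 0 := by
  have h1 : F.e c = F.e (-c) := by rw [← F.ε_inv, h, mul_inv_cancel_right]
  have h2 := F.e_inj h1
  refine double_eq_zero c ?_
  nth_rewrite 2 [h2]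
  exact add_neg_cancel c

theorem ε_sq : F.ε * F.ε = 1 := by
  have h : F.ε * F.ε ∈ F.Jg := F.mem_J_of_act fun c => by
    rw [show F.ε * F.ε * F.e c * (F.ε * F.ε)⁻¹ = F.ε * (F.ε * F.e c * F.ε⁻¹) * F.ε⁻¹ by group, F.ε_inv, F.ε_inv,
      neg_neg, app_idM]
  obtain ⟨c, hc⟩ := F.e_surj h
  rw [← hc, F.fix_ε (c := c) (by rw [hc, mul_assoc]), F.e_zero]

/-- The lifts. -/
def Lift (n : G) (M : M4) : Prop := F.Act n M ∧ F.ε * n = n * F.ε

/-- Every element of the normalizer is a translate of a lift. -/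
theorem split {n : G} {M : M4} (h : F.Act n M) : ∃ c, F.Lift (F.e c * n) M := by
  obtain ⟨c, hc⟩ := F.e_surj (F.mem_J_of_act (n := n * F.ε * n⁻¹ * F.ε⁻¹) (by
    have hεi : F.ε⁻¹ = F.ε := inv_eq_of_mul_eq_one_right F.ε_sq
    intro d
    obtain ⟨N', hN'⟩ := F.exists_act (inv_mem (F.mem_N h))
    have hid : comp M N' = idM := F.act_unique (F.act_mul h hN') (by rw [mul_inv_cancel]; exact F.act_one)
    rw [hεi, F.act_mul (F.act_mul (F.act_mul h F.act_ε) hN') F.act_ε]
    congr 2
    rw [← neg_comm M, ← comp_assoc negM M N', hid]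
    decide +kernel))
  refine ⟨c, fun d => ?_, ?_⟩
  · rw [F.act_mul (F.act_J (F.e_mem c)) h d]
    congr 2
    simp only [comp, app_idM]
  · have e1 : n * F.ε = F.e c * F.ε * n := by rw [hc]; group
    have e2 : F.ε * F.e c = (F.e c)⁻¹ * F.ε := by
      rw [← F.e_neg, ← F.ε_inv]; group
    have e3 : F.e c * F.e c = (F.e c)⁻¹ := eq_inv_of_mul_eq_one_left (by
      have := F.e_cube c
      rwa [pow_succ, pow_two] at this)
    rw [mul_assoc (F.e c), e1, ← mul_assoc F.ε, e2, ← mul_assoc, ← mul_assoc, e3]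

theorem lift_unique {n m : G} {M : M4} (hn : F.Lift n M) (hm : F.Lift m M) : n = m := by
  obtain ⟨N', hN'⟩ := F.exists_act (inv_mem (F.mem_N hm.1))
  have hid : comp M N' = idM := F.act_unique (F.act_mul hm.1 hN') (by rw [mul_inv_cancel]; exact F.act_one)
  obtain ⟨c, hc⟩ := F.e_surj (F.mem_J_of_act (n := n * m⁻¹) fun d => by rw [F.act_mul hn.1 hN', hid])
  have hcomm : Commute F.ε (n * m⁻¹) := (show Commute F.ε n from hn.2).mul_right (show Commute F.ε m from hm.2).inv_right
  rw [← hc] at hcomm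
  rw [F.fix_ε hcomm.eq, F.e_zero] at hc
  exact mul_inv_eq_one.1 hc.symm

theorem lift_mul {n m : G} {M N : M4} (hn : F.Lift n M) (hm : F.Lift m N) : F.Lift (n * m) (comp M N) :=
  ⟨F.act_mul hn.1 hm.1, ((show Commute F.ε n from hn.2).mul_right (show Commute F.ε m from hm.2)).eq⟩

theorem lift_one : F.Lift 1 idM := ⟨F.act_one, by simp⟩

theorem lift_e {n : G} {M : M4} (h : F.Lift n M) (c : V4) : n * F.e c = F.e (app M c) * n :=
  mul_inv_eq_iff_eq_mul.1 (h.1 c)

/-- An element with given affine coordinates. -/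
theorem mul_aff {n m : G} {M N : M4} (hn : F.Lift n M) (_hm : F.Lift m N) (c d : V4) :
    (F.e c * n) * (F.e d * m) = F.e (c + app M d) * (n * m) := by
  rw [F.e_add, mul_assoc (F.e c) n, ← mul_assoc n, F.lift_e hn]
  group

/-- Every element has affine coordinates. -/
theorem exists_aff {g : G} (hg : g ∈ F.N) : ∃ (M : M4) (n : G) (c : V4), F.Lift n M ∧ g = F.e c * n ∧ F.Act g M := by
  obtain ⟨M, hM⟩ := F.exists_act hg
  obtain ⟨c, hc⟩ := F.split hM
  exact ⟨M, _, -c, hc, by rw [← mul_assoc, ← F.e_add, neg_add_cancel, F.e_zero, one_mul], hM⟩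

theorem aff_unique {n m : G} {M N : M4} (hn : F.Lift n M) (hm : F.Lift m N) {c d : V4}
    (h : F.e c * n = F.e d * m) : c = d ∧ M = N ∧ n = m := by
  have hMN : M = N := F.act_unique (n := F.e c * n)
    (by
      intro v; rw [F.act_mul (F.act_J (F.e_mem c)) hn.1 v]; congr 2; simp only [comp, app_idM])
    (by
      intro v; rw [h, F.act_mul (F.act_J (F.e_mem d)) hm.1 v]; congr 2; simp only [comp, app_idM])
  subst hMN
  obtain rfl := F.lift_unique hn hm
  exact ⟨F.e_inj (mul_right_cancel h), rfl, rfl⟩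

end Frame

end CfsgLib.O8T
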