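import Mathlib.LinearAlgebra.Matrix.SpecialLinearGroup
import Mathlib.GroupTheory.QuotientGroup.Basic
import Mathlib.GroupTheory.Sylow
import Mathlib.Algebra.Group.TypeTags.Basic
import Mathlib.Data.ZMod.Basic
import Mathlib.Tactic

/-!
The three-local setting with a core extraspecial of order 243 and complement SL(2,3) or SL(2,3) × 2,
the complement having a single non-trivial chief factor on the core.
-/

set_option autoImplicit false

namespace CfsgLib.O8T

open Subgroup

/-- The group SL(2,3). -/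
abbrev SL23 := Matrix.SpecialLinearGroup (Fin 2) (ZMod 3)

/-- SL(2,3) × 2. -/
abbrev SX := SL23 × Multiplicative (ZMod 2)

/-- The element of order four. -/
def mI : SL23 := ⟨!![0, 2; 1, 0], by decide⟩

/-- The second element of order four. -/
def mJ : SL23 := ⟨!![1, 1; 1, 2], by decide⟩

/-- The element of order three. -/
def mU : SL23 := ⟨!![1, 1; 0, 1], by decide⟩

/-- The quaternion subgroup as a predicate. -/
abbrev Qt (m : SL23) : Prop := m * m * m * m = 1

theorem sl_rels : mI * mI = -1 ∧ mJ * mJ = -1 ∧ mU * mI = mJ * mU ∧ mU * mU * mU = 1 ∧ mU ≠ 1 ∧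
    (-1 : SL23) ≠ 1 ∧ Qt mI ∧ Qt mJ ∧ Qt (-1) := by decide +kernel

theorem sl_sq : ∀ m : SL23, m * m = 1 → m = 1 ∨ m = -1 := by decide +kernel

theorem sl_neg_comm : ∀ m : SL23, (-1) * m = m * (-1) := by decide +kernel

theorem sl_norm : ∀ m : SL23, m * m * m = 1 → m ≠ 1 → ∀ k : SL23, Qt k →
    k * m * k⁻¹ = m ∨ k * m * k⁻¹ = m * m → k * k = 1 := by decide +kernel

theorem mul2_sq : ∀ e : Multiplicative (ZMod 2), e * e = 1 := by decide

universe u

/-- The data at one element of order three, before the chief factors are used. -/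
structure Base (G : Type u) [Group G] where
  /-- the central element -/
  z : G
  /-- its order -/
  z_ord : orderOf z = 3
  /-- the core -/
  Q : Subgroup G
  /-- of order 243 -/
  Q_card : Nat.card Q = 243
  /-- containing `z` -/
  z_Q : z ∈ Q
  /-- the core centralizes it -/
  Q_z : ∀ q ∈ Q, q * z = z * q
  /-- with centre generated by `z` -/
  Q_centre : ∀ q ∈ Q, (∀ x ∈ Q, q * x = x * q) → q ∈ zpowers z
  /-- with commutators there -/
  Q_comm : ∀ a ∈ Q, ∀ b ∈ Q, a * b * a⁻¹ * b⁻¹ ∈ zpowers z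
  /-- of exponent three -/
  Q_exp : ∀ a ∈ Q, a ^ 3 = 1
  /-- containing its centralizer -/
  Q_self : centralizer (Q : Set G) ≤ Q
  /-- normalized by the centralizer -/
  Q_norm : ∀ c : G, c * z = z * c → ∀ q ∈ Q, c * q * c⁻¹ ∈ Q
  /-- the map to the complement -/
  ψ : centralizer ({z} : Set G) →* SX
  /-- containing SL(2,3) -/
  ψ_SL : ∀ m : SL23, ∃ x, ψ x = (m, 1)
  /-- with kernel the core -/
  ψ_ker : ∀ x : centralizer ({z} : Set G), ψ x = 1 ↔ (x : G) ∈ Q
  /-- a lift of the central involution -/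
  t : centralizer ({z} : Set G)
  /-- mapping to it -/
  t_ψ : ψ t = (-1, 1)
  /-- of order two -/
  t_sq : (t : G) * t = 1

/-- The data at one element of order three. -/
structure Setting (G : Type u) [Group G] extends Base G where
  /-- the involution centralizes a subgroup of order 27 of the core -/
  t_fix : Nat.card (Q ⊓ centralizer ({(t : G)} : Set G) : Subgroup G) = 27
  /-- which the quaternion elements centralize -/
  quat_fix : ∀ x : centralizer ({z} : Set G), (x : G) ^ 4 = 1 → (ψ x).2 = 1 → ∀ q ∈ Q, (t : G) * q = q * t → (x : G) * q = q * x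
  /-- some conjugate of `z` in the core -/
  conj_in : ∃ g : G, g * z * g⁻¹ ∈ Q ∧ g * z * g⁻¹ ∉ zpowers z

namespace Base

variable {G : Type u} [Group G] (D : Base G)

/-- The centre as a subgroup. -/
abbrev Zc : Subgroup G := zpowers D.z

/-- The centralizer. -/
abbrev Ct : Subgroup G := centralizer ({D.z} : Set G)

theorem mem_Ct {g : G} : g ∈ D.Ct ↔ g * D.z = D.z * g := mem_centralizer_singleton_iff

theorem z_ne : D.z ≠ 1 := fun e => by have := D.z_ord; rw [e, orderOf_one] at this; omega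

theorem z_cube : D.z ^ 3 = 1 := D.z_ord ▸ pow_orderOf_eq_one D.z

theorem card_Zc : Nat.card D.Zc = 3 := by rw [Nat.card_zpowers, D.z_ord]

theorem mem_Zc {x : G} : x ∈ D.Zc ↔ x = 1 ∨ x = D.z ∨ x = D.z * D.z := by
  constructor
  · intro h
    obtain ⟨n, hn⟩ := mem_zpowers_iff.1 h
    obtain ⟨i, hi, e⟩ : ∃ i < 3, x = D.z ^ i := by
      refine ⟨(n % 3).toNat, by omega, ?_⟩
      rw [← hn, ← zpow_natCast, Int.toNat_of_nonneg (Int.emod_nonneg _ (by norm_num)),
        show (3 : ℤ) = ((orderOf D.z : ℕ) : ℤ) by rw [D.z_ord]; rfl, zpow_mod_orderOf]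
    interval_cases i
    · exact .inl (by simpa using e)
    · exact .inr (.inl (by simpa using e))
    · exact .inr (.inr (by simpa [pow_two] using e))
  · rintro (rfl | rfl | rfl)
    exacts [one_mem _, mem_zpowers _, mul_mem (mem_zpowers _) (mem_zpowers _)]

theorem comm_Zc {x c : G} (hx : x * D.z = D.z * x) (h : c ∈ D.Zc) : x * c = c * x := by
  obtain ⟨n, rfl⟩ := mem_zpowers_iff.1 h
  exact ((show Commute x D.z from hx).zpow_right n).eq

theorem Q_le_Ct : D.Q ≤ D.Ct := fun _ hq => D.mem_Ct.2 (D.Q_z _ hq)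

theorem Zc_le_Q : D.Zc ≤ D.Q := zpowers_le.2 D.z_Q

theorem conj_Q {c : G} (hc : c ∈ D.Ct) {q : G} (hq : q ∈ D.Q) : c * q * c⁻¹ ∈ D.Q := D.Q_norm c (D.mem_Ct.1 hc) q hq

theorem conj_Zc {x c : G} (hx : x ∈ D.Ct) (hc : c ∈ D.Zc) : x * c * x⁻¹ = c := by
  rw [D.comm_Zc (D.mem_Ct.1 hx) hc, mul_inv_cancel_right]

theorem t_comm_z : (D.t : G) * D.z = D.z * D.t := D.mem_Ct.1 D.t.2

theorem t_inv : (D.t : G)⁻¹ = D.t := inv_eq_of_mul_eq_one_right D.t_sq

end Base

namespace Setting

variable {G : Type u} [Group G] (D : Setting G)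

/-- The setting transported by an isomorphism. -/
def map {G' : Type u} [Group G'] (f : G ≃* G') : Setting G' :=
  have hC : ∀ x : centralizer ({f D.z} : Set G'), f.symm x ∈ centralizer ({D.z} : Set G) := fun x => by
    refine mem_centralizer_singleton_iff.2 (f.injective ?_)
    rw [map_mul, map_mul, f.apply_symm_apply]
    exact mem_centralizer_singleton_iff.1 x.2
  have hC' : ∀ x : centralizer ({D.z} : Set G), f x ∈ centralizer ({f D.z} : Set G') := fun x => by
    refine mem_centralizer_singleton_iff.2 ?_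
    rw [← map_mul, ← map_mul, mem_centralizer_singleton_iff.1 x.2]
  let g : centralizer ({f D.z} : Set G') →* centralizer ({D.z} : Set G) :=
    { toFun := fun x => ⟨f.symm x, hC x⟩
      map_one' := Subtype.ext (map_one f.symm)
      map_mul' := fun a b => Subtype.ext (map_mul f.symm _ _) }
  { z := f D.z
    z_ord := (f.orderOf_eq D.z).trans D.z_ord
    Q := D.Q.map f.toMonoidHom
    Q_card := by rw [card_map_of_injective (f := f.toMonoidHom) f.injective, D.Q_card]
    z_Q := ⟨D.z, D.z_Q, rfl⟩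
    Q_z := by
      rintro _ ⟨q, hq, rfl⟩
      show f q * f D.z = f D.z * f q
      rw [← map_mul, ← map_mul, D.Q_z q hq]
    Q_centre := by
      rintro _ ⟨q, hq, rfl⟩ h
      have := D.Q_centre q hq fun x hx => f.injective (by
        rw [map_mul, map_mul]; exact h _ ⟨x, hx, rfl⟩)
      obtain ⟨n, hn⟩ := mem_zpowers_iff.1 this
      exact mem_zpowers_iff.2 ⟨n, by rw [← map_zpow, hn]; rfl⟩
    Q_comm := by
      rintro _ ⟨a, ha, rfl⟩ _ ⟨b, hb, rfl⟩
      show f a * f b * (f a)⁻¹ * (f b)⁻¹ ∈ _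
      obtain ⟨n, hn⟩ := mem_zpowers_iff.1 (D.Q_comm a ha b hb)
      exact mem_zpowers_iff.2 ⟨n, by rw [← map_zpow, hn, map_mul, map_mul, map_mul, map_inv, map_inv]⟩
    Q_exp := by
      rintro _ ⟨a, ha, rfl⟩
      show f a ^ 3 = 1
      rw [← map_pow, D.Q_exp a ha, map_one]
    Q_self := fun x hx => ⟨f.symm x, D.Q_self (mem_centralizer_iff.2 fun q hq => f.injective (by
      rw [map_mul, map_mul, f.apply_symm_apply]
      exact mem_centralizer_iff.1 hx (f q) ⟨q, hq, rfl⟩)), f.apply_symm_apply x⟩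
    Q_norm := by
      rintro c hc _ ⟨q, hq, rfl⟩
      refine ⟨f.symm c * q * (f.symm c)⁻¹, D.Q_norm _ (f.injective (by
        rw [map_mul, map_mul, f.apply_symm_apply]; exact hc)) q hq, ?_⟩
      show f (f.symm c * q * (f.symm c)⁻¹) = c * f q * c⁻¹
      rw [map_mul, map_mul, map_inv, f.apply_symm_apply]
    ψ := D.ψ.comp g
    ψ_SL := fun m => by
      obtain ⟨x, hx⟩ := D.ψ_SL m
      exact ⟨⟨f x, hC' x⟩, hx ▸ congrArg D.ψ (Subtype.ext (f.symm_apply_apply _))⟩
    ψ_ker := fun x => (D.ψ_ker (g x)).trans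
      ⟨fun h => ⟨f.symm x, h, f.apply_symm_apply _⟩, by
        rintro ⟨q, hq, e⟩
        show f.symm x ∈ D.Q
        rw [← e]
        simpa using hq⟩
    t := ⟨f D.t, hC' D.t⟩
    t_ψ := (congrArg D.ψ (Subtype.ext (f.symm_apply_apply _))).trans D.t_ψ
    t_sq := by
      show f D.t * f D.t = 1
      rw [← map_mul, D.t_sq, map_one]
    t_fix := by
      have e : D.Q.map f.toMonoidHom ⊓ centralizer ({f (D.t : G)} : Set G') =
          (D.Q ⊓ centralizer ({(D.t : G)} : Set G)).map f.toMonoidHom := by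
        ext x
        constructor
        · rintro ⟨⟨q, hq, rfl⟩, h⟩
          refine ⟨q, ⟨hq, mem_centralizer_singleton_iff.2 (f.injective ?_)⟩, rfl⟩
          rw [map_mul, map_mul]
          exact mem_centralizer_singleton_iff.1 h
        · rintro ⟨q, ⟨hq, h⟩, rfl⟩
          refine ⟨⟨q, hq, rfl⟩, mem_centralizer_singleton_iff.2 ?_⟩
          show f q * f D.t = f D.t * f q
          rw [← map_mul, ← map_mul, mem_centralizer_singleton_iff.1 h]
      rw [show ((⟨f D.t, hC' D.t⟩ : centralizer ({f D.z} : Set G')) : G') = f D.t from rfl, e,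
        card_map_of_injective (f := f.toMonoidHom) f.injective, D.t_fix]
    quat_fix := by
      rintro x hx h2 _ ⟨q, hq, rfl⟩ ht
      have hxq := D.quat_fix (g x) (f.injective (by
        rw [map_pow, map_one]
        show f (f.symm x) ^ 4 = 1
        rw [f.apply_symm_apply]; exact hx)) h2 q hq (f.injective (by rw [map_mul, map_mul]; exact ht))
      have := congrArg f hxq
      rw [map_mul, map_mul] at this
      simpa [g] using this
    conj_in := by
      obtain ⟨y, h1, h2⟩ := D.conj_in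
      refine ⟨f y, ⟨_, h1, by simp⟩, fun h => h2 ?_⟩
      obtain ⟨n, hn⟩ := mem_zpowers_iff.1 h
      exact mem_zpowers_iff.2 ⟨n, f.injective (by rw [map_zpow, hn]; simp)⟩ }

theorem map_z {G' : Type u} [Group G'] (f : G ≃* G') : (D.map f).z = f D.z := rfl

theorem map_Q {G' : Type u} [Group G'] (f : G ≃* G') : (D.map f).Q = D.Q.map f.toMonoidHom := rfl

/-- The setting at a conjugate. -/
abbrev conj (g : G) : Setting G := D.map (MulAut.conj g)

theorem conj_z (g : G) : (D.conj g).z = g * D.z * g⁻¹ := rfl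

end Setting

end CfsgLib.O8T
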