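import Cfsg.Agent.Lib.OEightPlusThree.CentV

/-!
No non-trivial subgroup of order prime to three is normalized by `J`.
-/

set_option autoImplicit false
set_option synthInstance.maxSize 4096

namespace CfsgLib.O8T

open Subgroup

universe u

/-- A plane of `J` without single or full supports. -/
def uB (i j : ZMod 3) : V4 := (i + j, i, j, 0)

theorem uB_facts : (∀ i j i' j', uB i j + uB i' j' = uB (i + i') (j + j')) ∧
    (∀ i j, (i, j) ≠ 0 → wt (uB i j) = 2 ∨ wt (uB i j) = 3) ∧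
    (∀ i j i' j', uB i j = uB i' j' → (i, j) = (i', j')) ∧ uB 0 0 = 0 ∧ wt qv = 2 := by decide +kernel

variable {G : Type u} [Group G]

namespace Frame

variable [Finite G] (F : Frame G)

/-- The plane `uB` as a subgroup. -/
def planeB : Subgroup G where
  carrier := {x | ∃ i j : ZMod 3, x = F.e (uB i j)}
  one_mem' := ⟨0, 0, by rw [uB_facts.2.2.2.1, F.e_zero]⟩
  mul_mem' := by
    rintro _ _ ⟨i, j, rfl⟩ ⟨i', j', rfl⟩
    exact ⟨i + i', j + j', by rw [← F.e_add, uB_facts.1]⟩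
  inv_mem' := by
    rintro _ ⟨i, j, rfl⟩
    refine ⟨-i, -j, inv_eq_of_mul_eq_one_right ?_⟩
    rw [← F.e_add, uB_facts.1, add_neg_cancel, add_neg_cancel, uB_facts.2.2.2.1, F.e_zero]

theorem card_planeB : Nat.card F.planeB = 9 := by
  let f : ZMod 3 × ZMod 3 → F.planeB := fun p => ⟨F.e (uB p.1 p.2), p.1, p.2, rfl⟩
  have hf : Function.Bijective f :=
    ⟨fun p p' h => uB_facts.2.2.1 _ _ _ _ (F.e_inj (congrArg Subtype.val h)),
      fun ⟨x, i, j, hx⟩ => ⟨(i, j), Subtype.ext hx.symm⟩⟩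
  rw [← Nat.card_eq_of_bijective f hf, Nat.card_prod, Nat.card_zmod]

/-- An element of order prime to three in a subgroup normalized by `J`, centralizing `z`. -/
theorem sig_z {K : Subgroup G} (hcop : (Nat.card K).Coprime 3) (hJ : F.Jg ≤ normalizer (K : Set G)) {g : G}
    (hg : g ∈ K) (hz : g * F.D.z = F.D.z * g) : g ∈ F.N := by
  refine F.cent_v (c := qv) uB_facts.2.2.2.2 ?_
  rw [F.e_qv]
  have hqJ : F.q ∈ F.Jg := F.q_mem
  have hqQ : F.q ∈ F.D.Q := F.q_Q.1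
  have hK : g * F.q * g⁻¹ * F.q⁻¹ ∈ K := by
    rw [show g * F.q * g⁻¹ * F.q⁻¹ = g * (F.q * g⁻¹ * F.q⁻¹) by group]
    exact mul_mem hg ((mem_normalizer_iff.1 (hJ hqJ) _).1 (inv_mem hg))
  have hQ : g * F.q * g⁻¹ * F.q⁻¹ ∈ F.D.Q := mul_mem (F.D.conj_Q (F.D.mem_Ct.2 hz) hqQ) (inv_mem hqQ)
  have h1 : g * F.q * g⁻¹ * F.q⁻¹ = 1 := by
    have h1 : orderOf (g * F.q * g⁻¹ * F.q⁻¹) ∣ 3 := orderOf_dvd_of_pow_eq_one (F.D.Q_exp _ hQ)
    have h2 : orderOf (g * F.q * g⁻¹ * F.q⁻¹) ∣ Nat.card K := K.orderOf_dvd_natCard hK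
    have h3 := Nat.dvd_gcd h2 h1
    rwa [hcop.gcd_eq_one, Nat.dvd_one, orderOf_eq_one_iff] at h3
  exact mul_inv_eq_iff_eq_mul.1 (mul_inv_eq_one.1 h1)

/-- No non-trivial subgroup of order prime to three is normalized by `J`. -/
theorem sigJ {K : Subgroup G} (hcop : (Nat.card K).Coprime 3) (hJ : F.Jg ≤ normalizer (K : Set G)) : K = ⊥ := by
  haveI : IsMulCommutative F.planeB := ⟨⟨by
    rintro ⟨_, i, j, rfl⟩ ⟨_, i', j', rfl⟩
    exact Subtype.ext (F.e_comm _ _)⟩⟩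
  have hdisj : ∀ y ∈ K, y ∈ F.Jg → y = 1 := fun y hy hyJ => by
    have h1 : orderOf y ∣ 3 := orderOf_dvd_of_pow_eq_one (F.adj.J_exp hyJ)
    have h2 : orderOf y ∣ Nat.card K := K.orderOf_dvd_natCard hy
    have h3 := Nat.dvd_gcd h2 h1
    rwa [hcop.gcd_eq_one, Nat.dvd_one, orderOf_eq_one_iff] at h3
  have hle : F.planeB ≤ F.Jg := by
    rintro _ ⟨i, j, rfl⟩; exact F.e_mem _
  have hnc : ¬ IsCyclic F.planeB := by
    intro hc
    obtain ⟨g, hg⟩ := IsCyclic.exists_ofOrder_eq_natCard (α := F.planeB)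
    rw [F.card_planeB] at hg
    have h3 : orderOf g ∣ 3 := orderOf_dvd_of_pow_eq_one (Subtype.ext (F.adj.J_exp (hle g.2)))
    rw [hg] at h3
    norm_num at h3
  rw [eq_bot_iff, ← CfsgLib.coprime_generated_by_centralizers hnc (hle.trans hJ)
    (by rw [F.card_planeB, show 9 = 3 ^ 2 by norm_num]; exact hcop.symm.pow_left 2)]
  refine iSup₂_le fun a ha x hx => ?_
  obtain ⟨⟨i, j, rfl⟩, ha1⟩ := ha
  obtain ⟨hxK, hxa⟩ := hx
  have hxa' := mem_centralizer_singleton_iff.1 hxa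
  have hne : (i, j) ≠ 0 := fun h => ha1 (by
    rw [Prod.mk_eq_zero] at h; rw [h.1, h.2, uB_facts.2.2.2.1, F.e_zero])
  have hxN : x ∈ F.N := by
    rcases uB_facts.2.1 i j hne with h | h
    · exact F.cent_v h hxa'
    · obtain ⟨w, hw, -⟩ := F.reach h
      set n := F.word w
      have hn : n ∈ F.N := F.word_N w
      set K' : Subgroup G := K.map (MulAut.conj n⁻¹).toMonoidHom with hK'
      have hK'c : (Nat.card K').Coprime 3 := by
        rwa [hK', card_map_of_injective (f := (MulAut.conj n⁻¹).toMonoidHom) (MulAut.conj _).injective]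
      have hK'J : F.Jg ≤ normalizer (K' : Set G) := by
        intro a ha
        have hkey : ∀ a ∈ F.Jg, ∀ y ∈ K', a * y * a⁻¹ ∈ K' := by
          rintro a ha _ ⟨y, hy, rfl⟩
          refine ⟨(n * a * n⁻¹) * y * (n * a * n⁻¹)⁻¹, (mem_normalizer_iff.1 (hJ ((hn a).2 ha)) y).1 hy, ?_⟩
          show n⁻¹ * ((n * a * n⁻¹) * y * (n * a * n⁻¹)⁻¹) * n⁻¹⁻¹ = a * (n⁻¹ * y * n⁻¹⁻¹) * a⁻¹
          group
        refine mem_normalizer_iff.2 fun y => ⟨hkey a ha y, fun hy => ?_⟩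
        have := hkey a⁻¹ (inv_mem ha) _ hy
        rwa [show a⁻¹ * (a * y * a⁻¹) * a⁻¹⁻¹ = y by group] at this
      have hz : n⁻¹ * x * n * F.D.z = F.D.z * (n⁻¹ * x * n) := by
        calc n⁻¹ * x * n * F.D.z = n⁻¹ * (x * (n * F.D.z * n⁻¹)) * n := by group
          _ = F.D.z * (n⁻¹ * x * n) := by rw [hw, hxa', ← hw]; group
      have h1 := F.sig_z hK'c hK'J (g := n⁻¹ * x * n) ⟨x, hxK, by simp⟩ hz
      have h2 := mul_mem (mul_mem hn h1) (inv_mem hn)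
      rwa [show n * (n⁻¹ * x * n) * n⁻¹ = x by group] at h2
  refine mem_bot.2 (hdisj x hxK (F.cent_Jg fun c => ?_))
  have e : F.e c * x * (F.e c)⁻¹ * x⁻¹ = 1 := hdisj _
    (mul_mem ((mem_normalizer_iff.1 (hJ (F.e_mem c)) x).1 hxK) (inv_mem hxK))
    (by
      rw [show F.e c * x * (F.e c)⁻¹ * x⁻¹ = F.e c * (x * (F.e c)⁻¹ * x⁻¹) by group]
      exact mul_mem (F.e_mem c) ((hxN _).2 (inv_mem (F.e_mem c))))
  rw [mul_inv_eq_one, mul_inv_eq_iff_eq_mul] at e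
  exact e.symm

end Frame

end CfsgLib.O8T
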