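import Cfsg.Agent.S1077
import Cfsg.Agent.S1097
import Cfsg.Agent.S1054
import Cfsg.Agent.S1082
import Cfsg.Agent.Lib.StemSylow.OEightModel

/-!
The Steinberg group of type `D₄` over the field with two elements is `Ω⁺₈(2)`.
-/

set_option autoImplicit false
set_option synthInstance.maxSize 4096
set_option maxRecDepth 8000

namespace CfsgLib.O8T

open Cfsg Cfsg.Lie

/-- The presented group. -/
abbrev StD : Type := chevD4.SteinbergGroup (ZMod 2)

/-- The Chevalley group. -/
abbrev ChD : Type := ↥(chevD4.group (ZMod 2))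

theorem stGen_zero {r : ℕ} : chevD4.stGen (ZMod 2) r 0 = 1 := by
  by_cases hr : r < chevD4.nroots
  · have h : chevD4.stGen (ZMod 2) r 0 * chevD4.stGen (ZMod 2) r 0 * (chevD4.stGen (ZMod 2) r (0 + 0))⁻¹ = 1 := by
      rw [ChevalleyDatum.stGen, ChevalleyDatum.stGen, ← map_inv, ← map_mul, ← map_mul]
      exact PresentedGroup.one_of_mem (Or.inl (Or.inl ⟨r, 0, 0, hr, rfl⟩))
    rwa [add_zero, mul_inv_cancel_right] at h
  · rw [ChevalleyDatum.stGen, ChevalleyDatum.stX, dif_neg hr, map_one]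

theorem stGen_sq (r : ℕ) : chevD4.stGen (ZMod 2) r 1 * chevD4.stGen (ZMod 2) r 1 = 1 := by
  by_cases hr : r < chevD4.nroots
  · have h : chevD4.stGen (ZMod 2) r 1 * chevD4.stGen (ZMod 2) r 1 * (chevD4.stGen (ZMod 2) r (1 + 1))⁻¹ = 1 := by
      rw [ChevalleyDatum.stGen, ChevalleyDatum.stGen, ← map_inv, ← map_mul, ← map_mul]
      exact PresentedGroup.one_of_mem (Or.inl (Or.inl ⟨r, 1, 1, hr, rfl⟩))
    rwa [show (1 : ZMod 2) + 1 = 0 from rfl, stGen_zero, inv_one, mul_one] at h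
  · rw [ChevalleyDatum.stGen, ChevalleyDatum.stX, dif_neg hr, map_one, one_mul]

theorem stH_one (r : ℕ) :
    PresentedGroup.mk (chevD4.steinbergRels (ZMod 2)) (chevD4.stH r (1 : ZMod 2)) = 1 := by
  have e3 : (-1 : ZMod 2) = 1 := by decide
  have e1 : -(1 : ZMod 2)⁻¹ = 1 := by rw [inv_one]; exact e3
  have e2 : -(-1 : ZMod 2)⁻¹ = 1 := by rw [e3, inv_one]; exact e3
  simp only [ChevalleyDatum.stH, ChevalleyDatum.stWord, ChevalleyDatum.hWord, ChevalleyDatum.nWord,
    List.cons_append, List.nil_append, List.map_cons, List.map_nil, List.prod_cons, List.prod_nil, map_mul, map_one,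
    e1, e2]
  rw [e3]
  have h : ∀ r : ℕ, PresentedGroup.mk (chevD4.steinbergRels (ZMod 2)) (chevD4.stX r 1) *
      PresentedGroup.mk (chevD4.steinbergRels (ZMod 2)) (chevD4.stX r 1) = 1 := stGen_sq
  generalize hA : PresentedGroup.mk (chevD4.steinbergRels (ZMod 2)) (chevD4.stX r 1) = A at *
  generalize hB : PresentedGroup.mk (chevD4.steinbergRels (ZMod 2)) (chevD4.stX (chevD4.neg r) 1) = B at *
  have hA2 : A * A = 1 := hA ▸ h r
  have hB2 : B * B = 1 := hB ▸ h _
  rw [mul_one, ← mul_assoc A A, hA2, one_mul, ← mul_assoc B B, hB2, one_mul, hA2]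

theorem unit_two : ∀ t : ZMod 2, t ≠ 0 → t = 1 := by decide

/-- The presented group is the Chevalley group. -/
theorem st_equiv : Nonempty (StD ≃* ChD) := by
  obtain ⟨θ, hsur, -, hθ⟩ := Cfsg.Agent.S1077.result (K := ZMod 2) chevD4 (by simp)
  have hle := Cfsg.Agent.S1097.result (K := ZMod 2) chevD4 (by simp) θ hθ
  refine ⟨MulEquiv.ofBijective θ ⟨(MonoidHom.ker_eq_bot_iff θ).1 (eq_bot_iff.2 (hle.trans ?_)), hsur⟩⟩
  rw [Subgroup.closure_le]
  rintro _ ⟨i, t, -, ht, rfl⟩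
  rw [unit_two t ht]
  exact stH_one _

theorem simple_of_equiv {D : ChevalleyDatum} {K : Type} [Field K] (e : D.SteinbergGroup K ≃* ↥(D.group K))
    (h : IsSimpleGroup ↥(D.group K)) : IsSimpleGroup (D.SteinbergGroup K) :=
  MulEquiv.isSimpleGroup e

theorem omega_of_equiv {D : ChevalleyDatum} {K : Type} [Field K] {Q : (Fin 4 ⊕ Fin 4 → K) → K}
    (hc : Subgroup.center (Cfsg.Omega K Q) = ⊥) (e : D.SteinbergGroup K ≃* ↥(D.group K))
    (e' : ↥(D.group K) ≃* Cfsg.POmega K Q) : Nonempty (D.SteinbergGroup K ≃* Cfsg.Omega K Q) :=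
  ⟨(e.trans e').trans ((QuotientGroup.quotientMulEquivOfEq hc).trans QuotientGroup.quotientBot)⟩

theorem st_simple : IsSimpleGroup StD := by
  obtain ⟨e⟩ := st_equiv
  exact simple_of_equiv e (Cfsg.Agent.S1054.result (F := ZMod 2) chevD4 (by simp)).1

/-- The presented group is `Ω⁺₈(2)`. -/
theorem st_omega : Nonempty (StD ≃* Cfsg.Omega (ZMod 2) (Cfsg.quadFormPlus 4 (ZMod 2))) := by
  obtain ⟨e⟩ := st_equiv
  obtain ⟨e'⟩ := Cfsg.Agent.S1082.result (F := ZMod 2)
  exact omega_of_equiv (CfsgLib.StemSylow.OEight.card_omega (F := ZMod 2) (ZMod.card 2)).2 e e'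

/-- A non-trivial homomorphism of the presented group is injective. -/
theorem st_inj {H : Type*} [Group H] (f : StD →* H) {x : StD} (hx : f x ≠ 1) : Function.Injective f := by
  have := st_simple
  rcases f.normal_ker.eq_bot_or_eq_top with h | h
  · exact (MonoidHom.ker_eq_bot_iff f).1 h
  · exact absurd (MonoidHom.mem_ker.1 (h.symm ▸ Subgroup.mem_top x)) hx

end CfsgLib.O8T
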