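import Cfsg.Agent.Lib.OEightPlusThree.XRel
import Cfsg.Agent.Lib.OEightPlusThree.StD4

/-!
The translates of the frame satisfy the relations of type `D₄` over the field with two elements.
-/

set_option autoImplicit false
set_option synthInstance.maxSize 4096
set_option maxRecDepth 8000

namespace CfsgLib.O8T

open Subgroup Cfsg.Lie

universe u

/-- The base element of a root. -/
def bse : Fin 24 → Option (Fin 4) :=
  ![some 1, none, none, none, none, some 0, none, none, none, none, some 2, some 3, some 3, some 2, none, none, none, none, some 0, none, none, none, none, some 1]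

/-- The translation of a root. -/
def pof : Fin 24 → V4 :=
  ![(1, 2, 0, 0), (2, 0, 2, 0), (2, 0, 1, 1), (2, 0, 1, 2), (2, 0, 0, 0), (1, 1, 0, 0), (1, 2, 2, 0), (1, 2, 1, 1), (1, 2, 1, 2), (1, 2, 0, 0), (0, 0, 1, 1), (0, 0, 1, 2), (0, 0, 0, 0), (0, 0, 0, 0), (1, 1, 2, 0), (1, 1, 1, 1), (1, 1, 1, 2), (1, 1, 0, 0), (0, 0, 0, 0), (0, 0, 2, 0), (0, 0, 1, 1), (0, 0, 1, 2), (0, 0, 0, 0), (0, 0, 0, 0)]

/-- The commutator of two roots as predicted by the frame. -/
def okPair (r s : Fin 24) : List ℕ → Prop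
  | [] => match bse r, bse s with
    | some i, some j => i ≠ j
    | some i, none => cfd (pof s - pof r) i = 0
    | none, some j => cfd (pof r - pof s) j = 0
    | none, none => supp (pof s - pof r) = 1 ∨ supp (pof s - pof r) = 2
  | [k] => if h : k < 24 then match bse r, bse s with
    | some _, some _ => False
    | some i, none => cfd (pof s - pof r) i ≠ 0 ∧ bse ⟨k, h⟩ = none ∧
        pof ⟨k, h⟩ - pof r = -((pof s - pof r) + app (nM i) (pof s - pof r))
    | none, some j => cfd (pof r - pof s) j ≠ 0 ∧ bse ⟨k, h⟩ = none ∧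
        pof ⟨k, h⟩ - pof s = -((pof r - pof s) + app (nM j) (pof r - pof s))
    | none, none => supp (pof s - pof r) = 3 ∧ ∃ i, bse ⟨k, h⟩ = some i ∧ cfd (pof s - pof r) i = 0 ∧
        app (nM i) (pof ⟨k, h⟩ - pof r) = pof ⟨k, h⟩ - pof r
    else False
  | _ => False

instance (r s : Fin 24) (l : List ℕ) : Decidable (okPair r s l) := by
  unfold okPair; repeat' split
  all_goals infer_instance

theorem pair_check : ∀ r s : Fin 24, s ≠ r → s.val ≠ chevD4.neg r.val →
    okPair r s ((chevD4.commTerms r.val s.val).map Prod.fst) := by decide +kernel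

theorem terms_check : ∀ r s : Fin 24, ∀ c ∈ chevD4.commTerms r.val s.val,
    c.2.2 = (1, 1) ∧ (c.2.1 = 1 ∨ c.2.1 = -1) := by decide +kernel

variable {G : Type u} [Group G]

namespace Frame

variable [Finite G] (F : Frame G)

/-- The base element. -/
noncomputable def bs : Option (Fin 4) → G
  | some i => F.nR i
  | none => F.x0

/-- The root elements. -/
noncomputable def rt (r : Fin 24) : G := F.e (pof r) * F.bs (bse r) * (F.e (pof r))⁻¹

theorem bs_sq : ∀ o, F.bs o * F.bs o = 1
  | some i => F.nR_sq i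
  | none => F.x0_sq

theorem rt_sq (r : Fin 24) : F.rt r * F.rt r = 1 := by
  rw [rt, show F.e (pof r) * F.bs (bse r) * (F.e (pof r))⁻¹ * (F.e (pof r) * F.bs (bse r) * (F.e (pof r))⁻¹) =
    F.e (pof r) * (F.bs (bse r) * F.bs (bse r)) * (F.e (pof r))⁻¹ by group, F.bs_sq, mul_one, mul_inv_cancel]

/-- The root element of a natural number. -/
noncomputable def rtN (r : ℕ) : G := if h : r < 24 then F.rt ⟨r, h⟩ else 1

theorem rel_bs {o o' : Option (Fin 4)} (p p' : V4) :
    (F.e p * F.bs o * (F.e p)⁻¹) * (F.e p' * F.bs o' * (F.e p')⁻¹) * (F.e p * F.bs o * (F.e p)⁻¹) *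
      (F.e p' * F.bs o' * (F.e p')⁻¹) =
    F.e p * (F.bs o * (F.e (p' - p) * F.bs o' * (F.e (p' - p))⁻¹) * F.bs o *
      (F.e (p' - p) * F.bs o' * (F.e (p' - p))⁻¹)) * (F.e p)⁻¹ := by
  rw [show p' = p + (p' - p) from (add_sub_cancel p p').symm, F.e_add, add_sub_cancel_left]
  group

theorem comm_inv {a b : G} (ha : a * a = 1) (hb : b * b = 1) : (a * b * a * b)⁻¹ = b * a * b * a := by
  rw [mul_inv_rev, mul_inv_rev, mul_inv_rev, inv_eq_of_mul_eq_one_right ha, inv_eq_of_mul_eq_one_right hb]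
  group

theorem rt_rel (r s : Fin 24) (l : List ℕ) (h : okPair r s l) :
    F.rt s * F.rt r * F.rt s * F.rt r = (l.map F.rtN).prod := by
  have hflip : F.rt s * F.rt r * F.rt s * F.rt r = (F.rt r * F.rt s * F.rt r * F.rt s)⁻¹ :=
    (comm_inv (F.rt_sq r) (F.rt_sq s)).symm
  have hprod : ∀ k (hk : k < 24), (([k] : List ℕ).map F.rtN).prod = F.rt ⟨k, hk⟩ := fun k hk => by
    rw [List.map_singleton, List.prod_singleton, rtN, dif_pos hk]
  have hinv : ∀ k, (F.rt k)⁻¹ = F.rt k := fun k => inv_eq_of_mul_eq_one_right (F.rt_sq k)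
  rcases hr : bse r with _ | i <;> rcases hs : bse s with _ | j <;>
    rcases l with _ | ⟨k, _ | ⟨k', l⟩⟩ <;> simp only [okPair, hr, hs] at h
  · rw [List.map_nil, List.prod_nil, hflip, inv_eq_one, rt, rt, F.rel_bs, hr, hs]
    rw [show F.bs none * (F.e (pof s - pof r) * F.bs none * (F.e (pof s - pof r))⁻¹) * F.bs none *
      (F.e (pof s - pof r) * F.bs none * (F.e (pof s - pof r))⁻¹) = 1 from F.hh_small h, mul_one, mul_inv_cancel]
  · split at h
    · rename_i hk
      obtain ⟨h3, i, hb, hi, hfix⟩ := h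
      rw [hprod k hk, hflip, ← hinv ⟨k, hk⟩, inv_inj, rt, rt, rt, F.rel_bs, hr, hs, hb]
      rw [show F.bs none * (F.e (pof s - pof r) * F.bs none * (F.e (pof s - pof r))⁻¹) * F.bs none *
        (F.e (pof s - pof r) * F.bs none * (F.e (pof s - pof r))⁻¹) = F.nR i from F.hh_three h3 hi]
      conv_rhs => rw [show pof ⟨k, hk⟩ = pof r + (pof ⟨k, hk⟩ - pof r) from (add_sub_cancel _ _).symm, F.e_add]
      show F.e (pof r) * F.nR i * (F.e (pof r))⁻¹ = _ * F.nR i * _
      rw [mul_inv_rev, mul_assoc (F.e (pof r)) _ (F.nR i), show F.e (pof ⟨k, hk⟩ - pof r) * F.nR i =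
        F.nR i * F.e (pof ⟨k, hk⟩ - pof r) by rw [F.lift_e (F.nR_lift i), hfix]]
      group
    · exact h.elim
  · rw [List.map_nil, List.prod_nil, rt, rt, F.rel_bs, hr, hs]
    rw [show F.bs (some j) * (F.e (pof r - pof s) * F.bs none * (F.e (pof r - pof s))⁻¹) * F.bs (some j) *
      (F.e (pof r - pof s) * F.bs none * (F.e (pof r - pof s))⁻¹) = 1 from F.fh_zero h, mul_one, mul_inv_cancel]
  · split at h
    · rename_i hk
      obtain ⟨hc, hb, he⟩ := h
      rw [hprod k hk, rt, rt, rt, F.rel_bs, hr, hs, hb]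
      rw [show F.bs (some j) * (F.e (pof r - pof s) * F.bs none * (F.e (pof r - pof s))⁻¹) * F.bs (some j) *
        (F.e (pof r - pof s) * F.bs none * (F.e (pof r - pof s))⁻¹) = _ from F.fh_one hc, F.XS_add, ← he,
        add_sub_cancel]
      rfl
    · exact h.elim
  · rw [List.map_nil, List.prod_nil, hflip, inv_eq_one, rt, rt, F.rel_bs, hr, hs]
    rw [show F.bs (some i) * (F.e (pof s - pof r) * F.bs none * (F.e (pof s - pof r))⁻¹) * F.bs (some i) *
      (F.e (pof s - pof r) * F.bs none * (F.e (pof s - pof r))⁻¹) = 1 from F.fh_zero h, mul_one, mul_inv_cancel]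
  · split at h
    · rename_i hk
      obtain ⟨hc, hb, he⟩ := h
      rw [hprod k hk, hflip, ← hinv ⟨k, hk⟩, inv_inj, rt, rt, rt, F.rel_bs, hr, hs, hb]
      rw [show F.bs (some i) * (F.e (pof s - pof r) * F.bs none * (F.e (pof s - pof r))⁻¹) * F.bs (some i) *
        (F.e (pof s - pof r) * F.bs none * (F.e (pof s - pof r))⁻¹) = _ from F.fh_one hc, F.XS_add, ← he,
        add_sub_cancel]
      rfl
    · exact h.elim
  · rw [List.map_nil, List.prod_nil, hflip, inv_eq_one, rt, rt, F.rel_bs, hr, hs]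
    rw [show F.bs (some i) * (F.e (pof s - pof r) * F.bs (some j) * (F.e (pof s - pof r))⁻¹) * F.bs (some i) *
      (F.e (pof s - pof r) * F.bs (some j) * (F.e (pof s - pof r))⁻¹) = 1 from F.ff h _, mul_one, mul_inv_cancel]
  · split at h <;> exact h.elim

/-- The value of a generator. -/
noncomputable def genv (p : Fin chevD4.nroots × ZMod 2) : G := if p.2 = 0 then 1 else F.rt ⟨p.1.val, p.1.isLt⟩

theorem genv_stX (r : ℕ) (t : ZMod 2) :
    FreeGroup.lift F.genv (chevD4.stX r t) = if t = 0 then 1 else F.rtN r := by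
  unfold ChevalleyDatum.stX
  split
  · rename_i hr
    rw [FreeGroup.lift_apply_of, genv, rtN, dif_pos (show r < 24 from hr)]
  · rename_i hr
    rw [map_one, rtN, dif_neg (show ¬ r < 24 from hr), ite_self]

theorem rtN_sq (r : ℕ) : F.rtN r * F.rtN r = 1 := by
  rw [rtN]; split
  · exact F.rt_sq _
  · exact one_mul 1

theorem genv_rels : ∀ w ∈ chevD4.steinbergRels (ZMod 2), FreeGroup.lift F.genv w = 1 := by
  have hz : ∀ t : ZMod 2, t = 0 ∨ t = 1 := by decide
  rintro w ((⟨r, t₁, t₂, hr, rfl⟩ | ⟨r, s, t, u, hr, hs, hne, hne', rfl⟩) | ⟨r, t₁, t₂, hr, h1, h2, rfl⟩)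
  · simp only [map_mul, map_inv, F.genv_stX]
    rcases hz t₁ with rfl | rfl <;> rcases hz t₂ with rfl | rfl <;>
      simp [F.rtN_sq, show (1 : ZMod 2) + 1 = 0 from rfl]
  · simp only [map_mul, map_inv, F.genv_stX, ChevalleyDatum.stWord, ChevalleyDatum.commWord, List.map_map,
      map_list_prod]
    have hterms := terms_check ⟨r, hr⟩ ⟨s, hs⟩
    by_cases hb : t = 1 ∧ u = 1
    · obtain ⟨rfl, rfl⟩ := hb
      have key := F.rt_rel ⟨r, hr⟩ ⟨s, hs⟩ _ (pair_check ⟨r, hr⟩ ⟨s, hs⟩
        (fun e => hne (congrArg Fin.val e)) hne')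
      have e : ((chevD4.commTerms r s).map ((FreeGroup.lift F.genv) ∘ (fun p => chevD4.stX p.1 p.2) ∘
          fun c => (c.1, ((c.2.1 : ℤ) : ZMod 2) * (-1) ^ c.2.2.1 * 1 ^ c.2.2.2))) =
          ((chevD4.commTerms r s).map Prod.fst).map F.rtN := by
        rw [List.map_map]
        refine List.map_congr_left fun c hc => ?_
        obtain ⟨he, hcoef⟩ := hterms c hc
        simp only [Function.comp_apply, F.genv_stX]
        rw [he]
        rcases hcoef with e | e <;> rw [e] <;> simp [show (-1 : ZMod 2) = 1 by decide]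
      rw [e]
      rw [show F.rtN r = F.rt ⟨r, hr⟩ from dif_pos (show r < 24 from hr), show F.rtN s = F.rt ⟨s, hs⟩ from dif_pos (show s < 24 from hs)]
      simp only [one_ne_zero, if_false, inv_eq_of_mul_eq_one_right (F.rt_sq _)]
      rw [key, mul_inv_cancel]
    · have e : ((chevD4.commTerms r s).map ((FreeGroup.lift F.genv) ∘ (fun p => chevD4.stX p.1 p.2) ∘
          fun c => (c.1, ((c.2.1 : ℤ) : ZMod 2) * (-t) ^ c.2.2.1 * u ^ c.2.2.2))).prod = 1 := by
        refine List.prod_eq_one fun y hy => ?_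
        obtain ⟨c, hc, rfl⟩ := List.mem_map.1 hy
        obtain ⟨he, -⟩ := hterms c hc
        simp only [Function.comp_apply, F.genv_stX]
        rw [he, if_pos]
        rcases hz t with rfl | rfl
        · simp
        · rcases hz u with rfl | rfl
          · simp
          · exact absurd ⟨rfl, rfl⟩ hb
      rw [e, inv_one, mul_one]
      rcases hz t with rfl | rfl <;> rcases hz u with rfl | rfl <;>
        first | exact absurd ⟨rfl, rfl⟩ hb | simp [F.rtN_sq]
  · rw [unit_two _ h1, unit_two _ h2, mul_one, map_mul, map_mul, map_inv, mul_inv_cancel_right]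
    simp only [ChevalleyDatum.stH, ChevalleyDatum.stWord, ChevalleyDatum.hWord, ChevalleyDatum.nWord,
      List.cons_append, List.nil_append, List.map_cons, List.map_nil, List.prod_cons, List.prod_nil, map_mul, map_one,
      F.genv_stX, show -(1 : ZMod 2)⁻¹ = 1 by rw [inv_one]; decide, show (-1 : ZMod 2) = 1 by decide, one_ne_zero, if_false]
    rw [mul_one, ← mul_assoc (F.rtN r) (F.rtN r), F.rtN_sq, one_mul,
      ← mul_assoc (F.rtN (chevD4.neg r)), F.rtN_sq, one_mul, F.rtN_sq]

/-- The homomorphism of the presented group. -/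
noncomputable def sth : StD →* G := PresentedGroup.toGroup F.genv_rels

theorem sth_gen (r : Fin 24) : F.sth (chevD4.stGen (ZMod 2) r.val 1) = F.rt r := by
  show FreeGroup.lift F.genv (chevD4.stX r.val 1) = _
  rw [F.genv_stX, if_neg one_ne_zero, rtN, dif_pos r.isLt]

theorem sth_inj : Function.Injective F.sth := by
  refine st_inj F.sth (x := chevD4.stGen (ZMod 2) (23 : Fin 24).val 1) ?_
  rw [F.sth_gen]
  intro h
  have h2 : F.nR 1 = 1 := by
    rw [rt, show bse 23 = some 1 from rfl] at h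
    exact conj_eq_one_iff.1 h
  exact F.nT_ne (F.nR_one ▸ h2)

/-- The subgroup generated by the root elements. -/
noncomputable def M : Subgroup G := F.sth.range

theorem M_omega : Nonempty (F.M ≃* Cfsg.Omega (ZMod 2) (Cfsg.quadFormPlus 4 (ZMod 2))) := by
  obtain ⟨e⟩ := st_omega
  exact ⟨(MonoidHom.ofInjective F.sth_inj).symm.trans e⟩

theorem rt_M (r : Fin 24) : F.rt r ∈ F.M := ⟨_, F.sth_gen r⟩

end Frame

end CfsgLib.O8T
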