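import Cfsg.Agent.Lib.OEightPlusThree.Basis

/-!
The elements of the normalizer of `J` fixing the centre; `J` is its own centralizer.
-/

set_option autoImplicit false

set_option synthInstance.maxSize 4096

namespace CfsgLib.O8T

open Subgroup

universe u

theorem sl_norm_three : ∀ m : SL23, m * m * m = 1 → m ≠ 1 → ∀ k : SL23,
    k * m * k⁻¹ = m ∨ k * m * k⁻¹ = m * m →
    ∃ s : Fin 3, k * (m ^ s.val)⁻¹ = 1 ∨ k * (m ^ s.val)⁻¹ = -1 := by decide +kernel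

/-- The matrix of the involution. -/
def mT : M4 := ((1, 0, 0, 0), (0, 2, 0, 0), (0, 0, 1, 0), (0, 1, 0, 1))

/-- The matrix of the outer involution. -/
def mO : M4 := ((1, 0, 0, 0), (0, 1, 0, 0), (0, 0, 2, 0), (0, 0, 1, 1))

/-- Powers. -/
def powM (M : M4) : ℕ → M4
  | 0 => idM
  | n + 1 => comp (powM M n) M

/-- The elements fixing the centre. -/
def stM (i j k l : ℕ) : M4 := comp (comp (comp (powM Basis.mA i) (powM Basis.mB j)) (powM mT k)) (powM mO l)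

theorem t_facts : ∀ e α β γ : ZMod 3,
    comp (comp ((1, 0, 0, 0), (e, 2, 0, 0), (0, 0, 1, 0), (γ, α, β, 1))
      ((1, 0, 0, 0), (e, 2, 0, 0), (0, 0, 1, 0), (γ, α, β, 1))) idM = idM →
    comp (comp ((1, 0, 0, 0), (e, 2, 0, 0), (0, 0, 1, 0), (γ, α, β, 1)) Basis.mA)
      (comp ((1, 0, 0, 0), (e, 2, 0, 0), (0, 0, 1, 0), (γ, α, β, 1)) Basis.mA) = idM →
    ∃ i : Fin 3, comp ((1, 0, 0, 0), (e, 2, 0, 0), (0, 0, 1, 0), (γ, α, β, 1)) (powM Basis.mA i.val) = mT := by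
  decide +kernel

theorem powAB : ∀ i j : Fin 3, comp (powM Basis.mA i.val) (powM Basis.mB j.val) =
    ((1, 0, 0, 0), (2 * (i.val : ZMod 3), 1, 0, 0), ((j.val : ZMod 3), 0, 1, 0),
      ((i.val : ZMod 3) * i.val - i.val + 2 * ((j.val : ZMod 3) * j.val - j.val), (i.val : ZMod 3), (j.val : ZMod 3),
        1)) := by decide +kernel

theorem Q1_fin : ∀ e e' εx γ α : ZMod 3,
    (comp ((1, 0, 0, 0), (e, 1, 0, 0), (e', 0, εx, 0), (γ, α, 0, 1)) (powM Basis.mA (2 * α.val))).2.2.2.2.1 = 0 ∧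
    (comp ((1, 0, 0, 0), (e, 1, 0, 0), (e', 0, εx, 0), (γ, α, 0, 1)) (powM Basis.mA (2 * α.val))).2.2.2.2.2.1 = 0 := by
  decide +kernel

theorem Q2_fin : ∀ e εq e' γ β : ZMod 3,
    (comp ((1, 0, 0, 0), (e, εq, 0, 0), (e', 0, 1, 0), (γ, 0, β, 1)) (powM Basis.mB (2 * β.val))).2.2.2.2.1 = 0 ∧
    (comp ((1, 0, 0, 0), (e, εq, 0, 0), (e', 0, 1, 0), (γ, 0, β, 1)) (powM Basis.mB (2 * β.val))).2.2.2.2.2.1 = 0 := by
  decide +kernel

theorem o_ia : ∀ (e e' γ α β : ZMod 3) (ia : Fin 3),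
    comp ((1, 0, 0, 0), (e, 1, 0, 0), (e', 0, 2, 0), (γ, α, β, 1)) Basis.mA =
      comp (comp idM (powM Basis.mA ia.val)) ((1, 0, 0, 0), (e, 1, 0, 0), (e', 0, 2, 0), (γ, α, β, 1)) →
    ia = 1 := by decide +kernel

theorem o_jb : ∀ (e e' γ α β : ZMod 3) (jb : Fin 3),
    comp ((1, 0, 0, 0), (e, 1, 0, 0), (e', 0, 2, 0), (γ, α, β, 1)) Basis.mB =
      comp (comp idM (powM Basis.mB jb.val)) ((1, 0, 0, 0), (e, 1, 0, 0), (e', 0, 2, 0), (γ, α, β, 1)) →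
    jb = 2 := by decide +kernel

theorem o_fin : ∀ (e e' γ α β : ZMod 3),
    comp ((1, 0, 0, 0), (e, 1, 0, 0), (e', 0, 2, 0), (γ, α, β, 1)) Basis.mA =
      comp (comp idM (powM Basis.mA 1)) ((1, 0, 0, 0), (e, 1, 0, 0), (e', 0, 2, 0), (γ, α, β, 1)) →
    comp ((1, 0, 0, 0), (e, 1, 0, 0), (e', 0, 2, 0), (γ, α, β, 1)) Basis.mB =
      comp (comp idM (powM Basis.mB 2)) ((1, 0, 0, 0), (e, 1, 0, 0), (e', 0, 2, 0), (γ, α, β, 1)) →
    ∀ i j : Fin 3, comp ((1, 0, 0, 0), (e, 1, 0, 0), (e', 0, 2, 0), (γ, α, β, 1))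
      ((1, 0, 0, 0), (e, 1, 0, 0), (e', 0, 2, 0), (γ, α, β, 1)) =
      comp (powM Basis.mA i.val) (powM Basis.mB j.val) →
    ∃ i' j' : Fin 3, comp ((1, 0, 0, 0), (e, 1, 0, 0), (e', 0, 2, 0), (γ, α, β, 1))
      (comp (powM Basis.mA i'.val) (powM Basis.mB j'.val)) = mO := by decide +kernel

theorem stab_idM : ∀ i j : Fin 3, ∀ k l : Fin 2, stM i.val j.val k.val l.val = idM →
    i.val = 0 ∧ j.val = 0 ∧ k.val = 0 ∧ l.val = 0 := by decide +kernel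

variable {G : Type u} [Group G]

namespace Basis

variable [Finite G] (B : Basis G)

theorem acts_one : B.Acts 1 idM := fun v => by simp [app_idM]

theorem acts_pow {n : G} {M : M4} (h : B.Acts n M) (m : ℕ) : B.Acts (n ^ m) (powM M m) := by
  induction m with
  | zero => rw [pow_zero]; exact B.acts_one
  | succ m ih => rw [pow_succ]; exact B.acts_mul ih h

theorem acts_J {n : G} (hn : n ∈ B.D.J B.D') : B.Acts n idM := fun v => by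
  rw [app_idM, B.adj.J_comm n hn _ (B.el_mem v), mul_inv_cancel_right]

theorem acts_inv_mul {n m : G} {M : M4} (hn : B.Acts n M) (hm : B.Acts (n * m⁻¹) idM) : B.Acts m M := fun v => by
  have h := hm (app M v)
  rw [app_idM, ← hn v] at h
  calc m * B.el v * m⁻¹ = (n * m⁻¹)⁻¹ * (n * B.el v * n⁻¹) * (n * m⁻¹) := by group
    _ = (n * m⁻¹)⁻¹ * ((n * m⁻¹) * (n * B.el v * n⁻¹) * (n * m⁻¹)⁻¹) * (n * m⁻¹) := by rw [h]
    _ = n * B.el v * n⁻¹ := by group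
    _ = B.el (app M v) := hn v

theorem w_Ct : B.w ∈ B.D.Ct := (B.adj.w_P B.w_J).2

/-- The image of the last basis element in the complement. -/
def v : SX := B.D.ψ ⟨B.w, B.w_Ct⟩

theorem exists_m : ∃ m : SL23, m * m * m = 1 ∧ m ≠ 1 ∧ B.v = (m, 1) := B.adj.symm.ψ_out (B.adj.w_P B.w_J) B.w_Q

theorem el_Q {v : V4} : B.el v ∈ B.D.Q ↔ v.2.2.2 = 0 := by
  obtain ⟨i, j, k, l⟩ := v
  have hJ0 : B.D.z ^ i.val * B.q ^ j.val * B.x ^ k.val ∈ B.D.Q :=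
    mul_mem (mul_mem (pow_mem B.D.z_Q _) (pow_mem B.q_Q.1 _)) (pow_mem (B.D.Q2_le B.x_Q) _)
  show _ * B.w ^ l.val ∈ B.D.Q ↔ l = 0
  rw [mul_mem_cancel_left hJ0]
  refine ⟨fun h => ?_, fun h => by rw [h, ZMod.val_zero, pow_zero]; exact one_mem _⟩
  have hlt := ZMod.val_lt l
  rw [← ZMod.val_eq_zero]
  by_contra hne
  rcases (show l.val = 1 ∨ l.val = 2 by omega) with e | e <;> rw [e] at h
  · exact B.w_Q (by rwa [pow_one] at h)
  · have : B.w = (B.w ^ 2)⁻¹ := eq_inv_of_mul_eq_one_left (by rw [← pow_succ']; exact B.adj.J_exp B.w_mem)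
    exact B.w_Q (this ▸ inv_mem h)

theorem el_Q1 {v : V4} (h : B.el v ∈ B.D.Q1) : v.2.2.1 = 0 ∧ v.2.2.2 = 0 := by
  have h4 := B.el_Q.1 h.1
  obtain ⟨i, j, k, l⟩ := v
  obtain rfl : l = 0 := h4
  refine ⟨?_, rfl⟩
  simp only [el, ZMod.val_zero, pow_zero, mul_one] at h
  rw [mul_mem_cancel_left (mul_mem (pow_mem (B.D.Zc_le_Q1 (mem_zpowers _)) _) (pow_mem B.q_Q _))] at h
  have h' : B.x ^ k.val ∈ B.D.Zc := B.D.Q1_inf_Q2.le ⟨h, pow_mem B.x_Q _⟩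
  have hlt := ZMod.val_lt k
  show k = 0
  rw [← ZMod.val_eq_zero]
  by_contra hne
  rcases (show k.val = 1 ∨ k.val = 2 by omega) with e | e <;> rw [e] at h'
  · exact B.x_nZ (by rwa [pow_one] at h')
  · have : B.x = (B.x ^ 2)⁻¹ :=
      eq_inv_of_mul_eq_one_left (by rw [← pow_succ']; exact B.D.Q_exp _ (B.D.Q2_le B.x_Q))
    exact B.x_nZ (this ▸ inv_mem h')

theorem el_Q2 {v : V4} (h : B.el v ∈ B.D.Q2) : v.2.1 = 0 ∧ v.2.2.2 = 0 := by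
  have h4 := B.el_Q.1 (B.D.Q2_le h)
  obtain ⟨i, j, k, l⟩ := v
  obtain rfl : l = 0 := h4
  refine ⟨?_, rfl⟩
  simp only [el, ZMod.val_zero, pow_zero, mul_one] at h
  rw [mul_mem_cancel_right (pow_mem B.x_Q _), mul_mem_cancel_left (pow_mem (B.D.Zc_le_Q2 (mem_zpowers _)) _)] at h
  have h' : B.q ^ j.val ∈ B.D.Zc := B.D.Q1_inf_Q2.le ⟨pow_mem B.q_Q _, h⟩
  have hlt := ZMod.val_lt j
  show j = 0
  rw [← ZMod.val_eq_zero]
  by_contra hne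
  rcases (show j.val = 1 ∨ j.val = 2 by omega) with e | e <;> rw [e] at h'
  · exact B.q_nZ (by rwa [pow_one] at h')
  · have : B.q = (B.q ^ 2)⁻¹ := eq_inv_of_mul_eq_one_left (by rw [← pow_succ']; exact B.D.Q_exp _ B.q_Q.1)
    exact B.q_nZ (this ▸ inv_mem h')

theorem el_ψ (u : V4) : B.D.ψ ⟨B.el u, B.adj.J_le_Ct (B.el_mem u)⟩ = B.v ^ u.2.2.2.val := by
  obtain ⟨i, j, k, l⟩ := u
  have hJ0 : B.D.z ^ i.val * B.q ^ j.val * B.x ^ k.val ∈ B.D.Q :=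
    mul_mem (mul_mem (pow_mem B.D.z_Q _) (pow_mem B.q_Q.1 _)) (pow_mem (B.D.Q2_le B.x_Q) _)
  rw [v, ← map_pow, show (⟨B.el (i, j, k, l), B.adj.J_le_Ct (B.el_mem _)⟩ : B.D.Ct) =
    ⟨_, B.D.Q_le_Ct hJ0⟩ * (⟨B.w, B.w_Ct⟩ : B.D.Ct) ^ l.val from Subtype.ext rfl, map_mul,
    (B.D.ψ_ker ⟨_, B.D.Q_le_Ct hJ0⟩).2 hJ0, one_mul]

theorem norm_of_image {n : B.D.Ct} (h : B.D.ψ n * B.v * (B.D.ψ n)⁻¹ ∈ zpowers B.v) : B.Norm (n : G) := by
  set T : Subgroup G := (B.D.J B.D').map (MulAut.conj (n : G)).toMonoidHom with hTd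
  have hT : T ≤ B.D.Ct := by
    rintro _ ⟨a, ha, rfl⟩
    exact mul_mem (mul_mem n.2 (B.adj.J_le_Ct ha)) (inv_mem n.2)
  have hcard : Nat.card T = 81 := by
    rw [hTd, card_map_of_injective (f := (MulAut.conj (n : G)).toMonoidHom) (MulAut.conj (n : G)).injective,
      B.adj.card_J]
  have hc : ∀ a ∈ T, ∀ b ∈ T, a * b = b * a := by
    rintro _ ⟨a, ha, rfl⟩ _ ⟨b, hb, rfl⟩
    rw [← map_mul, ← map_mul, B.adj.J_comm a ha b hb]
  have e := B.adj.unique hT hc hcard B.w_J B.w_Q (by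
    rintro _ ⟨a, ha, rfl⟩
    obtain ⟨u, rfl⟩ := B.el_surj ha
    show B.D.ψ (n * ⟨B.el u, B.adj.J_le_Ct (B.el_mem u)⟩ * n⁻¹) ∈ zpowers B.v
    rw [map_mul, map_mul, map_inv, B.el_ψ, ← conj_pow]
    exact pow_mem h _)
  exact fun a ha => e.le ⟨a, ha, rfl⟩

theorem central_image {n : B.D.Ct} (h : (B.D.ψ n).1 = 1 ∨ (B.D.ψ n).1 = -1) :
    B.D.ψ n * B.v * (B.D.ψ n)⁻¹ = B.v := by
  obtain ⟨m, -, -, hm⟩ := B.exists_m
  obtain ⟨⟨k, e⟩, hk⟩ : ∃ u, B.D.ψ n = u := ⟨_, rfl⟩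
  rw [hk] at h ⊢
  rw [hm]
  refine Prod.ext ?_ (by simp)
  show k * m * k⁻¹ = m
  rcases h with h | h <;> rw [show k = _ from h]
  · group
  · rw [sl_neg_comm m]; group

theorem w_shift {n : B.D.Ct} {M : M4} (hM : B.Acts n M) (h : (B.D.ψ n).1 = 1 ∨ (B.D.ψ n).1 = -1) :
    M.2.2.2.2.2.2 = 1 := by
  have e := hM (0, 0, 0, 1)
  rw [B.el_basis.2.2.2, (app_basis M).2.2.2] at e
  have h1 : B.D.ψ ⟨B.el M.2.2.2, B.adj.J_le_Ct (B.el_mem _)⟩ = B.v := by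
    rw [show (⟨B.el M.2.2.2, B.adj.J_le_Ct (B.el_mem _)⟩ : B.D.Ct) = n * ⟨B.w, B.w_Ct⟩ * n⁻¹ from
      Subtype.ext e.symm, map_mul, map_mul, map_inv]
    exact B.central_image h
  rw [B.el_ψ] at h1
  have hlt := ZMod.val_lt M.2.2.2.2.2.2
  obtain ⟨m, hm3, hm1, hm⟩ := B.exists_m
  rw [hm, Prod.pow_mk, Prod.mk.injEq] at h1
  rcases (show M.2.2.2.2.2.2.val = 0 ∨ M.2.2.2.2.2.2.val = 1 ∨ M.2.2.2.2.2.2.val = 2 by omega) with e | e | e <;>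
    rw [e] at h1
  · exact absurd (by rw [← h1.1, pow_zero]) hm1
  · exact ZMod.val_injective 3 e
  · have := h1.1
    rw [pow_two] at this
    exact absurd (mul_eq_left.1 this) hm1

theorem shapes {n : B.D.Ct} {M : M4} (hM : B.Acts n M) (h : (B.D.ψ n).1 = 1 ∨ (B.D.ψ n).1 = -1) :
    ∃ e εq e' εx γ α β, M = ((1, 0, 0, 0), (e, εq, 0, 0), (e', 0, εx, 0), (γ, α, β, 1)) ∧ εq ≠ 0 ∧ εx ≠ 0 := by
  obtain ⟨e1, e2, e3, -⟩ := B.el_basis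
  obtain ⟨b1, b2, b3, -⟩ := app_basis M
  have h4 := B.w_shift hM h
  have hz : M.1 = (1, 0, 0, 0) := B.el_inj (by
    have := hM (1, 0, 0, 0)
    rw [e1, b1] at this
    rw [← this, e1, B.D.mem_Ct.1 n.2, mul_inv_cancel_right])
  have hq := hM (0, 1, 0, 0)
  rw [e2, b2] at hq
  have hq' := B.el_Q1 (hq ▸ B.D.conj_Q1 n.2 B.q_Q)
  have hx := hM (0, 0, 1, 0)
  rw [e3, b3] at hx
  have hx' := B.el_Q2 (hx ▸ B.D.conj_Q2 n.2 B.x_Q)
  obtain ⟨M1, ⟨e, εq, q3, q4⟩, ⟨e', x2, εx, x4⟩, ⟨γ, α, β, l⟩⟩ := M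
  obtain rfl : M1 = (1, 0, 0, 0) := hz
  obtain ⟨rfl, rfl⟩ : q3 = 0 ∧ q4 = 0 := hq'
  obtain ⟨rfl, rfl⟩ : x2 = 0 ∧ x4 = 0 := hx'
  obtain rfl : l = 1 := h4
  refine ⟨e, εq, e', εx, γ, α, β, rfl, fun h0 => B.q_nZ ?_, fun h0 => B.x_nZ ?_⟩
  · subst h0
    have : (n : G) * B.q * (n : G)⁻¹ ∈ B.D.Zc := by
      rw [hq]; simp [el]
    have := B.D.conj_Zc (inv_mem n.2) this
    rw [show (n : G)⁻¹ * ((n : G) * B.q * (n : G)⁻¹) * (n : G)⁻¹⁻¹ = B.q by group] at this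
    rw [this]; assumption
  · subst h0
    have : (n : G) * B.x * (n : G)⁻¹ ∈ B.D.Zc := by
      rw [hx]; simp [el]
    have := B.D.conj_Zc (inv_mem n.2) this
    rw [show (n : G)⁻¹ * ((n : G) * B.x * (n : G)⁻¹) * (n : G)⁻¹⁻¹ = B.x by group] at this
    rw [this]; assumption

theorem acts_Zc {c : G} (hc : c ∈ B.D.Zc) : B.Acts c idM :=
  B.acts_J (B.adj.J0_le_J (B.adj.A_le_J0 (mem_sup_left hc)))

theorem exists_t : ∃ τ : B.D.Ct, B.Acts τ mT ∧ B.D.ψ τ = (-1, 1) := by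
  have ht1 : (B.D.ψ B.D.t).1 = -1 := by rw [B.D.t_ψ]
  obtain ⟨M, hM⟩ := B.norm_acts (B.norm_of_image (n := B.D.t) (by rw [B.central_image (.inr ht1)]; exact mem_zpowers _))
  obtain ⟨e, εq, e', εx, γ, α, β, rfl, -, -⟩ := B.shapes hM (.inr ht1)
  obtain ⟨-, e2, e3, -⟩ := B.el_basis
  have hx := hM (0, 0, 1, 0)
  rw [(app_basis _).2.2.1, e3, show (B.D.t : G) * B.x * (B.D.t : G)⁻¹ = B.x from (B.D.mem_Q2.1 B.x_Q).2] at hx
  nth_rewrite 1 [← e3] at hx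
  have hx' := B.el_inj hx
  simp only [Prod.mk.injEq] at hx'
  obtain ⟨rfl, -, rfl, -⟩ := hx'
  have hq := hM (0, 1, 0, 0)
  rw [(app_basis _).2.1, e2] at hq
  have hεq : εq = 2 := by
    have hm := B.q_Q.2
    show εq = 2
    simp only [Base.θ] at hm
    rw [hq] at hm
    nth_rewrite 1 [← e2] at hm
    rw [← B.el_add] at hm
    have h2 := (B.el_Q2 (B.D.Zc_le_Q2 hm)).1
    simp only [Prod.mk_add_mk, Prod.snd_add] at h2
    have : ∀ a : ZMod 3, a + 1 = 0 → a = 2 := by decide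
    exact this _ h2
  subst hεq
  have hsq : B.Acts ((B.D.t : G) * B.D.t) idM := by rw [B.D.t_sq]; exact B.acts_one
  have c1 := B.acts_unique (B.acts_mul (B.acts_mul hM hM) B.acts_one) (by rw [mul_one]; exact hsq)
  have htat : (B.D.t : G) * B.a * ((B.D.t : G) * B.a) ∈ B.D.Zc := by
    have := B.a_Q.2
    simp only [Base.θ, B.D.t_inv] at this
    rwa [← mul_assoc]
  have c2 := B.acts_unique (B.acts_mul (B.acts_mul hM B.acts_a) (B.acts_mul hM B.acts_a)) (B.acts_Zc htat)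
  obtain ⟨i, hi⟩ := t_facts e α β γ c1 c2
  refine ⟨B.D.t * ⟨B.a, B.D.Q_le_Ct B.a_Q.1⟩ ^ i.val, hi ▸ B.acts_mul hM (B.acts_pow B.acts_a i.val), ?_⟩
  rw [map_mul, map_pow, (B.D.ψ_ker ⟨B.a, B.D.Q_le_Ct B.a_Q.1⟩).2 B.a_Q.1, one_pow, mul_one, B.D.t_ψ]

theorem J0_of_acts {g : G} (hg : g ∈ B.D.Q) {M : M4} (hM : B.Acts g M)
    (hw : M.2.2.2.2.1 = 0 ∧ M.2.2.2.2.2.1 = 0) : g ∈ B.D.J0 B.D' := by
  refine B.adj.mem_J0_of hg (B.adj.w_P B.w_J) B.w_Q ?_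
  have h1 := hM (0, 0, 0, 1)
  rw [(app_basis M).2.2.2, B.el_basis.2.2.2] at h1
  have h4 := B.w_shift (n := ⟨g, B.D.Q_le_Ct hg⟩) hM (.inl (by rw [(B.D.ψ_ker ⟨g, B.D.Q_le_Ct hg⟩).2 hg]; rfl))
  obtain ⟨M1, M2, M3, γ, α, β, l⟩ := M
  obtain ⟨rfl, rfl⟩ : α = 0 ∧ β = 0 := hw
  obtain rfl : l = 1 := h4
  have e : B.el (γ, 0, 0, 1) = B.D.z ^ γ.val * B.w := by
    simp [el, show (1 : ZMod 3).val = 1 from rfl]
  rw [e] at h1
  have h2 : B.w * g * B.w⁻¹ * g⁻¹ = (g * B.w * g⁻¹ * B.w⁻¹)⁻¹ := by group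
  rw [h2, h1, mul_inv_cancel_right]
  exact inv_mem (pow_mem (mem_zpowers _) _)

theorem Q1_form {g : G} (hg : g ∈ B.D.Q1) : ∃ i : Fin 3, g * (B.a ^ i.val)⁻¹ ∈ B.D.J0 B.D' := by
  have h1 : (B.D.ψ ⟨g, B.D.Q_le_Ct hg.1⟩).1 = 1 := by rw [(B.D.ψ_ker ⟨g, B.D.Q_le_Ct hg.1⟩).2 hg.1]; rfl
  obtain ⟨M, hM⟩ := B.norm_acts (B.norm_of_image (n := ⟨g, B.D.Q_le_Ct hg.1⟩)
    (by rw [B.central_image (.inl h1)]; exact mem_zpowers _))
  obtain ⟨e, εq, e', εx, γ, α, β, rfl, -, -⟩ := B.shapes hM (.inl h1)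
  have hw := hM (0, 0, 0, 1)
  rw [(app_basis _).2.2.2, B.el_basis.2.2.2] at hw
  have hQ1 : g * B.w * g⁻¹ * B.w⁻¹ ∈ B.D.Q1 := by
    have e : g * B.w * g⁻¹ * B.w⁻¹ = g * (B.w * g⁻¹ * B.w⁻¹) := by group
    rw [e]; exact mul_mem hg (B.D.conj_Q1 B.w_Ct (inv_mem hg))
  have hb : β = 0 := by
    rw [hw] at hQ1
    rw [show ((γ, α, β, 1) : V4) = (γ, α, β, 0) + (0, 0, 0, 1) by simp, B.el_add, B.el_basis.2.2.2,
      mul_inv_cancel_right] at hQ1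
    exact (B.el_Q1 hQ1).1
  subst hb
  have hlt := ZMod.val_lt α
  refine ⟨⟨α.val, hlt⟩, ?_⟩
  have hainv : B.a⁻¹ = B.a ^ 2 := by rw [B.D.inv_eq_sq B.a_Q.1, pow_two]
  have hact : B.Acts (g * (B.a ^ α.val)⁻¹) (comp ((1, 0, 0, 0), (e, εq, 0, 0), (e', 0, εx, 0), (γ, α, 0, 1))
      (powM mA (2 * α.val))) := by
    rw [← inv_pow, hainv, ← pow_mul]
    exact B.acts_mul hM (B.acts_pow B.acts_a _)
  refine B.J0_of_acts (mul_mem hg.1 (inv_mem (pow_mem B.a_Q.1 _))) hact ?_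
  have hq1 : εq = 1 := by
    have h := hM (0, 1, 0, 0)
    rw [(app_basis _).2.1, B.el_basis.2.1] at h
    have hm := B.D.Q_comm g hg.1 B.q B.q_Q.1
    rw [h, show ((e, εq, 0, 0) : V4) = (e, εq - 1, 0, 0) + (0, 1, 0, 0) by simp, B.el_add, B.el_basis.2.1,
      mul_inv_cancel_right] at hm
    exact sub_eq_zero.1 (B.el_Q2 (B.D.Zc_le_Q2 hm)).1
  subst hq1
  exact Q1_fin e e' εx γ α

theorem Q2_form {g : G} (hg : g ∈ B.D.Q2) : ∃ j : Fin 3, g * (B.b ^ j.val)⁻¹ ∈ B.D.J0 B.D' := by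
  have hgQ := B.D.Q2_le hg
  have h1 : (B.D.ψ ⟨g, B.D.Q_le_Ct hgQ⟩).1 = 1 := by rw [(B.D.ψ_ker ⟨g, B.D.Q_le_Ct hgQ⟩).2 hgQ]; rfl
  obtain ⟨M, hM⟩ := B.norm_acts (B.norm_of_image (n := ⟨g, B.D.Q_le_Ct hgQ⟩)
    (by rw [B.central_image (.inl h1)]; exact mem_zpowers _))
  obtain ⟨e, εq, e', εx, γ, α, β, rfl, -, -⟩ := B.shapes hM (.inl h1)
  have hw := hM (0, 0, 0, 1)
  rw [(app_basis _).2.2.2, B.el_basis.2.2.2] at hw
  have hQ2 : g * B.w * g⁻¹ * B.w⁻¹ ∈ B.D.Q2 := by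
    have e : g * B.w * g⁻¹ * B.w⁻¹ = g * (B.w * g⁻¹ * B.w⁻¹) := by group
    rw [e]; exact mul_mem hg (B.D.conj_Q2 B.w_Ct (inv_mem hg))
  have hb : α = 0 := by
    rw [hw] at hQ2
    rw [show ((γ, α, β, 1) : V4) = (γ, α, β, 0) + (0, 0, 0, 1) by simp, B.el_add, B.el_basis.2.2.2,
      mul_inv_cancel_right] at hQ2
    exact (B.el_Q2 hQ2).1
  subst hb
  have hlt := ZMod.val_lt β
  refine ⟨⟨β.val, hlt⟩, ?_⟩
  have hbinv : B.b⁻¹ = B.b ^ 2 := by rw [B.D.inv_eq_sq (B.D.Q2_le B.b_Q), pow_two]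
  have hact : B.Acts (g * (B.b ^ β.val)⁻¹) (comp ((1, 0, 0, 0), (e, εq, 0, 0), (e', 0, εx, 0), (γ, 0, β, 1))
      (powM mB (2 * β.val))) := by
    rw [← inv_pow, hbinv, ← pow_mul]
    exact B.acts_mul hM (B.acts_pow B.acts_b _)
  refine B.J0_of_acts (mul_mem hgQ (inv_mem (pow_mem (B.D.Q2_le B.b_Q) _))) hact ?_
  have hx1 : εx = 1 := by
    have h := hM (0, 0, 1, 0)
    rw [(app_basis _).2.2.1, B.el_basis.2.2.1] at h
    have hm := B.D.Q_comm g hgQ B.x (B.D.Q2_le B.x_Q)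
    rw [h, show ((e', 0, εx, 0) : V4) = (e', 0, εx - 1, 0) + (0, 0, 1, 0) by simp, B.el_add, B.el_basis.2.2.1,
      mul_inv_cancel_right] at hm
    exact sub_eq_zero.1 (B.el_Q1 (B.D.Zc_le_Q1 hm)).1
  subst hx1
  exact Q2_fin e εq e' γ β

theorem Q_acts {g : G} (hg : g ∈ B.D.Q) :
    ∃ i j : Fin 3, B.Acts g (comp (powM mA i.val) (powM mB j.val)) ∧ g * (B.a ^ i.val * B.b ^ j.val)⁻¹ ∈ B.D.J0 B.D' := by
  obtain ⟨g1, hg1, g2, hg2, rfl⟩ := B.D.exists_decomp hg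
  obtain ⟨i, hi⟩ := B.Q1_form hg1
  obtain ⟨j, hj⟩ := B.Q2_form hg2
  have hj' : g1 * g2 * (B.a ^ i.val * B.b ^ j.val)⁻¹ =
      (g1 * (B.a ^ i.val)⁻¹) * (g2 * (B.b ^ j.val)⁻¹) := by
    have h := B.D.Q1_comm_Q2 (inv_mem (pow_mem B.a_Q i.val)) (mul_mem hg2 (inv_mem (pow_mem B.b_Q j.val)))
    calc g1 * g2 * (B.a ^ i.val * B.b ^ j.val)⁻¹ = g1 * ((g2 * (B.b ^ j.val)⁻¹) * (B.a ^ i.val)⁻¹) := by group
      _ = (g1 * (B.a ^ i.val)⁻¹) * (g2 * (B.b ^ j.val)⁻¹) := by rw [← h]; group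
  have hmem := hj' ▸ mul_mem hi hj
  refine ⟨i, j, ?_, hmem⟩
  have h := B.acts_mul (B.acts_J (B.adj.J0_le_J hmem)) (B.acts_mul (B.acts_pow B.acts_a i.val) (B.acts_pow B.acts_b j.val))
  rw [inv_mul_cancel_right] at h
  rwa [show comp idM (comp (powM mA i.val) (powM mB j.val)) = comp (powM mA i.val) (powM mB j.val) from by
    simp only [comp, app_idM]] at h

theorem mem_Q_of_fix {n : B.D.Ct} (h : (B.D.ψ n).1 = 1 ∨ (B.D.ψ n).1 = -1) {M : M4} (hM : B.Acts n M)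
    (hq : M.2.1.2.1 = 1) (hx : M.2.2.1.2.2.1 = 1) : (n : G) ∈ B.D.Q := by
  obtain ⟨e, εq, e', εx, γ, α, β, rfl, -, -⟩ := B.shapes hM h
  obtain rfl : εq = 1 := hq
  obtain rfl : εx = 1 := hx
  have h2 : B.D.ψ (n * n) = 1 := by
    rw [map_mul]
    refine Prod.ext ?_ (mul2_sq _)
    show (B.D.ψ n).1 * (B.D.ψ n).1 = 1
    rcases h with h | h <;> rw [h]
    · exact one_mul 1
    · decide +kernel
  have hnn : (n : G) * n ∈ B.D.Q := (B.D.ψ_ker _).1 h2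
  have hfix : ∀ c ∈ B.D.Q, c ∈ B.D.J0 B.D' → (n : G) * c * (n : G)⁻¹ * c⁻¹ ∈ B.D.Zc := by
    intro c hc hcJ
    obtain ⟨⟨i, j, k, l⟩, rfl⟩ := B.el_surj (B.adj.J0_le_J hcJ)
    obtain rfl : l = 0 := B.el_Q.1 hc
    have e1 : app ((1, 0, 0, 0), (e, 1, 0, 0), (e', 0, 1, 0), (γ, α, β, 1)) (i, j, k, 0) =
        (j * e + k * e', 0, 0, 0) + (i, j, k, 0) := by
      simp [app]; ring
    rw [hM, e1, B.el_add, mul_inv_cancel_right]
    simp [el]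
  have key : ∀ c ∈ B.D.Q, (∀ d, d = (n : G) * c * (n : G)⁻¹ * c⁻¹ → d ∈ B.D.J0 B.D') →
      (n : G) * c * (n : G)⁻¹ * c⁻¹ ∈ B.D.Zc := by
    intro c hc hd
    set d := (n : G) * c * (n : G)⁻¹ * c⁻¹ with hdd
    have hdJ := hd d rfl
    have h1 := hfix d hdJ.1 hdJ
    have h3 := B.D.Q_comm _ hnn c hc
    have e1 : (n : G) * n * c * ((n : G) * n)⁻¹ * c⁻¹ = ((n : G) * d * (n : G)⁻¹ * d⁻¹) * (d * d) := by
      simp only [hdd]; group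
    rw [e1, mul_mem_cancel_left h1] at h3
    exact B.D.sq_mem hdJ.1 h3
  refine B.D.mem_Q_of_trivial h2 (LinearMap.ext fun v => ?_)
  obtain ⟨g, rfl⟩ := B.D.vec_surj v
  rw [Module.End.one_apply, B.D.ρ_vec, ← sub_eq_zero]
  have : B.D.vec (B.D.conjQ n g) - B.D.vec g = B.D.vec (B.D.conjQ n g * g⁻¹) := by
    rw [eq_comm, eq_sub_iff_add_eq, ← B.D.vec_mul]; group
  rw [this, B.D.vec_zero]
  show (n : G) * g * (n : G)⁻¹ * (g : G)⁻¹ ∈ B.D.Zc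
  refine key g g.2 fun d hd => ?_
  obtain ⟨i, j, hg, -⟩ := B.Q_acts g.2
  have hdQ : d ∈ B.D.Q := hd ▸ mul_mem (B.D.conj_Q n.2 g.2) (inv_mem g.2)
  obtain ⟨i', j', hd', -⟩ := B.Q_acts hdQ
  have e1 : (n : G) * g = d * g * n := by rw [hd]; group
  have hc := B.acts_unique (e1 ▸ B.acts_mul hM hg) (B.acts_mul (B.acts_mul hd' hg) hM)
  refine B.J0_of_acts hdQ hd' ?_
  rw [powAB, powAB] at hc
  have h1 := congrArg (fun M : M4 => M.2.1.1) hc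
  have h2 := congrArg (fun M : M4 => M.2.2.1.1) hc
  simp only [comp, app] at h1 h2
  ring_nf at h1 h2
  have z2 : ∀ a : ZMod 3, a * 2 = 0 → a = 0 := by decide
  rw [powAB]
  show (i'.val : ZMod 3) = 0 ∧ (j'.val : ZMod 3) = 0
  exact ⟨z2 _ (by linear_combination -h1), by linear_combination -h2⟩

/-- An element outside `SL(2,3)` with the standard matrix. -/
theorem exists_o (h : ∃ y : B.D.Ct, (B.D.ψ y).2 ≠ 1) :
    ∃ o : B.D.Ct, B.Acts o mO ∧ (B.D.ψ o).2 ≠ 1 ∧ ((B.D.ψ o).1 = 1 ∨ (B.D.ψ o).1 = -1) := by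
  obtain ⟨y, hy⟩ := h
  obtain ⟨y', hy'⟩ := B.D.ψ_SL ((B.D.ψ y).1)⁻¹
  obtain ⟨τ, hτ, hτψ⟩ := B.exists_t
  -- an element over the central involution outside SL(2,3)
  set p := y' * y with hp
  have hpψ : B.D.ψ p = (1, (B.D.ψ y).2) := by
    rw [hp, map_mul, hy']; exact Prod.ext (inv_mul_cancel _) (one_mul _)
  obtain ⟨M, hM⟩ := B.norm_acts (B.norm_of_image (n := p)
    (by rw [B.central_image (.inl (by rw [hpψ]))]; exact mem_zpowers _))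
  obtain ⟨e, εq, e', εx, γ, α, β, rfl, hεq, hεx⟩ := B.shapes hM (.inl (by rw [hpψ]))
  have hout : ∀ r : B.D.Ct, (B.D.ψ r).2 ≠ 1 → (r : G) ∉ B.D.Q := fun r hr h => hr (by
    rw [(B.D.ψ_ker r).2 h]; rfl)
  obtain ⟨r, e, e', γ, α, β, hr, hrψ, hrk⟩ : ∃ (r : B.D.Ct) (e e' γ α β : ZMod 3),
      B.Acts r ((1, 0, 0, 0), (e, 1, 0, 0), (e', 0, 2, 0), (γ, α, β, 1)) ∧ (B.D.ψ r).2 ≠ 1 ∧
      ((B.D.ψ r).1 = 1 ∨ (B.D.ψ r).1 = -1) := by
    have h23 : ∀ a : ZMod 3, a ≠ 0 → a = 1 ∨ a = 2 := by decide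
    have hp2 : (B.D.ψ p).2 ≠ 1 := by rw [hpψ]; exact hy
    have hpt : B.D.ψ (p * τ) = (-1, (B.D.ψ y).2) := by
      rw [map_mul, hpψ, hτψ, Prod.mk_mul_mk, one_mul, mul_one]
    have hMt := B.acts_mul hM hτ
    obtain ⟨e1, εq1, e1', εx1, γ1, α1, β1, hM1, -, -⟩ := B.shapes (n := p * τ) hMt (.inr (by rw [hpt]))
    have hfin : εq1 = 2 * εq ∧ εx1 = εx := by
      have hq := congrArg (fun M : M4 => M.2.1.2.1) hM1
      have hx := congrArg (fun M : M4 => M.2.2.1.2.2.1) hM1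
      simp only [comp, app, mT] at hq hx
      simp only [mul_zero, zero_mul, add_zero, zero_add, one_mul] at hq hx
      exact ⟨hq.symm, hx.symm⟩
    rw [hM1] at hMt
    rcases h23 εq hεq with rfl | rfl <;> rcases h23 εx hεx with rfl | rfl
    · exact absurd (B.mem_Q_of_fix (.inl (by rw [hpψ])) hM rfl rfl) (hout p hp2)
    · exact ⟨p, e, e', γ, α, β, hM, hp2, .inl (by rw [hpψ])⟩
    · obtain ⟨rfl, rfl⟩ := hfin
      refine absurd (B.mem_Q_of_fix (.inr (by rw [hpt])) hMt ?_ rfl) (hout (p * τ) (by rw [hpt]; exact hy))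
      show (2 : ZMod 3) * 2 = 1
      decide
    · obtain ⟨rfl, rfl⟩ := hfin
      exact ⟨p * τ, e1, e1', γ1, α1, β1, by simpa [show (2 : ZMod 3) * 2 = 1 by decide] using hMt,
        by rw [hpt]; exact hy, .inr (by rw [hpt])⟩
  -- the relations
  have hrr : (r : G) * r ∈ B.D.Q := (B.D.ψ_ker (r * r)).1 (by
    rw [map_mul]
    refine Prod.ext ?_ (mul2_sq _)
    show (B.D.ψ r).1 * (B.D.ψ r).1 = 1
    rcases hrk with h | h <;> rw [h]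
    · exact one_mul 1
    · decide +kernel)
  obtain ⟨i, j, hrr', -⟩ := B.Q_acts hrr
  have c0 := B.acts_unique (B.acts_mul hr hr) hrr'
  have hsq : comp ((1, 0, 0, 0), (e, 1, 0, 0), (e', 0, 2, 0), (γ, α, β, 1))
      ((1, 0, 0, 0), (e, 1, 0, 0), (e', 0, 2, 0), (γ, α, β, 1)) = comp (powM mA i.val) (powM mB j.val) := c0
  have hra : (r : G) * B.a * (r : G)⁻¹ ∈ B.D.Q1 := B.D.conj_Q1 r.2 B.a_Q
  obtain ⟨ia, hia⟩ := B.Q1_form hra
  have c1 := B.acts_unique (B.acts_mul hr B.acts_a) (by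
    have h := B.acts_mul (B.acts_mul (B.acts_J (B.adj.J0_le_J hia)) (B.acts_pow B.acts_a ia.val)) hr
    rw [inv_mul_cancel_right, inv_mul_cancel_right] at h
    exact h)
  have hrb : (r : G) * B.b * (r : G)⁻¹ ∈ B.D.Q2 := B.D.conj_Q2 r.2 B.b_Q
  obtain ⟨jb, hjb⟩ := B.Q2_form hrb
  have c2 := B.acts_unique (B.acts_mul hr B.acts_b) (by
    have h := B.acts_mul (B.acts_mul (B.acts_J (B.adj.J0_le_J hjb)) (B.acts_pow B.acts_b jb.val)) hr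
    rw [inv_mul_cancel_right, inv_mul_cancel_right] at h
    exact h)
  obtain rfl := o_ia e e' γ α β ia c1
  obtain rfl := o_jb e e' γ α β jb c2
  obtain ⟨i', j', hij⟩ := o_fin e e' γ α β c1 c2 i j hsq
  have haQ := B.D.Q_le_Ct B.a_Q.1
  have hbQ := B.D.Q_le_Ct (B.D.Q2_le B.b_Q)
  have hk : B.D.ψ (r * (⟨B.a, haQ⟩ ^ i'.val * ⟨B.b, hbQ⟩ ^ j'.val)) = B.D.ψ r := by
    rw [map_mul, map_mul, map_pow, map_pow, (B.D.ψ_ker ⟨B.a, haQ⟩).2 B.a_Q.1,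
      (B.D.ψ_ker ⟨B.b, hbQ⟩).2 (B.D.Q2_le B.b_Q), one_pow, one_pow, one_mul, mul_one]
  exact ⟨r * (⟨B.a, haQ⟩ ^ i'.val * ⟨B.b, hbQ⟩ ^ j'.val),
    hij ▸ B.acts_mul hr (B.acts_mul (B.acts_pow B.acts_a _) (B.acts_pow B.acts_b _)), hk ▸ hrψ, hk ▸ hrk⟩

/-- The elements of the normalizer fixing the centre. -/
theorem stab {n : G} (hn : n ∈ B.D.Ct) (hN : B.Norm n) :
    ∃ (i j : Fin 3) (k l : Fin 2), B.Acts n (stM i.val j.val k.val l.val) ∧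
      ((∀ y : B.D.Ct, (B.D.ψ y).2 = 1) → l.val = 0) ∧
      (i.val = 0 → j.val = 0 → k.val = 0 → l.val = 0 → n ∈ B.D.J B.D') := by
  obtain ⟨m, hm3, hm1, hm⟩ := B.exists_m
  obtain ⟨⟨k0, e0⟩, hk0⟩ : ∃ u, B.D.ψ ⟨n, hn⟩ = u := ⟨_, rfl⟩
  obtain ⟨u, hu⟩ := B.el_surj (hN _ B.w_mem)
  have hconj : B.v ^ u.2.2.2.val = (k0 * m * k0⁻¹, 1) := by
    rw [← B.el_ψ, show (⟨B.el u, B.adj.J_le_Ct (B.el_mem u)⟩ : B.D.Ct) = ⟨n, hn⟩ * ⟨B.w, B.w_Ct⟩ * ⟨n, hn⟩⁻¹ from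
      Subtype.ext hu, map_mul, map_mul, map_inv, hk0, show B.D.ψ ⟨B.w, B.w_Ct⟩ = B.v from rfl, hm]
    exact Prod.ext rfl (by simp)
  rw [hm, Prod.pow_mk, Prod.mk.injEq] at hconj
  have hkm : k0 * m * k0⁻¹ = m ∨ k0 * m * k0⁻¹ = m * m := by
    have hlt := ZMod.val_lt u.2.2.2
    rcases (show u.2.2.2.val = 0 ∨ u.2.2.2.val = 1 ∨ u.2.2.2.val = 2 by omega) with e | e | e <;>
      rw [e] at hconj
    · exact absurd (conj_eq_one_iff.1 (by rw [← hconj.1, pow_zero])) hm1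
    · exact .inl (by rw [← hconj.1, pow_one])
    · exact .inr (by rw [← hconj.1, pow_two])
  obtain ⟨s, hs⟩ := sl_norm_three m hm3 hm1 k0 hkm
  -- remove the power of the last basis element
  set n1 : B.D.Ct := ⟨n, hn⟩ * (⟨B.w, B.w_Ct⟩ ^ s.val)⁻¹ with hn1
  have hn1ψ : B.D.ψ n1 = (k0 * (m ^ s.val)⁻¹, e0) := by
    rw [hn1, map_mul, map_inv, map_pow, hk0, show B.D.ψ ⟨B.w, B.w_Ct⟩ = B.v from rfl, hm, Prod.pow_mk, one_pow]
    exact Prod.ext rfl (by simp)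
  have hwJ : B.Acts (B.w ^ s.val) idM := B.acts_J (pow_mem B.w_mem _)
  obtain ⟨τ, hτ, hτψ⟩ := B.exists_t
  have fin : ∀ (o : B.D.Ct) (O : M4) (l : Fin 2), B.Acts o O → O = powM mO l.val →
      (B.D.ψ (n1 * o)).2 = 1 → ((B.D.ψ (n1 * o)).1 = 1 ∨ (B.D.ψ (n1 * o)).1 = -1) →
      ((∀ y : B.D.Ct, (B.D.ψ y).2 = 1) → l.val = 0) →
      (l.val = 0 → o = 1) →
      ∃ (i j : Fin 3) (k l : Fin 2), B.Acts n (stM i.val j.val k.val l.val) ∧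
        ((∀ y : B.D.Ct, (B.D.ψ y).2 = 1) → l.val = 0) ∧
        (i.val = 0 → j.val = 0 → k.val = 0 → l.val = 0 → n ∈ B.D.J B.D') := by
    intro o O l ho hO h2 h1 hl hl0
    obtain ⟨k, hkψ⟩ : ∃ k : Fin 2, B.D.ψ (n1 * o * τ ^ k.val) = 1 := by
      rcases h1 with h1 | h1
      · exact ⟨0, by rw [show (0 : Fin 2).val = 0 from rfl, pow_zero, mul_one]; exact Prod.ext h1 h2⟩
      · refine ⟨1, ?_⟩
        rw [show (1 : Fin 2).val = 1 from rfl, pow_one, map_mul, hτψ]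
        refine Prod.ext ?_ ?_
        · show (B.D.ψ (n1 * o)).1 * -1 = 1
          rw [h1]; decide +kernel
        · show (B.D.ψ (n1 * o)).2 * 1 = 1
          rw [h2, one_mul]
    have hgQ := (B.D.ψ_ker _).1 hkψ
    obtain ⟨i, j, hij, hJ0⟩ := B.Q_acts hgQ
    simp only [hn1, coe_mul, coe_inv, SubgroupClass.coe_pow] at hgQ hij hJ0
    refine ⟨i, j, k, l, ?_, hl, fun h0 h0' h0'' h0''' => ?_⟩
    · have hinv1 : comp mT mT = idM ∧ comp mO mO = idM := by decide +kernel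
      have hko : ∀ k : Fin 2, comp (powM mT k.val) (powM mT k.val) = idM ∧
          comp (powM mO k.val) (powM mO k.val) = idM := by decide +kernel
      have hτk := B.acts_pow hτ k.val
      rw [hO] at ho
      -- the inverses act by the same matrices
      have hτ' : B.Acts ((τ : G) ^ k.val)⁻¹ (powM mT k.val) := fun v => by
        have := hτk (app (powM mT k.val) v)
        rw [← app_comp, (hko k).1, app_idM] at this
        rw [← this]; group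
      have ho' : B.Acts ((o : G))⁻¹ (powM mO l.val) := fun v => by
        have := ho (app (powM mO l.val) v)
        rw [← app_comp, (hko l).2, app_idM] at this
        rw [← this]; group
      have h := B.acts_mul (B.acts_mul (B.acts_mul hij hτ') ho') hwJ
      rw [show n * (B.w ^ s.val)⁻¹ * (o : G) * (τ : G) ^ k.val * ((τ : G) ^ k.val)⁻¹ * (o : G)⁻¹ * B.w ^ s.val = n
        by group] at h
      rw [show stM i.val j.val k.val l.val = comp (comp (comp (comp (powM mA i.val) (powM mB j.val))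
        (powM mT k.val)) (powM mO l.val)) idM from by simp only [stM, comp, app_basis, idM]]
      exact h
    · simp only [h0, h0', h0'', pow_zero, mul_one, inv_one, hl0 h0''', OneMemClass.coe_one] at hJ0
      have := mul_mem (B.adj.J0_le_J hJ0) (pow_mem B.w_mem s.val)
      rwa [inv_mul_cancel_right] at this
  by_cases he : e0 = 1
  · refine fin 1 idM 0 B.acts_one rfl ?_ ?_ (fun _ => rfl) (fun _ => rfl) <;> rw [mul_one, hn1ψ]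
    · exact he
    · exact hs
  · obtain ⟨o, ho, ho2, ho1⟩ := B.exists_o ⟨n1, by rw [hn1ψ]; exact he⟩
    refine fin o mO 1 ho (by decide +kernel) ?_ ?_ (fun h => absurd (h o) ho2) (fun h => absurd h (by simp))
    · rw [map_mul, hn1ψ]
      show e0 * (B.D.ψ o).2 = 1
      have : ∀ a b : Multiplicative (ZMod 2), a ≠ 1 → b ≠ 1 → a * b = 1 := by decide
      exact this _ _ he ho2
    · rw [map_mul, hn1ψ]
      show k0 * (m ^ s.val)⁻¹ * (B.D.ψ o).1 = 1 ∨ k0 * (m ^ s.val)⁻¹ * (B.D.ψ o).1 = -1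
      have hneg : (-1 : SL23) * -1 = 1 := by decide +kernel
      rcases hs with h | h <;> rcases ho1 with h' | h' <;> rw [h, h']
      exacts [.inl (one_mul 1), .inr (one_mul _), .inr (mul_one _), .inl hneg]

/-- `J` is its own centralizer. -/
theorem cent_J {n : G} (hn : ∀ a ∈ B.D.J B.D', n * a = a * n) : n ∈ B.D.J B.D' := by
  have hA : B.Acts n idM := fun v => by rw [app_idM, hn _ (B.el_mem v), mul_inv_cancel_right]
  obtain ⟨i, j, k, l, hM, -, hJ⟩ := B.stab (B.D.mem_Ct.2 (hn _ B.z_J)) (B.acts_norm hA)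
  obtain ⟨h1, h2, h3, h4⟩ := stab_idM i j k l (B.acts_unique hM hA)
  exact hJ h1 h2 h3 h4

end Basis

end CfsgLib.O8T
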