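import Cfsg.Agent.Lib.OEightPlusThree.Classes

/-!
Coordinates on the quotient of `W` by the reflection: each component is trivial or one of the three translates of
the component of `x₀`.
-/

set_option autoImplicit false
set_option synthInstance.maxSize 4096
set_option maxRecDepth 8000

namespace CfsgLib.O8T

open Subgroup

universe u

/-- The coordinate of a translation on the component with the given index. -/
def Lk (k : Fin 4) (δ : V4) : ZMod 3 := (app fromP (app (vM k) δ)).2.2.2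

/-- A translation acting as a generator on the component with the given index. -/
def uv : Fin 4 → V4 := ![(0, 0, 2, 0), (0, 0, 1, 0), (0, 0, 0, 1), (0, 0, 0, 2)]

/-- The digit of a state. -/
def dg (s : Fin 256) (k : Fin 4) : Fin 4 := ⟨s.val / 4 ^ k.val % 4, Nat.mod_lt _ (by norm_num)⟩

/-- The state with given digits. -/
def mk4 (a b c d : Fin 4) : Fin 256 := ⟨a.val + 4 * b.val + 16 * c.val + 64 * d.val, by omega⟩

/-- The product of two digits. -/
def dx (a b : Fin 4) : Fin 4 := ⟨(a.val ^^^ b.val) % 4, Nat.mod_lt _ (by norm_num)⟩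

/-- The product of two states. -/
def sx (s r : Fin 256) : Fin 256 := ⟨(s.val ^^^ r.val) % 256, Nat.mod_lt _ (by norm_num)⟩

/-- The vector carrying the component of `x₀` to the given digit. -/
def dv (k : Fin 4) (a : Fin 4) : V4 := (a.val - 1) • uv k

/-- The digit reached by a vector. -/
def dof (l : ZMod 3) : Fin 4 := ⟨1 + l.val % 3, by omega⟩

/-- A translation acting on a digit. -/
def tD (k : Fin 4) (δ : V4) (a : Fin 4) : Fin 4 := if a = 0 then 0 else dof (Lk k (δ + dv k a))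

/-- A translation acting on a state. -/
def tr (δ : V4) (s : Fin 256) : Fin 256 :=
  mk4 (tD 0 δ (dg s 0)) (tD 1 δ (dg s 1)) (tD 2 δ (dg s 2)) (tD 3 δ (dg s 3))

/-- A matrix with its permutation acting on the digit of the given index. -/
def gD (M : M4) (π : Fin 4 → Fin 4) (k : Fin 4) (a : Fin 4) : Fin 4 :=
  if a = 0 then 0 else dof (Lk (π k) (app M (dv k a)))

/-- A matrix with its permutation acting on a state. -/
def gs (M : M4) (π : Fin 4 → Fin 4) (s : Fin 256) : Fin 256 :=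
  mk4 (((List.finRange 4).find? fun k => π k == 0).elim 0 fun k => gD M π k (dg s k))
    (((List.finRange 4).find? fun k => π k == 1).elim 0 fun k => gD M π k (dg s k))
    (((List.finRange 4).find? fun k => π k == 2).elim 0 fun k => gD M π k (dg s k))
    (((List.finRange 4).find? fun k => π k == 3).elim 0 fun k => gD M π k (dg s k))

/-- The number of non-trivial components. -/
def swt (s : Fin 256) : ℕ := ((List.finRange 4).map fun k => if dg s k = 0 then 0 else 1).sum

theorem state_facts : (∀ a b c d : Fin 4, dg (mk4 a b c d) 0 = a ∧ dg (mk4 a b c d) 1 = b ∧ dg (mk4 a b c d) 2 = c ∧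
      dg (mk4 a b c d) 3 = d) ∧
    (∀ s : Fin 256, mk4 (dg s 0) (dg s 1) (dg s 2) (dg s 3) = s) ∧
    (∀ k, app pT (uv k) = uv k) ∧
    (∀ k : Fin 4, ∀ v : V4, app pT v = v → InPlane k (v - dv k (dof (Lk k v)))) ∧
    (∀ k : Fin 4, ∀ a b : Fin 4, a ≠ 0 → b ≠ 0 → a ≠ b → ¬ InPlane k (dv k a - dv k b)) ∧
    (∀ a : Fin 4, dx a 0 = a ∧ dx 0 a = a ∧ dx a a = 0) ∧
    (∀ a b c : Fin 4, a ≠ 0 → b ≠ 0 → a ≠ b → c ≠ 0 → c ≠ a → c ≠ b → dx a b = c) ∧
    (∀ l, dof l ≠ 0) ∧ (∀ k, ¬ InPlane k (uv k)) ∧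
    (∀ k v, app (vM k) (dv k v) = (v.val - 1) • app (vM k) (uv k)) := by decide +kernel

theorem dg_sx : ∀ k : Fin 4, ∀ s r : Fin 256, dg (sx s r) k = dx (dg s k) (dg r k) := by
  intro k s r
  have key : ∀ a b n : ℕ, n ≤ 6 → (a ^^^ b) % 2 ^ 8 / 2 ^ n % 2 ^ 2 =
      (a / 2 ^ n % 2 ^ 2 ^^^ b / 2 ^ n % 2 ^ 2) % 2 ^ 2 := fun a b n hn => by
    apply Nat.eq_of_testBit_eq
    intro i
    simp only [Nat.testBit_mod_two_pow, Nat.testBit_div_two_pow, Nat.testBit_xor]
    by_cases hi : i < 2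
    · simp [hi, show i + n < 8 by omega]
    · simp [hi]
  have := key s.val r.val (2 * k.val) (by omega)
  apply Fin.ext
  simp only [dg, sx, dx]
  rw [show (4 : ℕ) ^ k.val = 2 ^ (2 * k.val) by rw [pow_mul]; norm_num]
  exact this

theorem dv_fix : ∀ k a : Fin 4, app pT (dv k a) = dv k a := by decide +kernel

variable {G : Type u} [Group G]

namespace Frame

variable [Finite G] (F : Frame G)

/-- Equality up to the reflection. -/
def Sim (a b : G) : Prop := a = b ∨ a = b * F.nT

theorem Sim.refl (a : G) : F.Sim a a := .inl rfl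

theorem sim_of_triv {a b : G} (h : F.Triv (a * b⁻¹)) (hb : Commute b F.nT) : F.Sim a b := by
  rcases h with h | h
  · exact .inl (mul_inv_eq_one.1 h)
  · exact .inr (by rw [mul_inv_eq_iff_eq_mul.1 h, hb.eq])

theorem Sim.triv {a b : G} (h : F.Sim a b) (hb : Commute b F.nT) : F.Triv (a * b⁻¹) := by
  rcases h with rfl | rfl
  · exact .inl (mul_inv_cancel _)
  · exact .inr (by rw [hb.eq, mul_inv_cancel_right])

theorem Sim.symm {a b : G} (h : F.Sim a b) : F.Sim b a := by
  rcases h with rfl | rfl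
  · exact .inl rfl
  · exact .inr (by rw [mul_assoc, F.nT_sq, mul_one])

theorem Sim.trans {a b c : G} (h : F.Sim a b) (h' : F.Sim b c) : F.Sim a c := by
  rcases h with rfl | rfl <;> rcases h' with rfl | rfl
  · exact .inl rfl
  · exact .inr rfl
  · exact .inr rfl
  · exact .inl (by rw [mul_assoc, F.nT_sq, mul_one])

theorem Sim.mul {a b c d : G} (h : F.Sim a b) (h' : F.Sim c d) (hd : Commute d F.nT) :
    F.Sim (a * c) (b * d) := by
  rcases h with rfl | rfl <;> rcases h' with rfl | rfl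
  · exact .inl rfl
  · exact .inr (mul_assoc _ _ _).symm
  · exact .inr (by rw [mul_assoc, ← hd.eq, mul_assoc])
  · exact .inl (by rw [mul_assoc, ← mul_assoc F.nT, ← hd.eq, mul_assoc d, F.nT_sq, mul_one])

theorem Sim.conj {a b g : G} (h : F.Sim a b) (hg : Commute g F.nT) : F.Sim (g * a * g⁻¹) (g * b * g⁻¹) := by
  rcases h with rfl | rfl
  · exact .inl rfl
  · refine .inr ?_
    calc g * (b * F.nT) * g⁻¹ = g * b * (F.nT * g⁻¹) := by group
      _ = g * b * g⁻¹ * F.nT := by rw [← hg.inv_left.eq]; group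

/-- The representative of a digit. -/
noncomputable def rep (k : Fin 4) (a : Fin 4) : G :=
  if a = 0 then 1 else F.e (dv k a) * F.xf k * (F.e (dv k a))⁻¹

theorem rep_mem (k a : Fin 4) : F.rep k a ∈ F.Qk k := by
  rw [rep]; split
  · exact one_mem _
  · exact F.Qk_conj (F.xf_comp k) (dv_fix k a)

theorem rep_sq {k a : Fin 4} (h : a ≠ 0) : F.rep k a * F.rep k a = F.nT := by
  rw [rep, if_neg h]
  exact F.Quat_e_sq (F.xf_sq k) (dv_fix k a)

theorem rep_conj_plane {k : Fin 4} {v w : V4} (h : InPlane k (v - w)) :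
    F.e v * F.xf k * (F.e v)⁻¹ = F.e w * F.xf k * (F.e w)⁻¹ := by
  rw [show v = w + (v - w) by abel, F.e_add]
  have := F.Qk_fix (F.xf_comp k) h
  calc F.e w * F.e (v - w) * F.xf k * (F.e w * F.e (v - w))⁻¹ =
      F.e w * (F.e (v - w) * F.xf k * (F.e (v - w))⁻¹) * (F.e w)⁻¹ := by group
    _ = _ := by rw [← this.eq, mul_inv_cancel_right]

theorem rep_tD (k a : Fin 4) {δ : V4} (hδ : app pT δ = δ) :
    F.e δ * F.rep k a * (F.e δ)⁻¹ = F.rep k (tD k δ a) := by
  by_cases h : a = 0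
  · subst h
    rw [tD, if_pos rfl, rep, if_pos rfl, mul_one, mul_inv_cancel]
  · rw [tD, if_neg h, rep, if_neg h, rep, if_neg (state_facts.2.2.2.2.2.2.2.1 _)]
    rw [show F.e δ * (F.e (dv k a) * F.xf k * (F.e (dv k a))⁻¹) * (F.e δ)⁻¹ =
      F.e δ * F.e (dv k a) * F.xf k * (F.e δ * F.e (dv k a))⁻¹ by group, ← F.e_add]
    refine F.rep_conj_plane (state_facts.2.2.2.1 k _ ?_)
    rw [app_add, hδ, dv_fix]

theorem rep_ne {k a b : Fin 4} (h : F.Sim (F.rep k a) (F.rep k b)) : a = b := by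
  have hT : ∀ {c : Fin 4}, c ≠ 0 → ¬ F.Triv (F.rep k c) := fun hc ht => by
    have := F.eq_of_triv_sq ht
    rw [F.rep_sq hc] at this
    exact F.nT_ne this
  by_contra hab
  by_cases ha : a = 0
  · subst ha
    rw [rep, if_pos rfl] at h
    refine hT (Ne.symm hab) ?_
    rcases h with h | h
    · exact .inl h.symm
    · exact .inr (by rw [eq_comm, mul_eq_one_iff_eq_inv] at h; rwa [F.nT_inv] at h)
  by_cases hb : b = 0
  · subst hb
    refine hT ha ?_
    rw [show F.rep k 0 = 1 from if_pos rfl] at h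
    rcases h with h | h
    · exact .inl h
    · exact .inr (by rwa [one_mul] at h)
  rw [rep, if_neg ha, rep, if_neg hb] at h
  obtain ⟨d, hd⟩ : ∃ d, d = dv k a - dv k b := ⟨_, rfl⟩
  have hfix : app pT d = d := by
    have key : ∀ k a b : Fin 4, app pT (dv k a - dv k b) = dv k a - dv k b := by decide +kernel
    exact hd ▸ key k a b
  have hn : ¬ InPlane k d := hd ▸ state_facts.2.2.2.2.1 k a b ha hb hab
  have h2 := Sim.conj F h (show Commute (F.e (dv k b))⁻¹ F.nT from
    (show Commute F.nT (F.e (dv k b)) from F.nT_fix (dv_fix k b)).symm.inv_left)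
  rw [show dv k a = dv k b + d by rw [hd]; abel, F.e_add,
    show (F.e (dv k b))⁻¹ * (F.e (dv k b) * F.e d * F.xf k * (F.e (dv k b) * F.e d)⁻¹) * (F.e (dv k b))⁻¹⁻¹ =
      F.e d * F.xf k * (F.e d)⁻¹ by group,
    show (F.e (dv k b))⁻¹ * (F.e (dv k b) * F.xf k * (F.e (dv k b))⁻¹) * (F.e (dv k b))⁻¹⁻¹ = F.xf k by group] at h2
  exact F.xf_not_triv k (F.Qk_fpf (F.xf_comp k) hfix hn h2)

theorem rep_exists {k : Fin 4} {q : G} (hq : q ∈ F.Qk k) : ∃ a, F.Sim q (F.rep k a) := by
  have hv : app pT (app (vM k) (uv k)) = app (vM k) (uv k) := by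
    rw [← app_comp, ← (vM_facts.1 k).2.1, app_comp, state_facts.2.2.1]
  have hn : ¬ InPlane 0 (app (vM k) (uv k)) := by
    have key : ∀ k : Fin 4, ¬ InPlane 0 (app (vM k) (uv k)) := by decide +kernel
    exact key k
  obtain ⟨g, hg, rfl⟩ := F.exists_cQ hq
  obtain ⟨a, ha, hxf⟩ := F.exists_cQ (F.xf_comp k)
  have ha2 : a * a = F.nT := (F.cQ k).injective (by rw [map_mul, ← hxf, F.xf_sq, F.cQ_nT])
  have hc : ∀ i : ℕ, F.cQ k (F.e (i • app (vM k) (uv k)) * a * (F.e (i • app (vM k) (uv k)))⁻¹) =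
      F.e (i • uv k) * F.xf k * (F.e (i • uv k))⁻¹ := fun i => by
    have h1 : F.cQ k (F.e (i • app (vM k) (uv k))) = F.e (i • uv k) := by
      show F.vN k * F.e _ * (F.vN k)⁻¹ = _
      rw [(F.vN_lift k).1]
      have key : ∀ k : Fin 4, ∀ i : Fin 3, app (vM k) (i.val • app (vM k) (uv k)) = i.val • uv k := by decide +kernel
      have hm : ∀ v : V4, (i % 3) • v = i • v := fun v => by
        conv_rhs => rw [← Nat.div_add_mod i 3, add_smul, mul_smul, show (3 : ℕ) • ((i / 3) • v) = 0 from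
          (by rw [← mul_smul]; obtain ⟨a, b, c, d⟩ := v; simp [ZMod.natCast_self, show (3 : ZMod 3) = 0 from rfl]), zero_add]
      have := key k ⟨i % 3, Nat.mod_lt _ (by norm_num)⟩
      simp only at this
      rw [hm, hm] at this
      rw [this]
    rw [map_mul, map_mul, map_inv, h1, ← hxf]
  have sim : ∀ y, F.Triv (g * y⁻¹) → y ∈ F.Quat → F.Sim (F.cQ k g) (F.cQ k y) := fun y h hy => by
    rcases F.sim_of_triv h hy.2.2.2 with e | e
    · exact .inl (congrArg _ e)
    · exact .inr (by rw [e, map_mul, F.cQ_nT])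
  rcases F.Quat_classes hv hn ha ha2 hg with h | h | h | h
  · refine ⟨0, ?_⟩
    rw [show F.rep k 0 = 1 from if_pos rfl]
    rcases h with rfl | rfl
    · exact .inl (map_one _)
    · exact .inr (by rw [F.cQ_nT, one_mul])
  · refine ⟨1, ?_⟩
    rw [rep, if_neg (by decide)]
    have e := hc 0
    rw [zero_smul, F.e_zero, inv_one, one_mul, mul_one] at e
    rw [dv, show ((1 : Fin 4) : ℕ) - 1 = 0 from rfl, ← hc 0, zero_smul, F.e_zero, inv_one, one_mul, mul_one]
    exact sim _ h ha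
  · refine ⟨2, ?_⟩
    rw [rep, if_neg (by decide), dv, show ((2 : Fin 4) : ℕ) - 1 = 1 from rfl, ← hc 1, one_smul]
    exact sim _ h (F.Quat_e ha hv)
  · refine ⟨3, ?_⟩
    rw [rep, if_neg (by decide), dv, show ((3 : Fin 4) : ℕ) - 1 = 2 from rfl, ← hc 2, two_nsmul, F.e_add]
    have e : F.e (app (vM k) (uv k)) * (F.e (app (vM k) (uv k)) * a * (F.e (app (vM k) (uv k)))⁻¹) *
        (F.e (app (vM k) (uv k)))⁻¹ = F.e (app (vM k) (uv k)) * F.e (app (vM k) (uv k)) * a *
          (F.e (app (vM k) (uv k)) * F.e (app (vM k) (uv k)))⁻¹ := by group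
    rw [← e]
    exact sim _ h (F.Quat_e (F.Quat_e ha hv) hv)

theorem rep_mul (k a b : Fin 4) : F.Sim (F.rep k a * F.rep k b) (F.rep k (dx a b)) := by
  obtain ⟨c, hc⟩ := F.rep_exists (mul_mem (F.rep_mem k a) (F.rep_mem k b))
  obtain ⟨-, -, -, -, -, hx0, hx, -⟩ := state_facts
  have hT : ∀ a, Commute (F.rep k a) F.nT := fun a => F.Qk_nT (F.rep_mem k a)
  suffices c = dx a b from this ▸ hc
  by_cases ha : a = 0
  · subst ha
    rw [(hx0 b).2.1]
    rw [show F.rep k 0 = 1 from if_pos rfl, one_mul] at hc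
    exact (F.rep_ne hc).symm
  by_cases hb : b = 0
  · subst hb
    rw [(hx0 a).1]
    rw [show F.rep k 0 = 1 from if_pos rfl, mul_one] at hc
    exact (F.rep_ne hc).symm
  by_cases hab : a = b
  · subst hab
    rw [(hx0 a).2.2]
    rw [F.rep_sq ha] at hc
    refine (F.rep_ne (Sim.trans F ?_ hc)).symm
    rw [show F.rep k 0 = 1 from if_pos rfl]
    exact .inr (by rw [F.nT_sq])
  refine (hx a b c ha hb hab ?_ ?_ ?_).symm
  · rintro rfl
    refine hab (F.rep_ne (k := k) ?_)
    have h2 := Sim.mul F hc (Sim.refl F (F.rep k b)) (hT b)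
    rw [mul_assoc, F.rep_sq hb, show F.rep k 0 = 1 from if_pos rfl, one_mul] at h2
    exact Sim.trans F (Sim.symm F (.inr rfl)) h2
  · rintro rfl
    refine hb (F.rep_ne (k := k) ?_)
    have h2 := Sim.mul F (Sim.refl F (F.rep k c)) hc (hT c)
    rw [← mul_assoc, F.rep_sq ha] at h2
    rw [show F.rep k 0 = 1 from if_pos rfl]
    rcases h2 with h2 | h2
    · exact .inl (mul_left_cancel (h2.trans (mul_one _).symm))
    · exact .inr (by rw [one_mul]; exact mul_left_cancel h2)
  · rintro rfl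
    refine ha (F.rep_ne (k := k) ?_)
    rw [show F.rep k 0 = 1 from if_pos rfl]
    rcases hc with h | h
    · exact .inl (mul_eq_right.1 h)
    · refine .inr ?_
      rw [one_mul]
      have := h.trans (hT c).eq
      exact mul_right_cancel this

end Frame

end CfsgLib.O8T
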