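import Cfsg.Agent.Lib.OEightPlusThree.States

/-!
The states of the elements of `W`.
-/

set_option autoImplicit false
set_option synthInstance.maxSize 4096
set_option maxRecDepth 8000

namespace CfsgLib.O8T

open Subgroup

universe u

theorem mk4_dg (f : Fin 4 → Fin 4) : ∀ k, dg (mk4 (f 0) (f 1) (f 2) (f 3)) k = f k := by
  intro k
  obtain ⟨h0, h1, h2, h3⟩ := state_facts.1 (f 0) (f 1) (f 2) (f 3)
  fin_cases k
  exacts [h0, h1, h2, h3]

theorem dg_tr (δ : V4) (s : Fin 256) (k : Fin 4) : dg (tr δ s) k = tD k δ (dg s k) :=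
  mk4_dg (fun k => tD k δ (dg s k)) k

theorem dg_gs (M : M4) (π : Equiv.Perm (Fin 4)) (s : Fin 256) (k : Fin 4) :
    dg (gs M π s) (π k) = gD M π k (dg s k) := by
  have h : ∀ (π : Equiv.Perm (Fin 4)) (k : Fin 4), (List.finRange 4).find? (fun j => π j == π k) = some k := by
    decide +kernel
  have e := mk4_dg (fun l => ((List.finRange 4).find? fun j => π j == l).elim 0 fun j => gD M π j (dg s j)) (π k)
  rw [gs, e, h]
  rfl

theorem dg_ext {s r : Fin 256} (h : ∀ k, dg s k = dg r k) : s = r := by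
  rw [← state_facts.2.1 s, ← state_facts.2.1 r, h, h, h, h]

theorem dg_zero : ∀ k, dg 0 k = 0 := by decide +kernel

variable {G : Type u} [Group G]

/-- A family whose product is that of the permuted family. -/
theorem wp_four (π : Equiv.Perm (Fin 4)) (f : Fin 4 → G) :
    (Pi.mulSingle (π 0) (f 0) * Pi.mulSingle (π 1) (f 1) * Pi.mulSingle (π 2) (f 2) * Pi.mulSingle (π 3) (f 3) :
      Fin 4 → G) = fun l => f (π.symm l) := by
  funext l
  obtain ⟨k, rfl⟩ := π.surjective l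
  have hne : ∀ j, j ≠ k → π k ≠ π j := fun j h e => h (π.injective e).symm
  simp only [Pi.mul_apply, Equiv.symm_apply_apply]
  fin_cases k <;> simp_all [Pi.mulSingle_apply]

namespace Frame

variable [Finite G] (F : Frame G)

/-- An element of `W` with the given state. -/
def Is (w : G) (s : Fin 256) : Prop :=
  ∃ f, F.Comp f ∧ w = wp f ∧ ∀ k, F.Sim (f k) (F.rep k (dg s k))

theorem Is.mem {w : G} {s : Fin 256} (h : F.Is w s) : w ∈ F.W := by
  obtain ⟨f, hf, rfl, -⟩ := h; exact ⟨f, hf, rfl⟩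

theorem is_exists {w : G} (hw : w ∈ F.W) : ∃ s, F.Is w s := by
  obtain ⟨f, hf, rfl⟩ := hw
  choose a ha using fun k => F.rep_exists (hf k)
  exact ⟨mk4 (a 0) (a 1) (a 2) (a 3), f, hf, rfl, fun k => by rw [mk4_dg]; exact ha k⟩

theorem rep_nT (k a : Fin 4) : Commute (F.rep k a) F.nT := F.Qk_nT (F.rep_mem k a)

theorem sim_wp {f g : Fin 4 → G} (hf : F.Comp f) (hg : F.Comp g) (h : ∀ k, F.Sim (f k) (g k)) :
    F.Sim (wp f) (wp g) := by
  have n : ∀ k, Commute (g k) F.nT := fun k => F.Qk_nT (hg k)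
  exact Sim.mul F (Sim.mul F (Sim.mul F (h 0) (h 1) (n 1)) (h 2) (n 2)) (h 3) (n 3)

theorem Is.sim {w w' : G} {s : Fin 256} (h : F.Is w s) (h' : F.Is w' s) : F.Sim w w' := by
  obtain ⟨f, hf, rfl, hs⟩ := h
  obtain ⟨g, hg, rfl, hs'⟩ := h'
  exact F.sim_wp hf hg fun k => Sim.trans F (hs k) (Sim.symm F (hs' k))

theorem Is.unique {w w' : G} {s s' : Fin 256} (h : F.Is w s) (h' : F.Is w' s') (e : F.Sim w w') : s = s' := by
  obtain ⟨f, hf, rfl, hs⟩ := h
  obtain ⟨g, hg, rfl, hs'⟩ := h'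
  refine dg_ext fun k => F.rep_ne (k := k) ?_
  have h1 := F.indep' hf hg (Sim.triv F e (F.W_nT ⟨g, hg, rfl⟩)) k
  exact Sim.trans F (Sim.symm F (hs k)) (Sim.trans F (F.sim_of_triv h1 (F.Qk_nT (hg k))) (hs' k))

theorem is_nT : F.Is F.nT 0 := ⟨Pi.mulSingle 0 F.nT, F.comp_single (F.nT_Qk 0), (wp_single 0 _).symm, fun k => by
  rw [dg_zero, show F.rep k 0 = 1 from if_pos rfl]
  by_cases h : k = 0
  · subst h; rw [Pi.mulSingle_eq_same]; exact .inr (one_mul _).symm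
  · rw [Pi.mulSingle_eq_of_ne h]; exact .inl rfl⟩

theorem is_one : F.Is 1 0 := ⟨1, fun _ => one_mem _, wp_one.symm, fun k => by
  rw [dg_zero, show F.rep k 0 = 1 from if_pos rfl]; exact .inl rfl⟩

theorem Is.mul {v w : G} {r s : Fin 256} (h : F.Is v r) (h' : F.Is w s) : F.Is (v * w) (sx r s) := by
  obtain ⟨f, hf, rfl, hs⟩ := h
  obtain ⟨g, hg, rfl, hs'⟩ := h'
  refine ⟨_, Comp.mul F hf hg, (F.wp_mul hf hg).symm, fun k => ?_⟩
  rw [dg_sx, Pi.mul_apply]
  exact Sim.trans F (Sim.mul F (hs k) (hs' k) (F.rep_nT _ _)) (F.rep_mul _ _ _)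

theorem Is.of_sim {v w : G} {s : Fin 256} (h : F.Is w s) (e : F.Sim v w) : F.Is v s := by
  rcases e with rfl | rfl
  · exact h
  · have := Is.mul F h F.is_nT
    have key : ∀ s : Fin 256, sx s 0 = s := by decide +kernel
    rwa [key] at this

theorem Is.conj_e {w : G} {s : Fin 256} (h : F.Is w s) {δ : V4} (hδ : app pT δ = δ) :
    F.Is (F.e δ * w * (F.e δ)⁻¹) (tr δ s) := by
  obtain ⟨f, hf, rfl, hs⟩ := h
  obtain ⟨hc, e⟩ := F.W_conj_e hf hδ
  refine ⟨_, hc, e, fun k => ?_⟩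
  rw [dg_tr, ← F.rep_tD k _ hδ]
  exact Sim.conj F (hs k) (show Commute F.nT (F.e δ) from F.nT_fix hδ).symm

theorem perm_img {n : G} {M : M4} (hn : F.Lift n M) (π : Equiv.Perm (Fin 4))
    (hπ : ∀ k, PlaneFix (comp (vM (π k)) (comp M (vM k)))) {f : Fin 4 → G} (hf : F.Comp f) :
    F.Comp (fun l => n * f (π.symm l) * n⁻¹) ∧ n * wp f * n⁻¹ = wp (fun l => n * f (π.symm l) * n⁻¹) := by
  have hm : ∀ k, n * f k * n⁻¹ ∈ F.Qk (π k) := fun k => (F.Qk_lift hn (hπ k)).le ⟨f k, hf k, rfl⟩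
  refine ⟨fun l => by simpa using hm (π.symm l), ?_⟩
  have hs : ∀ k, F.Comp (Pi.mulSingle (π k) (n * f k * n⁻¹)) := fun k => F.comp_single (hm k)
  rw [← wp_four π (fun k => n * f k * n⁻¹)]
  rw [F.wp_mul (Comp.mul F (Comp.mul F (hs 0) (hs 1)) (hs 2)) (hs 3),
    F.wp_mul (Comp.mul F (hs 0) (hs 1)) (hs 2), F.wp_mul (hs 0) (hs 1), wp_single, wp_single, wp_single, wp_single]
  simp only [wp]; group

theorem Is.conj_lift {w : G} {s : Fin 256} (h : F.Is w s) {n : G} {M : M4} (hn : F.Lift n M)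
    (hx : n * F.x0 * n⁻¹ = F.x0) (hT : comp M pT = comp pT M) (π : Equiv.Perm (Fin 4))
    (hπ : ∀ k, PlaneFix (comp (vM (π k)) (comp M (vM k)))) : F.Is (n * w * n⁻¹) (gs M π s) := by
  have hnT : Commute n F.nT := F.lift_nT_comm hn hT
  obtain ⟨hcx, ex⟩ := F.perm_img hn π hπ F.xf_comp
  have hxf : ∀ k, F.Sim (n * F.xf k * n⁻¹) (F.xf (π k)) := fun k => by
    have e : wp F.xf = F.x0 * F.nT := by rw [x0, mul_assoc, F.nT_sq, mul_one]
    have e2 : wp (fun l => n * F.xf (π.symm l) * n⁻¹) = wp F.xf := by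
      rw [← ex, e]
      calc n * (F.x0 * F.nT) * n⁻¹ = n * F.x0 * n⁻¹ * (n * F.nT * n⁻¹) := by group
        _ = _ := by rw [hx, hnT.eq, mul_inv_cancel_right]
    have := F.indep' hcx F.xf_comp (.inl (by rw [e2, mul_inv_cancel])) (π k)
    simp only [Equiv.symm_apply_apply] at this
    exact F.sim_of_triv this (F.Qk_nT (F.xf_comp _))
  obtain ⟨f, hf, rfl, hs⟩ := h
  obtain ⟨hc, e⟩ := F.perm_img hn π hπ hf
  refine ⟨_, hc, e, fun l => ?_⟩
  obtain ⟨k, rfl⟩ := π.surjective l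
  rw [Equiv.symm_apply_apply, dg_gs]
  refine Sim.trans F (Sim.conj F (hs k) hnT) ?_
  by_cases ha : dg s k = 0
  · rw [gD, if_pos ha, ha, show F.rep k 0 = 1 from if_pos rfl, show F.rep (π k) 0 = 1 from if_pos rfl,
      mul_one, mul_inv_cancel]
    exact Sim.refl F 1
  · rw [gD, if_neg ha, rep, if_neg ha, rep, if_neg (state_facts.2.2.2.2.2.2.2.1 _)]
    set v := dv k (dg s k)
    have hv : app pT v = v := dv_fix _ _
    have hMv : app pT (app M v) = app M v := by rw [← app_comp, ← hT, app_comp, hv]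
    rw [show n * (F.e v * F.xf k * (F.e v)⁻¹) * n⁻¹ =
      (n * F.e v * n⁻¹) * (n * F.xf k * n⁻¹) * (n * F.e v * n⁻¹)⁻¹ by group, hn.1]
    refine Sim.trans F (Sim.conj F (hxf k) (show Commute F.nT (F.e _) from F.nT_fix hMv).symm) ?_
    rw [F.rep_conj_plane (state_facts.2.2.2.1 (π k) _ hMv)]
    exact Sim.refl F _

theorem is_x0 : F.Is F.x0 85 := by
  refine Is.of_sim F (w := wp F.xf) ⟨F.xf, F.xf_comp, rfl, fun k => ?_⟩ (.inr rfl)
  have key : ∀ k : Fin 4, dg (85 : Fin 256) k = 1 := by decide +kernel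
  rw [key, rep, if_neg (by decide), show dv k 1 = 0 from zero_nsmul _, F.e_zero, inv_one, one_mul, mul_one]
  exact Sim.refl F _

theorem is_XS {δ : V4} (hδ : app pT δ = δ) : F.Is (F.XS δ) (tr δ 85) := Is.conj_e F F.is_x0 hδ

theorem Is.sq {w : G} {s : Fin 256} (h : F.Is w s) :
    w * w = F.nT ^ swt s := by
  obtain ⟨f, hf, rfl, hs⟩ := h
  have key : ∀ k, f k * f k = F.nT ^ (if dg s k = 0 then 0 else 1) := fun k => by
    have e : f k * f k = F.rep k (dg s k) * F.rep k (dg s k) := by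
      rcases hs k with e | e <;> rw [e]
      rw [mul_assoc, ← mul_assoc F.nT, ← (F.rep_nT k _).eq, mul_assoc (F.rep k _), F.nT_sq, mul_one]
    rw [e]
    split
    · rename_i h; rw [h, show F.rep k 0 = 1 from if_pos rfl, one_mul, pow_zero]
    · rw [F.rep_sq ‹_›, pow_one]
  rw [← F.wp_mul hf hf, show f * f = fun k => F.nT ^ (if dg s k = 0 then 0 else 1) from funext key, F.wp_nT_pow, swt]
  congr 1
  simp [List.finRange]
  ring

/-- A state other than zero is moved by conjugation to its product with the reflection. -/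
theorem Is.conj_nT {w : G} {s : Fin 256} (h : F.Is w s) (hs : s ≠ 0) : ∃ g ∈ F.W, g * w * g⁻¹ = w * F.nT := by
  obtain ⟨k, hk⟩ : ∃ k, dg s k ≠ 0 := by
    by_contra hne
    push_neg at hne
    exact hs (dg_ext fun k => (hne k).trans (dg_zero k).symm)
  obtain ⟨b, hb0, hb⟩ : ∃ b : Fin 4, b ≠ 0 ∧ b ≠ dg s k := by
    have key : ∀ a : Fin 4, ∃ b : Fin 4, b ≠ 0 ∧ b ≠ a := by decide +kernel
    exact key _
  obtain ⟨f, hf, rfl, hf'⟩ := h
  have hfk : f k * f k = F.nT := by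
    rcases F.Qk_sq (hf k) with h | h
    · exact absurd (F.rep_ne (k := k) (Sim.trans F (Sim.symm F (hf' k)) (by
        rw [show F.rep k 0 = 1 from if_pos rfl]
        rcases h with h | h
        · exact .inl h
        · exact .inr (h.trans (one_mul _).symm)))) hk
    · exact h
  have hne : ∀ g, g = f k ∨ g = f k * F.nT → F.rep k b ≠ g := fun g hg e => hb (F.rep_ne (k := k) (by
    refine Sim.trans F ?_ (hf' k)
    rcases hg with rfl | rfl
    · exact .inl e
    · exact .inr e))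
  have hbr := F.Qk_bracket (hf k) (F.rep_mem k b) hfk (F.rep_sq hb0) (hne _ (.inl rfl)) (hne _ (.inr rfl))
  refine ⟨F.rep k b, F.Qk_le_W k (F.rep_mem k b), ?_⟩
  have hc := F.wp_comm hf (F.rep_mem k b)
  rw [mul_inv_eq_iff_eq_mul] at hbr
  rw [hbr] at hc
  rw [mul_inv_eq_iff_eq_mul, mul_assoc (wp f), ← (F.rep_nT k b).eq, ← mul_assoc]
  rw [mul_inv_eq_iff_eq_mul] at hc
  calc F.rep k b * wp f = F.nT * (F.nT * F.rep k b * wp f) := by
        rw [mul_assoc F.nT (F.rep k b), ← mul_assoc F.nT F.nT, F.nT_sq, one_mul]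
    _ = F.nT * (wp f * F.rep k b) := by rw [hc]
    _ = _ := by rw [← mul_assoc, ← (F.W_nT ⟨f, hf, rfl⟩).eq, mul_assoc, (F.rep_nT k b).symm.eq, ← mul_assoc]

end Frame

end CfsgLib.O8T
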