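import Cfsg.Agent.Lib.OEightPlusThree.Moves
import Mathlib.GroupTheory.Sylow

/-!
A Sylow two-subgroup of `K₀`; `W` modulo `t` is the only elementary abelian subgroup of order 256 there.
-/

set_option autoImplicit false
set_option synthInstance.maxSize 4096
set_option maxRecDepth 8000

namespace CfsgLib.O8T

open Subgroup

universe u

/-- The matrices of the two-part. -/
def L32 : List M4 :=
  [((0, 1, 0, 0), (1, 0, 0, 0), (0, 0, 0, 1), (0, 0, 1, 0)), ((0, 1, 0, 0), (1, 0, 0, 0), (0, 0, 0, 1), (0, 0, 2, 0)), ((0, 1, 0, 0), (1, 0, 0, 0), (0, 0, 0, 2), (0, 0, 1, 0)), ((0, 1, 0, 0), (1, 0, 0, 0), (0, 0, 0, 2), (0, 0, 2, 0)), ((0, 1, 0, 0), (1, 0, 0, 0), (0, 0, 1, 0), (0, 0, 0, 1)), ((0, 1, 0, 0), (1, 0, 0, 0), (0, 0, 1, 0), (0, 0, 0, 2)), ((0, 1, 0, 0), (1, 0, 0, 0), (0, 0, 2, 0), (0, 0, 0, 1)), ((0, 1, 0, 0), (1, 0, 0, 0), (0, 0, 2, 0),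 (0, 0, 0, 2)), ((0, 2, 0, 0), (2, 0, 0, 0), (0, 0, 0, 1), (0, 0, 1, 0)), ((0, 2, 0, 0), (2, 0, 0, 0), (0, 0, 0, 1), (0, 0, 2, 0)), ((0, 2, 0, 0), (2, 0, 0, 0), (0, 0, 0, 2), (0, 0, 1, 0)), ((0, 2, 0, 0), (2, 0, 0, 0), (0, 0, 0, 2), (0, 0, 2, 0)), ((0, 2, 0, 0), (2, 0, 0, 0), (0, 0, 1, 0), (0, 0, 0, 1)), ((0, 2, 0, 0), (2, 0, 0, 0), (0, 0, 1, 0), (0, 0, 0, 2)), ((0, 2, 0, 0), (2, 0, 0, 0), (0, 0, 2, 0), (0, 0, 0, 1)), ((0, 2, 0, 0), (2, 0, 0, 0), (0, 0, 2, 0), (0, 0, 0, 2)), ((1, 0, 0, 0), (0, 1, 0, 0), (0, 0, 0, 1), (0, 0, 1, 0)), ((1, 0, 0, 0), (0, 1, 0, 0), (0, 0, 0, 1), (0, 0, 2, 0)), ((1, 0, 0, 0), (0, 1, 0, 0), (0, 0, 0, 2), (0, 0, 1, 0)), ((1, 0, 0, 0), (0, 1, 0, 0), (0, 0, 0, 2), (0, 0, 2, 0)), ((1, 0, 0, 0), (0, 1, 0, 0), (0, 0, 1, 0), (0, 0, 0, 1)), ((1, 0, 0, 0), (0, 1, 0, 0), (0, 0, 1, 0), (0, 0, 0, 2)), ((1, 0, 0, 0), (0,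 1, 0, 0), (0, 0, 2, 0), (0, 0, 0, 1)), ((1, 0, 0, 0), (0, 1, 0, 0), (0, 0, 2, 0), (0, 0, 0, 2)), ((2, 0, 0, 0), (0, 2, 0, 0), (0, 0, 0, 1), (0, 0, 1, 0)), ((2, 0, 0, 0), (0, 2, 0, 0), (0, 0, 0, 1), (0, 0, 2, 0)), ((2, 0, 0, 0), (0, 2, 0, 0), (0, 0, 0, 2), (0, 0, 1, 0)), ((2, 0, 0, 0), (0, 2, 0, 0), (0, 0, 0, 2), (0, 0, 2, 0)), ((2, 0, 0, 0), (0, 2, 0, 0), (0, 0, 1, 0), (0, 0, 0, 1)), ((2, 0, 0, 0), (0, 2, 0, 0), (0, 0, 1, 0), (0, 0, 0, 2)), ((2, 0, 0, 0), (0, 2, 0, 0), (0, 0, 2, 0), (0, 0, 0, 1)), ((2, 0, 0, 0), (0, 2, 0, 0), (0, 0, 2, 0), (0, 0, 0, 2))]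

/-- The inner matrices. -/
def L48 : List M4 :=
  [((0, 1, 0, 0), (1, 0, 0, 0), (0, 0, 0, 1), (0, 0, 1, 0)), ((0, 1, 0, 0), (1, 0, 0, 0), (0, 0, 0, 2), (0, 0, 2, 0)), ((0, 1, 0, 0), (1, 0, 0, 0), (0, 0, 1, 0), (0, 0, 0, 1)), ((0, 1, 0, 0), (1, 0, 0, 0), (0, 0, 2, 0), (0, 0, 0, 2)), ((0, 2, 0, 0), (2, 0, 0, 0), (0, 0, 0, 1), (0, 0, 1, 0)), ((0, 2, 0, 0), (2, 0, 0, 0), (0, 0, 0, 2), (0, 0, 2, 0)), ((0, 2, 0, 0), (2, 0, 0, 0), (0, 0, 1, 0), (0, 0, 0, 1)), ((0, 2, 0, 0), (2, 0, 0, 0), (0, 0, 2, 0), (0, 0, 0, 2)), ((1, 0, 0, 0), (0, 1, 0, 0), (0, 0, 0, 1), (0, 0, 1, 0)), ((1, 0, 0, 0), (0, 1, 0, 0), (0, 0, 0, 2), (0, 0, 2, 0)), ((1, 0, 0, 0), (0, 1, 0, 0), (0, 0, 1, 0), (0, 0, 0, 1)), ((1, 0, 0, 0), (0, 1, 0, 0), (0, 0, 2, 0), (0, 0, 0, 2)), ((1, 2, 1, 1), (2, 1, 1, 1), (1, 1, 1, 2), (2, 2, 1, 2)), ((1, 2, 1, 1), (2, 1, 1, 1), (1, 1, 2,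 1), (2, 2, 2, 1)), ((1, 2, 1, 1), (2, 1, 1, 1), (2, 2, 1, 2), (1, 1, 1, 2)), ((1, 2, 1, 1), (2, 1, 1, 1), (2, 2, 2, 1), (1, 1, 2, 1)), ((1, 2, 1, 2), (2, 1, 1, 2), (1, 1, 1, 1), (1, 1, 2, 2)), ((1, 2, 1, 2), (2, 1, 1, 2), (1, 1, 2, 2), (1, 1, 1, 1)), ((1, 2, 1, 2), (2, 1, 1, 2), (2, 2, 1, 1), (2, 2, 2, 2)), ((1, 2, 1, 2), (2, 1, 1, 2), (2, 2, 2, 2), (2, 2, 1, 1)), ((1, 2, 2, 1), (2, 1, 2, 1), (1, 1, 1, 1), (1, 1, 2, 2)), ((1, 2, 2, 1), (2, 1, 2, 1), (1, 1, 2, 2), (1, 1, 1, 1)), ((1, 2, 2, 1), (2, 1, 2, 1), (2, 2, 1, 1), (2, 2, 2, 2)), ((1, 2, 2, 1), (2, 1, 2, 1), (2, 2, 2, 2), (2, 2, 1, 1)), ((1, 2, 2, 2), (2, 1, 2, 2), (1, 1, 1, 2), (2, 2, 1, 2)), ((1, 2, 2, 2), (2, 1, 2, 2), (1, 1, 2, 1), (2, 2, 2, 1)), ((1, 2, 2, 2), (2, 1, 2, 2), (2, 2, 1, 2), (1, 1, 1, 2)), ((1, 2, 2, 2), (2, 1, 2, 2), (2, 2, 2, 1), (1, 1, 2, 1)), ((2, 0, 0, 0),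 (0, 2, 0, 0), (0, 0, 0, 1), (0, 0, 1, 0)), ((2, 0, 0, 0), (0, 2, 0, 0), (0, 0, 0, 2), (0, 0, 2, 0)), ((2, 0, 0, 0), (0, 2, 0, 0), (0, 0, 1, 0), (0, 0, 0, 1)), ((2, 0, 0, 0), (0, 2, 0, 0), (0, 0, 2, 0), (0, 0, 0, 2)), ((2, 1, 1, 1), (1, 2, 1, 1), (1, 1, 1, 2), (2, 2, 1, 2)), ((2, 1, 1, 1), (1, 2, 1, 1), (1, 1, 2, 1), (2, 2, 2, 1)), ((2, 1, 1, 1), (1, 2, 1, 1), (2, 2, 1, 2), (1, 1, 1, 2)), ((2, 1, 1, 1), (1, 2, 1, 1), (2, 2, 2, 1), (1, 1, 2, 1)), ((2, 1, 1, 2), (1, 2, 1, 2), (1, 1, 1, 1), (1, 1, 2, 2)), ((2, 1, 1, 2), (1, 2, 1, 2), (1, 1, 2, 2), (1, 1, 1, 1)), ((2, 1, 1, 2), (1, 2, 1, 2), (2, 2, 1, 1), (2, 2, 2, 2)), ((2, 1, 1, 2), (1, 2, 1, 2), (2, 2, 2, 2), (2, 2, 1, 1)), ((2, 1, 2, 1), (1, 2, 2, 1), (1, 1, 1, 1), (1, 1, 2, 2)), ((2, 1, 2, 1), (1, 2, 2, 1), (1, 1, 2, 2), (1, 1, 1, 1)), ((2, 1, 2, 1), (1, 2, 2, 1), (2, 2, 1, 1), (2,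 2, 2, 2)), ((2, 1, 2, 1), (1, 2, 2, 1), (2, 2, 2, 2), (2, 2, 1, 1)), ((2, 1, 2, 2), (1, 2, 2, 2), (1, 1, 1, 2), (2, 2, 1, 2)), ((2, 1, 2, 2), (1, 2, 2, 2), (1, 1, 2, 1), (2, 2, 2, 1)), ((2, 1, 2, 2), (1, 2, 2, 2), (2, 2, 1, 2), (1, 1, 1, 2)), ((2, 1, 2, 2), (1, 2, 2, 2), (2, 2, 2, 1), (1, 1, 2, 1))]

/-- The even inner matrices. -/
def L24 : List M4 :=
  [((0, 1, 0, 0), (1, 0, 0, 0), (0, 0, 1, 0), (0, 0, 0, 1)), ((0, 1, 0, 0), (1, 0, 0, 0), (0, 0, 2, 0), (0, 0, 0, 2)), ((0, 2, 0, 0), (2, 0, 0, 0), (0, 0, 0, 1), (0, 0, 1, 0)), ((0, 2, 0, 0), (2, 0, 0, 0), (0, 0, 0, 2), (0, 0, 2, 0)), ((1, 0, 0, 0), (0, 1, 0, 0), (0, 0, 1, 0), (0, 0, 0, 1)), ((1, 0, 0, 0), (0, 1, 0, 0), (0, 0, 2, 0), (0, 0, 0, 2)), ((1, 2, 1, 1), (2, 1, 1, 1), (1, 1, 2, 1), (2, 2, 2, 1)), ((1, 2, 1, 1), (2, 1, 1, 1), (2, 2, 1, 2), (1, 1, 1, 2)), ((1, 2, 1, 2), (2, 1,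 1, 2), (1, 1, 2, 2), (1, 1, 1, 1)), ((1, 2, 1, 2), (2, 1, 1, 2), (2, 2, 1, 1), (2, 2, 2, 2)), ((1, 2, 2, 1), (2, 1, 2, 1), (1, 1, 1, 1), (1, 1, 2, 2)), ((1, 2, 2, 1), (2, 1, 2, 1), (2, 2, 2, 2), (2, 2, 1, 1)), ((1, 2, 2, 2), (2, 1, 2, 2), (1, 1, 1, 2), (2, 2, 1, 2)), ((1, 2, 2, 2), (2, 1, 2, 2), (2, 2, 2, 1), (1, 1, 2, 1)), ((2, 0, 0, 0), (0, 2, 0, 0), (0, 0, 0, 1), (0, 0, 1, 0)), ((2, 0, 0, 0), (0, 2, 0, 0), (0, 0, 0, 2), (0, 0, 2, 0)), ((2, 1, 1, 1), (1, 2, 1, 1), (1, 1, 2, 1), (2, 2, 2, 1)), ((2, 1, 1, 1), (1, 2, 1, 1), (2, 2, 1, 2), (1, 1, 1, 2)), ((2, 1, 1, 2), (1, 2, 1, 2), (1, 1, 2, 2), (1, 1, 1, 1)), ((2, 1, 1, 2), (1, 2, 1, 2), (2, 2, 1, 1), (2, 2, 2, 2)), ((2, 1, 2, 1), (1, 2, 2, 1), (1, 1, 1, 1), (1, 1, 2, 2)), ((2, 1, 2, 1), (1, 2, 2, 1), (2, 2, 2, 2), (2, 2, 1, 1)), ((2, 1, 2, 2), (1, 2, 2, 2), (1, 1, 1, 2), (2, 2, 1, 2)),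 ((2, 1, 2, 2), (1, 2, 2, 2), (2, 2, 2, 1), (1, 1, 2, 1))]

/-- The action of the exponents of the two-part. -/
def f16 (x : Fin 2 × Fin 2 × Fin 2 × Fin 2) : Fin 256 → Fin 256 := fIx (x.1, x.2.1, x.2.2.1, 0, x.2.2.2)

/-- Common fixed states. -/
def nfix (x y : Fin 2 × Fin 2 × Fin 2 × Fin 2) : ℕ :=
  ((List.finRange 256).filter fun s => f16 x s == s && f16 y s == s).length

theorem L32_facts : idM ∈ L32 ∧ (L32.all fun M => L32.all fun N => decide (comp M N ∈ L32)) = true ∧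
    (L32.all fun M => decide (comp M pT = comp pT M ∧ powM M 16 = idM ∧ ∃ x : Fin 2 × Fin 2 × Fin 2 × Fin 2,
      ∃ p : Fin 2, M = comp (matIx (x.1, x.2.1, x.2.2.1, 0, x.2.2.2)) (powM pT p.val))) = true := by decide +kernel

theorem decomp_facts : (gam.all fun M => decide (comp M pT = comp pT M →
    ∃ l : Fin 3, comp M (powM pB (3 - l.val)) ∈ L32)) = true := by decide +kernel

/-- The exponents of the matrices commuting with `pT`. -/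
def decTab : List (M4 × Ix × Fin 2) :=
  [(((1, 0, 0, 0), (0, 1, 0, 0), (0, 0, 1, 0), (0, 0, 0, 1)), (0, 0, 0, 0, 0), 0), (((0, 1, 0, 0), (1, 0, 0, 0), (0, 0, 1, 0), (0, 0, 0, 1)), (0, 0, 0, 0, 0), 1), (((0, 1, 0, 0), (1, 0, 0, 0), (0, 0, 1, 0), (0, 0, 0, 2)), (0, 0, 0, 0, 1), 0), (((1, 0, 0, 0), (0, 1, 0, 0), (0, 0, 1, 0), (0, 0, 0, 2)), (0, 0, 0, 0, 1), 1), (((2, 1, 1, 2), (1, 2, 1, 2), (1, 1, 2, 2), (1, 1, 1, 1)), (0, 0, 0, 1, 0), 0), (((1, 2, 1, 2), (2, 1, 1, 2), (1, 1, 2, 2), (1, 1, 1, 1)), (0, 0, 0, 1, 0), 1), (((1, 2, 1, 2), (2, 1, 1, 2), (1, 1, 2, 2), (2, 2, 2, 2)), (0, 0, 0, 1, 1), 0), (((2, 1, 1, 2), (1, 2, 1, 2), (1, 1, 2, 2), (2, 2, 2, 2)), (0, 0, 0, 1, 1), 1), (((2, 1, 1, 1), (1, 2, 1, 1), (1, 1, 2, 1), (2, 2, 2, 1)), (0, 0, 0, 2, 0), 0), (((1, 2, 1, 1), (2, 1, 1, 1), (1, 1, 2, 1), (2, 2, 2, 1)), (0, 0, 0, 2, 0), 1), (((1,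 2, 1, 1), (2, 1, 1, 1), (1, 1, 2, 1), (1, 1, 1, 2)), (0, 0, 0, 2, 1), 0), (((2, 1, 1, 1), (1, 2, 1, 1), (1, 1, 2, 1), (1, 1, 1, 2)), (0, 0, 0, 2, 1), 1), (((1, 0, 0, 0), (0, 1, 0, 0), (0, 0, 0, 1), (0, 0, 1, 0)), (0, 0, 1, 0, 0), 0), (((0, 1, 0, 0), (1, 0, 0, 0), (0, 0, 0, 1), (0, 0, 1, 0)), (0, 0, 1, 0, 0), 1), (((0, 1, 0, 0), (1, 0, 0, 0), (0, 0, 0, 1), (0, 0, 2, 0)), (0, 0, 1, 0, 1), 0), (((1, 0, 0, 0), (0, 1, 0, 0), (0, 0, 0, 1), (0, 0, 2, 0)), (0, 0, 1, 0, 1), 1), (((2, 1, 2, 1), (1, 2, 2, 1), (1, 1, 2, 2), (1, 1, 1, 1)), (0, 0, 1, 1, 0), 0), (((1, 2, 2, 1), (2, 1, 2, 1), (1, 1, 2, 2), (1, 1, 1, 1)), (0, 0, 1, 1, 0), 1), (((1, 2, 2, 1), (2, 1, 2, 1), (1, 1, 2, 2), (2, 2, 2, 2)), (0, 0, 1, 1, 1), 0), (((2, 1, 2, 1), (1, 2, 2, 1), (1, 1, 2, 2), (2, 2, 2, 2)), (0, 0, 1, 1, 1), 1), (((2, 1, 1, 1), (1, 2, 1, 1), (1, 1, 1, 2), (2, 2,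 1, 2)), (0, 0, 1, 2, 0), 0), (((1, 2, 1, 1), (2, 1, 1, 1), (1, 1, 1, 2), (2, 2, 1, 2)), (0, 0, 1, 2, 0), 1), (((1, 2, 1, 1), (2, 1, 1, 1), (1, 1, 1, 2), (1, 1, 2, 1)), (0, 0, 1, 2, 1), 0), (((2, 1, 1, 1), (1, 2, 1, 1), (1, 1, 1, 2), (1, 1, 2, 1)), (0, 0, 1, 2, 1), 1), (((1, 0, 0, 0), (0, 1, 0, 0), (0, 0, 0, 2), (0, 0, 2, 0)), (0, 1, 0, 0, 0), 0), (((0, 1, 0, 0), (1, 0, 0, 0), (0, 0, 0, 2), (0, 0, 2, 0)), (0, 1, 0, 0, 0), 1), (((0, 1, 0, 0), (1, 0, 0, 0), (0, 0, 0, 2), (0, 0, 1, 0)), (0, 1, 0, 0, 1), 0), (((1, 0, 0, 0), (0, 1, 0, 0), (0, 0, 0, 2), (0, 0, 1, 0)), (0, 1, 0, 0, 1), 1), (((2, 1, 1, 2), (1, 2, 1, 2), (1, 1, 1, 1), (1, 1, 2, 2)), (0, 1, 0, 1, 0), 0), (((1, 2, 1, 2), (2, 1, 1, 2), (1, 1, 1, 1), (1, 1, 2, 2)), (0, 1, 0, 1, 0), 1), (((1, 2, 1, 2), (2, 1, 1, 2), (1, 1, 1, 1), (2, 2, 1, 1)), (0, 1, 0, 1, 1), 0), (((2, 1, 1, 2),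 (1, 2, 1, 2), (1, 1, 1, 1), (2, 2, 1, 1)), (0, 1, 0, 1, 1), 1), (((2, 1, 2, 2), (1, 2, 2, 2), (1, 1, 2, 1), (2, 2, 2, 1)), (0, 1, 0, 2, 0), 0), (((1, 2, 2, 2), (2, 1, 2, 2), (1, 1, 2, 1), (2, 2, 2, 1)), (0, 1, 0, 2, 0), 1), (((1, 2, 2, 2), (2, 1, 2, 2), (1, 1, 2, 1), (1, 1, 1, 2)), (0, 1, 0, 2, 1), 0), (((2, 1, 2, 2), (1, 2, 2, 2), (1, 1, 2, 1), (1, 1, 1, 2)), (0, 1, 0, 2, 1), 1), (((1, 0, 0, 0), (0, 1, 0, 0), (0, 0, 2, 0), (0, 0, 0, 2)), (0, 1, 1, 0, 0), 0), (((0, 1, 0, 0), (1, 0, 0, 0), (0, 0, 2, 0), (0, 0, 0, 2)), (0, 1, 1, 0, 0), 1), (((0, 1, 0, 0), (1, 0, 0, 0), (0, 0, 2, 0), (0, 0, 0, 1)), (0, 1, 1, 0, 1), 0), (((1, 0, 0, 0), (0, 1, 0, 0), (0, 0, 2, 0), (0, 0, 0, 1)), (0, 1, 1, 0, 1), 1), (((2, 1, 2, 1), (1, 2, 2, 1), (1, 1, 1, 1), (1, 1, 2, 2)), (0, 1, 1, 1, 0), 0), (((1, 2, 2, 1), (2, 1, 2, 1), (1, 1, 1, 1), (1, 1, 2, 2)), (0,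 1, 1, 1, 0), 1), (((1, 2, 2, 1), (2, 1, 2, 1), (1, 1, 1, 1), (2, 2, 1, 1)), (0, 1, 1, 1, 1), 0), (((2, 1, 2, 1), (1, 2, 2, 1), (1, 1, 1, 1), (2, 2, 1, 1)), (0, 1, 1, 1, 1), 1), (((2, 1, 2, 2), (1, 2, 2, 2), (1, 1, 1, 2), (2, 2, 1, 2)), (0, 1, 1, 2, 0), 0), (((1, 2, 2, 2), (2, 1, 2, 2), (1, 1, 1, 2), (2, 2, 1, 2)), (0, 1, 1, 2, 0), 1), (((1, 2, 2, 2), (2, 1, 2, 2), (1, 1, 1, 2), (1, 1, 2, 1)), (0, 1, 1, 2, 1), 0), (((2, 1, 2, 2), (1, 2, 2, 2), (1, 1, 1, 2), (1, 1, 2, 1)), (0, 1, 1, 2, 1), 1), (((0, 2, 0, 0), (2, 0, 0, 0), (0, 0, 1, 0), (0, 0, 0, 1)), (1, 0, 0, 0, 0), 0), (((2, 0, 0, 0), (0, 2, 0, 0), (0, 0, 1, 0), (0, 0, 0, 1)), (1, 0, 0, 0, 0), 1), (((2, 0, 0, 0), (0, 2, 0, 0), (0, 0, 1, 0), (0, 0, 0, 2)), (1, 0, 0, 0, 1), 0), (((0, 2, 0, 0), (2, 0, 0, 0), (0, 0, 1, 0), (0, 0, 0, 2)), (1, 0, 0, 0, 1), 1), (((2, 1, 1, 2), (1, 2, 1, 2),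 (2, 2, 2, 2), (2, 2, 1, 1)), (1, 0, 0, 1, 0), 0), (((1, 2, 1, 2), (2, 1, 1, 2), (2, 2, 2, 2), (2, 2, 1, 1)), (1, 0, 0, 1, 0), 1), (((1, 2, 1, 2), (2, 1, 1, 2), (2, 2, 2, 2), (1, 1, 2, 2)), (1, 0, 0, 1, 1), 0), (((2, 1, 1, 2), (1, 2, 1, 2), (2, 2, 2, 2), (1, 1, 2, 2)), (1, 0, 0, 1, 1), 1), (((2, 1, 1, 1), (1, 2, 1, 1), (2, 2, 2, 1), (1, 1, 2, 1)), (1, 0, 0, 2, 0), 0), (((1, 2, 1, 1), (2, 1, 1, 1), (2, 2, 2, 1), (1, 1, 2, 1)), (1, 0, 0, 2, 0), 1), (((1, 2, 1, 1), (2, 1, 1, 1), (2, 2, 2, 1), (2, 2, 1, 2)), (1, 0, 0, 2, 1), 0), (((2, 1, 1, 1), (1, 2, 1, 1), (2, 2, 2, 1), (2, 2, 1, 2)), (1, 0, 0, 2, 1), 1), (((0, 2, 0, 0), (2, 0, 0, 0), (0, 0, 0, 1), (0, 0, 1, 0)), (1, 0, 1, 0, 0), 0), (((2, 0, 0, 0), (0, 2, 0, 0), (0, 0, 0, 1), (0, 0, 1, 0)), (1, 0, 1, 0, 0), 1), (((2, 0, 0, 0), (0, 2, 0, 0), (0, 0, 0, 1), (0, 0, 2, 0)), (1, 0, 1, 0, 1),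 0), (((0, 2, 0, 0), (2, 0, 0, 0), (0, 0, 0, 1), (0, 0, 2, 0)), (1, 0, 1, 0, 1), 1), (((2, 1, 2, 1), (1, 2, 2, 1), (2, 2, 2, 2), (2, 2, 1, 1)), (1, 0, 1, 1, 0), 0), (((1, 2, 2, 1), (2, 1, 2, 1), (2, 2, 2, 2), (2, 2, 1, 1)), (1, 0, 1, 1, 0), 1), (((1, 2, 2, 1), (2, 1, 2, 1), (2, 2, 2, 2), (1, 1, 2, 2)), (1, 0, 1, 1, 1), 0), (((2, 1, 2, 1), (1, 2, 2, 1), (2, 2, 2, 2), (1, 1, 2, 2)), (1, 0, 1, 1, 1), 1), (((2, 1, 1, 1), (1, 2, 1, 1), (2, 2, 1, 2), (1, 1, 1, 2)), (1, 0, 1, 2, 0), 0), (((1, 2, 1, 1), (2, 1, 1, 1), (2, 2, 1, 2), (1, 1, 1, 2)), (1, 0, 1, 2, 0), 1), (((1, 2, 1, 1), (2, 1, 1, 1), (2, 2, 1, 2), (2, 2, 2, 1)), (1, 0, 1, 2, 1), 0), (((2, 1, 1, 1), (1, 2, 1, 1), (2, 2, 1, 2), (2, 2, 2, 1)), (1, 0, 1, 2, 1), 1), (((0, 2, 0, 0), (2, 0, 0, 0), (0, 0, 0, 2), (0, 0, 2, 0)), (1, 1, 0, 0, 0), 0), (((2, 0, 0, 0), (0, 2, 0, 0), (0, 0, 0,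 2), (0, 0, 2, 0)), (1, 1, 0, 0, 0), 1), (((2, 0, 0, 0), (0, 2, 0, 0), (0, 0, 0, 2), (0, 0, 1, 0)), (1, 1, 0, 0, 1), 0), (((0, 2, 0, 0), (2, 0, 0, 0), (0, 0, 0, 2), (0, 0, 1, 0)), (1, 1, 0, 0, 1), 1), (((2, 1, 1, 2), (1, 2, 1, 2), (2, 2, 1, 1), (2, 2, 2, 2)), (1, 1, 0, 1, 0), 0), (((1, 2, 1, 2), (2, 1, 1, 2), (2, 2, 1, 1), (2, 2, 2, 2)), (1, 1, 0, 1, 0), 1), (((1, 2, 1, 2), (2, 1, 1, 2), (2, 2, 1, 1), (1, 1, 1, 1)), (1, 1, 0, 1, 1), 0), (((2, 1, 1, 2), (1, 2, 1, 2), (2, 2, 1, 1), (1, 1, 1, 1)), (1, 1, 0, 1, 1), 1), (((2, 1, 2, 2), (1, 2, 2, 2), (2, 2, 2, 1), (1, 1, 2, 1)), (1, 1, 0, 2, 0), 0), (((1, 2, 2, 2), (2, 1, 2, 2), (2, 2, 2, 1), (1, 1, 2, 1)), (1, 1, 0, 2, 0), 1), (((1, 2, 2, 2), (2, 1, 2, 2), (2, 2, 2, 1), (2, 2, 1, 2)), (1, 1, 0, 2, 1), 0), (((2, 1, 2, 2), (1, 2, 2, 2), (2, 2, 2, 1), (2, 2, 1, 2)), (1, 1, 0, 2, 1), 1), (((0,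 2, 0, 0), (2, 0, 0, 0), (0, 0, 2, 0), (0, 0, 0, 2)), (1, 1, 1, 0, 0), 0), (((2, 0, 0, 0), (0, 2, 0, 0), (0, 0, 2, 0), (0, 0, 0, 2)), (1, 1, 1, 0, 0), 1), (((2, 0, 0, 0), (0, 2, 0, 0), (0, 0, 2, 0), (0, 0, 0, 1)), (1, 1, 1, 0, 1), 0), (((0, 2, 0, 0), (2, 0, 0, 0), (0, 0, 2, 0), (0, 0, 0, 1)), (1, 1, 1, 0, 1), 1), (((2, 1, 2, 1), (1, 2, 2, 1), (2, 2, 1, 1), (2, 2, 2, 2)), (1, 1, 1, 1, 0), 0), (((1, 2, 2, 1), (2, 1, 2, 1), (2, 2, 1, 1), (2, 2, 2, 2)), (1, 1, 1, 1, 0), 1), (((1, 2, 2, 1), (2, 1, 2, 1), (2, 2, 1, 1), (1, 1, 1, 1)), (1, 1, 1, 1, 1), 0), (((2, 1, 2, 1), (1, 2, 2, 1), (2, 2, 1, 1), (1, 1, 1, 1)), (1, 1, 1, 1, 1), 1), (((2, 1, 2, 2), (1, 2, 2, 2), (2, 2, 1, 2), (1, 1, 1, 2)), (1, 1, 1, 2, 0), 0), (((1, 2, 2, 2), (2, 1, 2, 2), (2, 2, 1, 2), (1, 1, 1, 2)), (1, 1, 1, 2, 0), 1), (((1, 2, 2, 2), (2, 1, 2, 2), (2, 2, 1, 2), (2, 2,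 2, 1)), (1, 1, 1, 2, 1), 0), (((2, 1, 2, 2), (1, 2, 2, 2), (2, 2, 1, 2), (2, 2, 2, 1)), (1, 1, 1, 2, 1), 1)]

theorem dec_ok : ∀ x : Ix, ∀ p : Fin 2,
    (decTab.find? fun e => e.1 == comp (matIx x) (powM pT p.val)).map (fun e => e.2) = some (x, p) := by
  decide +kernel

theorem matIx_eq {x y : Ix} {p q : Fin 2} (h : comp (matIx x) (powM pT p.val) = comp (matIx y) (powM pT q.val)) :
    x = y := by
  have h1 := dec_ok x p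
  rw [h, dec_ok y q, Option.some.injEq, Prod.mk.injEq] at h1
  exact h1.1.symm

/-- The sixteen exponents. -/
def all16 : List (Fin 2 × Fin 2 × Fin 2 × Fin 2) :=
  (List.finRange 2).flatMap fun i => (List.finRange 2).flatMap fun j => (List.finRange 2).flatMap fun k =>
    (List.finRange 2).map fun m => (i, j, k, m)

theorem all16_mem : ∀ x, x ∈ all16 := by decide +kernel

/-- The sixteen maps as tables. -/
def T16 : List ℕ :=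
  [0xfffefdfcfbfaf9f8f7f6f5f4f3f2f1f0efeeedecebeae9e8e7e6e5e4e3e2e1e0dfdedddcdbdad9d8d7d6d5d4d3d2d1d0cfcecdcccbcac9c8c7c6c5c4c3c2c1c0bfbebdbcbbbab9b8b7b6b5b4b3b2b1b0afaeadacabaaa9a8a7a6a5a4a3a2a1a09f9e9d9c9b9a999897969594939291908f8e8d8c8b8a898887868584838281807f7e7d7c7b7a797877767574737271706f6e6d6c6b6a696867666564636261605f5e5d5c5b5a595857565554535251504f4e4d4c4b4a494847464544434241403f3e3d3c3b3a393837363534333231302f2e2d2c2b2a292827262524232221201f1e1d1c1b1a191817161514131211100f0e0d0c0b0a09080706050403020100,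
   0xfffefdfcfbfaf9f8f7f6f5f4f3f2f1f0bfbebdbcbbbab9b8b7b6b5b4b3b2b1b07f7e7d7c7b7a797877767574737271703f3e3d3c3b3a39383736353433323130efeeedecebeae9e8e7e6e5e4e3e2e1e0afaeadacabaaa9a8a7a6a5a4a3a2a1a06f6e6d6c6b6a696867666564636261602f2e2d2c2b2a29282726252423222120dfdedddcdbdad9d8d7d6d5d4d3d2d1d09f9e9d9c9b9a999897969594939291905f5e5d5c5b5a595857565554535251501f1e1d1c1b1a19181716151413121110cfcecdcccbcac9c8c7c6c5c4c3c2c1c08f8e8d8c8b8a898887868584838281804f4e4d4c4b4a494847464544434241400f0e0d0c0b0a09080706050403020100,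
   0xaaba9a8aeafadaca6a7a5a4a2a3a1a0aabbb9b8bebfbdbcb6b7b5b4b2b3b1b0ba9b99989e9f9d9c96979594929391909a8b89888e8f8d8c86878584828381808aebe9e8eeefedece6e7e5e4e2e3e1e0eafbf9f8fefffdfcf6f7f5f4f2f3f1f0fadbd9d8dedfdddcd6d7d5d4d2d3d1d0dacbc9c8cecfcdccc6c7c5c4c2c3c1c0ca6b69686e6f6d6c66676564626361606a7b79787e7f7d7c76777574727371707a5b59585e5f5d5c56575554525351505a4b49484e4f4d4c46474544424341404a2b29282e2f2d2c26272524222321202a3b39383e3f3d3c36373534323331303a1b19181e1f1d1c16171514121311101a0b09080e0f0d0c06070504020301000,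
   0xaaba9a8aeafadaca6a7a5a4a2a3a1a0aaebe9e8eeefedece6e7e5e4e2e3e1e0ea6b69686e6f6d6c66676564626361606a2b29282e2f2d2c26272524222321202abbb9b8bebfbdbcb6b7b5b4b2b3b1b0bafbf9f8fefffdfcf6f7f5f4f2f3f1f0fa7b79787e7f7d7c76777574727371707a3b39383e3f3d3c36373534323331303a9b99989e9f9d9c96979594929391909adbd9d8dedfdddcd6d7d5d4d2d3d1d0da5b59585e5f5d5c56575554525351505a1b19181e1f1d1c16171514121311101a8b89888e8f8d8c86878584828381808acbc9c8cecfcdccc6c7c5c4c2c3c1c0ca4b49484e4f4d4c46474544424341404a0b09080e0f0d0c06070504020301000,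
   0xaaea6a2abafa7a3a9ada5a1a8aca4a0aaeee6e2ebefe7e3e9ede5e1e8ece4e0ea6e66626b6f6763696d6561686c64606a2e26222b2f2723292d2521282c24202abeb6b2bbbfb7b3b9bdb5b1b8bcb4b0bafef6f2fbfff7f3f9fdf5f1f8fcf4f0fa7e76727b7f7773797d7571787c74707a3e36323b3f3733393d3531383c34303a9e96929b9f9793999d9591989c94909aded6d2dbdfd7d3d9ddd5d1d8dcd4d0da5e56525b5f5753595d5551585c54505a1e16121b1f1713191d1511181c14101a8e86828b8f8783898d8581888c84808acec6c2cbcfc7c3c9cdc5c1c8ccc4c0ca4e46424b4f4743494d4541484c44404a0e06020b0f0703090d0501080c04000,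
   0xaaea6a2abafa7a3a9ada5a1a8aca4a0aabeb6b2bbbfb7b3b9bdb5b1b8bcb4b0ba9e96929b9f9793999d9591989c94909a8e86828b8f8783898d8581888c84808aeee6e2ebefe7e3e9ede5e1e8ece4e0eafef6f2fbfff7f3f9fdf5f1f8fcf4f0faded6d2dbdfd7d3d9ddd5d1d8dcd4d0dacec6c2cbcfc7c3c9cdc5c1c8ccc4c0ca6e66626b6f6763696d6561686c64606a7e76727b7f7773797d7571787c74707a5e56525b5f5753595d5551585c54505a4e46424b4f4743494d4541484c44404a2e26222b2f2723292d2521282c24202a3e36323b3f3733393d3531383c34303a1e16121b1f1713191d1511181c14101a0e06020b0f0703090d0501080c04000,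
   0xfffbf7f3fefaf6f2fdf9f5f1fcf8f4f0bfbbb7b3bebab6b2bdb9b5b1bcb8b4b07f7b77737e7a76727d7975717c7874703f3b37333e3a36323d3935313c383430efebe7e3eeeae6e2ede9e5e1ece8e4e0afaba7a3aeaaa6a2ada9a5a1aca8a4a06f6b67636e6a66626d6965616c6864602f2b27232e2a26222d2925212c282420dfdbd7d3dedad6d2ddd9d5d1dcd8d4d09f9b97939e9a96929d9995919c9894905f5b57535e5a56525d5955515c5854501f1b17131e1a16121d1915111c181410cfcbc7c3cecac6c2cdc9c5c1ccc8c4c08f8b87838e8a86828d8985818c8884804f4b47434e4a46424d4945414c4844400f0b07030e0a06020d0905010c080400,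
   0xfffbf7f3fefaf6f2fdf9f5f1fcf8f4f0efebe7e3eeeae6e2ede9e5e1ece8e4e0dfdbd7d3dedad6d2ddd9d5d1dcd8d4d0cfcbc7c3cecac6c2cdc9c5c1ccc8c4c0bfbbb7b3bebab6b2bdb9b5b1bcb8b4b0afaba7a3aeaaa6a2ada9a5a1aca8a4a09f9b97939e9a96929d9995919c9894908f8b87838e8a86828d8985818c8884807f7b77737e7a76727d7975717c7874706f6b67636e6a66626d6965616c6864605f5b57535e5a56525d5955515c5854504f4b47434e4a46424d4945414c4844403f3b37333e3a36323d3935313c3834302f2b27232e2a26222d2925212c2824201f1b17131e1a16121d1915111c1814100f0b07030e0a06020d0905010c080400,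
   0xaaaea6a2abafa7a3a9ada5a1a8aca4a0eaeee6e2ebefe7e3e9ede5e1e8ece4e06a6e66626b6f6763696d6561686c64602a2e26222b2f2723292d2521282c2420babeb6b2bbbfb7b3b9bdb5b1b8bcb4b0fafef6f2fbfff7f3f9fdf5f1f8fcf4f07a7e76727b7f7773797d7571787c74703a3e36323b3f3733393d3531383c34309a9e96929b9f9793999d9591989c9490daded6d2dbdfd7d3d9ddd5d1d8dcd4d05a5e56525b5f5753595d5551585c54501a1e16121b1f1713191d1511181c14108a8e86828b8f8783898d8581888c8480cacec6c2cbcfc7c3c9cdc5c1c8ccc4c04a4e46424b4f4743494d4541484c44400a0e06020b0f0703090d0501080c0400,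
   0xaaaea6a2abafa7a3a9ada5a1a8aca4a0babeb6b2bbbfb7b3b9bdb5b1b8bcb4b09a9e96929b9f9793999d9591989c94908a8e86828b8f8783898d8581888c8480eaeee6e2ebefe7e3e9ede5e1e8ece4e0fafef6f2fbfff7f3f9fdf5f1f8fcf4f0daded6d2dbdfd7d3d9ddd5d1d8dcd4d0cacec6c2cbcfc7c3c9cdc5c1c8ccc4c06a6e66626b6f6763696d6561686c64607a7e76727b7f7773797d7571787c74705a5e56525b5f5753595d5551585c54504a4e46424b4f4743494d4541484c44402a2e26222b2f2723292d2521282c24203a3e36323b3f3733393d3531383c34301a1e16121b1f1713191d1511181c14100a0e06020b0f0703090d0501080c0400,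
   0xffbf7f3fefaf6f2fdf9f5f1fcf8f4f0ffbbb7b3bebab6b2bdb9b5b1bcb8b4b0bf7b77737e7a76727d7975717c7874707f3b37333e3a36323d3935313c3834303febe7e3eeeae6e2ede9e5e1ece8e4e0efaba7a3aeaaa6a2ada9a5a1aca8a4a0af6b67636e6a66626d6965616c6864606f2b27232e2a26222d2925212c2824202fdbd7d3dedad6d2ddd9d5d1dcd8d4d0df9b97939e9a96929d9995919c9894909f5b57535e5a56525d5955515c5854505f1b17131e1a16121d1915111c1814101fcbc7c3cecac6c2cdc9c5c1ccc8c4c0cf8b87838e8a86828d8985818c8884808f4b47434e4a46424d4945414c4844404f0b07030e0a06020d0905010c0804000,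
   0xffbf7f3fefaf6f2fdf9f5f1fcf8f4f0ffebe7e3eeeae6e2ede9e5e1ece8e4e0efdbd7d3dedad6d2ddd9d5d1dcd8d4d0dfcbc7c3cecac6c2cdc9c5c1ccc8c4c0cfbbb7b3bebab6b2bdb9b5b1bcb8b4b0bfaba7a3aeaaa6a2ada9a5a1aca8a4a0af9b97939e9a96929d9995919c9894909f8b87838e8a86828d8985818c8884808f7b77737e7a76727d7975717c7874707f6b67636e6a66626d6965616c6864606f5b57535e5a56525d5955515c5854505f4b47434e4a46424d4945414c4844404f3b37333e3a36323d3935313c3834303f2b27232e2a26222d2925212c2824202f1b17131e1a16121d1915111c1814101f0b07030e0a06020d0905010c0804000,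
   0xffefdfcfbfaf9f8f7f6f5f4f3f2f1f0ffeeedecebeae9e8e7e6e5e4e3e2e1e0efdedddcdbdad9d8d7d6d5d4d3d2d1d0dfcecdcccbcac9c8c7c6c5c4c3c2c1c0cfbebdbcbbbab9b8b7b6b5b4b3b2b1b0bfaeadacabaaa9a8a7a6a5a4a3a2a1a0af9e9d9c9b9a999897969594939291909f8e8d8c8b8a898887868584838281808f7e7d7c7b7a797877767574737271707f6e6d6c6b6a696867666564636261606f5e5d5c5b5a595857565554535251505f4e4d4c4b4a494847464544434241404f3e3d3c3b3a393837363534333231303f2e2d2c2b2a292827262524232221202f1e1d1c1b1a191817161514131211101f0e0d0c0b0a090807060504030201000,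
   0xffefdfcfbfaf9f8f7f6f5f4f3f2f1f0ffbebdbcbbbab9b8b7b6b5b4b3b2b1b0bf7e7d7c7b7a797877767574737271707f3e3d3c3b3a393837363534333231303feeedecebeae9e8e7e6e5e4e3e2e1e0efaeadacabaaa9a8a7a6a5a4a3a2a1a0af6e6d6c6b6a696867666564636261606f2e2d2c2b2a292827262524232221202fdedddcdbdad9d8d7d6d5d4d3d2d1d0df9e9d9c9b9a999897969594939291909f5e5d5c5b5a595857565554535251505f1e1d1c1b1a191817161514131211101fcecdcccbcac9c8c7c6c5c4c3c2c1c0cf8e8d8c8b8a898887868584838281808f4e4d4c4b4a494847464544434241404f0e0d0c0b0a090807060504030201000,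
   0xaaaba9a8aeafadaca6a7a5a4a2a3a1a0babbb9b8bebfbdbcb6b7b5b4b2b3b1b09a9b99989e9f9d9c96979594929391908a8b89888e8f8d8c8687858482838180eaebe9e8eeefedece6e7e5e4e2e3e1e0fafbf9f8fefffdfcf6f7f5f4f2f3f1f0dadbd9d8dedfdddcd6d7d5d4d2d3d1d0cacbc9c8cecfcdccc6c7c5c4c2c3c1c06a6b69686e6f6d6c66676564626361607a7b79787e7f7d7c76777574727371705a5b59585e5f5d5c56575554525351504a4b49484e4f4d4c46474544424341402a2b29282e2f2d2c26272524222321203a3b39383e3f3d3c36373534323331301a1b19181e1f1d1c16171514121311100a0b09080e0f0d0c0607050402030100,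
   0xaaaba9a8aeafadaca6a7a5a4a2a3a1a0eaebe9e8eeefedece6e7e5e4e2e3e1e06a6b69686e6f6d6c66676564626361602a2b29282e2f2d2c2627252422232120babbb9b8bebfbdbcb6b7b5b4b2b3b1b0fafbf9f8fefffdfcf6f7f5f4f2f3f1f07a7b79787e7f7d7c76777574727371703a3b39383e3f3d3c36373534323331309a9b99989e9f9d9c9697959492939190dadbd9d8dedfdddcd6d7d5d4d2d3d1d05a5b59585e5f5d5c56575554525351501a1b19181e1f1d1c16171514121311108a8b89888e8f8d8c8687858482838180cacbc9c8cecfcdccc6c7c5c4c2c3c1c04a4b49484e4f4d4c46474544424341400a0b09080e0f0d0c0607050402030100]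

/-- Lookup. -/
def lk (n : ℕ) (s : ℕ) : ℕ := (n >>> (8 * s)) % 256

/-- The table of an exponent. -/
def tb (x : Fin 2 × Fin 2 × Fin 2 × Fin 2) : ℕ :=
  T16.getD (8 * x.1.val + 4 * x.2.1.val + 2 * x.2.2.1.val + x.2.2.2.val) 0

theorem tb_ok : (all16.all fun x => (List.finRange 256).all fun s => lk (tb x) s.val == (f16 x s).val) = true := by
  decide +kernel

theorem tb_eq (x : Fin 2 × Fin 2 × Fin 2 × Fin 2) (s : Fin 256) : (f16 x s).val = lk (tb x) s.val := by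
  have h := List.all_eq_true.1 (List.all_eq_true.1 tb_ok x (all16_mem x)) s (List.mem_finRange s)
  exact (beq_iff_eq.1 h).symm

/-- The bound on the fixed states of two commuting maps. -/
def pairT (a b : ℕ) : Bool :=
  a == b || ((List.range 256).countP fun s => lk a s == s && lk b s == s).ble 16 ||
    !((List.range 256).all fun s => lk a (lk b s) == lk b (lk a s))

theorem pairT_all : (all16.all fun x => all16.all fun y => x == 0 || y == 0 || x == y || pairT (tb x) (tb y)) = true := by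
  decide +kernel

theorem tb_inj : ∀ x y, tb x = tb y → x = y := by decide +kernel

theorem tb_count : (all16.all fun x => x == 0 || ((List.range 256).countP fun s => lk (tb x) s == s).ble 64) = true := by
  decide +kernel

theorem fix_one {x : Fin 2 × Fin 2 × Fin 2 × Fin 2} (hx : x ≠ 0) : nfix x x ≤ 64 := by
  have hb := List.all_eq_true.1 tb_count x (all16_mem x)
  simp only [Bool.or_eq_true, beq_iff_eq, hx, false_or] at hb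
  refine le_trans (le_of_eq ?_) (Nat.le_of_ble_eq_true hb)
  rw [nfix, ← List.countP_eq_length_filter,
    show List.range 256 = (List.finRange 256).map Fin.val from (List.map_coe_finRange_eq_range).symm, List.countP_map]
  exact List.countP_congr fun s _ => by
    simp only [Function.comp_apply, Bool.and_self, beq_iff_eq, ← tb_eq, Fin.val_inj]

theorem fix_pair {x y : Fin 2 × Fin 2 × Fin 2 × Fin 2} (hx : x ≠ 0) (hy : y ≠ 0) (hxy : x ≠ y)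
    (h : ∀ s, f16 x (f16 y s) = f16 y (f16 x s)) : nfix x y ≤ 16 := by
  have hb := List.all_eq_true.1 (List.all_eq_true.1 pairT_all x (all16_mem x)) y (all16_mem y)
  simp only [Bool.or_eq_true, beq_iff_eq, hx, hy, hxy, false_or, pairT] at hb
  rcases hb with (e | e) | e
  · exact absurd (tb_inj _ _ e) hxy
  · refine le_trans (le_of_eq ?_) (Nat.le_of_ble_eq_true e)
    rw [nfix, ← List.countP_eq_length_filter,
      show List.range 256 = (List.finRange 256).map Fin.val from (List.map_coe_finRange_eq_range).symm, List.countP_map]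
    exact List.countP_congr fun s _ => by
      simp only [Function.comp_apply, Bool.and_eq_true, beq_iff_eq, ← tb_eq, Fin.val_inj]
  · rw [Bool.not_eq_true', List.all_eq_false] at e
    obtain ⟨s, hs, hne⟩ := e
    refine absurd ?_ hne
    rw [beq_iff_eq]
    have := congrArg Fin.val (h ⟨s, List.mem_range.1 hs⟩)
    rwa [tb_eq, tb_eq, tb_eq, tb_eq] at this

theorem noncomm : ∃ s, f16 (0, 1, 0, 0) (f16 (0, 0, 0, 1) s) ≠ f16 (0, 0, 0, 1) (f16 (0, 1, 0, 0) s) := by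
  decide +kernel

variable {G : Type u} [Group G]

/-- Subgroups of order a power of a prime are conjugate into a given Sylow subgroup of a subgroup. -/
theorem conj_sylow [Finite G] {p : ℕ} [Fact p.Prime] {C P0 : Subgroup G} (hle : P0 ≤ C) (h0 : IsPGroup p P0)
    (hidx : ¬ p ∣ (P0.subgroupOf C).index) {R : Subgroup G} (hRC : R ≤ C) (hR : IsPGroup p R) :
    ∃ k ∈ C, ∀ r ∈ R, k * r * k⁻¹ ∈ P0 := by
  have h0' : IsPGroup p (P0.subgroupOf C) := h0.of_equiv (subgroupOfEquivOfLe hle).symm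
  have hR' : IsPGroup p (R.subgroupOf C) := hR.of_equiv (subgroupOfEquivOfLe hRC).symm
  obtain ⟨S', hS'⟩ := hR'.exists_le_sylow
  obtain ⟨k, hk⟩ := MulAction.exists_smul_eq C S' (h0'.toSylow hidx)
  refine ⟨k, k.2, fun r hr => ?_⟩
  have h : k * ⟨r, hRC hr⟩ * k⁻¹ ∈ P0.subgroupOf C := by
    rw [← IsPGroup.mem_toSylow h0' hidx, ← hk]
    exact Subgroup.smul_mem_pointwise_smul _ (MulAut.conj k) _ (hS' (mem_subgroupOf.2 hr))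
  exact mem_subgroupOf.1 h

namespace Frame

variable [Finite G] (F : Frame G)

/-- Lifts with matrices in the two-part. -/
def N2 : Subgroup G where
  carrier := {g | ∃ M ∈ L32, F.Lift g M}
  one_mem' := ⟨idM, L32_facts.1, F.lift_one⟩
  mul_mem' := by
    rintro a b ⟨M, hM, ha⟩ ⟨N, hN, hb⟩
    exact ⟨_, of_decide_eq_true (List.all_eq_true.1 (List.all_eq_true.1 L32_facts.2.1 M hM) N hN), F.lift_mul ha hb⟩
  inv_mem' := by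
    rintro a ⟨M, hM, ha⟩
    obtain ⟨-, h16, -⟩ := of_decide_eq_true (List.all_eq_true.1 L32_facts.2.2 M hM)
    refine ⟨powM M 15, ?_, ?_⟩
    · have : ∀ n, powM M n ∈ L32 := by
        intro n
        induction n with
        | zero => exact L32_facts.1
        | succ n ih => exact of_decide_eq_true (List.all_eq_true.1 (List.all_eq_true.1 L32_facts.2.1 _ ih) M hM)
      exact this 15
    · have h := F.lift_pow ha 15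
      have e : a ^ 16 = 1 := F.lift_unique (F.lift_pow ha 16) (h16 ▸ F.lift_one)
      rwa [show a ^ 15 = a⁻¹ from eq_inv_of_mul_eq_one_left (by rw [← pow_succ, e])] at h

theorem N2_le : F.N2 ≤ F.CN := by
  rintro g ⟨M, hM, hg⟩
  exact ⟨F.mem_N hg.1, F.mem_Kt.2 (F.lift_nT_comm hg (of_decide_eq_true (List.all_eq_true.1 L32_facts.2.2 M hM)).1)⟩

/-- The Sylow two-subgroup. -/
noncomputable def P2 : Subgroup G := F.W ⊔ F.N2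

theorem W_le_P2 : F.W ≤ F.P2 := le_sup_left

theorem P2_le : F.P2 ≤ F.K0 := sup_le F.W_le_K0 (F.N2_le.trans F.CN_le_K0)

theorem P2_isP : IsPGroup 2 F.P2 := by
  refine IsPGroup.to_sup_of_normal_left' (fun g => ⟨2, Subtype.ext ?_⟩) (fun g => ⟨4, Subtype.ext ?_⟩)
    (F.N2_le.trans F.CN_norm)
  · rw [SubgroupClass.coe_pow, coe_one]; exact F.W_four g.2
  · obtain ⟨M, hM, hg⟩ := g.2
    rw [SubgroupClass.coe_pow, coe_one]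
    exact F.lift_unique (F.lift_pow hg 16) ((of_decide_eq_true (List.all_eq_true.1 L32_facts.2.2 M hM)).2.1 ▸ F.lift_one)

theorem mem_P2 {g : G} (h : g ∈ F.P2) : ∃ w ∈ F.W, ∃ n ∈ F.N2, g = w * n := by
  have h' : g ∈ ((F.W ⊔ F.N2 : Subgroup G) : Set G) := h
  rw [coe_mul_of_right_le_normalizer_left _ _ (F.N2_le.trans F.CN_norm)] at h'
  obtain ⟨a, ha, b, hb, rfl⟩ := h'
  exact ⟨a, ha, b, hb, rfl⟩

theorem P81_le_K0 : F.P81 ≤ F.K0 :=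
  sup_le ((show F.Jt ≤ F.CN from fun _ h => ⟨F.J_le_N h.1, h.2⟩).trans F.CN_le_K0)
    (zpowers_le.2 (F.CN_le_K0 ⟨F.mem_N F.act_b, F.b_Kt⟩))

theorem K0_split {g : G} (h : g ∈ F.K0) : ∃ p ∈ F.P2, ∃ q ∈ F.P81, g = p * q := by
  obtain ⟨w, hw, n, hn, rfl⟩ := F.mem_K0 h
  obtain ⟨M, hM, hA, -⟩ := F.act_gam hn.1
  have hMT : comp M pT = comp pT M := F.act_unique (F.act_mul hA F.lift_nT.1)
    (by rw [(F.mem_Kt.1 hn.2).eq]; exact F.act_mul F.lift_nT.1 hA)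
  obtain ⟨l, hl⟩ := of_decide_eq_true (List.all_eq_true.1 decomp_facts M hM) hMT
  have hA' := F.act_mul hA (F.act_pow F.act_b (3 - l.val))
  obtain ⟨c, hc⟩ := F.split hA'
  have hb : F.b ^ (3 - l.val) ∈ F.Kt := pow_mem F.b_Kt _
  obtain ⟨hcfix, -⟩ := F.aff_nT (c := -c) hc (by
    rw [← mul_assoc, ← F.e_add, neg_add_cancel, F.e_zero, one_mul]
    exact F.mem_Kt.1 (mul_mem hn.2 hb))
  refine ⟨w * (F.e c * (n * F.b ^ (3 - l.val))), mul_mem (F.W_le_P2 hw) (mem_sup_right ⟨_, hl, hc⟩),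
    (F.e c * (n * F.b ^ (3 - l.val)))⁻¹ * n, ?_, by group⟩
  have e : (F.e c * (n * F.b ^ (3 - l.val)))⁻¹ * n = (F.b ^ (3 - l.val))⁻¹ * (n⁻¹ * (F.e c)⁻¹ * n) := by group
  rw [e]
  refine mul_mem (inv_mem (pow_mem (mem_sup_right (mem_zpowers _)) _)) (mem_sup_left ⟨?_, ?_⟩)
  · have h1 : F.e c ∈ F.Jg := F.e_mem c
    have := (inv_mem (show n ∈ F.N from hn.1) ((F.e c)⁻¹)).2 (inv_mem h1)
    rwa [inv_inv] at this
  · have h1 : F.e c ∈ F.Kt := by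
      have : app pT c = c := by
        have h := congrArg (fun v => -v) hcfix
        have hneg : app pT (-c) = -app pT c := eq_neg_of_add_eq_zero_left (by
          rw [← app_add, neg_add_cancel]; simp only [app]; ext <;> simp)
        simpa [hneg] using h
      exact (F.e_Jt.2 this).2
    exact (mul_mem (mul_mem (inv_mem (show n ∈ F.Kt from hn.2)) (inv_mem h1)) (show n ∈ F.Kt from hn.2) :
      n⁻¹ * (F.e c)⁻¹ * n ∈ F.Kt)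

theorem P2_index : ¬ 2 ∣ (F.P2.subgroupOf F.K0).index := by
  haveI : Fact (Nat.Prime 2) := ⟨Nat.prime_two⟩
  haveI : Fact (Nat.Prime 3) := ⟨Nat.prime_three⟩
  have hcop : (Nat.card F.P2).Coprime (Nat.card F.P81) :=
    IsPGroup.coprime_card_of_ne 2 3 (by norm_num) _ _ F.P2_isP F.P81_isP
  have hdvd : Nat.card F.P2 * Nat.card F.P81 ∣ Nat.card F.K0 :=
    hcop.mul_dvd_of_dvd_of_dvd (card_dvd_of_le F.P2_le) (card_dvd_of_le F.P81_le_K0)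
  have hle : Nat.card F.K0 ≤ Nat.card F.P2 * Nat.card F.P81 := by
    rw [← Nat.card_prod]
    exact Nat.card_le_card_of_surjective (fun p : F.P2 × F.P81 =>
      (⟨p.1 * p.2, mul_mem (F.P2_le p.1.2) (F.P81_le_K0 p.2.2)⟩ : F.K0)) fun g => by
        obtain ⟨p, hp, q, hq, e⟩ := F.K0_split g.2
        exact ⟨(⟨p, hp⟩, ⟨q, hq⟩), Subtype.ext e.symm⟩
  have hcard : Nat.card F.K0 = Nat.card F.P2 * Nat.card F.P81 :=
    le_antisymm hle (Nat.le_of_dvd Nat.card_pos hdvd)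
  have hi : (F.P2.subgroupOf F.K0).index = Nat.card F.P81 := by
    have h := card_mul_index (F.P2.subgroupOf F.K0)
    rw [Nat.card_congr (subgroupOfEquivOfLe F.P2_le).toEquiv, hcard] at h
    exact Nat.eq_of_mul_eq_mul_left Nat.card_pos h
  rw [hi]
  obtain ⟨n, hn⟩ := IsPGroup.iff_card.1 F.P81_isP
  rw [hn]
  intro h
  have := Nat.Prime.dvd_of_dvd_pow Nat.prime_two h
  omega

theorem P2_mv {g : G} (h : g ∈ F.P2) : ∃ (x : Fin 2 × Fin 2 × Fin 2 × Fin 2) (w : G) (n : G) (p : Fin 2),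
    w ∈ F.W ∧ g = w * n ∧ F.Lift n (comp (matIx (x.1, x.2.1, x.2.2.1, 0, x.2.2.2)) (powM pT p.val)) ∧
    F.Mv g (f16 x) := by
  obtain ⟨w, hw, n, ⟨M, hM, hn⟩, rfl⟩ := F.mem_P2 h
  obtain ⟨-, -, x, p, hx⟩ := of_decide_eq_true (List.all_eq_true.1 L32_facts.2.2 M hM)
  subst hx
  refine ⟨x, w, n, p, hw, rfl, hn, ?_⟩
  obtain ⟨x', p', c, hc, hA, hm⟩ := F.CN_mv (F.N2_le ⟨_, hM, hn⟩)
  have key : ∀ x : Fin 2 × Fin 2 × Fin 2 × Fin 2, ∀ p p' : Fin 2, ∀ x' : Ix,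
      comp (matIx (x.1, x.2.1, x.2.2.1, 0, x.2.2.2)) (powM pT p.val) = comp (matIx x') (powM pT p'.val) →
        x' = (x.1, x.2.1, x.2.2.1, 0, x.2.2.2) := fun _ _ _ _ h => (matIx_eq h).symm
  obtain rfl := key x p p' x' (F.act_unique hn.1 hA)
  refine ⟨(F.W_nT hw).mul_left hm.1, fun v s hv => ?_⟩
  -- the translation part is trivial
  obtain ⟨x'', p'', c', o, hc', hA', h0, h1, e⟩ := F.CN_shape (F.N2_le ⟨_, hM, hn⟩)
  obtain rfl := key x p p'' x'' (F.act_unique hn.1 hA')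
  have ho : F.Mv o (itS (gs oM piO) x.2.2.2.val) := by
    have hb : ∀ m : Fin 2, m = 0 ∨ m = 1 := by decide
    rcases hb x.2.2.2 with e' | e'
    · rw [h0 e', e']; exact F.mv_one
    · have := Mv.pow F (F.mv_oM (h1 e')) 1
      rw [pow_one] at this
      rwa [e']
  have hlift : ∃ L, F.Lift (F.inPart (x.1, x.2.1, x.2.2.1, 0, x.2.2.2) * o * F.nT ^ p''.val) L := by
    have hb : ∀ m : Fin 2, m = 0 ∨ m = 1 := by decide
    have hin := F.lift_mul (F.lift_pow (F.nR_lift 0) x.1.val) (F.lift_mul (F.lift_pow (F.nR_lift 2) x.2.1.val)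
      (F.lift_mul (F.lift_pow (F.nR_lift 3) x.2.2.1.val) (F.lift_pow F.dR_lift ((0 : Fin 3) : ℕ))))
    rcases hb x.2.2.2 with e' | e'
    · exact ⟨_, by rw [h0 e', mul_one]; exact F.lift_mul hin (F.lift_pow F.lift_nT _)⟩
    · exact ⟨_, F.lift_mul (F.lift_mul hin (h1 e')) (F.lift_pow F.lift_nT _)⟩
  obtain ⟨L, hL⟩ := hlift
  obtain ⟨hc0, -, hnn⟩ := F.aff_unique (c := 0) (d := c') hn hL (by rw [F.e_zero, one_mul]; exact e)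
  have hin := Mv.mul F (Mv.pow F F.mv_nR0 x.1.val) (Mv.mul F (Mv.pow F F.mv_nR2 x.2.1.val)
    (Mv.mul F (Mv.pow F F.mv_nR3 x.2.2.1.val) (Mv.pow F F.mv_dR ((0 : Fin 3) : ℕ))))
  have ht : F.Mv (F.nT ^ p''.val) (fun s => s) := F.mv_W (pow_mem F.nT_W _)
  have h2 := Mv.mul F (F.mv_W hw) (Mv.mul F (Mv.mul F hin ho) ht)
  have e3 : w * n = w * (F.inPart (x.1, x.2.1, x.2.2.1, 0, x.2.2.2) * o * F.nT ^ p''.val) := by rw [hnn]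
  rw [e3]
  exact h2.2 v s hv

/-- A subgroup of `P2` elementary modulo `t` of order 512 is `W`. -/
theorem unique_W {E : Subgroup G} (hE : E ≤ F.P2) (hcard : Nat.card E = 512)
    (hsq : ∀ a ∈ E, F.Triv (a * a)) (hcm : ∀ a ∈ E, ∀ b ∈ E, F.Sim (a * b) (b * a)) : E ≤ F.W := by
  classical
  choose X w n p hw he hn hm using fun g : E => F.P2_mv (hE g.2)
  have hinj : ∀ g g' : E, X g = X g' → ((g : G))⁻¹ * g' ∈ F.W := fun g g' e => by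
    have h1 := hn g; have h2 := hn g'
    rw [← e] at h2
    obtain ⟨d, hd⟩ : ∃ d ∈ F.W, n g' = n g * d := by
      have hb : ∀ a b : Fin 2, a = b ∨ (b.val = a.val + 1 ∨ a.val = b.val + 1) := by decide
      rcases hb (p g) (p g') with h | h | h
      · exact ⟨1, one_mem _, by rw [mul_one, F.lift_unique h2 (h ▸ h1)]⟩
      all_goals
        refine ⟨F.nT, F.nT_W, F.lift_unique h2 ?_⟩
        have := F.lift_mul h1 F.lift_nT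
        rw [← comp_assoc] at this
        convert this using 3
        have k : ∀ a b : Fin 2, (b.val = a.val + 1 ∨ a.val = b.val + 1) → powM pT b.val = comp (powM pT a.val) pT := by
          decide +kernel
        exact k _ _ (by omega)
    rw [he g, he g', hd.2, show (w g * n g)⁻¹ * (w g' * (n g * d)) =
      (n g)⁻¹ * ((w g)⁻¹ * w g') * n g * d by group]
    refine mul_mem ?_ hd.1
    have hN : n g ∈ F.CN := by
      have := mul_mem (inv_mem (F.W_le_K0 (hw g))) (F.P2_le (hE g.2))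
      rw [he g, inv_mul_cancel_left] at this
      exact ⟨F.mem_N (hn g).1, F.K0_le_Kt this⟩
    have := F.W_norm (inv_mem hN.1) (F.mem_Kt.1 hN.2).inv_left (mul_mem (inv_mem (hw g)) (hw g'))
    rwa [inv_inv] at this
  let S : Finset (Fin 2 × Fin 2 × Fin 2 × Fin 2) := Finset.univ.filter fun x => ∃ g : E, X g = x
  have hmS : ∀ {x}, x ∈ S ↔ ∃ g : E, X g = x := fun {x} => by simp [S]
  -- the fixed states
  let E1 : Subgroup E := F.W.subgroupOf E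
  have hfixed : ∀ w : E1, ∀ s, F.Is ((w : E) : G) s → ∀ g : E, f16 (X g) s = s := fun v s hs g => by
    have h := (hm g).2 _ s hs
    refine Is.unique F h hs ?_
    have hc := hcm g g.2 _ (v : E).2
    rcases hc with e | e
    · exact .inl (by rw [e, mul_inv_cancel_right])
    · refine .inr ?_
      rw [e]
      have hgT : Commute ((g : G))⁻¹ F.nT := ((hm g).1).inv_left
      rw [mul_assoc _ F.nT, ← hgT.eq]; group
  have hidx : E1.index ≤ S.card := by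
    rw [index, ← Fintype.card_coe S, ← Nat.card_eq_fintype_card]
    refine Nat.card_le_card_of_injective (fun q => (⟨X q.out, hmS.2 ⟨_, rfl⟩⟩ : S)) fun q q' e => ?_
    have h := hinj _ _ (congrArg Subtype.val e)
    rw [← q.out_eq', ← q'.out_eq', QuotientGroup.eq]
    exact mem_subgroupOf.2 h
  have hle : ∀ L : List (Fin 256), (∀ v : E1, ∀ s, F.Is ((v : E) : G) s → s ∈ L) → Nat.card E1 ≤ 2 * L.length := by
    intro L hL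
    choose st hst using fun v : E1 => F.is_exists (show ((v : E) : G) ∈ F.W from mem_subgroupOf.1 v.2)
    have base : ∀ s : Fin 256, ∃ r : G, (∃ v : E1, st v = s) → F.Is r s := fun s => by
      by_cases h : ∃ v : E1, st v = s
      · obtain ⟨v, rfl⟩ := h; exact ⟨_, fun _ => hst v⟩
      · exact ⟨1, fun h' => absurd h' h⟩
    choose r hr using base
    refine le_trans (Nat.card_le_card_of_injective
      (fun v : E1 => ((⟨st v, List.mem_toFinset.2 (hL v _ (hst v))⟩ : L.toFinset), decide (((v : E) : G) = r (st v))))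
      fun v v' e => ?_) ?_
    · simp only [Prod.mk.injEq, Subtype.mk.injEq, decide_eq_decide] at e
      obtain ⟨es, eb⟩ := e
      rw [← es] at eb
      refine Subtype.ext (Subtype.ext ?_)
      have h1 := Is.sim F (hst v) (hr _ ⟨v, rfl⟩)
      have h2 := Is.sim F (es ▸ hst v' : F.Is _ (st v)) (hr _ ⟨v, rfl⟩)
      rcases h1 with h1 | h1
      · rw [h1, (eb.1 h1)]
      rcases h2 with h2 | h2
      · rw [h2, eb.2 h2]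
      · rw [h1, h2]
    · rw [Nat.card_prod, Nat.card_eq_fintype_card, Nat.card_eq_fintype_card, Fintype.card_coe, Fintype.card_bool,
        mul_comm]
      exact Nat.mul_le_mul_left _ (List.toFinset_card_le L)
  have htot := card_mul_index E1
  rw [hcard] at htot
  have hE1 : Nat.card E1 ≤ 512 := hcard ▸ card_le_card_group E1
  by_cases hall : ∀ g : E, X g = 0
  · intro a ha
    have h := hn ⟨a, ha⟩
    rw [hall] at h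
    have e := he ⟨a, ha⟩
    rw [show a = ((⟨a, ha⟩ : E) : G) from rfl, e]
    refine mul_mem (hw _) ?_
    have hb : ∀ q : Fin 2, q = 0 ∨ q = 1 := by decide
    have k0 : comp (matIx (0, 0, 0, 0, 0)) (powM pT 0) = idM ∧ comp (matIx (0, 0, 0, 0, 0)) (powM pT 1) = pT := by
      decide +kernel
    rcases hb (p ⟨a, ha⟩) with hp | hp <;> rw [hp] at h
    · rw [F.lift_unique h (k0.1.symm ▸ F.lift_one)]; exact one_mem _
    · rw [F.lift_unique h (k0.2.symm ▸ F.lift_nT)]; exact F.nT_W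
  push_neg at hall
  obtain ⟨g1, hg1⟩ := hall
  exfalso
  set a := X g1
  by_cases htwo : ∀ g : E, X g = 0 ∨ X g = a
  · have hS : S.card ≤ 2 := le_trans (Finset.card_le_card (show S ⊆ {0, a} from fun x hx => by
      obtain ⟨g, rfl⟩ := hmS.1 hx
      rcases htwo g with e | e <;> rw [e] <;> simp)) Finset.card_le_two
    have h1 := hle ((List.finRange 256).filter fun s => f16 a s == s && f16 a s == s) fun v s hs => by
      simp [List.mem_filter, a, hfixed v s hs g1]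
    have h2 : ((List.finRange 256).filter fun s => f16 a s == s && f16 a s == s).length ≤ 64 := fix_one (x := a) hg1
    have := Nat.mul_le_mul h1 (hidx.trans hS)
    omega
  · push_neg at htwo
    obtain ⟨g2, hg20, hg2a⟩ := htwo
    have hcommf : ∀ g g' : E, ∀ s, f16 (X g) (f16 (X g') s) = f16 (X g') (f16 (X g) s) := fun g g' s => by
      have m1 := Mv.mul F (hm g) (hm g')
      have m2 := Mv.mul F (hm g') (hm g)
      have m1' : F.Mv ((g' : G) * g) (fun s => f16 (X g) (f16 (X g') s)) := by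
        refine ⟨m2.1, fun v r hv => ?_⟩
        rcases hcm g' g'.2 g g.2 with e | e <;> rw [e]
        · exact m1.2 v r hv
        · refine Is.of_sim F (m1.2 v r hv) (.inl ?_)
          have hv' : Commute v F.nT := F.W_nT (Is.mem F hv)
          calc (g : G) * g' * F.nT * v * ((g : G) * g' * F.nT)⁻¹ = g * g' * (F.nT * v * F.nT⁻¹) * ((g : G) * g')⁻¹ := by
                group
            _ = _ := by rw [← hv'.eq, mul_inv_cancel_right]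
      obtain ⟨v, hv, hvs⟩ : ∃ v, v ∈ F.W ∧ F.Is v s := by
        refine ⟨wp fun k => F.rep k (dg s k), ⟨_, fun k => F.rep_mem k _, rfl⟩, _, fun k => F.rep_mem k _, rfl,
          fun k => Sim.refl F _⟩
      exact Mv.unique F m1' m2 hvs
    have h1 := hle ((List.finRange 256).filter fun s => f16 a s == s && f16 (X g2) s == s) fun v s hs => by
      simp [List.mem_filter, a, hfixed v s hs g1, hfixed v s hs g2]
    have h2 : ((List.finRange 256).filter fun s => f16 a s == s && f16 (X g2) s == s).length ≤ 16 :=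
      fix_pair (x := a) (y := X g2) hg1 hg20 (Ne.symm hg2a) (hcommf g1 g2)
    have hS : S.card ≤ 16 := le_trans (Finset.card_le_univ S) (by simp)
    have h3 := Nat.mul_le_mul h1 hidx
    have h16 : S = Finset.univ := Finset.eq_univ_of_card S (by
      simp only [Fintype.card_prod, Fintype.card_fin]
      by_contra hne
      have hS' : S.card ≤ 15 := by omega
      have := Nat.mul_le_mul h1 (hidx.trans hS')
      omega)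
    obtain ⟨s, hs⟩ := noncomm
    obtain ⟨e1, he1⟩ := hmS.1 (h16 ▸ Finset.mem_univ (0, 1, 0, 0))
    obtain ⟨e2, he2⟩ := hmS.1 (h16 ▸ Finset.mem_univ (0, 0, 0, 1))
    exact hs (he1 ▸ he2 ▸ hcommf e1 e2 s)

end Frame

end CfsgLib.O8T
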