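import Cfsg.Agent.Lib.OEightPlusThree.Adjacent

/-!
The subgroup of order 81 is the only abelian one of that order in the Sylow subgroup; a conjugating element
normalizing it.
-/

set_option autoImplicit false

namespace CfsgLib.O8T

open Subgroup

universe u

theorem sl_three_conj : ∀ m m' : SL23, m * m * m = 1 → m ≠ 1 → m' * m' * m' = 1 → m' ≠ 1 →
    ∃ k : SL23, k * m * k⁻¹ = m' ∨ k * m * k⁻¹ = m' * m' := by decide +kernel

variable {G : Type u} [Group G]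

namespace Adj

variable {D D' : Setting G} (A : Adj D D')

include A

variable [Finite G]

theorem w_P {w : G} (hw : w ∈ D'.J0 D) : w ∈ D'.P D := A.symm.J0_le_P hw

theorem J_le_Ct : D.J D' ≤ D.Ct :=
  sup_le ((D.J0_le D').trans D.Q_le_Ct) fun _ hw => (A.symm.J0_le_P hw).2

theorem centQ_J0 {q : G} (hq : q ∈ D.Q) (h : ∀ a ∈ D.J0 D', q * a = a * q) : q ∈ D.J0 D' := by
  have h1 := D.abelian_Q (sup_le (D.J0_le D') (zpowers_le.2 hq) : D.J0 D' ⊔ zpowers q ≤ D.Q)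
    (comm_sup A.J0_comm
      (fun a ha b hb => by
        obtain ⟨i, rfl⟩ := mem_zpowers_iff.1 ha
        obtain ⟨j, rfl⟩ := mem_zpowers_iff.1 hb
        exact ((Commute.refl q).zpow_zpow i j).eq)
      (fun a ha b hb => by
        obtain ⟨j, rfl⟩ := mem_zpowers_iff.1 hb
        exact ((show Commute a q from (h a ha).symm).zpow_right j).eq))
  exact (eq_of_le_of_card_ge (le_sup_left : D.J0 D' ≤ D.J0 D' ⊔ zpowers q) (by rw [A.card_J0]; exact h1)).symm ▸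
    mem_sup_right (mem_zpowers q)

theorem J_inf_Q : D.J D' ⊓ D.Q = D.J0 D' := by
  refine le_antisymm (fun a ha => ?_) (le_inf A.J0_le_J (D.J0_le D'))
  exact A.centQ_J0 ha.2 fun b hb => A.J_comm a ha.1 b (A.J0_le_J hb)

/-- An abelian subgroup of order 81 over the same element of order three is `J`. -/
theorem unique {T : Subgroup G} (hT : T ≤ D.Ct) (hc : ∀ a ∈ T, ∀ b ∈ T, a * b = b * a) (hcard : Nat.card T = 81)
    {w : G} (hw : w ∈ D'.J0 D) (hwQ : w ∉ D.Q)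
    (him : ∀ (a : G) (ha : a ∈ T),
      D.ψ ⟨a, hT ha⟩ ∈ zpowers (D.ψ ⟨w, (A.symm.J0_le_P hw).2⟩)) : T = D.J D' := by
  have hwC := (A.symm.J0_le_P hw).2
  have hwJ : w ∈ D.J D' := mem_sup_right hw
  set v := D.ψ ⟨w, hwC⟩ with hv
  have hv3 : v * v * v = 1 := by
    rw [hv, ← map_mul, ← map_mul, show (⟨w, hwC⟩ : D.Ct) * ⟨w, hwC⟩ * ⟨w, hwC⟩ = 1 from
      Subtype.ext (D'.cube hw.1), map_one]
  have hsplit : ∀ u ∈ T, ∃ q ∈ D.Q, ∃ j : ℕ, u = q * w ^ j := by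
    intro u hu
    obtain ⟨j, hj⟩ : ∃ j : ℕ, D.ψ ⟨u, hT hu⟩ = v ^ j := by
      rcases zpowers_three hv3 (him u hu) with h | h | h
      · exact ⟨0, by rw [h, pow_zero]⟩
      · exact ⟨1, by rw [h, pow_one]⟩
      · exact ⟨2, by rw [h, pow_two]⟩
    refine ⟨u * (w ^ j)⁻¹, ?_, j, by group⟩
    have := (D.ψ_ker (⟨u, hT hu⟩ * ((⟨w, hwC⟩ : D.Ct) ^ j)⁻¹)).1 (by
      rw [map_mul, map_inv, map_pow, hj, hv, mul_inv_cancel])
    simpa using this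
  have h27 : 27 ≤ Nat.card (T ⊓ D.Q : Subgroup G) := by
    have hP : IsPGroup 3 T := IsPGroup.of_card (n := 4) (by rw [hcard]; norm_num)
    have := D.inter_index hP hT
    omega
  obtain ⟨u, hu, huQ⟩ : ∃ u ∈ T, u ∉ D.Q := by
    by_contra h
    push Not at h
    have := D.abelian_Q (B := T) h hc
    omega
  obtain ⟨q, hq, j, rfl⟩ := hsplit u hu
  have hwj : w ^ j ∈ D'.P D := pow_mem (A.symm.J0_le_P hw) j
  have hwjQ : w ^ j ∉ D.Q := fun h => huQ (mul_mem hq h)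
  have hTQ : T ⊓ D.Q ≤ D.J0 D' := fun a ha => by
    refine A.mem_J0_of ha.2 hwj hwjQ ?_
    have h1 : q * w ^ j * a * (q * w ^ j)⁻¹ * a⁻¹ = 1 := by rw [hc _ hu a ha.1]; group
    have h2 := D.Q_comm q⁻¹ (inv_mem hq) a ha.2
    have e : w ^ j * a * (w ^ j)⁻¹ * a⁻¹ =
        q⁻¹ * (q * w ^ j * a * (q * w ^ j)⁻¹ * a⁻¹) * q⁻¹⁻¹ * (q⁻¹ * a * q⁻¹⁻¹ * a⁻¹) := by group
    rw [e, h1, mul_one, mul_inv_cancel, one_mul]
    exact h2
  have heq : T ⊓ D.Q = D.J0 D' := eq_of_le_of_card_ge hTQ (by rw [A.card_J0]; exact h27)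
  refine eq_of_le_of_card_ge (fun a ha => ?_) (by rw [A.card_J, hcard])
  obtain ⟨r, hr, i, rfl⟩ := hsplit a ha
  refine mul_mem (A.J0_le_J (A.centQ_J0 hr fun b hb => ?_)) (pow_mem hwJ i)
  have hb' : b ∈ T := (heq.ge hb).1
  have h1 := hc _ ha b hb'
  have h2 : w ^ i * b = b * w ^ i := A.J_comm _ (pow_mem hwJ i) b (A.J0_le_J hb)
  refine mul_right_cancel (b := w ^ i) ?_
  calc r * b * w ^ i = r * w ^ i * b := by rw [mul_assoc, ← h2, mul_assoc]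
    _ = b * (r * w ^ i) := h1
    _ = b * r * w ^ i := by rw [mul_assoc]

/-- An element normalizing `J` and moving the centre to the conjugate. -/
theorem exists_move_J {g : G} (hg : D' = D.conj g) :
    ∃ h : G, h * D.z * h⁻¹ = D'.z ∧ (∀ a, h * a * h⁻¹ ∈ D.J D' ↔ a ∈ D.J D') ∧
      (∀ a ∈ D.J0 D', h * a * h⁻¹ ∈ D'.J0 D) ∧ (∀ a ∈ D.Q, h * a * h⁻¹ ∈ D'.Q) ∧
      (∀ a, h * a * h⁻¹ ∈ D'.Q → a ∈ D.Q) := by
  obtain ⟨w, hw, hwQ⟩ := A.exists_J_out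
  obtain ⟨p, hp, hpQ⟩ := A.symm.exists_J_out
  obtain ⟨m, hm3, hm1, hm⟩ := A.symm.ψ_out (A.symm.J0_le_P hw) hwQ
  obtain ⟨m', hm3', hm1', hm'⟩ := A.ψ_out (A.J0_le_P hp) hpQ
  obtain ⟨k, hk⟩ := sl_three_conj m m' hm3 hm1 hm3' hm1'
  obtain ⟨y, hy⟩ := D'.ψ_SL k
  have hz' : D'.z = g * D.z * g⁻¹ := by rw [hg]; rfl
  have hQ' : D'.Q = D.Q.map (MulAut.conj g).toMonoidHom := by rw [hg]; rfl
  set h : G := (y : G) * g with hhd
  have hyz : (y : G) * D'.z = D'.z * y := D'.mem_Ct.1 y.2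
  have hz : h * D.z * h⁻¹ = D'.z := by
    rw [hhd, mul_inv_rev, show (y : G) * g * D.z * (g⁻¹ * (y : G)⁻¹) = (y : G) * (g * D.z * g⁻¹) * (y : G)⁻¹ by group,
      ← hz', hyz, mul_inv_cancel_right]
  have hQ : ∀ a ∈ D.Q, h * a * h⁻¹ ∈ D'.Q := fun a ha => by
    have : g * a * g⁻¹ ∈ D'.Q := hQ'.ge ⟨a, ha, rfl⟩
    have := D'.conj_Q y.2 this
    rw [show h * a * h⁻¹ = (y : G) * (g * a * g⁻¹) * (y : G)⁻¹ by rw [hhd]; group]
    exact this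
  have hQback : ∀ a, h * a * h⁻¹ ∈ D'.Q → a ∈ D.Q := fun a ha => by
    have h1 := D'.conj_Q (inv_mem y.2) ha
    obtain ⟨b, hb, e⟩ := hQ'.le h1
    have e' : g * b * g⁻¹ = g * a * g⁻¹ := by
      rw [show g * b * g⁻¹ = (MulAut.conj g).toMonoidHom b from rfl, e, hhd]; group
    rwa [mul_right_cancel e' |> mul_left_cancel] at hb
  set T : Subgroup G := (D.J D').map (MulAut.conj h).toMonoidHom with hTd
  have hT : T ≤ D'.Ct := by
    rintro _ ⟨a, ha, rfl⟩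
    show h * a * h⁻¹ ∈ D'.Ct
    rw [D'.mem_Ct, ← hz]
    calc h * a * h⁻¹ * (h * D.z * h⁻¹) = h * (a * D.z) * h⁻¹ := by group
      _ = h * (D.z * a) * h⁻¹ := by rw [D.mem_Ct.1 (A.J_le_Ct ha)]
      _ = h * D.z * h⁻¹ * (h * a * h⁻¹) := by group
  have hTcard : Nat.card T = 81 := by
    rw [hTd, card_map_of_injective (f := (MulAut.conj h).toMonoidHom) (MulAut.conj h).injective, A.card_J]
  have hTc : ∀ a ∈ T, ∀ b ∈ T, a * b = b * a := by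
    rintro _ ⟨a, ha, rfl⟩ _ ⟨b, hb, rfl⟩
    rw [← map_mul, ← map_mul, A.J_comm a ha b hb]
  have hgen : ∀ (a : G) (ha : a ∈ T), D'.ψ ⟨a, hT ha⟩ ∈ zpowers (D'.ψ ⟨p, (A.J0_le_P hp).2⟩) := by
    rintro _ ⟨a, ha, rfl⟩
    obtain ⟨b, hb, d, hd, rfl⟩ := mem_sup_comm
      (fun a ha b hb => A.J_comm a (mem_sup_left ha) b (mem_sup_right hb)) ha
    have hbT : h * b * h⁻¹ ∈ D'.Q := hQ b hb.1
    -- the image of the generator
    have hψ : ∀ (e : G) (he : g * e * g⁻¹ ∈ D'.Ct) (he' : e ∈ D.Ct), D'.ψ ⟨g * e * g⁻¹, he⟩ = D.ψ ⟨e, he'⟩ := by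
      subst hg
      intro e he he'
      show D.ψ _ = _
      exact congrArg D.ψ (Subtype.ext (by
        show (MulAut.conj g).symm (g * e * g⁻¹) = e
        simp [mul_assoc]))
    have hdC : g * d * g⁻¹ ∈ D'.Ct := by
      rw [D'.mem_Ct, hz']
      calc g * d * g⁻¹ * (g * D.z * g⁻¹) = g * (d * D.z) * g⁻¹ := by group
        _ = g * (D.z * d) * g⁻¹ := by rw [D.mem_Ct.1 (A.symm.J0_le_P hd).2]
        _ = g * D.z * g⁻¹ * (g * d * g⁻¹) := by group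
    have hr : D.ψ ⟨d, (A.symm.J0_le_P hd).2⟩ ∈ zpowers (D.ψ ⟨w, (A.symm.J0_le_P hw).2⟩) := by
      rcases A.symm.range_P (A.symm.J0_le_P hw) hwQ (A.symm.J0_le_P hd) with e | e | e <;> rw [e]
      exacts [one_mem _, mem_zpowers _, mul_mem (mem_zpowers _) (mem_zpowers _)]
    have e : (⟨(MulAut.conj h).toMonoidHom (b * d), hT ⟨_, ha, rfl⟩⟩ : D'.Ct) =
        ⟨h * b * h⁻¹, D'.Q_le_Ct hbT⟩ * (y * ⟨g * d * g⁻¹, hdC⟩ * y⁻¹) := Subtype.ext (by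
      show h * (b * d) * h⁻¹ = h * b * h⁻¹ * ((y : G) * (g * d * g⁻¹) * (y : G)⁻¹)
      rw [hhd]; group)
    rw [e, map_mul, (D'.ψ_ker ⟨_, D'.Q_le_Ct hbT⟩).2 hbT, one_mul, map_mul, map_mul, map_inv, hψ d hdC (A.symm.J0_le_P hd).2]
    obtain ⟨n, hn⟩ := mem_zpowers_iff.1 hr
    rw [← hn, ← conj_zpow]
    refine zpow_mem ?_ n
    rw [hm, hm', hy]
    rcases hk with hk | hk
    · rw [show ((k, (1 : Multiplicative (ZMod 2))) : SX) * (m, 1) * (k, 1)⁻¹ = (m', 1) from Prod.ext hk (by simp)]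
      exact mem_zpowers _
    · rw [show ((k, (1 : Multiplicative (ZMod 2))) : SX) * (m, 1) * (k, 1)⁻¹ = (m', 1) * (m', 1) from
        Prod.ext hk (by simp)]
      exact mul_mem (mem_zpowers _) (mem_zpowers _)
  have hTJ : T = D.J D' := (A.symm.unique hT hTc hTcard hp hpQ hgen).trans (D.J_symm D')
  have hJ : ∀ a, h * a * h⁻¹ ∈ D.J D' ↔ a ∈ D.J D' := fun a => by
    constructor
    · intro ha
      rw [← hTJ] at ha
      obtain ⟨b, hb, e⟩ := ha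
      rwa [← (MulAut.conj h).injective e]
    · exact fun ha => hTJ.le ⟨a, ha, rfl⟩
  refine ⟨h, hz, hJ, fun a ha => ?_, hQ, hQback⟩
  rw [← A.symm.J_inf_Q, D.J_symm]
  exact ⟨(hJ a).2 (A.J0_le_J ha), hQ a ha.1⟩

end Adj

end CfsgLib.O8T
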