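import Cfsg.Agent.Lib.OEightPlusThree.StatesW

/-!
The classes of the elements of `W`: the translates of `x₀` are conjugate to `t`, the elements with two components
to `u`, and the remaining involutions to `e`.
-/

set_option autoImplicit false
set_option synthInstance.maxSize 4096
set_option maxRecDepth 8000

namespace CfsgLib.O8T

open Subgroup

universe u

/-- The coordinate of a reflection removed. -/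
def rmV (δ : V4) (a : Fin 4) : V4 := -(δ + app (nM a) δ)

/-- The states of the translates of `x₀`. -/
def IsY (s : Fin 256) : Prop := ∃ γ : V4, app pT γ = γ ∧ tr γ 85 = s

instance (s : Fin 256) : Decidable (IsY s) := inferInstanceAs (Decidable (∃ _, _))

/-- Data for the states conjugate to `u`. -/
def uCover : List (V4 × V4 × Fin 4 × Fin 4) :=
  [((0, 0, 0, 0), (0, 1, 0, 1), 0, 2), ((0, 0, 0, 0), (0, 1, 0, 1), 0, 3), ((0, 0, 0, 0), (0, 1, 0, 1), 2, 0), ((0, 0, 0, 0), (0, 1, 0, 1), 2, 3), ((0, 0, 0, 0), (0, 1, 0, 1), 3, 0), ((0, 0, 0, 0), (0, 1, 0, 1), 3, 2), ((0, 0, 0, 1), (0, 1, 0, 1), 0, 2), ((0, 0, 0, 1), (0, 1, 0, 1), 0, 3), ((0, 0, 0, 1), (0, 1, 0, 1), 2, 0), ((0, 0, 0, 1), (0, 1, 0, 1), 3, 0), ((0, 0, 0, 2), (0, 1, 0, 1), 0, 2), ((0, 0, 0, 2), (0, 1, 0, 1), 0, 3), ((0, 0, 0, 2), (0, 1, 0, 1), 2,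 0), ((0, 0, 0, 2), (0, 1, 0, 1), 3, 0), ((0, 0, 1, 0), (0, 1, 0, 1), 0, 3), ((0, 0, 1, 0), (0, 1, 0, 1), 2, 0), ((0, 0, 1, 0), (0, 1, 0, 1), 2, 3), ((0, 0, 1, 1), (0, 1, 0, 1), 0, 3), ((0, 0, 1, 1), (0, 1, 0, 1), 2, 0), ((0, 0, 1, 2), (0, 1, 0, 1), 0, 3), ((0, 0, 1, 2), (0, 1, 0, 1), 2, 0), ((1, 1, 0, 0), (0, 1, 0, 1), 2, 3), ((1, 1, 0, 0), (0, 1, 0, 1), 3, 2), ((1, 1, 1, 0), (0, 1, 0, 1), 2, 3), ((2, 2, 0, 0), (0, 1, 0, 1), 2, 3), ((2, 2, 0, 0), (0, 1, 0, 1), 3, 2), ((2, 2, 1, 0), (0, 1, 0, 1), 2, 3), ((0, 0, 0, 0), (0, 1, 0, 2), 0, 2), ((0, 0, 0, 0), (0, 1, 0, 2), 0, 3), ((0, 0, 0, 0), (0, 1, 0, 2), 2, 0), ((0, 0, 0, 0), (0, 1, 0, 2), 3, 0), ((0, 0, 0, 1), (0, 1, 0, 2), 0, 2), ((0, 0, 0, 1), (0, 1, 0, 2), 0, 3), ((0, 0, 0, 1), (0, 1, 0, 2), 2, 0), ((0, 0, 0, 1), (0, 1, 0, 2), 3, 0), ((0, 0, 0, 2), (0, 1,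 0, 2), 0, 2), ((0, 0, 0, 2), (0, 1, 0, 2), 0, 3), ((0, 0, 0, 2), (0, 1, 0, 2), 2, 0), ((0, 0, 0, 2), (0, 1, 0, 2), 3, 0), ((0, 0, 1, 0), (0, 1, 0, 2), 0, 2), ((0, 0, 1, 0), (0, 1, 0, 2), 3, 0), ((0, 0, 1, 1), (0, 1, 0, 2), 0, 2), ((0, 0, 1, 1), (0, 1, 0, 2), 3, 0), ((0, 0, 1, 2), (0, 1, 0, 2), 0, 2), ((0, 0, 1, 2), (0, 1, 0, 2), 3, 0), ((0, 0, 0, 0), (0, 1, 1, 0), 2, 3), ((0, 0, 0, 0), (0, 1, 1, 0), 3, 2), ((0, 0, 0, 1), (0, 1, 1, 0), 2, 3), ((1, 1, 0, 0), (0, 1, 1, 0), 2, 3), ((1, 1, 0, 0), (0, 1, 1, 0), 3, 2), ((1, 1, 0, 1), (0, 1, 1, 0), 2, 3), ((2, 2, 0, 0), (0, 1, 1, 0), 2, 3), ((2, 2, 0, 0), (0, 1, 1, 0), 3, 2), ((2, 2, 0, 1), (0, 1, 1, 0), 2, 3)]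

/-- Data for the states conjugate to `e`. -/
def eCover : List (V4 × V4 × Fin 4 × Fin 4 × Fin 4) :=
  [((0, 0, 0, 0), (0, 1, 0, 1), 0, 2, 3), ((0, 0, 0, 0), (0, 1, 0, 1), 2, 0, 3), ((0, 0, 0, 0), (0, 1, 0, 1), 3, 0, 2), ((0, 0, 0, 1), (0, 1, 0, 1), 0, 2, 3), ((0, 0, 0, 1), (0, 1, 0, 1), 2, 0, 3), ((0, 0, 0, 1), (0, 1, 0, 1), 3, 0, 2), ((0, 0, 0, 2), (0, 1, 0, 1), 0, 2, 3), ((0, 0, 0, 2), (0, 1, 0, 1), 2, 0, 3), ((0, 0, 0, 2), (0, 1, 0, 1), 3, 0, 2), ((0, 0, 1, 0), (0, 1, 0, 1), 0, 2, 3), ((0, 0, 1, 0), (0, 1, 0, 1), 2, 0, 3), ((0, 0, 1, 1), (0, 1, 0, 1), 0, 2, 3), ((0, 0, 1, 1), (0, 1, 0, 1), 2, 0, 3), ((0, 0, 1, 2), (0, 1, 0, 1), 0, 2, 3), ((0, 0, 1, 2), (0, 1, 0, 1), 2, 0, 3), ((0, 0, 2, 0), (0, 1, 0, 1), 0, 2, 3), ((0, 0, 2, 1), (0, 1, 0, 1), 0, 2, 3), ((0, 0, 2, 2), (0, 1, 0, 1), 0, 2, 3), ((1, 1, 0,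 0), (0, 1, 0, 1), 2, 0, 3), ((1, 1, 0, 0), (0, 1, 0, 1), 3, 0, 2), ((1, 1, 0, 1), (0, 1, 0, 1), 2, 0, 3), ((1, 1, 0, 1), (0, 1, 0, 1), 3, 0, 2), ((1, 1, 0, 2), (0, 1, 0, 1), 2, 0, 3), ((1, 1, 0, 2), (0, 1, 0, 1), 3, 0, 2), ((1, 1, 1, 0), (0, 1, 0, 1), 2, 0, 3), ((1, 1, 1, 1), (0, 1, 0, 1), 2, 0, 3), ((1, 1, 1, 2), (0, 1, 0, 1), 2, 0, 3), ((0, 0, 0, 0), (0, 1, 1, 0), 0, 2, 3), ((0, 0, 0, 0), (0, 1, 1, 0), 2, 0, 3), ((0, 0, 0, 0), (0, 1, 1, 0), 3, 0, 2), ((0, 0, 0, 1), (0, 1, 1, 0), 0, 2, 3), ((0, 0, 0, 1), (0, 1, 1, 0), 2, 0, 3), ((0, 0, 0, 2), (0, 1, 1, 0), 0, 2, 3), ((0, 0, 1, 0), (0, 1, 1, 0), 0, 2, 3), ((0, 0, 1, 0), (0, 1, 1, 0), 2, 0, 3), ((0, 0, 1, 0), (0, 1, 1, 0), 3, 0, 2), ((0, 0, 1, 1), (0, 1, 1, 0), 0, 2, 3), ((0, 0, 1, 1), (0, 1, 1, 0), 2, 0, 3), ((0, 0, 1, 2), (0, 1, 1, 0), 0, 2, 3), ((0, 0,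 2, 0), (0, 1, 1, 0), 0, 2, 3), ((0, 0, 2, 0), (0, 1, 1, 0), 2, 0, 3), ((0, 0, 2, 0), (0, 1, 1, 0), 3, 0, 2), ((0, 0, 2, 1), (0, 1, 1, 0), 0, 2, 3), ((0, 0, 2, 1), (0, 1, 1, 0), 2, 0, 3), ((0, 0, 2, 2), (0, 1, 1, 0), 0, 2, 3), ((1, 1, 0, 0), (0, 1, 1, 0), 2, 0, 3), ((1, 1, 0, 0), (0, 1, 1, 0), 3, 0, 2), ((1, 1, 0, 1), (0, 1, 1, 0), 2, 0, 3), ((1, 1, 1, 0), (0, 1, 1, 0), 2, 0, 3), ((1, 1, 1, 0), (0, 1, 1, 0), 3, 0, 2), ((1, 1, 1, 1), (0, 1, 1, 0), 2, 0, 3), ((1, 1, 2, 0), (0, 1, 1, 0), 2, 0, 3), ((1, 1, 2, 0), (0, 1, 1, 0), 3, 0, 2), ((1, 1, 2, 1), (0, 1, 1, 0), 2, 0, 3)]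

/-- The states reached by the data. -/
def uState (p : V4 × V4 × Fin 4 × Fin 4) : Fin 256 :=
  tr p.1 (sx 85 (tr (rmV p.2.1 p.2.2.2 - rmV p.2.1 p.2.2.1) 85))

/-- The states reached by the data. -/
def eState (p : V4 × V4 × Fin 4 × Fin 4 × Fin 4) : Fin 256 :=
  tr p.1 (sx (sx 85 (tr (rmV p.2.1 p.2.2.2.1 - rmV p.2.1 p.2.2.1) 85))
    (tr (rmV p.2.1 p.2.2.2.2 - rmV p.2.1 p.2.2.1) 85))

theorem cover_facts :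
    (uCover.all fun p => decide (app pT p.1 = p.1 ∧ supp p.2.1 = 4 ∧ p.2.2.1 ≠ p.2.2.2 ∧
      app pT (rmV p.2.1 p.2.2.2 - rmV p.2.1 p.2.2.1) = rmV p.2.1 p.2.2.2 - rmV p.2.1 p.2.2.1)) = true ∧
    (eCover.all fun p => decide (app pT p.1 = p.1 ∧ supp p.2.1 = 4 ∧ p.2.2.1 ≠ p.2.2.2.1 ∧
      p.2.2.1 ≠ p.2.2.2.2 ∧ p.2.2.2.1 ≠ p.2.2.2.2 ∧
      app pT (rmV p.2.1 p.2.2.2.1 - rmV p.2.1 p.2.2.1) = rmV p.2.1 p.2.2.2.1 - rmV p.2.1 p.2.2.1 ∧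
      app pT (rmV p.2.1 p.2.2.2.2 - rmV p.2.1 p.2.2.1) = rmV p.2.1 p.2.2.2.2 - rmV p.2.1 p.2.2.1)) = true ∧
    (∀ s : Fin 256, swt s = 2 → s ∈ uCover.map uState) ∧
    (∀ s : Fin 256, swt s = 4 → IsY s ∨ s ∈ eCover.map eState) ∧
    (∀ s : Fin 256, swt s = 0 → s = 0) ∧ (∀ s : Fin 256, IsY s → swt s = 4) := by decide +kernel

theorem rm_facts : (∀ δ : V4, ∀ a, supp δ = 4 → cfd δ a ≠ 0 ∧ supp (rmV δ a) = 3 ∧ cfd (rmV δ a) a = 0) ∧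
    (∀ δ : V4, supp δ = 4 → -δ + -δ = δ) ∧
    (∀ a : Fin 4, ∃ w ∈ symW, comp (symM w) pT = comp (nM a) (symM w)) ∧
    (∀ a b : Fin 4, a ≠ b → ∃ w ∈ symW, comp (symM w) uM = comp (comp (nM a) (nM b)) (symM w)) ∧
    (∀ a b c : Fin 4, a ≠ b → a ≠ c → b ≠ c → ∃ w ∈ symW,
      comp (symM w) rM = comp (comp (comp (nM a) (nM b)) (nM c)) (symM w)) ∧
    (∃ γ : V4, app pT γ = γ ∧ supp γ = 3 ∧ cfd γ 1 = 0) ∧ (∃ δ : V4, supp δ = 4) := by decide +kernel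

variable {G : Type u} [Group G]

namespace Frame

variable [Finite G] (F : Frame G)

/-- The class of `t`. -/
def Tc (g : G) : Prop := ∃ h, h * F.nT * h⁻¹ = g

/-- The class of `u`. -/
def Uc (g : G) : Prop := ∃ h, h * (F.nR 0 * F.nR 2) * h⁻¹ = g

/-- The class of `e`. -/
def Ec (g : G) : Prop := ∃ h, h * F.rho * h⁻¹ = g

theorem Tc.conj {g : G} (h : F.Tc g) (k : G) : F.Tc (k * g * k⁻¹) := by
  obtain ⟨c, rfl⟩ := h; exact ⟨k * c, by group⟩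

theorem Uc.conj {g : G} (h : F.Uc g) (k : G) : F.Uc (k * g * k⁻¹) := by
  obtain ⟨c, rfl⟩ := h; exact ⟨k * c, by group⟩

theorem Ec.conj {g : G} (h : F.Ec g) (k : G) : F.Ec (k * g * k⁻¹) := by
  obtain ⟨c, rfl⟩ := h; exact ⟨k * c, by group⟩

theorem Tc.not_Uc {g : G} (h : F.Tc g) (h' : F.Uc g) : False := by
  obtain ⟨c, rfl⟩ := h
  obtain ⟨d, hd⟩ := h'
  exact F.t_ne_u (c⁻¹ * d) (by
    rw [show c⁻¹ * d * (F.nR 0 * F.nR 2) * (c⁻¹ * d)⁻¹ = c⁻¹ * (d * (F.nR 0 * F.nR 2) * d⁻¹) * c by group, hd]; group)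

theorem Tc.not_Ec {g : G} (h : F.Tc g) (h' : F.Ec g) : False := by
  obtain ⟨c, rfl⟩ := h
  obtain ⟨d, hd⟩ := h'
  exact F.t_ne_e (d⁻¹ * c) (by
    rw [show d⁻¹ * c * F.nT * (d⁻¹ * c)⁻¹ = d⁻¹ * (c * F.nT * c⁻¹) * d by group, ← hd]; group)

theorem Uc.not_Ec {g : G} (h : F.Uc g) (h' : F.Ec g) : False := by
  obtain ⟨c, rfl⟩ := h
  obtain ⟨d, hd⟩ := h'
  exact F.u_ne_e (d⁻¹ * c) (by
    rw [show d⁻¹ * c * (F.nR 0 * F.nR 2) * (d⁻¹ * c)⁻¹ = d⁻¹ * (c * (F.nR 0 * F.nR 2) * c⁻¹) * d by group, ← hd]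
    group)

/-- Conjugate to `t` in `MN`. -/
def TH (g : G) : Prop := ∃ h ∈ F.Hg, h * F.nT * h⁻¹ = g

/-- Conjugate to `u` in `MN`. -/
def UH (g : G) : Prop := ∃ h ∈ F.Hg, h * (F.nR 0 * F.nR 2) * h⁻¹ = g

/-- Conjugate to `e` in `MN`. -/
def EH (g : G) : Prop := ∃ h ∈ F.Hg, h * F.rho * h⁻¹ = g

theorem TH.tc {g : G} (h : F.TH g) : F.Tc g := by obtain ⟨c, -, e⟩ := h; exact ⟨c, e⟩

theorem UH.uc {g : G} (h : F.UH g) : F.Uc g := by obtain ⟨c, -, e⟩ := h; exact ⟨c, e⟩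

theorem EH.ec {g : G} (h : F.EH g) : F.Ec g := by obtain ⟨c, -, e⟩ := h; exact ⟨c, e⟩

theorem TH.conj {g : G} (h : F.TH g) {k : G} (hk : k ∈ F.Hg) : F.TH (k * g * k⁻¹) := by
  obtain ⟨c, hc, rfl⟩ := h; exact ⟨k * c, mul_mem hk hc, by group⟩

theorem UH.conj {g : G} (h : F.UH g) {k : G} (hk : k ∈ F.Hg) : F.UH (k * g * k⁻¹) := by
  obtain ⟨c, hc, rfl⟩ := h; exact ⟨k * c, mul_mem hk hc, by group⟩

theorem EH.conj {g : G} (h : F.EH g) {k : G} (hk : k ∈ F.Hg) : F.EH (k * g * k⁻¹) := by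
  obtain ⟨c, hc, rfl⟩ := h; exact ⟨k * c, mul_mem hk hc, by group⟩

theorem e_Hg (c : V4) : F.e c ∈ F.Hg := F.M_le_Hg (F.J_M c)

theorem XS_Hg (δ : V4) : F.XS δ ∈ F.Hg := F.M_le_Hg (F.XS_M δ)

theorem swap_Hg (δ : V4) : F.x0 * F.XS δ * F.x0 ∈ F.Hg :=
  mul_mem (mul_mem (F.M_le_Hg F.x0_M) (F.XS_Hg δ)) (F.M_le_Hg F.x0_M)

theorem nR_TH (a : Fin 4) : F.TH (F.nR a) := by
  obtain ⟨w, -, hw⟩ := rm_facts.2.2.1 a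
  obtain ⟨n, hn, -⟩ := F.exists_sym w
  exact ⟨n, F.N_le_Hg (F.mem_N hn.1), F.lift_conj_eq F.lift_nT (F.nR_lift a) hn hw⟩

theorem pair_UH {a b : Fin 4} (h : a ≠ b) : F.UH (F.nR a * F.nR b) := by
  obtain ⟨w, -, hw⟩ := rm_facts.2.2.2.1 a b h
  obtain ⟨n, hn, -⟩ := F.exists_sym w
  exact ⟨n, F.N_le_Hg (F.mem_N hn.1), F.lift_conj_eq F.uR_lift (F.lift_mul (F.nR_lift a) (F.nR_lift b)) hn hw⟩

theorem triple_EH {a b c : Fin 4} (h : a ≠ b) (h' : a ≠ c) (h'' : b ≠ c) : F.EH (F.nR a * F.nR b * F.nR c) := by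
  obtain ⟨w, -, hw⟩ := rm_facts.2.2.2.2.1 a b c h h' h''
  obtain ⟨n, hn, -⟩ := F.exists_sym w
  exact ⟨n, F.N_le_Hg (F.mem_N hn.1), F.lift_conj_eq F.rho_lift (F.lift_mul (F.lift_mul (F.nR_lift a) (F.nR_lift b)) (F.nR_lift c)) hn hw⟩

theorem rho_nT_EH : F.EH (F.rho * F.nT) := by
  refine ⟨F.xa, F.M_le_Hg (F.Quat_M F.xa_Quat), ?_⟩
  have h := F.xa_rho
  have hT : Commute F.xa F.nT := F.xa_Quat.2.2.2
  rw [mul_inv_eq_iff_eq_mul] at h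
  calc F.xa * F.rho * F.xa⁻¹ = F.xa * F.nT * F.rho * (F.nT * F.xa⁻¹) := by
        rw [show F.xa * F.nT * F.rho * (F.nT * F.xa⁻¹) = F.xa * (F.nT * (F.rho * F.nT)) * F.xa⁻¹ by group,
          F.rho_nT.eq, ← mul_assoc F.nT, F.nT_sq, one_mul]
    _ = F.rho * F.nT := by
        rw [← h, ← hT.inv_left.eq, mul_assoc F.rho, ← mul_assoc F.xa, mul_inv_cancel, one_mul]

/-- The symmetry sending reflections to translates of `x₀`. -/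
theorem swap_XS {δ : V4} (hδ : supp δ = 4) (a : Fin 4) :
    F.x0 * F.XS δ * F.x0 * F.nR a * (F.x0 * F.XS δ * F.x0)⁻¹ = F.XS (rmV δ a) := by
  obtain ⟨h1, h3, h0⟩ := rm_facts.1 δ a hδ
  have hn := F.fh_one h1
  have hh := F.hh_three h3 h0
  have c := (F.x0_nR a).eq
  have e1 : F.XS δ * F.nR a * F.XS δ = F.nR a * F.XS (rmV δ a) := by
    rw [rmV, ← hn]
    calc F.XS δ * F.nR a * F.XS δ = F.nR a * F.nR a * (F.XS δ * F.nR a * F.XS δ) := by rw [F.nR_sq, one_mul]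
      _ = _ := by group
  have e2 : F.x0 * F.XS (rmV δ a) * F.x0 = F.nR a * F.XS (rmV δ a) := by
    rw [← hh, mul_assoc (F.x0 * F.XS (rmV δ a) * F.x0), F.XS_sq, mul_one]
  rw [mul_inv_rev, mul_inv_rev, F.x0_inv, F.XS_inv]
  calc F.x0 * F.XS δ * F.x0 * F.nR a * (F.x0 * (F.XS δ * F.x0))
      = F.x0 * F.XS δ * (F.x0 * F.nR a) * F.x0 * F.XS δ * F.x0 := by group
    _ = F.x0 * (F.XS δ * F.nR a * (F.x0 * F.x0) * F.XS δ) * F.x0 := by rw [← c]; group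
    _ = F.x0 * (F.XS δ * F.nR a * F.XS δ) * F.x0 := by rw [F.x0_sq, mul_one]
    _ = F.nR a * (F.x0 * F.XS (rmV δ a) * F.x0) := by rw [e1, ← mul_assoc F.x0, ← c]; group
    _ = F.XS (rmV δ a) := by rw [e2, ← mul_assoc, F.nR_sq, one_mul]

theorem XS_TH (γ : V4) : F.TH (F.XS γ) := by
  obtain ⟨δ, hδ⟩ := rm_facts.2.2.2.2.2.2
  have h := TH.conj F (F.nR_TH 1) (F.swap_Hg δ)
  rw [F.swap_XS hδ] at h
  have h2 := TH.conj F h (F.e_Hg (γ - rmV δ 1))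
  rwa [F.XS_add, sub_add_cancel] at h2

theorem XS_nT_TH {γ : V4} (hγ : app pT γ = γ) : F.TH (F.XS γ * F.nT) := by
  obtain ⟨η, hη, h3, h1⟩ := rm_facts.2.2.2.2.2.1
  have hh := F.hh_three h3 h1
  rw [F.nR_one] at hh
  have hx : F.XS η * F.x0 * F.XS η = F.x0 * F.nT := by
    rw [← hh]
    calc F.XS η * F.x0 * F.XS η = F.x0 * F.x0 * (F.XS η * F.x0 * F.XS η) := by rw [F.x0_sq, one_mul]
      _ = _ := by group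
  have h := TH.conj F (TH.conj F (by simpa [F.XS_zero] using F.XS_TH 0 : F.TH F.x0) (F.XS_Hg η)) (F.e_Hg γ)
  rw [F.XS_inv, hx] at h
  have hc : F.nT * (F.e γ)⁻¹ = (F.e γ)⁻¹ * F.nT := (show Commute F.nT (F.e γ) from F.nT_fix hγ).inv_right.eq
  rwa [show F.e γ * (F.x0 * F.nT) * (F.e γ)⁻¹ = F.e γ * F.x0 * (F.nT * (F.e γ)⁻¹) by group, hc, ← mul_assoc] at h

/-- An element of `W` with a state of a translate of `x₀`. -/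
theorem Is.YH {w : G} {s : Fin 256} (h : F.Is w s) (hs : IsY s) : F.TH w ∧ F.TH (w * F.nT) := by
  obtain ⟨γ, hγ, rfl⟩ := hs
  rcases Is.sim F h (F.is_XS hγ) with rfl | rfl
  · exact ⟨F.XS_TH γ, F.XS_nT_TH hγ⟩
  · exact ⟨F.XS_nT_TH hγ, by rw [mul_assoc, F.nT_sq, mul_one]; exact F.XS_TH γ⟩

/-- An element of `W` with a state of a translate of `x₀`. -/
theorem Is.Y {w : G} {s : Fin 256} (h : F.Is w s) (hs : IsY s) : F.Tc w ∧ F.Tc (w * F.nT) :=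
  ⟨TH.tc F (Is.YH F h hs).1, TH.tc F (Is.YH F h hs).2⟩

/-- An element of `W` with two components. -/
theorem Is.twoH {w : G} {s : Fin 256} (h : F.Is w s) (hs : swt s = 2) : F.UH w := by
  obtain ⟨⟨γ, δ, a, b⟩, hp, hst⟩ := List.mem_map.1 (cover_facts.2.2.1 s hs)
  obtain ⟨hγ, hδ, hab, hd⟩ := of_decide_eq_true (List.all_eq_true.1 cover_facts.1 _ hp)
  simp only at hγ hδ hab hd
  have hu := UH.conj F (UH.conj F (F.pair_UH hab) (F.swap_Hg δ)) (F.e_Hg (-rmV δ a))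
  rw [show F.x0 * F.XS δ * F.x0 * (F.nR a * F.nR b) * (F.x0 * F.XS δ * F.x0)⁻¹ =
    F.x0 * F.XS δ * F.x0 * F.nR a * (F.x0 * F.XS δ * F.x0)⁻¹ *
    (F.x0 * F.XS δ * F.x0 * F.nR b * (F.x0 * F.XS δ * F.x0)⁻¹) by group, F.swap_XS hδ, F.swap_XS hδ,
    show F.e (-rmV δ a) * (F.XS (rmV δ a) * F.XS (rmV δ b)) * (F.e (-rmV δ a))⁻¹ =
      F.e (-rmV δ a) * F.XS (rmV δ a) * (F.e (-rmV δ a))⁻¹ *
      (F.e (-rmV δ a) * F.XS (rmV δ b) * (F.e (-rmV δ a))⁻¹) by group, F.XS_add, F.XS_add, neg_add_cancel,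
    F.XS_zero, neg_add_eq_sub] at hu
  have hi := Is.conj_e F (Is.mul F F.is_x0 (F.is_XS hd)) hγ
  rw [show tr γ (sx 85 (tr (rmV δ b - rmV δ a) 85)) = s from hst] at hi
  have hu' := UH.conj F hu (F.e_Hg γ)
  rcases Is.sim F h hi with e | e
  · rwa [e]
  · obtain ⟨g, hgW, hg⟩ := Is.conj_nT F hi (fun e0 => by subst e0; exact absurd hs (by decide +kernel))
    rw [e, ← hg]
    exact UH.conj F hu' (F.M_le_Hg (F.W_M hgW))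

/-- The other involutions of `W`. -/
theorem Is.fourH {w : G} {s : Fin 256} (h : F.Is w s) (hs : swt s = 4) (hY : ¬ IsY s) : F.EH w := by
  obtain ⟨⟨γ, δ, a, b, c⟩, hp, hst⟩ := List.mem_map.1 ((cover_facts.2.2.2.1 s hs).resolve_left hY)
  obtain ⟨hγ, hδ, hab, hac, hbc, hd1, hd2⟩ := of_decide_eq_true (List.all_eq_true.1 cover_facts.2.1 _ hp)
  simp only at hγ hδ hab hac hbc hd1 hd2
  have hu := EH.conj F (EH.conj F (F.triple_EH hab hac hbc) (F.swap_Hg δ)) (F.e_Hg (-rmV δ a))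
  rw [show F.x0 * F.XS δ * F.x0 * (F.nR a * F.nR b * F.nR c) * (F.x0 * F.XS δ * F.x0)⁻¹ =
    F.x0 * F.XS δ * F.x0 * F.nR a * (F.x0 * F.XS δ * F.x0)⁻¹ *
    (F.x0 * F.XS δ * F.x0 * F.nR b * (F.x0 * F.XS δ * F.x0)⁻¹) *
    (F.x0 * F.XS δ * F.x0 * F.nR c * (F.x0 * F.XS δ * F.x0)⁻¹) by group, F.swap_XS hδ, F.swap_XS hδ, F.swap_XS hδ,
    show F.e (-rmV δ a) * (F.XS (rmV δ a) * F.XS (rmV δ b) * F.XS (rmV δ c)) * (F.e (-rmV δ a))⁻¹ =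
      F.e (-rmV δ a) * F.XS (rmV δ a) * (F.e (-rmV δ a))⁻¹ *
      (F.e (-rmV δ a) * F.XS (rmV δ b) * (F.e (-rmV δ a))⁻¹) *
      (F.e (-rmV δ a) * F.XS (rmV δ c) * (F.e (-rmV δ a))⁻¹) by group, F.XS_add, F.XS_add, F.XS_add, neg_add_cancel,
    F.XS_zero, neg_add_eq_sub, neg_add_eq_sub] at hu
  have hi := Is.conj_e F (Is.mul F (Is.mul F F.is_x0 (F.is_XS hd1)) (F.is_XS hd2)) hγ
  rw [show tr γ (sx (sx 85 (tr (rmV δ b - rmV δ a) 85)) (tr (rmV δ c - rmV δ a) 85)) = s from hst] at hi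
  have hu' := EH.conj F hu (F.e_Hg γ)
  rcases Is.sim F h hi with e | e
  · rwa [e]
  · obtain ⟨g, hgW, hg⟩ := Is.conj_nT F hi (fun e0 => by subst e0; exact absurd hs (by decide +kernel))
    rw [e, ← hg]
    exact EH.conj F hu' (F.M_le_Hg (F.W_M hgW))

theorem Is.two {w : G} {s : Fin 256} (h : F.Is w s) (hs : swt s = 2) : F.Uc w := UH.uc F (Is.twoH F h hs)

theorem Is.four {w : G} {s : Fin 256} (h : F.Is w s) (hs : swt s = 4) (hY : ¬ IsY s) : F.Ec w :=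
  EH.ec F (Is.fourH F h hs hY)

theorem Is.zero {w : G} (h : F.Is w 0) : F.Triv w := by
  rcases Is.sim F h F.is_one with e | e
  · exact .inl e
  · exact .inr (e.trans (one_mul _))

/-- A conjugate of `t` in `W` with both lifts. -/
theorem Is.of_Tc {w : G} {s : Fin 256} (h : F.Is w s) (hw : F.Tc w) (hs : s ≠ 0) : IsY s := by
  have hsq : w * w = 1 := by
    obtain ⟨c, rfl⟩ := hw
    rw [show c * F.nT * c⁻¹ * (c * F.nT * c⁻¹) = c * (F.nT * F.nT) * c⁻¹ by group, F.nT_sq, mul_one, mul_inv_cancel]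
  have hpar : swt s % 2 = 0 := by
    rw [Is.sq F h, F.nT_pow_mod] at hsq
    by_contra hne
    rw [show swt s % 2 = 1 by omega, pow_one] at hsq
    exact F.nT_ne hsq
  have key : ∀ s : Fin 256, swt s % 2 = 0 → s ≠ 0 → swt s = 2 ∨ swt s = 4 := by decide +kernel
  rcases key s hpar hs with h2 | h4
  · exact (Tc.not_Uc F hw (Is.two F h h2)).elim
  · by_contra hY
    exact Tc.not_Ec F hw (Is.four F h h4 hY)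

end Frame

end CfsgLib.O8T
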