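import Cfsg.Agent.Lib.OEightPlusThree.Four

/-!
The group generated by the four quaternion groups: components, independence modulo the reflection, and the action
of the centralizer of the reflection in the normalizer of `J`.
-/

set_option autoImplicit false
set_option synthInstance.maxSize 4096
set_option maxRecDepth 8000

namespace CfsgLib.O8T

open Subgroup

universe u

theorem sl_classes : (∀ m : SL23, m * m * m = 1 → m ≠ 1 → ∀ a k : SL23, Qt a → Qt k → a * a = -1 →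
      k = 1 ∨ k = -1 ∨ k = a ∨ k = -a ∨ k = m * a * m⁻¹ ∨ k = -(m * a * m⁻¹) ∨
        k = m * m * a * (m * m)⁻¹ ∨ k = -(m * m * a * (m * m)⁻¹)) ∧
    (∀ a : SL23, Qt a → a ≠ 1 → a ≠ -1 → ∃ b, Qt b ∧ a * b ≠ b * a) := by decide +kernel

theorem plane_out : (∀ k : Fin 4, ∃ v : V4, app pT v = v ∧ ¬ InPlane k v) ∧
    app pT (0, 0, 1, 0) = (0, 0, 1, 0) ∧ (app fromP (0, 0, 1, 0)).2.2.2 ≠ 0 := by decide +kernel

variable {G : Type u} [Group G]

/-- The product of four components. -/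
def wp (f : Fin 4 → G) : G := f 0 * f 1 * f 2 * f 3

theorem wp_one : wp (1 : Fin 4 → G) = 1 := by simp [wp]

theorem wp_single (k : Fin 4) (a : G) : wp (Pi.mulSingle k a : Fin 4 → G) = a := by
  fin_cases k <;> simp [wp]

namespace Frame

variable [Finite G] (F : Frame G)

/-- The element is `1` or the reflection. -/
def Triv (g : G) : Prop := g = 1 ∨ g = F.nT

theorem Triv.mul {g h : G} (hg : F.Triv g) (hh : F.Triv h) : F.Triv (g * h) := by
  rcases hg with rfl | rfl <;> rcases hh with rfl | rfl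
  · exact .inl (one_mul _)
  · exact .inr (one_mul _)
  · exact .inr (mul_one _)
  · exact .inl F.nT_sq

theorem Triv.inv {g : G} (hg : F.Triv g) : F.Triv g⁻¹ := by
  rcases hg with rfl | rfl
  · exact .inl inv_one
  · exact .inr F.nT_inv

theorem nT_ne : F.nT ≠ 1 := fun h => by
  have e := F.ψ_nT
  rw [show (⟨F.nT, F.nT_Ct⟩ : F.D.Ct) = 1 from Subtype.ext h, map_one] at e
  exact sl_neg_ne (congrArg Prod.fst e)

theorem eq_of_triv_sq {g : G} (hg : F.Triv g) : g * g = 1 := by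
  rcases hg with rfl | rfl
  · exact one_mul 1
  · exact F.nT_sq

/-- The image of an element of the quaternion group. -/
noncomputable def qimg (g : F.Quat) : SL23 := (F.D.ψ ⟨g, F.D.mem_Ct.2 g.2.2.1⟩).1

theorem qimg_mul (g h : F.Quat) : F.qimg (g * h) = F.qimg g * F.qimg h := by
  rw [qimg, qimg, qimg, ← Prod.fst_mul, ← map_mul]; rfl

theorem qimg_inj {g h : F.Quat} (e : F.qimg g = F.qimg h) : g = h := Subtype.ext (QuP.uniq g.2 h.2 e)

theorem qimg_nT : F.qimg ⟨F.nT, F.nT_Quat⟩ = -1 := congrArg Prod.fst F.ψ_nT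

theorem qimg_one : F.qimg 1 = 1 := by
  have h := F.qimg_mul 1 1
  rw [mul_one] at h
  exact mul_eq_left.1 h.symm

theorem qimg_neg (g : F.Quat) : F.qimg (g * ⟨F.nT, F.nT_Quat⟩) = -F.qimg g := by
  rw [F.qimg_mul, F.qimg_nT]; exact Subtype.ext (by simp)

theorem qimg_qt (g : F.Quat) : Qt (F.qimg g) := QuP.qt g.2

/-- The centre of the quaternion group. -/
theorem Quat_centre {g : G} (hg : g ∈ F.Quat) (h : ∀ b ∈ F.Quat, Commute g b) : F.Triv g := by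
  by_cases h1 : F.qimg ⟨g, hg⟩ = 1
  · exact .inl (congrArg Subtype.val (F.qimg_inj (h1.trans F.qimg_one.symm)))
  by_cases h2 : F.qimg ⟨g, hg⟩ = -1
  · exact .inr (congrArg Subtype.val (F.qimg_inj (h2.trans F.qimg_nT.symm)))
  obtain ⟨b, hb, hne⟩ := sl_classes.2 _ (F.qimg_qt _) h1 h2
  obtain ⟨b', hb', e⟩ := F.exists_quP hb
  refine absurd ?_ hne
  have hc : (⟨g, hg⟩ : F.Quat) * ⟨b', hb'⟩ = ⟨b', hb'⟩ * ⟨g, hg⟩ := Subtype.ext (h b' hb').eq
  have := congrArg F.qimg hc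
  rw [F.qimg_mul, F.qimg_mul, show F.qimg ⟨b', hb'⟩ = b from e] at this
  exact this

/-- Two elements of order four in different classes. -/
theorem Quat_bracket {g h : G} (hg : g ∈ F.Quat) (hh : h ∈ F.Quat) (hg2 : g * g = F.nT) (hh2 : h * h = F.nT)
    (h1 : h ≠ g) (h2 : h ≠ g * F.nT) : g * h * g⁻¹ * h⁻¹ = F.nT := by
  have sq : ∀ a : F.Quat, (a : G) * a = F.nT → F.qimg a * F.qimg a = -1 := fun a e => by
    rw [← F.qimg_mul, show a * a = ⟨F.nT, F.nT_Quat⟩ from Subtype.ext e, F.qimg_nT]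
  have e := (sl_quat_facts.2.1 _ _ (F.qimg_qt ⟨g, hg⟩) (F.qimg_qt ⟨h, hh⟩) (sq _ hg2) (sq _ hh2)
    (fun e => h1 (congrArg Subtype.val (F.qimg_inj e)))
    (fun e => h2 (congrArg Subtype.val (F.qimg_inj (h := ⟨g, hg⟩ * ⟨F.nT, F.nT_Quat⟩) (e.trans (F.qimg_neg _).symm))))).1
  rw [← sq ⟨g, hg⟩ hg2] at *
  have e' : (⟨g, hg⟩ : F.Quat) * ⟨h, hh⟩ = (⟨h, hh⟩ * ⟨h, hh⟩ * ⟨h, hh⟩) * ⟨g, hg⟩ := F.qimg_inj (by
    rw [F.qimg_mul, F.qimg_mul, F.qimg_mul, F.qimg_mul, ← e, inv_mul_cancel_right])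
  have e'' : g * h = h * h * h * g := congrArg Subtype.val e'
  rw [e'', mul_inv_cancel_right, mul_inv_cancel_right, hh2]

/-- Transport to the other quaternion groups. -/
noncomputable def cQ (k : Fin 4) : G ≃* G := MulAut.conj (F.vN k)

theorem cQ_apply (k : Fin 4) (g : G) : F.cQ k g = F.vN k * g * F.vN k := by
  show F.vN k * g * (F.vN k)⁻¹ = _
  rw [F.vN_inv]

theorem cQ_nT (k : Fin 4) : F.cQ k F.nT = F.nT := by
  show F.vN k * F.nT * (F.vN k)⁻¹ = F.nT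
  rw [(F.vN_nT k).eq, mul_inv_cancel_right]

theorem cQ_mem {k : Fin 4} {g : G} (hg : g ∈ F.Quat) : F.cQ k g ∈ F.Qk k := ⟨g, hg, rfl⟩

theorem exists_cQ {k : Fin 4} {a : G} (ha : a ∈ F.Qk k) : ∃ g ∈ F.Quat, a = F.cQ k g := by
  obtain ⟨g, hg, rfl⟩ := ha; exact ⟨g, hg, rfl⟩

theorem Qk_centre {k : Fin 4} {a : G} (ha : a ∈ F.Qk k) (h : ∀ b ∈ F.Qk k, Commute a b) : F.Triv a := by
  obtain ⟨g, hg, rfl⟩ := F.exists_cQ ha
  have h2 : F.Triv g := F.Quat_centre hg fun b hb => (F.cQ k).injective (by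
    rw [map_mul, map_mul]; exact (h _ (F.cQ_mem hb)).eq)
  rcases h2 with rfl | rfl
  · exact .inl (map_one _)
  · exact .inr (F.cQ_nT k)

theorem Qk_bracket {k : Fin 4} {a b : G} (ha : a ∈ F.Qk k) (hb : b ∈ F.Qk k) (ha2 : a * a = F.nT)
    (hb2 : b * b = F.nT) (h1 : b ≠ a) (h2 : b ≠ a * F.nT) : a * b * a⁻¹ * b⁻¹ = F.nT := by
  obtain ⟨g, hg, rfl⟩ := F.exists_cQ ha
  obtain ⟨h, hh, rfl⟩ := F.exists_cQ hb
  have key : ∀ y, F.cQ k y = F.nT → y = F.nT := fun y e => (F.cQ k).injective (e.trans (F.cQ_nT k).symm)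
  rw [← map_mul] at ha2 hb2
  have := F.Quat_bracket hg hh (key _ ha2) (key _ hb2) (fun e => h1 (by rw [e]))
    (fun e => h2 (by rw [e, map_mul, F.cQ_nT]))
  rw [← map_inv, ← map_inv, ← map_mul, ← map_mul, ← map_mul, this, F.cQ_nT]

/-- A family of components. -/
def Comp (f : Fin 4 → G) : Prop := ∀ k, f k ∈ F.Qk k

theorem Comp.mul {f g : Fin 4 → G} (hf : F.Comp f) (hg : F.Comp g) : F.Comp (f * g) :=
  fun k => mul_mem (hf k) (hg k)

theorem Comp.inv {f : Fin 4 → G} (hf : F.Comp f) : F.Comp f⁻¹ := fun k => inv_mem (hf k)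

theorem Comp.comm {f g : Fin 4 → G} (hf : F.Comp f) (hg : F.Comp g) {i j : Fin 4} (h : i ≠ j) :
    Commute (f i) (g j) := F.Qk_comm h (hf i) (hg j)

theorem wp_mul {f g : Fin 4 → G} (hf : F.Comp f) (hg : F.Comp g) : wp (f * g) = wp f * wp g := by
  have c : ∀ i j : Fin 4, i ≠ j → Commute (g i) (f j) := fun i j h => hg.comm F hf h
  simp only [wp, Pi.mul_apply]
  symm
  calc f 0 * f 1 * f 2 * f 3 * (g 0 * g 1 * g 2 * g 3)
      = f 0 * (f 1 * f 2 * f 3 * g 0) * (g 1 * g 2 * g 3) := by group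
    _ = f 0 * (g 0 * (f 1 * f 2 * f 3)) * (g 1 * g 2 * g 3) := by
        rw [(((c 0 1 (by decide)).mul_right (c 0 2 (by decide))).mul_right (c 0 3 (by decide))).eq]
    _ = f 0 * g 0 * f 1 * (f 2 * f 3 * g 1) * (g 2 * g 3) := by group
    _ = f 0 * g 0 * f 1 * (g 1 * (f 2 * f 3)) * (g 2 * g 3) := by
        rw [((c 1 2 (by decide)).mul_right (c 1 3 (by decide))).eq]
    _ = f 0 * g 0 * (f 1 * g 1) * f 2 * (f 3 * g 2) * g 3 := by group
    _ = f 0 * g 0 * (f 1 * g 1) * f 2 * (g 2 * f 3) * g 3 := by rw [(c 2 3 (by decide)).eq]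
    _ = _ := by group

theorem wp_inv {f : Fin 4 → G} (hf : F.Comp f) : wp f⁻¹ = (wp f)⁻¹ :=
  eq_inv_of_mul_eq_one_left (by rw [← F.wp_mul (Comp.inv F hf) hf, inv_mul_cancel, wp_one])

theorem comp_single {k : Fin 4} {a : G} (ha : a ∈ F.Qk k) : F.Comp (Pi.mulSingle k a) := fun l => by
  by_cases h : l = k
  · subst h; rwa [Pi.mulSingle_eq_same]
  · rw [Pi.mulSingle_eq_of_ne h]; exact one_mem _

theorem wp_comm {f : Fin 4 → G} (hf : F.Comp f) {k : Fin 4} {b : G} (hb : b ∈ F.Qk k) :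
    wp f * b * (wp f)⁻¹ = f k * b * (f k)⁻¹ := by
  have hs := F.comp_single hb
  rw [← wp_single k b, ← F.wp_inv hf, ← F.wp_mul hf hs, ← F.wp_mul (Comp.mul F hf hs) (Comp.inv F hf), wp_single]
  rw [show f * Pi.mulSingle k b * f⁻¹ = Pi.mulSingle k (f k * b * (f k)⁻¹) from funext fun l => by
    by_cases h : l = k
    · subst h; simp
    · simp [Pi.mulSingle_eq_of_ne h]]
  exact wp_single _ _

/-- The group generated by the four quaternion groups. -/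
noncomputable def W : Subgroup G where
  carrier := {w | ∃ f, F.Comp f ∧ w = wp f}
  one_mem' := ⟨1, fun _ => one_mem _, wp_one.symm⟩
  mul_mem' := by
    rintro _ _ ⟨f, hf, rfl⟩ ⟨g, hg, rfl⟩
    exact ⟨_, Comp.mul F hf hg, (F.wp_mul hf hg).symm⟩
  inv_mem' := by
    rintro _ ⟨f, hf, rfl⟩
    exact ⟨_, Comp.inv F hf, (F.wp_inv hf).symm⟩

theorem Qk_le_W (k : Fin 4) : F.Qk k ≤ F.W := fun a ha => ⟨_, F.comp_single ha, (wp_single k a).symm⟩

theorem Quat_le_W : F.Quat ≤ F.W := F.Qk_zero ▸ F.Qk_le_W 0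

theorem nT_W : F.nT ∈ F.W := F.Quat_le_W F.nT_Quat

theorem W_le {H : Subgroup G} (h : ∀ k, F.Qk k ≤ H) : F.W ≤ H := by
  rintro _ ⟨f, hf, rfl⟩
  exact mul_mem (mul_mem (mul_mem (h 0 (hf 0)) (h 1 (hf 1))) (h 2 (hf 2))) (h 3 (hf 3))

theorem W_nT {w : G} (hw : w ∈ F.W) : Commute w F.nT := by
  obtain ⟨f, hf, rfl⟩ := hw
  exact (((F.Qk_nT (hf 0)).mul_left (F.Qk_nT (hf 1))).mul_left (F.Qk_nT (hf 2))).mul_left (F.Qk_nT (hf 3))

theorem W_sq {w : G} (hw : w ∈ F.W) : F.Triv (w * w) := by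
  obtain ⟨f, hf, rfl⟩ := hw
  rw [← F.wp_mul hf hf]
  have h : ∀ k, F.Triv ((f * f) k) := fun k => by
    rcases F.Qk_sq (hf k) with (h | h) | h
    · exact .inl (by rw [Pi.mul_apply, h, one_mul])
    · exact .inl (by rw [Pi.mul_apply, h, F.nT_sq])
    · exact .inr h
  exact Triv.mul F (Triv.mul F (Triv.mul F (h 0) (h 1)) (h 2)) (h 3)

theorem W_four {w : G} (hw : w ∈ F.W) : w ^ 4 = 1 := by
  rw [show (4 : ℕ) = 2 * 2 from rfl, pow_mul, pow_two w, pow_two]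
  exact F.eq_of_triv_sq (F.W_sq hw)

/-- The components are determined modulo the reflection. -/
theorem indep {f : Fin 4 → G} (hf : F.Comp f) (h : F.Triv (wp f)) (k : Fin 4) : F.Triv (f k) := by
  refine F.Qk_centre (hf k) fun b hb => mul_inv_eq_iff_eq_mul.1 ?_
  rw [← F.wp_comm hf hb]
  rcases h with h | h <;> rw [h]
  · group
  · rw [(F.Qk_nT hb).symm.eq, mul_inv_cancel_right]

theorem indep' {f g : Fin 4 → G} (hf : F.Comp f) (hg : F.Comp g) (h : F.Triv (wp f * (wp g)⁻¹)) (k : Fin 4) :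
    F.Triv (f k * (g k)⁻¹) := by
  rw [← F.wp_inv hg, ← F.wp_mul hf (Comp.inv F hg)] at h
  exact F.indep (Comp.mul F hf (Comp.inv F hg)) h k

theorem W_conj_e {f : Fin 4 → G} (hf : F.Comp f) {v : V4} (hv : app pT v = v) :
    F.Comp (fun k => F.e v * f k * (F.e v)⁻¹) ∧
      F.e v * wp f * (F.e v)⁻¹ = wp (fun k => F.e v * f k * (F.e v)⁻¹) :=
  ⟨fun k => F.Qk_conj (hf k) hv, by simp only [wp]; group⟩

theorem W_inf_N {w : G} (hw : w ∈ F.W) (hN : w ∈ F.N) : F.Triv w := by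
  have key : ∀ v, app pT v = v → Commute (F.e v) w := by
    intro v hv
    obtain ⟨f, hf, rfl⟩ := hw
    obtain ⟨hc, e⟩ := F.W_conj_e hf hv
    have h1 : F.e v * wp f * (F.e v)⁻¹ * (wp f)⁻¹ ∈ F.W := mul_mem ⟨_, hc, e⟩ (inv_mem ⟨f, hf, rfl⟩)
    have h2 : F.e v * wp f * (F.e v)⁻¹ * (wp f)⁻¹ ∈ F.Jg := by
      rw [show F.e v * wp f * (F.e v)⁻¹ * (wp f)⁻¹ = F.e v * (wp f * (F.e v)⁻¹ * (wp f)⁻¹) by group]
      exact mul_mem (F.e_mem v) ((hN _).2 (inv_mem (F.e_mem v)))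
    obtain ⟨c, hc'⟩ := F.e_surj h2
    have h4 := F.W_four h1
    rw [← hc'] at h4
    have : F.e c = 1 := by
      have h3 := F.e_cube c
      rwa [pow_succ, h3, one_mul] at h4
    rw [this, eq_comm] at hc'
    exact mul_inv_eq_iff_eq_mul.1 (mul_inv_eq_one.1 hc')
  obtain ⟨f, hf, rfl⟩ := hw
  have hk : ∀ k, F.Triv (f k) := fun k => by
    obtain ⟨v, hv, hn⟩ := plane_out.1 k
    obtain ⟨hc, e⟩ := F.W_conj_e hf hv
    have h := F.indep' hc hf (.inl (by rw [← e, (key v hv).eq]; group)) k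
    refine F.Qk_fpf (hf k) hv hn ?_
    rcases h with h | h
    · exact .inl (mul_inv_eq_one.1 h)
    · exact .inr (by rw [(mul_inv_eq_iff_eq_mul.1 h : F.e v * f k * (F.e v)⁻¹ = F.nT * f k), (F.Qk_nT (hf k)).eq])
  exact Triv.mul F (Triv.mul F (Triv.mul F (hk 0) (hk 1)) (hk 2)) (hk 3)

/-- The coordinates of an element of the normalizer commuting with the reflection. -/
theorem aff_nT {n : G} {M : M4} {c : V4} (hn : F.Lift n M) (h : Commute (F.e c * n) F.nT) :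
    app pT c = c ∧ comp M pT = comp pT M := by
  have h1 : F.e (app pT c) * (F.nT * n) = F.e c * (n * F.nT) := by
    rw [← mul_assoc, ← F.lift_e F.lift_nT, mul_assoc]
    rw [← mul_assoc (F.e c)]
    exact h.eq.symm
  obtain ⟨hc, hM, -⟩ := F.aff_unique (F.lift_mul F.lift_nT hn) (F.lift_mul hn F.lift_nT) h1
  exact ⟨hc, hM.symm⟩

/-- The centralizer of the reflection in the normalizer permutes the four groups. -/
theorem Qk_CN {g : G} (hg : g ∈ F.N) (h : Commute g F.nT) (k : Fin 4) :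
    ∃ l, ∀ a ∈ F.Qk k, g * a * g⁻¹ ∈ F.Qk l := by
  obtain ⟨M, n, c, hn, rfl, -⟩ := F.exists_aff hg
  obtain ⟨hc, hM⟩ := F.aff_nT hn h
  obtain ⟨l, hl⟩ := F.Qk_perm hn hM k
  refine ⟨l, fun a ha => ?_⟩
  rw [show F.e c * n * a * (F.e c * n)⁻¹ = F.e c * (n * a * n⁻¹) * (F.e c)⁻¹ by group]
  exact F.Qk_conj (hl ▸ ⟨a, ha, rfl⟩) hc

theorem W_norm {g : G} (hg : g ∈ F.N) (h : Commute g F.nT) {w : G} (hw : w ∈ F.W) : g * w * g⁻¹ ∈ F.W := by
  have : F.W ≤ F.W.comap (MulAut.conj g).toMonoidHom := F.W_le fun k a ha => by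
    obtain ⟨l, hl⟩ := F.Qk_CN hg h k
    exact F.Qk_le_W l (hl a ha)
  exact this hw

theorem W_mem_normalizer {g : G} (hg : g ∈ F.N) (h : Commute g F.nT) : g ∈ normalizer (F.W : Set G) := by
  refine mem_normalizer_iff.2 fun w => ⟨fun hw => F.W_norm hg h hw, fun hw => ?_⟩
  have := F.W_norm (inv_mem hg) h.inv_left hw
  rwa [inv_inv, show g⁻¹ * (g * w * g⁻¹) * g = w by group] at this

end Frame

end CfsgLib.O8T
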