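import Cfsg.Agent.Lib.OEightPlusThree.XSetup
import Cfsg.Agent.Lib.OEightPlusThree.CentV

/-!
The centralizer of `x` modulo it: recognition in both cases, its sign character, and generation.
-/

set_option autoImplicit false
set_option synthInstance.maxSize 4096
set_option maxRecDepth 8000

namespace CfsgLib.O8T

open Subgroup
open CfsgLib.Sym9Three (V3 xv ev inR act)

universe u

/-- Conjugation witnesses: every element fixing `x` is a product of two conjugates of elements fixing `z`. -/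
def xGenW : List (Fin 24 × Fin 24 × Fin 24 × Fin 24) := [(0, 0, 0, 18), (4, 8, 3, 16), (0, 0, 0, 16), (4, 8, 3, 18), (1, 0, 4, 18), (1, 8, 6, 16), (1, 8, 6, 18), (1, 0, 4, 16), (0, 0, 0, 10), (1, 0, 4, 10), (0, 0, 0, 8), (1, 0, 4, 8), (4, 8, 3, 2), (1, 8, 6, 2), (1, 8, 6, 0), (4, 8, 3, 0), (0, 0, 0, 2), (1, 8, 6, 10), (0, 0, 0, 0), (1, 8, 6, 8), (4, 8, 3, 10), (1, 0, 4, 2), (1, 0, 4, 0), (4, 8, 3, 8)]

/-- An element fixing `x`. -/
def xF (i : Fin 24) : M4 := (xFix.map Prod.fst).getD i.val idM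

theorem xF_mem : (List.finRange 24).all (fun i => decide (xF i ∈ xFix.map Prod.fst)) = true := by decide +kernel

theorem xF_list : xFix.map Prod.fst = (List.finRange 24).map xF := by decide +kernel

theorem xF_split : (List.finRange 24).all (fun i : Fin 24 => decide (let p := xGenW.getD i.val (0, 0, 0, 0)
      app (xF p.2.1) zv4 = zv4 ∧ app (xF p.2.2.2) zv4 = zv4 ∧
        comp (xF p.1) (xF p.2.1) = comp (xF p.2.2.1) (xF p.1) ∧ xF i = comp (xF p.2.2.1) (xF p.2.2.2))) = true := by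
  decide +kernel

theorem xInv_coset : (xInv.all fun p => xInv.all fun q => (List.finRange 24).any fun i =>
    decide (comp q.1 pO = comp (xF i) (comp p.1 pO))) = true := by decide +kernel

theorem rep_types : (∀ r, rep4 r ≠ 0 → wt (rep4 r) = 1 ∨ wt (rep4 r) = 2 ∨ wt (rep4 r) = 3) ∧
    (∀ r, wt (rep4 r) = 1 → ∀ i : Fin 3, (i.val ≠ 0 → wt (rep4 r + i.val • xv4) = 2) ∧ wt (rep4 r + xv4) = 2) ∧
    (∀ r, wt (rep4 r) = 2 → ∀ i : Fin 3, i.val ≠ 0 → wt (rep4 r + i.val • xv4) = 3) ∧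
    (∀ r, wt (rep4 r) = 3 → ∃ M ∈ stX, app M zv4 = rep4 r) := by decide +kernel

theorem stab_three_fix : (stabQ.all fun M => decide (comp M (comp M M) = idM → M ≠ idM →
    Fintype.card {c : V4 // app M c = c} = 9)) = true := by decide +kernel

theorem stab_three_comm : (stabQ.all fun M => stabQ.all fun M' => decide (comp M (comp M M) = idM → M ≠ idM →
    comp M' (comp M' M') = idM → M' ≠ idM → comp M' M = comp M M' → M' = M ∨ M' = comp M M)) = true := by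
  decide +kernel

theorem stab_three (M : M4) (hM : M ∈ stabQ) (h3 : comp M (comp M M) = idM) (h1 : M ≠ idM) :
    Fintype.card {c : V4 // app M c = c} = 9 ∧
      ∀ M' ∈ stabQ, comp M' (comp M' M') = idM → M' ≠ idM → comp M' M = comp M M' → M' = M ∨ M' = comp M M :=
  ⟨of_decide_eq_true (List.all_eq_true.1 stab_three_fix M hM) h3 h1, fun M' hM' =>
    of_decide_eq_true (List.all_eq_true.1 (List.all_eq_true.1 stab_three_comm M hM) M' hM') h3 h1⟩

theorem gam_wt_two : gam.all (fun M => decide (wt (app M (1, 2, 0, 0)) = 2)) = true := by decide +kernel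

theorem inR_two : ∀ k : Fin 4, 27 * Fintype.card {r : Fin 48 // inR k r = true} =
    27 * Fintype.card {r : Fin 48 // inR 2 r = true} → k = 2 := by decide +kernel

theorem inR_three : ∀ k : Fin 4, 27 * Fintype.card {r : Fin 48 // inR k r = true} =
    27 * Fintype.card {r : Fin 48 // inR 3 r = true} → k = 3 := by decide +kernel

variable {G : Type u} [Group G]

namespace Frame

variable [Finite G] (F : Frame G)

theorem bx_mul {g h : G} (hg : g ∈ F.Cx) (hh : h ∈ F.Cx) : F.bx (mul_mem hg hh) = F.bx hg * F.bx hh := rfl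

theorem bx_inv {g : G} (hg : g ∈ F.Cx) : F.bx (inv_mem hg) = (F.bx hg)⁻¹ := rfl

theorem wt_conj {g : G} {c d : V4} (h : g * F.e c * g⁻¹ = F.e d) (hd : wt d = 3) : wt c = 3 := by
  obtain ⟨k, hk⟩ := F.zconj_iff.2 hd
  refine F.zconj_iff.1 ⟨g⁻¹ * k, ?_⟩
  rw [mul_inv_rev, inv_inv, show g⁻¹ * k * F.D.z * (k⁻¹ * g) = g⁻¹ * (k * F.D.z * k⁻¹) * g by group, hk, ← h]
  group

theorem unique_two {T : Subgroup G} (hT : T ≤ F.Cq) (hcard : Nat.card T = 81)
    (hc : ∀ a ∈ T, ∀ b ∈ T, a * b = b * a) (h3 : ∀ a ∈ T, a ^ 3 = 1) : T = F.Jg := by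
  classical
  by_contra hne
  obtain ⟨a, haT, haJ⟩ := SetLike.not_le_iff_exists.1 fun hle : T ≤ F.Jg =>
    hne (eq_of_le_of_card_ge hle (by rw [hcard]; exact F.adj.card_J.le))
  have hact : ∀ b ∈ T, ∃ M ∈ stabQ, F.Act b M ∧ comp M (comp M M) = idM := fun b hb => by
    obtain ⟨M, -, hM, -⟩ := F.act_gam (F.Cq_le (hT hb))
    refine ⟨M, (F.stab_act (F.Cq_le (hT hb)) (hT hb) hM).1, hM, ?_⟩
    refine F.act_unique (F.act_mul hM (F.act_mul hM hM)) ?_
    rw [show b * (b * b) = b ^ 3 by rw [pow_three], h3 b hb]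
    exact F.act_one
  obtain ⟨M, hMs, hM, hM3⟩ := hact a haT
  have hM1 : M ≠ idM := fun h => haJ (F.mem_J_of_act (h ▸ hM))
  have hle : T ≤ (T ⊓ F.Jg) ⊔ zpowers a := fun b hb => by
    obtain ⟨M', hMs', hM', hM3'⟩ := hact b hb
    have hcm : comp M' M = comp M M' := F.act_unique (F.act_mul hM' hM) (hc a haT b hb ▸ F.act_mul hM hM')
    have hk : ∀ k : ℕ, F.Act (a ^ k) M' → b ∈ (T ⊓ F.Jg) ⊔ zpowers a := fun k hk => by
      have hmem : b * (a ^ k)⁻¹ ∈ T ⊓ F.Jg := by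
        refine mem_inf.2 ⟨mul_mem hb (inv_mem (pow_mem haT _)), F.mem_J_of_act fun d => ?_⟩
        obtain ⟨W, hW⟩ := F.exists_act (inv_mem (F.mem_N hk))
        have hid : comp M' W = idM := F.act_unique (F.act_mul hk hW) (by rw [mul_inv_cancel]; exact F.act_one)
        rw [F.act_mul hM' hW, hid]
      rw [← inv_mul_cancel_right b (a ^ k)]
      exact mul_mem (mem_sup_left hmem) (mem_sup_right (pow_mem (mem_zpowers _) _))
    by_cases h1 : M' = idM
    · exact hk 0 (by rw [pow_zero, h1]; exact F.act_one)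
    rcases (stab_three M hMs hM3 hM1).2 M' hMs' hM3' h1 hcm with h | h
    · exact hk 1 (by rw [pow_one, h]; exact hM)
    · exact hk 2 (by rw [pow_two, h]; exact F.act_mul hM hM)
  set A : Subgroup G := T ⊓ F.Jg
  have hA : ∀ b ∈ A, ∀ b' ∈ zpowers a, b * b' = b' * b := fun b hb b' hb' => by
    obtain ⟨k, rfl⟩ := mem_zpowers_iff.1 hb'
    exact ((show Commute b a from hc b hb.1 a haT).zpow_right k).eq
  have h9 : Nat.card A ≤ 9 := by
    rw [← (stab_three M hMs hM3 hM1).1, ← Nat.card_eq_fintype_card]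
    have hsur : ∀ b : A, ∃ c, F.e c = (b : G) ∧ app M c = c := fun b => by
      obtain ⟨c, hcb⟩ := F.e_surj (mem_inf.1 b.2).2
      refine ⟨c, hcb, F.e_inj ?_⟩
      rw [← hM, hcb, hc a haT _ (mem_inf.1 b.2).1, mul_inv_cancel_right]
    choose f hf hf' using hsur
    refine Nat.card_le_card_of_injective (fun b => (⟨f b, hf' b⟩ : {c : V4 // app M c = c})) fun b b' e => Subtype.ext ?_
    have e' : f b = f b' := congrArg Subtype.val e
    rw [← hf b, ← hf b', e']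
  have hz : Nat.card (zpowers a) ≤ 3 := by
    rw [Nat.card_zpowers]; exact orderOf_le_of_pow_eq_one (by norm_num) (h3 a haT)
  have h81 : 81 ≤ Nat.card (A ⊔ zpowers a : Subgroup G) := hcard ▸ card_le_of_le hle
  have := card_sup_comm A (zpowers a) hA
  have hpos : 0 < Nat.card (A ⊓ zpowers a : Subgroup G) := Nat.card_pos
  nlinarith [Nat.mul_le_mul h9 hz, Nat.mul_le_mul h81 (show 1 ≤ Nat.card (A ⊓ zpowers a : Subgroup G) from hpos)]

/-- An element carrying a vector of weight two into `J` normalizes `J`. -/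
theorem ctrl_two {g : G} {c d : V4} (h : g * F.e c * g⁻¹ = F.e d) (hd : wt d = 2) : g ∈ F.N := by
  obtain ⟨w, hw⟩ := reach_v hd
  have hwe : F.word w * F.q * (F.word w)⁻¹ = F.e d := by rw [← F.e_qv, F.act_word, qv, hw]
  set k := (F.word w)⁻¹ * g with hk
  have hkq : k * F.e c * k⁻¹ = F.q := by
    rw [hk, show (F.word w)⁻¹ * g * F.e c * ((F.word w)⁻¹ * g)⁻¹ = (F.word w)⁻¹ * (g * F.e c * g⁻¹) * F.word w by group,
      h, ← hwe]
    group
  have hT := F.unique_two (T := F.Jg.map (MulAut.conj k).toMonoidHom) ?_ ?_ ?_ ?_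
  · have hkN : k ∈ F.N := F.mem_N_of_norm fun a ha => hT.le (mem_map_of_mem _ ha)
    have := mul_mem (F.word_N w) hkN
    rwa [hk, mul_inv_cancel_left] at this
  · rintro _ ⟨a, ha, rfl⟩
    refine F.mem_Cq.2 ?_
    rw [← hkq]
    exact (congrArg (MulAut.conj k) (F.adj.J_comm _ ha _ (F.e_mem c))).trans (map_mul _ _ _) |> (map_mul _ _ _).symm.trans
  · rw [card_map_of_injective (f := (MulAut.conj k).toMonoidHom) (MulAut.conj k).injective]; exact F.adj.card_J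
  · rintro _ ⟨a, ha, rfl⟩ _ ⟨b, hb, rfl⟩
    rw [← map_mul, ← map_mul, F.adj.J_comm _ ha _ hb]
  · rintro _ ⟨a, ha, rfl⟩
    rw [← map_pow, F.adj.J_exp ha |> (fun e => (by simpa using e : a ^ 3 = 1)), map_one]

theorem wt_two_conj {g : G} {c d : V4} (h : g * F.e c * g⁻¹ = F.e d) (hd : wt d = 2) : wt c = 2 := by
  have hgN := F.ctrl_two h hd
  obtain ⟨w, hw⟩ := reach_v hd
  obtain ⟨M, hM, hA, -⟩ := F.act_gam (mul_mem (inv_mem hgN) (F.word_N w))
  have e' : app M (1, 2, 0, 0) = c := F.e_inj (by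
    rw [← hA, show g⁻¹ * F.word w * F.e (1, 2, 0, 0) * (g⁻¹ * F.word w)⁻¹ =
      g⁻¹ * (F.word w * F.e (1, 2, 0, 0) * (F.word w)⁻¹) * g by group, F.act_word, hw, ← h]
    group)
  have h2 := List.all_eq_true.1 gam_wt_two M hM
  simp only [decide_eq_true_eq] at h2
  exact e' ▸ h2

/-- A coset of `x` other than the conjugates of the image of the centre has its centralizer in the normalizer. -/
theorem good_coset {r : ZMod 3 × ZMod 3 × ZMod 3} (hr : wt (rep4 r) = 1 ∨ wt (rep4 r) = 2) {g : G} (hg : g ∈ F.Cx)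
    (h : F.bx hg * F.bx (F.J_le_Cx (F.e_mem (rep4 r))) = F.bx (F.J_le_Cx (F.e_mem (rep4 r))) * F.bx hg) : g ∈ F.N := by
  set E := F.e (rep4 r)
  have e1 : F.bx (g := E) (F.J_le_Cx (F.e_mem (rep4 r))) = F.bx (g := g * E * g⁻¹)
      (mul_mem (mul_mem hg (F.J_le_Cx (F.e_mem (rep4 r)))) (inv_mem hg)) := by
    show _ = F.bx hg * F.bx (g := E) (F.J_le_Cx (F.e_mem (rep4 r))) * (F.bx hg)⁻¹
    rw [h, mul_inv_cancel_right]
  obtain ⟨i, hi⟩ := F.mem_zx.1 ((F.bx_eq (g := E) (h := g * E * g⁻¹) (F.J_le_Cx (F.e_mem (rep4 r)))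
    (mul_mem (mul_mem hg (F.J_le_Cx (F.e_mem (rep4 r)))) (inv_mem hg))).1 e1)
  rw [inv_mul_eq_iff_eq_mul] at hi
  have e : g * E * g⁻¹ = F.e (rep4 r + i.val • xv4) := by rw [hi, F.e_add]
  rcases hr with hr | hr
  · by_cases h0 : i.val = 0
    · rw [h0, zero_smul, add_zero] at e
      refine F.cent_v ((rep_types.2.1 r hr i).2) ?_
      rw [F.e_add]
      exact ((show Commute g E from mul_inv_eq_iff_eq_mul.1 e).mul_right (show Commute g F.x4 from F.mem_Cx.1 hg)).eq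
    · have := F.wt_two_conj e ((rep_types.2.1 r hr i).1 h0)
      omega
  · by_cases h0 : i.val = 0
    · rw [h0, zero_smul, add_zero] at e
      exact F.cent_v hr (mul_inv_eq_iff_eq_mul.1 e)
    · have := F.wt_conj e (rep_types.2.2.1 r hr i h0)
      omega

/-- A frame of the quotient with all signs is good. -/
theorem good_ev (hout : ¬ F.Inner) (E : CfsgPSp43Real.Frame3 (F.Cx ⧸ F.Zx)) (hE : E.D = F.xSetup) :
    E.Good ev := by
  have hm : E.j ev ∈ F.Jx := by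
    have := E.j_mem ev
    rwa [hE] at this
  obtain ⟨c, hc, e⟩ := F.Jx_forms hm
  obtain ⟨r, i, rfl⟩ := xmod_facts.1 c
  have e' : E.j ev = F.bx (F.J_le_Cx (F.e_mem (rep4 r))) := by
    rw [e, F.bx_eq, F.e_add, mul_inv_rev, mul_assoc, inv_mul_cancel, mul_one, F.x_pow]
    exact inv_mem (pow_mem (mem_zpowers _) _)
  have hr0 : rep4 r ≠ 0 := fun h0 => E.j_ne_one (v := ev) (by decide) (by
    rw [e']
    refine (QuotientGroup.eq_one_iff _).2 (mem_subgroupOf.2 ?_)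
    show F.e (rep4 r) ∈ zpowers F.x4
    rw [h0, F.e_zero]; exact one_mem _)
  rcases rep_types.1 r hr0 with h | h | h
  iterate 2
    intro y hy
    obtain ⟨g, hg, rfl⟩ := F.bx_surj y
    rw [e'] at hy
    have := (F.norm_Jx hg).2 (F.good_coset (by tauto) hg hy)
    show _ ∈ normalizer (E.D.J : Set (F.Cx ⧸ F.Zx))
    rw [hE]; exact this
  exfalso
  obtain ⟨M, hM, hMz⟩ := rep_types.2.2.2 r h
  obtain ⟨n, hn, hnx⟩ := F.lift_stX hout hM
  refine E.not_conj_a (g := F.bx hnx) CfsgPSp43Real.three_types.2.2.2.1 ?_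
  rw [e', show E.D.a = F.za from congrArg CfsgPSp43Real.Setup.a hE]
  refine congrArg QuotientGroup.mk (Subtype.ext ?_)
  show n * F.D.z * n⁻¹ = F.e (rep4 r)
  rw [← F.e_z, hn.1, ← hMz]; rfl

theorem good_restrict (hout : ¬ F.Inner) (Hb : Subgroup (F.Cx ⧸ F.Zx)) (hCb : F.xSetup.C ≤ Hb)
    (hNb : normalizer (F.Jx : Set (F.Cx ⧸ F.Zx)) ≤ Hb) (E : CfsgPSp43Real.Frame3 Hb)
    (hE : E.D = F.xSetup.restrict Hb hCb) : E.Good ev := by
  have hJb : F.Jx ≤ Hb := F.xSetup.J_le.trans hCb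
  have hm : ((E.j ev : Hb) : F.Cx ⧸ F.Zx) ∈ F.Jx := by
    have := E.j_mem ev
    rw [hE] at this
    exact this
  obtain ⟨c, hc, e⟩ := F.Jx_forms hm
  obtain ⟨r, i, rfl⟩ := xmod_facts.1 c
  have e' : ((E.j ev : Hb) : F.Cx ⧸ F.Zx) = F.bx (F.J_le_Cx (F.e_mem (rep4 r))) := by
    rw [e, F.bx_eq, F.e_add, mul_inv_rev, mul_assoc, inv_mul_cancel, mul_one, F.x_pow]
    exact inv_mem (pow_mem (mem_zpowers _) _)
  have hr0 : rep4 r ≠ 0 := fun h0 => E.j_ne_one (v := ev) (by decide) (Subtype.ext (by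
    rw [e']
    refine (QuotientGroup.eq_one_iff _).2 (mem_subgroupOf.2 ?_)
    show F.e (rep4 r) ∈ zpowers F.x4
    rw [h0, F.e_zero]; exact one_mem _))
  rcases rep_types.1 r hr0 with h | h | h
  iterate 2
    intro y hy
    obtain ⟨g, hg, ey⟩ := F.bx_surj (y : F.Cx ⧸ F.Zx)
    have hy' := congrArg Subtype.val hy
    rw [Subgroup.coe_mul, Subgroup.coe_mul, e', ey] at hy'
    have hN := (F.norm_Jx hg).2 (F.good_coset (by tauto) hg hy')
    show y ∈ normalizer (E.D.J : Set Hb)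
    rw [hE, mem_normalizer_iff]
    intro w
    rw [← ey] at hN
    exact mem_normalizer_iff.1 hN w
  exfalso
  obtain ⟨M, hM, hMz⟩ := rep_types.2.2.2 r h
  obtain ⟨n, hn, hnx⟩ := F.lift_stX hout hM
  have hnH : F.bx hnx ∈ Hb := hNb ((F.norm_Jx hnx).2 (F.mem_N hn.1))
  refine E.not_conj_a (g := ⟨F.bx hnx, hnH⟩) CfsgPSp43Real.three_types.2.2.2.1 (Subtype.ext ?_)
  show F.bx hnx * (E.D.a : F.Cx ⧸ F.Zx) * (F.bx hnx)⁻¹ = (E.j ev : F.Cx ⧸ F.Zx)
  rw [e', show ((E.D.a : Hb) : F.Cx ⧸ F.Zx) = F.za from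
    congrArg (fun D : CfsgPSp43Real.Setup Hb => (D.a : F.Cx ⧸ F.Zx)) hE]
  refine congrArg QuotientGroup.mk (Subtype.ext ?_)
  show n * F.D.z * n⁻¹ = F.e (rep4 r)
  rw [← F.e_z, hn.1, ← hMz]; rfl

/-- The frame of the quotient in the outer case. -/
theorem exists_frame3 (hout : ¬ F.Inner) :
    ∃ E : CfsgPSp43Real.Frame3 (F.Cx ⧸ F.Zx), E.D = F.xSetup ∧ E.Good ev := by
  obtain ⟨E, hE, -, h3⟩ := F.exists_xFrame
  exact ⟨⟨E, h3 hout⟩, hE, F.good_ev hout ⟨E, h3 hout⟩ hE⟩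

/-- The sign character of the centralizer modulo `x`. -/
theorem exists_sign : ∃ f : (F.Cx ⧸ F.Zx) →* ℤˣ, (∀ y, y ∈ F.Cza → f y = 1) ∧
    (∀ M ∈ xFix.map Prod.fst, ∀ n (hn : n ∈ F.Cx), F.Lift n M → f (F.bx hn) = 1) ∧
    (∀ g (hg : g ∈ F.Cx), g ∈ F.N → f (F.bx hg) = 1 → ∃ M ∈ xFix.map Prod.fst, F.Act g M) := by
  classical
  by_cases hin : F.Inner
  · exact ⟨1, fun _ _ => rfl, fun _ _ _ _ _ => rfl, fun g hg hN _ =>
      (F.Cx_act hg hN).elim fun M h => ⟨M, h.2.2 hin, h.2.1⟩⟩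
  obtain ⟨E, hE, hgood⟩ := F.exists_frame3 hin
  obtain ⟨D⟩ := E.exists_sixD hgood
  obtain ⟨eG⟩ := D.exists_iso hgood
  let cs := CoxeterMatrix.E₆.toCoxeterSystem
  have hl : CoxeterMatrix.E₆.IsLiftable (fun _ => (-1 : ℤˣ)) := fun i j => by simp
  let f : (F.Cx ⧸ F.Zx) →* ℤˣ := (cs.lift ⟨_, hl⟩).comp eG.symm.toMonoidHom
  have hneg : f (eG (cs.simple 0)) = -1 := by
    show cs.lift ⟨_, hl⟩ (eG.symm (eG (cs.simple 0))) = -1
    rw [MulEquiv.symm_apply_apply]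
    exact cs.lift_apply_simple hl 0
  have hC : ∀ y, y ∈ F.Cza → f y = 1 := fun y hy => F.xSetup.sign_C f hy
  have hJ : ∀ c, f (F.bx (F.J_le_Cx (F.e_mem c))) = 1 := fun c => hC _ (F.mem_Cza _ (by
    rw [← F.e_z]; exact F.e_comm _ _))
  have hfix : ∀ M ∈ xFix.map Prod.fst, ∀ n (hn : n ∈ F.Cx), F.Lift n M → f (F.bx hn) = 1 := by
    have hst : ∀ i, app (xF i) zv4 = zv4 → ∀ n (hn : n ∈ F.Cx), F.Lift n (xF i) → f (F.bx hn) = 1 :=
      fun i hi n hn hL => hC _ (F.mem_Cza _ (by rw [← F.e_z]; rw [F.lift_e hL]; exact congrArg (fun c => F.e c * n) hi))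
    intro M hM n hn hL
    rw [xF_list] at hM
    obtain ⟨i, -, rfl⟩ := List.mem_map.1 hM
    have hp := of_decide_eq_true (List.all_eq_true.1 xF_split i (List.mem_finRange i))
    obtain ⟨p, hpd⟩ : ∃ p, p = xGenW.getD i.val (0, 0, 0, 0) := ⟨_, rfl⟩
    rw [← hpd] at hp
    obtain ⟨hs, hs', hAS, hM'⟩ := hp
    have hmem : ∀ i, xF i ∈ xFix.map Prod.fst := fun i =>
      of_decide_eq_true (List.all_eq_true.1 xF_mem i (List.mem_finRange i))
    obtain ⟨a, ha, hax⟩ := F.lift_xFix (hmem p.1)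
    obtain ⟨s, hsl, hsx⟩ := F.lift_xFix (hmem p.2.1)
    obtain ⟨S, hSl, hSx⟩ := F.lift_xFix (hmem p.2.2.1)
    obtain ⟨s', hsl', hsx'⟩ := F.lift_xFix (hmem p.2.2.2)
    have e1 : a * s = S * a := F.lift_unique (F.lift_mul ha hsl) (hAS ▸ F.lift_mul hSl ha)
    have hfS : f (F.bx hSx) = 1 := by
      have h := congrArg f (show F.bx hax * F.bx hsx = F.bx hSx * F.bx hax from
        congrArg QuotientGroup.mk (Subtype.ext e1))
      rw [map_mul, map_mul, hst _ hs s hsx hsl, mul_one, eq_comm, mul_eq_right] at h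
      exact h
    obtain rfl := F.lift_unique hL (hM'.symm ▸ F.lift_mul hSl hsl')
    show f (F.bx hSx * F.bx hsx') = 1
    rw [map_mul, hfS, hst _ hs' s' hsx' hsl', one_mul]
  refine ⟨f, hC, hfix, ?_⟩
  -- some element of the normalizer is odd
  have hodd : ∃ g, ∃ hg : g ∈ F.Cx, g ∈ F.N ∧ f (F.bx hg) = -1 := by
    by_contra hno
    have hle : E.N ≤ f.ker := fun y hy => by
      obtain ⟨g, hg, rfl⟩ := F.bx_surj y
      refine MonoidHom.mem_ker.2 ((Int.units_eq_one_or _).resolve_right fun h => hno ⟨g, hg, ?_, h⟩)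
      have hy' : F.bx hg ∈ normalizer (E.D.J : Set (F.Cx ⧸ F.Zx)) := hy
      rw [hE] at hy'
      exact (F.norm_Jx hg).1 hy'
    have h : eG (cs.simple 0) ∈ f.ker := (D.normal_eq_top hgood hle).symm ▸ mem_top _
    rw [MonoidHom.mem_ker, hneg] at h
    exact absurd h (by decide)
  have hval : ∀ g (hg : g ∈ F.Cx), g ∈ F.N → ∀ M n c, F.Lift n M → g = F.e c * n → ∀ hn : n ∈ F.Cx,
      f (F.bx hg) = f (F.bx hn) := by
    intro g hg _ M n c _ e hn
    subst e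
    show f (F.bx (F.J_le_Cx (F.e_mem c)) * F.bx hn) = _
    rw [map_mul, hJ, one_mul]
  have hsplit : ∀ g (hg : g ∈ F.Cx), g ∈ F.N → ∃ M ∈ stX, ∃ n, ∃ hn : n ∈ F.Cx, F.Lift n M ∧ F.Act g M ∧
      f (F.bx hg) = f (F.bx hn) := by
    intro g hg hN
    obtain ⟨M, hM, hA, -⟩ := F.Cx_act hg hN
    obtain ⟨M', n, c, hn, e, hA'⟩ := F.exists_aff hN
    obtain rfl := F.act_unique hA hA'
    have hfx : app M xv4 = xv4 := F.e_inj (by rw [← hA, F.mem_Cx.1 hg, mul_inv_cancel_right])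
    exact ⟨M, hM, n, F.lift_Cx hfx hn, hn, hA, hval g hg hN M n c hn e _⟩
  intro g hg hN hf1
  obtain ⟨M, hM, n, hn, hL, hA, hfn⟩ := hsplit g hg hN
  rcases List.mem_append.1 hM with h | h
  · exact ⟨M, h, hA⟩
  exfalso
  obtain ⟨g', hg', hN', hf'⟩ := hodd
  obtain ⟨M', hM', n', hn', hL', -, hfn'⟩ := hsplit g' hg' hN'
  rcases List.mem_append.1 hM' with h' | h'
  · rw [hfn', hfix M' h' n' hn' hL'] at hf'
    exact absurd hf' (by decide)
  obtain ⟨p, hp, rfl⟩ := List.mem_map.1 h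
  obtain ⟨q, hq, rfl⟩ := List.mem_map.1 h'
  obtain ⟨i, -, hi⟩ := List.any_eq_true.1 (List.all_eq_true.1 (List.all_eq_true.1 xInv_coset p hp) q hq)
  have hi' := of_decide_eq_true hi
  have hmem : xF i ∈ xFix.map Prod.fst := of_decide_eq_true (List.all_eq_true.1 xF_mem i (List.mem_finRange i))
  obtain ⟨k, hk, hkx⟩ := F.lift_xFix hmem
  obtain rfl := F.lift_unique hL' (hi'.symm ▸ F.lift_mul hk hL)
  rw [hfn', show F.bx hn' = F.bx hkx * F.bx hn from rfl, map_mul, hfix _ hmem k hkx hk, one_mul, ← hfn, hf1] at hf'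
  exact absurd hf' (by decide)

/-- The centralizer of `x` is generated by its parts in the centralizer of `z` and in the normalizer. -/
theorem Cx_le {H : Subgroup G} (hN : F.Cx ⊓ F.N ≤ H) (hC : F.Cx ⊓ F.D.Ct ≤ H) : F.Cx ≤ H := by
  classical
  set Hb : Subgroup (F.Cx ⧸ F.Zx) := (H.subgroupOf F.Cx).map (QuotientGroup.mk' F.Zx) with hHb
  have hmem : ∀ g (hg : g ∈ F.Cx), g ∈ H → F.bx hg ∈ Hb := fun g hg h => ⟨⟨g, hg⟩, h, rfl⟩
  have hCb : F.xSetup.C ≤ Hb := fun y hy => by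
    obtain ⟨g, hg, rfl⟩ := F.bx_surj y
    exact hmem g hg (hC ⟨hg, F.comm_z hg (mem_centralizer_singleton_iff.1 hy)⟩)
  have hNb : normalizer (F.Jx : Set (F.Cx ⧸ F.Zx)) ≤ Hb := fun y hy => by
    obtain ⟨g, hg, rfl⟩ := F.bx_surj y
    exact hmem g hg (hN ⟨hg, (F.norm_Jx hg).1 hy⟩)
  have htop : Hb = ⊤ := by
    obtain ⟨E', hE'⟩ := (F.xSetup.restrict Hb hCb).exists_frame
    obtain ⟨E, hE, hk2, hk3⟩ := F.exists_xFrame
    have hmemN : ∀ y : Hb, y ∈ E'.N ↔ (y : F.Cx ⧸ F.Zx) ∈ normalizer (F.Jx : Set (F.Cx ⧸ F.Zx)) := fun y => by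
      show y ∈ normalizer (E'.D.J : Set Hb) ↔ _
      rw [hE', mem_normalizer_iff, mem_normalizer_iff]
      have hJb : F.Jx ≤ Hb := F.xSetup.J_le.trans hCb
      constructor
      · intro h w
        constructor
        · intro hw; exact (h ⟨w, hJb hw⟩).1 hw
        · intro hw
          exact (h ⟨w, by
            have := mul_mem (mul_mem (inv_mem y.2) (hJb hw)) y.2
            rwa [show (y : F.Cx ⧸ F.Zx)⁻¹ * (y * w * (y : F.Cx ⧸ F.Zx)⁻¹) * y = w by group] at this⟩).2 hw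
      · exact fun h w => h w
    have hcardN : Nat.card E'.N = Nat.card E.N := by
      have hEN : ∀ y, y ∈ E.N ↔ y ∈ normalizer (F.Jx : Set (F.Cx ⧸ F.Zx)) := fun y => by
        show y ∈ normalizer (E.D.J : Set (F.Cx ⧸ F.Zx)) ↔ _
        rw [hE]; rfl
      exact Nat.card_congr
        { toFun := fun y => ⟨((y : Hb) : F.Cx ⧸ F.Zx), (hEN _).2 ((hmemN _).1 y.2)⟩
          invFun := fun y => ⟨⟨y.1, hNb ((hEN _).1 y.2)⟩, (hmemN _).2 ((hEN _).1 y.2)⟩
          left_inv := fun _ => rfl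
          right_inv := fun _ => rfl }
    rw [E'.card_N, E.card_N] at hcardN
    refine eq_top_of_card_eq _ ?_
    by_cases hin : F.Inner
    · have hk : E'.k = 2 := by
        rw [hk2 hin] at hcardN
        exact inR_two E'.k (by omega)
      obtain ⟨e⟩ := E.case_two (hk2 hin)
      obtain ⟨e'⟩ := E'.case_two hk
      exact (Nat.card_congr e'.toEquiv).trans (Nat.card_congr e.toEquiv).symm
    · obtain ⟨E3, hE3, hgood⟩ := F.exists_frame3 hin
      have hk : E'.k = 3 := by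
        rw [hk3 hin] at hcardN
        exact inR_three E'.k (by omega)
      obtain ⟨e⟩ := CfsgPSp43Real.Frame3.case_good hgood
      obtain ⟨e'⟩ := CfsgPSp43Real.Frame3.case_good (F := ⟨E', hk⟩) (F.good_restrict hin Hb hCb hNb ⟨E', hk⟩ hE')
      exact (Nat.card_congr e'.toEquiv).trans (Nat.card_congr e.toEquiv).symm
  intro g hg
  obtain ⟨⟨k, hk⟩, hkH, e⟩ : F.bx hg ∈ Hb := htop ▸ mem_top _
  obtain ⟨i, hi⟩ := F.mem_zx.1 ((F.bx_eq hk hg).1 e)
  rw [inv_mul_eq_iff_eq_mul] at hi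
  rw [hi]
  exact mul_mem hkH (hN ⟨F.J_le_Cx (F.e_mem _), F.J_le_N (F.e_mem _)⟩)

end Frame

end CfsgLib.O8T
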