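import Cfsg.Agent.Lib.OEightPlusThree.XGen
import Cfsg.Agent.Lib.PSp43Rec.CentT

/-!
The coordinates of `PSp(4,3)` inside the centralizer of `x` modulo it.
-/

set_option autoImplicit false
set_option synthInstance.maxSize 4096
set_option maxRecDepth 8000

namespace CfsgLib.O8T

open Subgroup Equiv

universe u

/-- The vectors of the four conjugates of the image of the centre. -/
def zvv : Fin 4 → V4 := ![(1, 2, 2, 0), (2, 1, 2, 0), (2, 2, 1, 0), (1, 1, 1, 0)]

/-- The matrix permuting the four conjugates. -/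
def permM (σ : Perm (Fin 4)) : M4 :=
  ((xFix.map Prod.fst).find? fun M => (List.finRange 4).all fun k => app M (zvv k) == zvv (σ k)).getD idM

theorem permM_facts : (∀ σ : Perm (Fin 4), permM σ ∈ xFix.map Prod.fst ∧ app (permM σ) xv4 = xv4 ∧
      ∀ k, app (permM σ) (zvv k) = zvv (σ k)) ∧
    permM 1 = idM ∧ (∀ σ τ : Perm (Fin 4), permM (σ * τ) = comp (permM σ) (permM τ)) := by decide +kernel

theorem permM_all : ((xFix.map Prod.fst).all fun M => decide (∃ σ : Perm (Fin 4), permM σ = M)) = true := by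
  decide +kernel

theorem zvv_facts : zvv 3 = zv4 ∧ zvv 0 + zvv 1 + zvv 2 + zvv 3 = 0 ∧
    (∀ a b c : Fin 3, ∀ i : Fin 3, a.val • zvv 0 + b.val • zvv 1 + c.val • zvv 2 = i.val • xv4 → a = 0 ∧ b = 0 ∧ c = 0) ∧
    (∀ v : V4, ∃ a b c i : Fin 3, v = a.val • zvv 0 + b.val • zvv 1 + c.val • zvv 2 + i.val • xv4) := by decide +kernel

theorem zvv_cube : ∀ k, 3 • zvv k = (0 : ℕ) • xv4 := by decide +kernel

theorem permM_t : permM CfsgPSp43Rec.swap01 = pT := by decide +kernel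

variable {G : Type u} [Group G]

namespace Frame

variable [Finite G] (F : Frame G)

/-- The lift of a permutation. -/
noncomputable def perN (σ : Perm (Fin 4)) : G := (F.lift_xFix (permM_facts.1 σ).1).choose

theorem perN_lift (σ : Perm (Fin 4)) : F.Lift (F.perN σ) (permM σ) := (F.lift_xFix (permM_facts.1 σ).1).choose_spec.1

theorem perN_Cx (σ : Perm (Fin 4)) : F.perN σ ∈ F.Cx := (F.lift_xFix (permM_facts.1 σ).1).choose_spec.2

theorem perN_mul (σ τ : Perm (Fin 4)) : F.perN (σ * τ) = F.perN σ * F.perN τ :=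
  F.lift_unique (F.perN_lift _) (permM_facts.2.2 σ τ ▸ F.lift_mul (F.perN_lift σ) (F.perN_lift τ))

theorem perN_one : F.perN 1 = 1 := F.lift_unique (F.perN_lift 1) (permM_facts.2.1 ▸ F.lift_one)

theorem perN_conj (σ : Perm (Fin 4)) (k : Fin 4) :
    F.perN σ * F.e (zvv k) * (F.perN σ)⁻¹ = F.e (zvv (σ k)) := by
  rw [(F.perN_lift σ).1, (permM_facts.1 σ).2.2]

theorem perN_t : F.perN CfsgPSp43Rec.swap01 = F.nT :=
  F.lift_unique (F.perN_lift _) (permM_t ▸ F.lift_nT)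

/-- The frame of `PSp(4,3)` on the sign kernel, with the sign. -/
theorem exists_recSign : ∃ (f : (F.Cx ⧸ F.Zx) →* ℤˣ) (E : CfsgPSp43Rec.Frame f.ker),
    (∀ y, y ∈ F.Cza → f y = 1) ∧
    (∀ g (hg : g ∈ F.Cx), g ∈ F.N → f (F.bx hg) = 1 → ∃ M ∈ xFix.map Prod.fst, F.Act g M) ∧
    (∀ M ∈ xFix.map Prod.fst, ∀ n (hn : n ∈ F.Cx), F.Lift n M → f (F.bx hn) = 1) ∧
    (∀ k, (E.z k : F.Cx ⧸ F.Zx) = F.bx (F.J_le_Cx (F.e_mem (zvv k)))) ∧
    ∀ σ, (E.φ σ : F.Cx ⧸ F.Zx) = F.bx (F.perN_Cx σ) := by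
  classical
  obtain ⟨f, hC, hfix, hN⟩ := F.exists_sign
  let D := F.xSetup.restrict f.ker fun y hy => MonoidHom.mem_ker.2 (hC y hy)
  have hz : ∀ k, F.bx (F.J_le_Cx (F.e_mem (zvv k))) ∈ f.ker := fun k => MonoidHom.mem_ker.2 (hC _ (F.mem_Cza _ (by
    rw [← F.e_z]; exact F.e_comm _ _)))
  let z : Fin 4 → f.ker := fun k => ⟨_, hz k⟩
  have hz3 : z 3 = D.a := by
    refine Subtype.ext ?_
    show F.bx (F.J_le_Cx (F.e_mem (zvv 3))) = F.za
    exact congrArg QuotientGroup.mk (Subtype.ext (by show F.e (zvv 3) = F.D.z; rw [zvv_facts.1]; exact F.e_z))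
  let φ : Perm (Fin 4) →* f.ker :=
    { toFun := fun σ => ⟨F.bx (F.perN_Cx σ), MonoidHom.mem_ker.2 (hfix _ (permM_facts.1 σ).1 _ _ (F.perN_lift σ))⟩
      map_one' := Subtype.ext (congrArg QuotientGroup.mk (Subtype.ext F.perN_one))
      map_mul' := fun σ τ => Subtype.ext (congrArg QuotientGroup.mk (Subtype.ext (F.perN_mul σ τ))) }
  have hpow : ∀ (c : V4) (n : ℕ), F.bx (F.J_le_Cx (F.e_mem c)) ^ n = F.bx (F.J_le_Cx (F.e_mem (n • c))) := fun c n =>
    (QuotientGroup.mk_pow _ _ n).symm.trans (congrArg QuotientGroup.mk (Subtype.ext (F.e_pow c n)))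
  have hx : ∀ n : ℕ, F.bx (F.J_le_Cx (F.e_mem (n • xv4))) = 1 := fun n =>
    (QuotientGroup.eq_one_iff _).2 (mem_subgroupOf.2 (by
      show F.e (n • xv4) ∈ zpowers F.x4
      rw [F.x_pow]; exact pow_mem (mem_zpowers _) _))
  have hadd : ∀ c d : V4, F.bx (F.J_le_Cx (F.e_mem (c + d))) =
      F.bx (F.J_le_Cx (F.e_mem c)) * F.bx (F.J_le_Cx (F.e_mem d)) := fun c d =>
    congrArg QuotientGroup.mk (Subtype.ext (F.e_add c d))
  have hcl : (closure (Set.range z)).map f.ker.subtype = F.Jx := by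
    rw [MonoidHom.map_closure, ← Set.range_comp]
    refine le_antisymm ((closure_le _).2 ?_) fun y hy => ?_
    · rintro _ ⟨k, rfl⟩
      exact (F.mem_Jx _).2 (F.e_mem _)
    · obtain ⟨c, hc, rfl⟩ := F.Jx_forms hy
      obtain ⟨a, b, d, i, rfl⟩ := zvv_facts.2.2.2 c
      rw [show F.bx hc = _ from hadd _ _, hadd, hadd, hx, mul_one, ← hpow, ← hpow, ← hpow]
      refine mul_mem (mul_mem (pow_mem ?_ _) (pow_mem ?_ _)) (pow_mem ?_ _) <;> exact subset_closure ⟨_, rfl⟩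
  let g3 : ↥(centralizer ({z 3} : Set f.ker)) →* ↥D.C :=
    (centralizer ({z 3} : Set f.ker)).subtype.codRestrict D.C fun y => by
      show (y : f.ker) ∈ centralizer ({D.a} : Set f.ker)
      rw [← hz3]; exact y.2
  have hg3 : Function.Bijective g3 :=
    ⟨fun a b e => Subtype.ext (congrArg (fun y : D.C => (y : f.ker)) e),
      fun y => ⟨⟨y, by rw [hz3]; exact y.2⟩, rfl⟩⟩
  refine ⟨f, {
    z := z
    φ := φ
    π := D.π.comp g3
    cube := fun k => Subtype.ext (by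
      show F.bx (F.J_le_Cx (F.e_mem (zvv k))) ^ 3 = 1
      rw [hpow, zvv_cube]; exact hx 0)
    comm := fun k l => Subtype.ext (congrArg QuotientGroup.mk (Subtype.ext (F.e_comm _ _)))
    prod := Subtype.ext (by
      show F.bx (F.J_le_Cx (F.e_mem (zvv 0))) * F.bx (F.J_le_Cx (F.e_mem (zvv 1))) *
        F.bx (F.J_le_Cx (F.e_mem (zvv 2))) * F.bx (F.J_le_Cx (F.e_mem (zvv 3))) = 1
      rw [← hadd, ← hadd, ← hadd]
      exact (congrArg (fun c => F.bx (F.J_le_Cx (F.e_mem c))) (zvv_facts.2.1.trans (zero_smul ℕ xv4).symm)).trans (hx 0))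
    conj := fun σ k => Subtype.ext (congrArg QuotientGroup.mk (Subtype.ext (F.perN_conj σ k)))
    inj := fun a b c h => by
      have h' := congrArg Subtype.val h
      change F.bx (F.J_le_Cx (F.e_mem (zvv 0))) ^ a.val * F.bx (F.J_le_Cx (F.e_mem (zvv 1))) ^ b.val *
        F.bx (F.J_le_Cx (F.e_mem (zvv 2))) ^ c.val = 1 at h'
      rw [hpow, hpow, hpow, ← hadd, ← hadd] at h'
      obtain ⟨i, hi⟩ := F.mem_zx.1 (mem_subgroupOf.1 ((QuotientGroup.eq_one_iff _).1 h'))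
      obtain ⟨h0, h1, h2⟩ := zvv_facts.2.2.1 ⟨a.val, ZMod.val_lt a⟩ ⟨b.val, ZMod.val_lt b⟩ ⟨c.val, ZMod.val_lt c⟩ i
        (F.e_inj hi)
      exact ⟨(ZMod.val_eq_zero a).1 (congrArg Fin.val h0), (ZMod.val_eq_zero b).1 (congrArg Fin.val h1),
        (ZMod.val_eq_zero c).1 (congrArg Fin.val h2)⟩
    norm := fun y hy => by
      obtain ⟨g, hg, ey⟩ := F.bx_surj (y : F.Cx ⧸ F.Zx)
      have hgN : g ∈ F.N := F.mem_N_of_norm fun a ha => by
        obtain ⟨w, hw, ew⟩ := show F.bx (F.J_le_Cx ha) ∈ (closure (Set.range z)).map f.ker.subtype from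
          hcl.ge ((F.mem_Jx _).2 ha)
        have h1 : F.bx hg * F.bx (F.J_le_Cx ha) * (F.bx hg)⁻¹ ∈ F.Jx := by
          rw [← hcl, ← ey, ← ew]
          exact ⟨_, (mem_normalizer_iff.1 hy w).1 hw, rfl⟩
        exact (F.mem_Jx (mul_mem (mul_mem hg (F.J_le_Cx ha)) (inv_mem hg))).1 h1
      have hf1 : f (F.bx hg) = 1 := by rw [← ey]; exact MonoidHom.mem_ker.1 y.2
      obtain ⟨M, hM, hA⟩ := hN g hg hgN hf1
      obtain ⟨σ, rfl⟩ := of_decide_eq_true (List.all_eq_true.1 permM_all M hM)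
      obtain ⟨M', n, c, hn, e, hA'⟩ := F.exists_aff hgN
      obtain rfl := F.act_unique hA hA'
      obtain rfl := F.lift_unique hn (F.perN_lift σ)
      obtain ⟨w, hw, ew⟩ := show F.bx (F.J_le_Cx (F.e_mem c)) ∈ (closure (Set.range z)).map f.ker.subtype from
        hcl.ge ((F.mem_Jx _).2 (F.e_mem c))
      refine ⟨w, hw, σ, Subtype.ext ?_⟩
      subst e
      rw [ey, Subgroup.coe_mul]
      exact congrArg (· * F.bx (F.perN_Cx σ)) ew.symm
    self := fun y hy => by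
      have hyJ : (y : F.Cx ⧸ F.Zx) ∈ F.Jx := F.xSetup.cent_J fun j hj => by
        have hle : (closure (Set.range z)).map f.ker.subtype ≤ centralizer ({(y : F.Cx ⧸ F.Zx)} : Set (F.Cx ⧸ F.Zx)) := by
          rw [MonoidHom.map_closure, closure_le]
          rintro _ ⟨_, ⟨k, rfl⟩, rfl⟩
          exact mem_centralizer_singleton_iff.2 (congrArg Subtype.val (hy k).symm.eq)
        exact (mem_centralizer_singleton_iff.1 (hle (hcl.ge hj))).symm
      obtain ⟨w, hw, ew⟩ := hcl.ge hyJ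
      exact Subtype.ext (a1 := w) (a2 := y) ew ▸ hw
    sig := fun K hK hn => by
      rw [← map_eq_bot_iff_of_injective _ f.ker.subtype_injective]
      refine F.sigX (by rwa [card_map_of_injective f.ker.subtype_injective]) fun j hj => ?_
      have hle : (closure (Set.range z)) ≤ normalizer (K : Set f.ker) := by
        rw [closure_le]
        rintro _ ⟨k, rfl⟩
        refine mem_normalizer_iff.2 fun w => ⟨hn k w, fun hw => ?_⟩
        have h3 := hn k _ (hn k _ hw)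
        have e : z k * z k * z k = 1 := by
          rw [← pow_three']
          exact Subtype.ext (by
            show F.bx (F.J_le_Cx (F.e_mem (zvv k))) ^ 3 = 1
            rw [hpow, zvv_cube]; exact hx 0)
        rwa [show z k * (z k * (z k * w * (z k)⁻¹) * (z k)⁻¹) * (z k)⁻¹ =
          z k * z k * z k * w * (z k * z k * z k)⁻¹ by group, e, one_mul, inv_one, mul_one] at h3
      obtain ⟨w, hw, rfl⟩ := hcl.ge hj
      refine le_antisymm ?_ fun x hxm => ?_
      · rintro _ ⟨_, ⟨u, hu, rfl⟩, rfl⟩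
        exact ⟨w * u * w⁻¹, (mem_normalizer_iff.1 (hle hw) u).1 hu, rfl⟩
      · obtain ⟨u, hu, rfl⟩ := hxm
        have h2 := (mem_normalizer_iff.1 (inv_mem (hle hw)) u).1 hu
        rw [inv_inv] at h2
        refine ⟨_, ⟨w⁻¹ * u * w, h2, rfl⟩, ?_⟩
        show (w : F.Cx ⧸ F.Zx) * ((w : F.Cx ⧸ F.Zx)⁻¹ * u * w) * (w : F.Cx ⧸ F.Zx)⁻¹ = u
        group
    surj := D.surj.comp hg3.2
    kerCard := by
      rw [← D.kerCard, ← MonoidHom.comap_ker]
      exact (card_map_of_injective hg3.1).symm.trans (by rw [map_comap_eq_self_of_surjective hg3.2])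
    kerCent := fun y hy hc => by
      have h := D.kerCent (g3 y) hy fun w hw => by
        obtain ⟨w, rfl⟩ := hg3.2 w
        rw [← map_mul, hc w hw, map_mul]
      exact (congrArg zpowers hz3).ge h
    nat := fun y h => D.nat (x := g3 y) fun u hu => by
      obtain ⟨v, hv, rfl⟩ := hu
      obtain ⟨v', rfl⟩ := hg3.2 v
      have h2 := (mem_inf.1 (h v' hv)).2
      rw [mem_subgroupOf] at h2
      show (y : f.ker) * v' * (y : f.ker)⁻¹ * (v' : f.ker)⁻¹ ∈ zpowers D.a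
      exact (congrArg zpowers hz3).le h2 }, hC, hN, hfix, fun k => rfl, fun σ => rfl⟩

/-- The frame of `PSp(4,3)` on a subgroup. -/
theorem exists_recX : ∃ (X0 : Subgroup (F.Cx ⧸ F.Zx)) (E : CfsgPSp43Rec.Frame X0),
    (∀ k, (E.z k : F.Cx ⧸ F.Zx) = F.bx (F.J_le_Cx (F.e_mem (zvv k)))) ∧
    ∀ σ, (E.φ σ : F.Cx ⧸ F.Zx) = F.bx (F.perN_Cx σ) := by
  obtain ⟨f, E, -, -, -, h, h'⟩ := F.exists_recSign
  exact ⟨f.ker, E, h, h'⟩

end Frame

end CfsgLib.O8T
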