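import Cfsg.Agent.Lib.OEightPlusThree.XSym

/-!
Relations between the translates of `x₀` and of the reflections of the frame.
-/

set_option autoImplicit false
set_option synthInstance.maxSize 4096
set_option maxRecDepth 8000

namespace CfsgLib.O8T

open Subgroup

universe u

/-- Words for the symmetries. -/
def symW : List (List Bool) := [[], [false], [true], [false, false], [true, false], [false, true],
  [true, false, false], [false, true, false], [false, false, true], [true, false, true], [false, true, false, false],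
  [false, false, true, false]]

/-- The matrix of a word in the symmetries. -/
def symM : List Bool → M4
  | [] => idM
  | b :: r => comp (if b then sM else pB) (symM r)

/-- The coordinate of a vector along a vector of the frame. -/
def cfd (δ : V4) (i : Fin 4) : ZMod 3 :=
  -(δ.1 * (vv i).1 + δ.2.1 * (vv i).2.1 + δ.2.2.1 * (vv i).2.2.1 + δ.2.2.2 * (vv i).2.2.2)

/-- The number of non-zero coordinates along the frame. -/
def supp (δ : V4) : ℕ := ((List.finRange 4).filter fun i => cfd δ i ≠ 0).length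

/-- The number of quaternion groups moved. -/
def moved (δ : V4) : ℕ := ((List.finRange 4).map fun k => if InPlane k δ then 0 else 1).sum

theorem vec_facts : (∀ i, 3 • vv i = (0 : V4)) ∧ app (nM 0) (vv 0) = -vv 0 ∧ app (nM 2) (vv 0) = vv 0 ∧
    app (nM 3) (vv 0) = vv 0 ∧ app pT (vv 0) = vv 0 ∧ ¬ InPlane 0 (vv 0) ∧
    (∀ i δ, cfd δ i = 0 → app (nM i) δ = δ) ∧
    (∀ i δ, cfd δ i ≠ 0 → app (nM i) δ = δ + vv i ∨ app (nM i) δ = δ + 2 • vv i) ∧
    (∀ i j δ, i ≠ j → app (nM i) (δ - app (nM j) δ) = δ - app (nM j) δ) ∧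
    (∀ i j δ, δ - app (nM j) δ = 0 → cfd δ j = 0 ∨ i = j) := by decide +kernel

theorem move_one : ∀ i, ∃ w ∈ symW, app (symM w) (vv 0) = vv i ∨ app (symM w) (vv 0) = 2 • vv i := by decide +kernel

theorem move_small : ∀ δ : V4, (supp δ = 1 ∨ supp δ = 2) →
    ∃ w ∈ symW, app pT (app (symM w) δ) = app (symM w) δ ∧ moved (app (symM w) δ) % 2 = 0 := by decide +kernel

theorem move_three : ∀ δ : V4, supp δ = 3 → ∀ i, cfd δ i = 0 → ∃ w ∈ symW,
    app pT (app (symM w) δ) = app (symM w) δ ∧ moved (app (symM w) δ) % 2 = 1 ∧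
      comp (symM w) (nM i) = comp pT (symM w) := by decide +kernel

variable {G : Type u} [Group G]

namespace Frame

variable [Finite G] (F : Frame G)

/-- A translate of `x₀`. -/
noncomputable def XS (δ : V4) : G := F.e δ * F.x0 * (F.e δ)⁻¹

theorem XS_zero : F.XS 0 = F.x0 := by rw [XS, F.e_zero, one_mul, inv_one, mul_one]

theorem XS_sq (δ : V4) : F.XS δ * F.XS δ = 1 := by
  rw [XS, show F.e δ * F.x0 * (F.e δ)⁻¹ * (F.e δ * F.x0 * (F.e δ)⁻¹) = F.e δ * (F.x0 * F.x0) * (F.e δ)⁻¹ by group,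
    F.x0_sq, mul_one, mul_inv_cancel]

theorem XS_inv (δ : V4) : (F.XS δ)⁻¹ = F.XS δ := inv_eq_of_mul_eq_one_right (F.XS_sq δ)

theorem XS_add (δ γ : V4) : F.e δ * F.XS γ * (F.e δ)⁻¹ = F.XS (δ + γ) := by
  rw [XS, XS, F.e_add]; group

theorem lift_XS {n : G} {M : M4} (hn : F.Lift n M) (h : n * F.x0 * n⁻¹ = F.x0) (δ : V4) :
    n * F.XS δ * n⁻¹ = F.XS (app M δ) := by
  rw [XS, XS, ← hn.1 δ]
  conv_rhs => rw [show n * F.e δ * n⁻¹ * F.x0 * (n * F.e δ * n⁻¹)⁻¹ =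
    n * (F.e δ * (n⁻¹ * F.x0 * n) * (F.e δ)⁻¹) * n⁻¹ by group]
  have e : n⁻¹ * F.x0 * n = F.x0 := by nth_rewrite 1 [← h]; group
  rw [e]

/-- The lift of a word in the symmetries fixes `x₀`. -/
theorem exists_sym : ∀ w : List Bool, ∃ n, F.Lift n (symM w) ∧ n * F.x0 * n⁻¹ = F.x0
  | [] => ⟨1, F.lift_one, by group⟩
  | b :: r => by
    obtain ⟨n, hn, hx⟩ := exists_sym r
    cases b
    · refine ⟨F.dR * n, F.lift_mul F.dR_lift hn, ?_⟩
      rw [show F.dR * n * F.x0 * (F.dR * n)⁻¹ = F.dR * (n * F.x0 * n⁻¹) * F.dR⁻¹ by group, hx, F.x0_dR]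
    · refine ⟨F.sR * n, F.lift_mul F.sR_lift hn, ?_⟩
      rw [show F.sR * n * F.x0 * (F.sR * n)⁻¹ = F.sR * (n * F.x0 * n⁻¹) * F.sR⁻¹ by group, hx, F.x0_sR]

theorem conj_comm_e {n : G} {M : M4} (hn : F.Lift n M) (δ : V4) (y : G) :
    n * (F.e δ * y * (F.e δ)⁻¹) * n⁻¹ = F.e (app M δ) * (n * y * n⁻¹) * (F.e (app M δ))⁻¹ := by
  rw [← hn.1 δ]; group

theorem wp_nT_pow (n : Fin 4 → ℕ) : wp (fun k => F.nT ^ n k) = F.nT ^ (n 0 + n 1 + n 2 + n 3) := by
  simp only [wp, pow_add]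

theorem nT_pow_mod (n : ℕ) : F.nT ^ n = F.nT ^ (n % 2) := by
  conv_lhs => rw [← Nat.mod_add_div n 2]
  rw [pow_add, pow_mul, pow_two, F.nT_sq, one_pow, mul_one]

/-- The product of two commuting translates of `x₀` in the centralizer of the reflection. -/
theorem XS_bracket {δ : V4} (hδ : app pT δ = δ) :
    F.x0 * F.XS δ * F.x0 * F.XS δ = F.nT ^ (moved δ % 2) := by
  obtain ⟨hc, he⟩ := F.W_conj_e F.xf_comp hδ
  set g := fun k => F.e δ * F.xf k * (F.e δ)⁻¹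
  have hfW : wp F.xf ∈ F.W := ⟨_, F.xf_comp, rfl⟩
  have hgW : wp g ∈ F.W := ⟨_, hc, rfl⟩
  have hX : F.XS δ = wp g * F.nT := by
    rw [XS, x0, ← he,
      show F.e δ * (wp F.xf * F.nT) * (F.e δ)⁻¹ = F.e δ * wp F.xf * (F.nT * (F.e δ)⁻¹) by
        group, (show Commute F.nT (F.e δ)⁻¹ from (show Commute F.nT (F.e δ) from F.nT_fix hδ).inv_right).eq]
    group
  have hbr : F.x0 * F.XS δ * F.x0 * F.XS δ = F.x0 * F.XS δ * F.x0⁻¹ * (F.XS δ)⁻¹ := by rw [F.x0_inv, F.XS_inv]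
  rw [hbr, hX, x0,
    show wp F.xf * F.nT * (wp g * F.nT) * (wp F.xf * F.nT)⁻¹ * (wp g * F.nT)⁻¹ =
      wp F.xf * (F.nT * wp g) * (wp F.xf)⁻¹ * (F.nT⁻¹ * (wp g)⁻¹) by group,
    F.nT_inv, ← (F.W_nT hgW).eq, ← (F.W_nT (inv_mem hgW)).eq,
    show wp F.xf * (wp g * F.nT) * (wp F.xf)⁻¹ * ((wp g)⁻¹ * F.nT) =
      wp F.xf * wp g * (F.nT * ((wp F.xf)⁻¹ * (wp g)⁻¹)) * F.nT by group,
    ← (F.W_nT (mul_mem (inv_mem hfW) (inv_mem hgW))).eq,
    ← F.wp_inv F.xf_comp, ← F.wp_inv hc, ← F.wp_mul (Comp.inv F F.xf_comp) (Comp.inv F hc),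
    ← F.wp_mul F.xf_comp hc, ← mul_assoc, ← F.wp_mul (Comp.mul F F.xf_comp hc) (Comp.mul F (Comp.inv F F.xf_comp) (Comp.inv F hc)),
    mul_assoc, F.nT_sq, mul_one,
    show F.xf * g * (F.xf⁻¹ * g⁻¹) = fun k => F.nT ^ (if InPlane k δ then 0 else 1) from funext fun k => ?_,
    F.wp_nT_pow, ← F.nT_pow_mod]
  · congr 1
    simp [moved, List.finRange_succ, List.sum_cons]
    omega
  · show F.xf k * g k * ((F.xf k)⁻¹ * (g k)⁻¹) = _
    split
    · rename_i h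
      have e : g k = F.xf k := by
        show F.e δ * F.xf k * (F.e δ)⁻¹ = F.xf k
        rw [← (F.Qk_fix (F.xf_comp k) h).eq, mul_inv_cancel_right]
      rw [e, pow_zero]; group
    · rename_i h
      rw [pow_one, ← mul_assoc]
      refine F.Qk_bracket (F.xf_comp k) (hc k) (F.xf_sq k) (F.Quat_e_sq (F.xf_sq k) hδ) ?_ ?_ <;> intro e <;>
        rcases F.Qk_fpf (F.xf_comp k) hδ h (by first | exact .inl e | exact .inr e) with r | r <;>
        have h2 := F.xf_sq k <;> rw [r] at h2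
      all_goals first
        | (rw [one_mul] at h2; exact F.nT_ne h2.symm)
        | (rw [F.nT_sq] at h2; exact F.nT_ne h2.symm)

theorem conj_bracket {n : G} {M : M4} (hn : F.Lift n M) (hx : n * F.x0 * n⁻¹ = F.x0) (δ : V4) :
    n * (F.x0 * F.XS δ * F.x0 * F.XS δ) * n⁻¹ = F.x0 * F.XS (app M δ) * F.x0 * F.XS (app M δ) := by
  rw [← F.lift_XS hn hx, show n * (F.x0 * F.XS δ * F.x0 * F.XS δ) * n⁻¹ =
    (n * F.x0 * n⁻¹) * (n * F.XS δ * n⁻¹) * (n * F.x0 * n⁻¹) * (n * F.XS δ * n⁻¹) by group, hx]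

/-- Translates differing in one or two coordinates commute. -/
theorem hh_small {δ : V4} (h : supp δ = 1 ∨ supp δ = 2) : F.x0 * F.XS δ * F.x0 * F.XS δ = 1 := by
  obtain ⟨w, -, hfix, hm⟩ := move_small δ h
  obtain ⟨n, hn, hx⟩ := F.exists_sym w
  have e := F.conj_bracket hn hx δ
  rw [F.XS_bracket hfix, hm, pow_zero, conj_eq_one_iff] at e
  exact e

/-- Translates differing in three coordinates. -/
theorem hh_three {δ : V4} (h : supp δ = 3) {i : Fin 4} (hi : cfd δ i = 0) :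
    F.x0 * F.XS δ * F.x0 * F.XS δ = F.nR i := by
  obtain ⟨w, -, hfix, hm, hM⟩ := move_three δ h i hi
  obtain ⟨n, hn, hx⟩ := F.exists_sym w
  have e := F.conj_bracket hn hx δ
  rw [F.XS_bracket hfix, hm, pow_one, ← F.lift_conj_eq (F.nR_lift i) F.lift_nT hn hM] at e
  exact mul_left_cancel (mul_right_cancel e)

/-- Three translates along the first vector. -/
theorem three_base : F.XS (vv 0) * F.x0 = F.XS (2 • vv 0) := by
  obtain ⟨-, h0, h2, h3, hv, hn, -⟩ := vec_facts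
  set g := F.e (vv 0) with hg
  have hg3 : g * g * g = 1 := by rw [← pow_two, ← pow_succ]; exact F.e_cube _
  have hgT : Commute F.nT g := F.nT_fix hv
  let k : G ≃* G := MulAut.conj g
  have k3 : ∀ y, k (k (k y)) = y := fun y => by
    show g * (g * (g * y * g⁻¹) * g⁻¹) * g⁻¹ = y
    rw [show g * (g * (g * y * g⁻¹) * g⁻¹) * g⁻¹ = (g * g * g) * y * (g * g * g)⁻¹ by group, hg3]
    group
  have kfix : ∀ i, i = 2 ∨ i = 3 → ∀ y, k (F.cR i y) = F.cR i (k y) := fun i hi y => by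
    have hc : Commute g (F.nR i) := by
      show g * F.nR i = F.nR i * g
      rw [F.lift_e (F.nR_lift i)]
      rcases hi with rfl | rfl
      · rw [h2]
      · rw [h3]
    show g * (F.nR i * y * (F.nR i)⁻¹) * g⁻¹ = F.nR i * (g * y * g⁻¹) * (F.nR i)⁻¹
    rw [show g * (F.nR i * y * (F.nR i)⁻¹) * g⁻¹ = g * F.nR i * y * (g * F.nR i)⁻¹ by group, hc.eq]
    group
  have k0 : ∀ y, k (F.cR 0 y) = F.cR 0 (k (k y)) := fun y => by
    have e : F.nR 0 * (g * g) = g * F.nR 0 := by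
      rw [hg, ← F.e_add, F.lift_e (F.nR_lift 0), app_add, h0, show -vv 0 + -vv 0 = vv 0 from by decide]
    show g * (F.nR 0 * y * (F.nR 0)⁻¹) * g⁻¹ = F.nR 0 * (g * (g * y * g⁻¹) * g⁻¹) * (F.nR 0)⁻¹
    rw [show g * (F.nR 0 * y * (F.nR 0)⁻¹) * g⁻¹ = g * F.nR 0 * y * (g * F.nR 0)⁻¹ by group, ← e]
    group
  have kT : k F.nT = F.nT := by show g * F.nT * g⁻¹ = F.nT; rw [← hgT.eq, mul_inv_cancel_right]
  set A := F.xa
  have hA := F.xa_Quat
  have hA2 := F.xa_sq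
  have hB : k A ∈ F.Quat := F.Quat_e hA hv
  have hC : k (k A) ∈ F.Quat := F.Quat_e hB hv
  obtain ⟨σ, hσdef⟩ : ∃ σ, σ = A * k A * (k (k A))⁻¹ := ⟨_, rfl⟩
  have hσ : F.Triv σ := hσdef ▸ F.Quat_third hv hn hA hA2
  have hAB : A * k A * A⁻¹ * (k A)⁻¹ = F.nT := by
    have hB2 : k A * k A = F.nT := F.Quat_e_sq hA2 hv
    have hq : ∀ {x}, x ∈ F.Quat → x ∈ F.Qk 0 := fun hx => F.Qk_zero.symm ▸ hx
    refine F.Qk_bracket (hq hA) (hq hB) hA2 hB2 ?_ ?_ <;> intro e <;>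
      refine F.Quat_fix_absurd hA hA2 hv hn ?_
    · exact .inl (mul_inv_eq_one.2 e)
    · exact .inr (mul_inv_eq_iff_eq_mul.2 (e.trans (show Commute A F.nT from hA.2.2.2).eq))
  obtain ⟨τ, hτdef⟩ : ∃ τ, τ = F.nT * σ := ⟨_, rfl⟩
  have hτ : F.Triv τ := hτdef ▸ Triv.mul F (.inr rfl) hσ
  have e1 : k A * A = τ * k (k A) := by
    have h : A * k A = F.nT * (k A * A) := by rw [← hAB]; group
    rw [hτdef, hσdef, h,
      show F.nT * (F.nT * (k A * A) * (k (k A))⁻¹) * k (k A) = F.nT * F.nT * (k A * A) by group, F.nT_sq, one_mul]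
  have e2 : k (k A) * A = σ * k A := by
    have h2 : A * k A = σ * k (k A) := by rw [hσdef, inv_mul_cancel_right]
    have h3 := congrArg k (congrArg k h2)
    rw [map_mul, map_mul, map_mul, map_mul, k3] at h3
    have hkσ : k (k σ) = σ := by rcases hσ with rfl | rfl <;> simp only [map_one, kT]
    rw [hkσ] at h3
    exact h3
  have hcT : ∀ i, F.cR i τ = τ ∧ F.cR i σ = σ := fun i => by
    constructor
    · rcases hτ with h | h <;> rw [h]
      · exact map_one _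
      · exact F.cR_nT i
    · rcases hσ with h | h <;> rw [h]
      · exact map_one _
      · exact F.cR_nT i
  -- the product of the components
  have hkk : app pT (2 • vv 0) = 2 • vv 0 := by rw [two_nsmul, app_add, hv]
  have hk2 : F.e (2 • vv 0) = g * g := by rw [two_nsmul, F.e_add]
  have hwk : ∀ f : Fin 4 → G, k (wp f) = wp (fun i => k (f i)) := fun f => by simp only [wp, map_mul]
  have hX1 : F.XS (vv 0) = k F.x0 := rfl
  have hX2 : F.XS (2 • vv 0) = k (k F.x0) := by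
    rw [XS, hk2]; show g * g * F.x0 * (g * g)⁻¹ = g * (g * F.x0 * g⁻¹) * g⁻¹; group
  have hc1 : F.Comp (fun i => k (F.xf i)) := fun i => F.Qk_conj (F.xf_comp i) hv
  have hc2 : F.Comp (fun i => k (k (F.xf i))) := fun i => F.Qk_conj (hc1 i) hv
  rw [hX1, hX2, x0, map_mul, map_mul, kT, kT, hwk, hwk,
    show wp (fun i => k (F.xf i)) * F.nT * (wp F.xf * F.nT) = wp (fun i => k (F.xf i)) * (F.nT * wp F.xf) * F.nT by group,
    ← (F.W_nT ⟨_, F.xf_comp, rfl⟩).eq, ← mul_assoc, mul_assoc _ F.nT F.nT, F.nT_sq, mul_one,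
    ← F.wp_mul hc1 F.xf_comp]
  have hs : (fun i => k (F.xf i)) * F.xf = ![τ, σ, τ, τ] * (fun i => k (k (F.xf i))) := by
    funext i
    fin_cases i
    · exact e1
    · show k (F.cR 0 A) * F.cR 0 A = σ * k (k (F.cR 0 A))
      rw [k0, k0, ← map_mul, k3, e2, map_mul, (hcT 0).2]
    · show k (F.cR 3 A) * F.cR 3 A = τ * k (k (F.cR 3 A))
      rw [kfix 3 (.inr rfl), kfix 3 (.inr rfl), ← map_mul, e1, map_mul, (hcT 3).1]
    · show k (F.cR 2 A) * F.cR 2 A = τ * k (k (F.cR 2 A))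
      rw [kfix 2 (.inl rfl), kfix 2 (.inl rfl), ← map_mul, e1, map_mul, (hcT 2).1]
  have hmem : ∀ {y}, F.Triv y → ∀ i, y ∈ F.Qk i := fun hy i => by
    rcases hy with rfl | rfl
    · exact one_mem _
    · exact F.nT_Qk i
  have hcc : F.Comp ![τ, σ, τ, τ] := fun i => by
    fin_cases i; exacts [hmem hτ 0, hmem hσ 1, hmem hτ 2, hmem hτ 3]
  rw [hs, F.wp_mul hcc hc2]
  have e : wp ![τ, σ, τ, τ] = F.nT := by
    show τ * σ * τ * τ = F.nT
    rw [mul_assoc _ τ τ, F.eq_of_triv_sq hτ, mul_one, hτdef, mul_assoc, F.eq_of_triv_sq hσ, mul_one]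
  rw [e, (F.W_nT ⟨_, hc2, rfl⟩).eq]

/-- Three translates along any vector of the frame. -/
theorem three (i : Fin 4) (δ : V4) :
    F.XS (δ + vv i) * F.XS δ = F.XS (δ + 2 • vv i) ∧ F.XS (δ + 2 • vv i) * F.XS δ = F.XS (δ + vv i) := by
  have key : F.XS (vv i) * F.x0 = F.XS (2 • vv i) := by
    obtain ⟨w, -, h⟩ := move_one i
    obtain ⟨n, hn, hx⟩ := F.exists_sym w
    have h2 := congrArg (MulAut.conj n) F.three_base
    rw [map_mul] at h2
    change n * F.XS (vv 0) * n⁻¹ * (n * F.x0 * n⁻¹) = n * F.XS (2 • vv 0) * n⁻¹ at h2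
    rw [F.lift_XS hn hx, F.lift_XS hn hx, hx] at h2
    have h4 : app (symM w) (2 • vv 0) = 2 • app (symM w) (vv 0) := by rw [two_nsmul, two_nsmul, app_add]
    rw [h4] at h2
    rcases h with h | h <;> rw [h] at h2
    · exact h2
    · rw [show (2 : ℕ) • 2 • vv i = vv i from (smul_smul 2 2 _).trans (by
        rw [show 2 * 2 = 3 + 1 from rfl, add_nsmul, vec_facts.1 i, zero_add, one_nsmul])] at h2
      rw [← h2, mul_assoc, F.x0_sq, mul_one]
  have h1 : F.XS (δ + vv i) * F.XS δ = F.XS (δ + 2 • vv i) := by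
    rw [← F.XS_add δ (vv i), ← F.XS_add δ (2 • vv i), ← key]
    conv_lhs => arg 2; rw [XS]
    group
  exact ⟨h1, by rw [← h1, mul_assoc, F.XS_sq, mul_one]⟩

/-- A reflection and a translate. -/
theorem nR_XS (i : Fin 4) (δ : V4) : F.nR i * F.XS δ * F.nR i = F.XS (app (nM i) δ) := by
  have h := F.lift_XS (F.nR_lift i) (F.x0_cR i) δ
  rwa [F.nR_inv] at h

theorem fh_zero {i : Fin 4} {δ : V4} (h : cfd δ i = 0) : F.nR i * F.XS δ * F.nR i * F.XS δ = 1 := by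
  rw [F.nR_XS, vec_facts.2.2.2.2.2.2.1 i δ h, F.XS_sq]

theorem fh_one {i : Fin 4} {δ : V4} (h : cfd δ i ≠ 0) :
    F.nR i * F.XS δ * F.nR i * F.XS δ = F.XS (-(δ + app (nM i) δ)) := by
  rw [F.nR_XS]
  have h3 : ∀ y : V4, -(y + y) = y := by decide +kernel
  have h2 : -vv i = 2 • vv i := by
    rw [neg_eq_iff_add_eq_zero, ← succ_nsmul']; exact vec_facts.1 i
  rcases vec_facts.2.2.2.2.2.2.2.1 i δ h with e | e <;> rw [e]
  · rw [(F.three i δ).1, show -(δ + (δ + vv i)) = -(δ + δ) + -vv i by abel, h3, h2]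
  · rw [(F.three i δ).2, show -(δ + (δ + 2 • vv i)) = -(δ + δ) + -(2 • vv i) by abel, h3, ← h2, neg_neg]

/-- Two reflections. -/
theorem ff {i j : Fin 4} (h : i ≠ j) (δ : V4) :
    F.nR i * (F.e δ * F.nR j * (F.e δ)⁻¹) * F.nR i * (F.e δ * F.nR j * (F.e δ)⁻¹) = 1 := by
  have e : F.e δ * F.nR j * (F.e δ)⁻¹ = F.e (δ - app (nM j) δ) * F.nR j := by
    have hj := F.lift_e (F.nR_lift j) (-δ)
    have hneg : app (nM j) (-δ) = -app (nM j) δ := eq_neg_of_add_eq_zero_left (by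
      rw [← app_add, neg_add_cancel]
      simp only [app]; ext <;> simp)
    rw [← F.e_neg, mul_assoc, hj, hneg, ← mul_assoc, ← F.e_add, sub_eq_add_neg]
  have hc : Commute (F.nR i) (F.e δ * F.nR j * (F.e δ)⁻¹) := by
    rw [e]
    refine Commute.mul_right ?_ (F.nR_comm i j)
    show F.nR i * F.e _ = F.e _ * F.nR i
    rw [F.lift_e (F.nR_lift i), vec_facts.2.2.2.2.2.2.2.2.1 i j δ h]
  rw [hc.eq, mul_assoc _ (F.nR i) (F.nR i), F.nR_sq, mul_one,
    show F.e δ * F.nR j * (F.e δ)⁻¹ * (F.e δ * F.nR j * (F.e δ)⁻¹) = F.e δ * (F.nR j * F.nR j) * (F.e δ)⁻¹ by group,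
    F.nR_sq, mul_one, mul_inv_cancel]

end Frame

end CfsgLib.O8T
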