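import Cfsg.Agent.Lib.OEightPlusThree.Quat
import Cfsg.Agent.Lib.PSp43Real.Aut.Final

/-!
The centralizer of an element of weight one modulo it satisfies the hypotheses of the recognition of `PSp(4,3)`.
-/

set_option autoImplicit false
set_option synthInstance.maxSize 4096

namespace CfsgLib.O8T

open Subgroup
open CfsgLib.Sym9Three (inR)

universe u

/-- Words for the stabilizer of `x`. -/
def xFix : List (M4 × List (Fin 4)) := [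
  (((0, 0, 1, 0), (0, 1, 0, 0), (1, 0, 0, 0), (0, 0, 0, 1)), [1, 3]),
  (((0, 0, 1, 0), (0, 2, 0, 0), (2, 0, 0, 0), (0, 0, 0, 1)), [1, 0, 0, 0, 1]),
  (((0, 0, 1, 0), (1, 0, 0, 0), (0, 1, 0, 0), (0, 0, 0, 1)), [1, 1]),
  (((0, 0, 1, 0), (2, 0, 0, 0), (0, 2, 0, 0), (0, 0, 0, 1)), [1, 0, 0, 0, 3]),
  (((0, 0, 2, 0), (0, 1, 0, 0), (2, 0, 0, 0), (0, 0, 0, 1)), [0, 0, 0]),
  (((0, 0, 2, 0), (0, 2, 0, 0), (1, 0, 0, 0), (0, 0, 0, 1)), [3, 0, 3, 1, 0, 0]),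
  (((0, 0, 2, 0), (1, 0, 0, 0), (0, 2, 0, 0), (0, 0, 0, 1)), [3, 0, 0, 0]),
  (((0, 0, 2, 0), (2, 0, 0, 0), (0, 1, 0, 0), (0, 0, 0, 1)), [0, 3, 1, 0, 0]),
  (((0, 1, 0, 0), (0, 0, 1, 0), (1, 0, 0, 0), (0, 0, 0, 1)), [1]),
  (((0, 1, 0, 0), (0, 0, 2, 0), (2, 0, 0, 0), (0, 0, 0, 1)), [0, 0, 0, 3]),
  (((0, 1, 0, 0), (1, 0, 0, 0), (0, 0, 1, 0), (0, 0, 0, 1)), [3]),
  (((0, 1, 0, 0), (2, 0, 0, 0), (0, 0, 2, 0), (0, 0, 0, 1)), [0, 0, 0, 1]),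
  (((0, 2, 0, 0), (0, 0, 1, 0), (2, 0, 0, 0), (0, 0, 0, 1)), [3, 1, 0, 0, 0]),
  (((0, 2, 0, 0), (0, 0, 2, 0), (1, 0, 0, 0), (0, 0, 0, 1)), [3, 0, 0, 0, 1, 1]),
  (((0, 2, 0, 0), (1, 0, 0, 0), (0, 0, 2, 0), (0, 0, 0, 1)), [1, 1, 0, 0, 0]),
  (((0, 2, 0, 0), (2, 0, 0, 0), (0, 0, 1, 0), (0, 0, 0, 1)), [1, 0, 0, 0, 1, 1]),
  (((1, 0, 0, 0), (0, 0, 1, 0), (0, 1, 0, 0), (0, 0, 0, 1)), [3, 1]),
  (((1, 0, 0, 0), (0, 0, 2, 0), (0, 2, 0, 0), (0, 0, 0, 1)), [3, 0, 0, 0, 3]),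
  (((1, 0, 0, 0), (0, 1, 0, 0), (0, 0, 1, 0), (0, 0, 0, 1)), []),
  (((1, 0, 0, 0), (0, 2, 0, 0), (0, 0, 2, 0), (0, 0, 0, 1)), [3, 0, 0, 0, 1]),
  (((2, 0, 0, 0), (0, 0, 1, 0), (0, 2, 0, 0), (0, 0, 0, 1)), [1, 0, 0, 0]),
  (((2, 0, 0, 0), (0, 0, 2, 0), (0, 1, 0, 0), (0, 0, 0, 1)), [0, 0, 0, 1, 1]),
  (((2, 0, 0, 0), (0, 1, 0, 0), (0, 0, 2, 0), (0, 0, 0, 1)), [1, 3, 0, 0, 0]),
  (((2, 0, 0, 0), (0, 2, 0, 0), (0, 0, 1, 0), (0, 0, 0, 1)), [1, 0, 3, 1, 0, 0])]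

/-- Words inverting `x`. -/
def xInv : List (M4 × List (Fin 4)) := [
  (((0, 0, 1, 0), (0, 1, 0, 0), (2, 0, 0, 0), (0, 0, 0, 2)), [3, 2, 0, 1, 0]),
  (((0, 0, 1, 0), (0, 2, 0, 0), (1, 0, 0, 0), (0, 0, 0, 2)), [3, 1, 0, 2, 0, 1]),
  (((0, 0, 1, 0), (1, 0, 0, 0), (0, 2, 0, 0), (0, 0, 0, 2)), [2, 0, 1, 0]),
  (((0, 0, 1, 0), (2, 0, 0, 0), (0, 1, 0, 0), (0, 0, 0, 2)), [1, 0, 2, 0, 1]),
  (((0, 0, 2, 0), (0, 1, 0, 0), (1, 0, 0, 0), (0, 0, 0, 2)), [0, 2, 0, 1, 3]),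
  (((0, 0, 2, 0), (0, 2, 0, 0), (2, 0, 0, 0), (0, 0, 0, 2)), [2, 0, 3, 0, 1]),
  (((0, 0, 2, 0), (1, 0, 0, 0), (0, 1, 0, 0), (0, 0, 0, 2)), [0, 2, 0, 1, 1]),
  (((0, 0, 2, 0), (2, 0, 0, 0), (0, 2, 0, 0), (0, 0, 0, 2)), [0, 3, 0, 3, 2]),
  (((0, 1, 0, 0), (0, 0, 1, 0), (2, 0, 0, 0), (0, 0, 0, 2)), [1, 0, 2, 0]),
  (((0, 1, 0, 0), (0, 0, 2, 0), (1, 0, 0, 0), (0, 0, 0, 2)), [0, 2, 0, 1]),
  (((0, 1, 0, 0), (1, 0, 0, 0), (0, 0, 2, 0), (0, 0, 0, 2)), [3, 0, 2, 0]),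
  (((0, 1, 0, 0), (2, 0, 0, 0), (0, 0, 1, 0), (0, 0, 0, 2)), [3, 2, 0, 1, 0, 1]),
  (((0, 2, 0, 0), (0, 0, 1, 0), (1, 0, 0, 0), (0, 0, 0, 2)), [2, 0, 1, 0, 1, 1]),
  (((0, 2, 0, 0), (0, 0, 2, 0), (2, 0, 0, 0), (0, 0, 0, 2)), [3, 2, 0, 3, 0]),
  (((0, 2, 0, 0), (1, 0, 0, 0), (0, 0, 1, 0), (0, 0, 0, 2)), [2, 0, 1, 0, 1, 3]),
  (((0, 2, 0, 0), (2, 0, 0, 0), (0, 0, 2, 0), (0, 0, 0, 2)), [0, 3, 2, 1, 0]),
  (((1, 0, 0, 0), (0, 0, 1, 0), (0, 2, 0, 0), (0, 0, 0, 2)), [3, 1, 0, 2, 0]),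
  (((1, 0, 0, 0), (0, 0, 2, 0), (0, 1, 0, 0), (0, 0, 0, 2)), [3, 0, 2, 0, 1]),
  (((1, 0, 0, 0), (0, 1, 0, 0), (0, 0, 2, 0), (0, 0, 0, 2)), [0, 2, 0]),
  (((1, 0, 0, 0), (0, 2, 0, 0), (0, 0, 1, 0), (0, 0, 0, 2)), [2, 0, 1, 0, 1]),
  (((2, 0, 0, 0), (0, 0, 1, 0), (0, 1, 0, 0), (0, 0, 0, 2)), [0, 1, 0, 1, 1, 0]),
  (((2, 0, 0, 0), (0, 0, 2, 0), (0, 2, 0, 0), (0, 0, 0, 2)), [2, 0, 3, 0]),
  (((2, 0, 0, 0), (0, 1, 0, 0), (0, 0, 1, 0), (0, 0, 0, 2)), [0, 0, 2, 2, 0, 0]),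
  (((2, 0, 0, 0), (0, 2, 0, 0), (0, 0, 2, 0), (0, 0, 0, 2)), [3, 0, 3, 2, 1, 0])]

/-- The stabilizer of `x`. -/
def stX : List M4 := xFix.map Prod.fst ++ xInv.map (fun p => comp p.1 pO)

/-- Representatives modulo `x`. -/
def rep4 (r : ZMod 3 × ZMod 3 × ZMod 3) : V4 := (r.1, r.2.1, r.2.2, 0)

theorem stX_complete : gam.all (fun M => decide (app M xv4 = xv4 → M ∈ stX)) = true := by decide +kernel

theorem stX_complete_one : gamOne.all (fun M => decide (app M xv4 = xv4 → M ∈ xFix.map Prod.fst)) = true := by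
  decide +kernel

theorem xFix_check : xFix.all (fun p => decide (pword p.2 = p.1 ∧ app p.1 xv4 = xv4)) = true := by decide +kernel

theorem xInv_check : xInv.all (fun p => decide (pword p.2 = p.1 ∧ app (comp p.1 pO) xv4 = xv4)) = true := by
  decide +kernel

theorem stX_len : (xFix.map Prod.fst).length = 24 ∧ stX.length = 48 ∧ stX.Nodup ∧ (xFix.map Prod.fst).Nodup := by
  decide +kernel

theorem xmod_facts : (∀ c : V4, ∃ r, ∃ i : Fin 3, c = rep4 r + i.val • xv4) ∧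
    (∀ r r', ∀ i j : Fin 3, rep4 r + i.val • xv4 = rep4 r' + j.val • xv4 → r = r') ∧
    (∀ i : Fin 3, wt (zv4 + i.val • xv4) = 3 → i = 0) ∧ (∀ i : Fin 3, zv4 ≠ i.val • xv4) ∧
    (∀ i j : Fin 3, i.val • zv4 + j.val • xv4 = 0 → i = 0 ∧ j = 0) ∧ xv4 ≠ 0 := by decide +kernel

theorem inR_size : ∀ k : Fin 4, (12 < Fintype.card {r : Fin 48 // inR k r = true} →
      Fintype.card {r : Fin 48 // inR k r = true} ≤ 24 → k = 2) ∧
    (24 < Fintype.card {r : Fin 48 // inR k r = true} → k = 3) := by decide +kernel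

variable {G : Type u} [Group G]

namespace Frame

variable [Finite G] (F : Frame G)

/-- The centralizer of `x`. -/
abbrev Cx : Subgroup G := centralizer ({F.x4} : Set G)

theorem mem_Cx {g : G} : g ∈ F.Cx ↔ g * F.x4 = F.x4 * g := mem_centralizer_singleton_iff

theorem x4_cube : F.x4 ^ 3 = 1 := F.e_cube _

/-- The subgroup generated by `x` in its centralizer. -/
abbrev Zx : Subgroup F.Cx := (zpowers F.x4).subgroupOf F.Cx

instance Zx_normal : F.Zx.Normal := ⟨fun p hp c => by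
  rw [mem_subgroupOf] at hp ⊢
  obtain ⟨m, hm⟩ := mem_zpowers_iff.1 hp
  rw [coe_mul, coe_mul, coe_inv, ← hm,
    ((show Commute (c : G) F.x4 from F.mem_Cx.1 c.2).zpow_right m).eq, mul_inv_cancel_right]
  exact zpow_mem (mem_zpowers _) m⟩

/-- The element of the quotient. -/
abbrev bx {g : G} (hg : g ∈ F.Cx) : F.Cx ⧸ F.Zx := QuotientGroup.mk ⟨g, hg⟩

theorem bx_eq {g h : G} (hg : g ∈ F.Cx) (hh : h ∈ F.Cx) : F.bx hg = F.bx hh ↔ g⁻¹ * h ∈ zpowers F.x4 :=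
  QuotientGroup.eq

theorem bx_surj (y : F.Cx ⧸ F.Zx) : ∃ g, ∃ hg : g ∈ F.Cx, y = F.bx hg := by
  obtain ⟨⟨g, hg⟩, rfl⟩ := QuotientGroup.mk_surjective y
  exact ⟨g, hg, rfl⟩

theorem x_pow (i : ℕ) : F.e (i • xv4) = F.x4 ^ i := by rw [← F.e_pow]

theorem mem_zx {g : G} : g ∈ zpowers F.x4 ↔ ∃ i : Fin 3, g = F.e (i.val • xv4) := by
  constructor
  · intro h
    obtain ⟨n, hn⟩ := (isOfFinOrder_of_finite F.x4).mem_powers_iff_mem_zpowers.2 h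
    refine ⟨⟨n % 3, Nat.mod_lt _ (by norm_num)⟩, ?_⟩
    rw [F.x_pow, ← show F.x4 ^ n = g from hn]
    exact pow_eq_pow_mod _ F.x4_cube
  · rintro ⟨i, rfl⟩
    rw [F.x_pow]
    exact pow_mem (mem_zpowers _) _

theorem z_Cx : F.D.z ∈ F.Cx := F.mem_Cx.2 F.z_x4

theorem J_le_Cx : F.Jg ≤ F.Cx := fun _ ha => F.mem_Cx.2 (F.adj.J_comm _ ha _ (F.e_mem _))

/-- The image of the centre. -/
abbrev za : F.Cx ⧸ F.Zx := F.bx F.z_Cx

theorem comm_z {g : G} (hg : g ∈ F.Cx) (h : F.bx hg * F.za = F.za * F.bx hg) : g ∈ F.D.Ct := by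
  have h1 : g * F.D.z * g⁻¹ * F.D.z⁻¹ ∈ zpowers F.x4 := by
    have e : F.bx (mul_mem (mul_mem hg F.z_Cx) (inv_mem hg)) = F.za := by
      show F.bx hg * F.za * (F.bx hg)⁻¹ = F.za
      rw [h, mul_inv_cancel_right]
    have h2 := (F.bx_eq F.z_Cx (mul_mem (mul_mem hg F.z_Cx) (inv_mem hg))).1 e.symm
    obtain ⟨m, hm⟩ := mem_zpowers_iff.1 h2
    have hzx : Commute F.D.z (F.x4 ^ m) := (show Commute F.D.z F.x4 from F.z_x4).zpow_right m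
    rw [show g * F.D.z * g⁻¹ = F.D.z * F.x4 ^ m by rw [hm]; group, hzx.eq, mul_inv_cancel_right]
    exact zpow_mem (mem_zpowers _) m
  obtain ⟨i, hi⟩ := F.mem_zx.1 h1
  rw [mul_inv_eq_iff_eq_mul] at hi
  have e : g * F.D.z * g⁻¹ = F.e (zv4 + i.val • xv4) := by
    rw [hi, ← F.e_z, ← F.e_add, add_comm]; rfl
  have h3 := xmod_facts.2.2.1 i (F.zconj_iff.1 ⟨g, e⟩)
  subst h3
  rw [show ((0 : Fin 3).val • xv4) = 0 from zero_smul _ _, add_zero] at e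
  exact F.D.mem_Ct.2 (mul_inv_eq_iff_eq_mul.1 (by rw [e]; exact F.e_z))

theorem x4_Q : F.x4 ∈ F.D.Q := F.D.Q2_le F.x4_Q2

theorem x4_nZc : F.x4 ∉ F.D.Zc := F.x4_eq ▸ F.x_nZ

theorem ψ_zx {g : G} (h : g ∈ zpowers F.x4) : ∃ hg : g ∈ F.D.Ct, F.D.ψ ⟨g, hg⟩ = 1 := by
  have hQ : g ∈ F.D.Q := (zpowers_le.2 F.x4_Q : zpowers F.x4 ≤ F.D.Q) h
  exact ⟨F.D.Q_le_Ct hQ, (F.D.ψ_ker _).2 hQ⟩

/-- The centralizer of the image of the centre. -/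
abbrev Cza : Subgroup (F.Cx ⧸ F.Zx) := centralizer ({F.za} : Set (F.Cx ⧸ F.Zx))

theorem rep_Ct (y : F.Cza) : ∃ g, ∃ hg : g ∈ F.Cx, (y : F.Cx ⧸ F.Zx) = F.bx hg ∧ g ∈ F.D.Ct := by
  obtain ⟨g, hg, e⟩ := F.bx_surj y
  exact ⟨g, hg, e, F.comm_z hg (by rw [← e]; exact mem_centralizer_singleton_iff.1 y.2)⟩

theorem ψ_indep {g h : G} (hg : g ∈ F.Cx) (hh : h ∈ F.Cx) (hg' : g ∈ F.D.Ct) (hh' : h ∈ F.D.Ct)
    (e : F.bx hg = F.bx hh) : F.D.ψ ⟨g, hg'⟩ = F.D.ψ ⟨h, hh'⟩ := by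
  obtain ⟨hd, hd1⟩ := F.ψ_zx ((F.bx_eq hg hh).1 e)
  rw [show (⟨h, hh'⟩ : F.D.Ct) = ⟨g, hg'⟩ * ⟨_, hd⟩ from Subtype.ext (mul_inv_cancel_left g h).symm, map_mul, hd1,
    mul_one]

/-- The map onto SL(2,3). -/
noncomputable def piX : F.Cza →* SL23 :=
  MonoidHom.mk' (fun y => (F.D.ψ ⟨(F.rep_Ct y).choose, (F.rep_Ct y).choose_spec.choose_spec.2⟩).1) fun a b => by
    obtain ⟨g, hg, ea, hga⟩ : ∃ g, ∃ hg : g ∈ F.Cx, (a : F.Cx ⧸ F.Zx) = F.bx hg ∧ g = (F.rep_Ct a).choose :=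
      ⟨_, (F.rep_Ct a).choose_spec.choose, (F.rep_Ct a).choose_spec.choose_spec.1, rfl⟩
    obtain ⟨h, hh, eb, hhb⟩ : ∃ h, ∃ hh : h ∈ F.Cx, (b : F.Cx ⧸ F.Zx) = F.bx hh ∧ h = (F.rep_Ct b).choose :=
      ⟨_, (F.rep_Ct b).choose_spec.choose, (F.rep_Ct b).choose_spec.choose_spec.1, rfl⟩
    have hgC : g ∈ F.D.Ct := hga ▸ (F.rep_Ct a).choose_spec.choose_spec.2
    have hhC : h ∈ F.D.Ct := hhb ▸ (F.rep_Ct b).choose_spec.choose_spec.2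
    have e := F.ψ_indep (F.rep_Ct (a * b)).choose_spec.choose (mul_mem hg hh)
      (F.rep_Ct (a * b)).choose_spec.choose_spec.2 (mul_mem hgC hhC) (by
        rw [← (F.rep_Ct (a * b)).choose_spec.choose_spec.1, Subgroup.coe_mul, ea, eb]; rfl)
    subst hga hhb
    rw [e, show (⟨_, mul_mem hgC hhC⟩ : F.D.Ct) = ⟨_, hgC⟩ * ⟨_, hhC⟩ from rfl, map_mul]
    rfl

theorem piX_apply (y : F.Cza) {g : G} (hg : g ∈ F.Cx) (hg' : g ∈ F.D.Ct) (e : (y : F.Cx ⧸ F.Zx) = F.bx hg) :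
    F.piX y = (F.D.ψ ⟨g, hg'⟩).1 :=
  congrArg Prod.fst (F.ψ_indep (F.rep_Ct y).choose_spec.choose hg (F.rep_Ct y).choose_spec.choose_spec.2 hg'
    ((F.rep_Ct y).choose_spec.choose_spec.1.symm.trans e))

theorem mem_Cza {g : G} (hg : g ∈ F.Cx) (hz : g * F.D.z = F.D.z * g) : F.bx hg ∈ F.Cza :=
  mem_centralizer_singleton_iff.2 (congrArg QuotientGroup.mk (Subtype.ext hz))

theorem piX_surj : Function.Surjective F.piX := by
  intro k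
  obtain ⟨m, hm3, hm1, hm⟩ := F.exists_m
  obtain ⟨s, hs⟩ := sl_quat_part m hm3 hm1 k
  obtain ⟨g, hg, hgψ⟩ := F.exists_quP hs
  have hw : F.w ^ s.val ∈ F.Cx := pow_mem (F.J_le_Cx F.w_mem) _
  have hC : g * F.w ^ s.val ∈ F.Cx := mul_mem (F.mem_Cx.2 hg.2.2.1) hw
  have hz : g * F.w ^ s.val ∈ F.D.Ct := mul_mem (F.D.mem_Ct.2 hg.2.1) (pow_mem F.w_Ct _)
  refine ⟨⟨F.bx hC, F.mem_Cza hC (F.D.mem_Ct.1 hz)⟩, ?_⟩
  rw [F.piX_apply _ hC hz rfl, show (⟨_, hz⟩ : F.D.Ct) = ⟨g, F.D.mem_Ct.2 hg.2.1⟩ * ⟨F.w, F.w_Ct⟩ ^ s.val from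
    Subtype.ext rfl, map_mul, map_pow, show F.D.ψ ⟨F.w, F.w_Ct⟩ = F.v from rfl, hm, Prod.pow_mk, Prod.fst_mul, hgψ,
    inv_mul_cancel_right]

theorem piX_ker {y : F.Cza} (h : F.piX y = 1) :
    ∃ g, ∃ hg : g ∈ F.Cx, g ∈ F.D.Q ∧ (y : F.Cx ⧸ F.Zx) = F.bx hg := by
  obtain ⟨g, hg, e, hgC⟩ := F.rep_Ct y
  refine ⟨g, hg, (F.D.ψ_ker ⟨g, hgC⟩).1 (Prod.ext ?_ (F.psi_snd (g := ⟨g, hgC⟩) (F.mem_Cx.1 hg))), e⟩
  rw [← F.piX_apply y hg hgC e, h]; rfl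

theorem piX_Q (y : F.Cza) {g : G} (hg : g ∈ F.Cx) (hgQ : g ∈ F.D.Q) (e : (y : F.Cx ⧸ F.Zx) = F.bx hg) :
    F.piX y = 1 := by
  rw [F.piX_apply y hg (F.D.Q_le_Ct hgQ) e, (F.D.ψ_ker _).2 hgQ]; rfl

theorem zx_inf_Zc {g : G} (h1 : g ∈ zpowers F.x4) (h2 : g ∈ F.D.Zc) : g = 1 := by
  obtain ⟨i, rfl⟩ := F.mem_zx.1 h1
  obtain ⟨n, hn⟩ := (isOfFinOrder_of_finite F.D.z).mem_powers_iff_mem_zpowers.2 h2
  have e : F.e (i.val • xv4) = F.e ((n % 3) • zv4) := by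
    rw [← F.e_pow zv4, show F.e zv4 = F.D.z from F.e_z, ← pow_eq_pow_mod _ F.D.z_cube]; exact hn.symm
  have h3 := xmod_facts.2.2.2.2.1 ⟨n % 3, Nat.mod_lt _ (by norm_num)⟩ ⟨(3 - i.val) % 3, Nat.mod_lt _ (by norm_num)⟩ (by
    show (n % 3) • zv4 + ((3 - i.val) % 3) • xv4 = 0
    rw [← F.e_inj e, ← add_smul]
    have : ∀ i : Fin 3, (i.val + (3 - i.val) % 3) • xv4 = 0 := by decide +kernel
    exact this i)
  rw [e, show n % 3 = 0 from congrArg Fin.val h3.1, zero_smul, F.e_zero]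

theorem Q2_cent_x {g : G} (hg : g ∈ F.D.Q2) (hx : g * F.x4 = F.x4 * g) :
    ∃ i j : Fin 3, g = F.e (i.val • zv4 + j.val • xv4) := by
  set H : Subgroup G := F.D.Q2 ⊓ F.Cx
  let f : Fin 3 × Fin 3 → H := fun p => ⟨F.e (p.1.val • zv4 + p.2.val • xv4), by
    rw [F.e_add, ← F.e_pow, ← F.e_pow, show F.e zv4 = F.D.z from F.e_z]
    exact mul_mem ⟨pow_mem (F.D.Zc_le_Q2 (mem_zpowers _)) _, pow_mem F.z_Cx _⟩
      ⟨pow_mem F.x4_Q2 _, pow_mem (F.mem_Cx.2 rfl) _⟩⟩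
  have hf : Function.Injective f := fun p q e => by
    have h := F.e_inj (congrArg Subtype.val e)
    have key : ∀ p q : Fin 3 × Fin 3, (p.1.val • zv4 + p.2.val • xv4 = q.1.val • zv4 + q.2.val • xv4) → p = q := by
      decide +kernel
    exact key p q h
  have hne : H ≠ F.D.Q2 := fun h => by
    have hb : F.b ∈ H := h.symm ▸ F.b_Q
    have e := F.b_x
    rw [← F.x4_eq, F.mem_Cx.1 hb.2, mul_inv_cancel_right] at e
    exact F.D.z_ne (mul_eq_left.1 e.symm)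
  have h9 : Nat.card H ≤ Nat.card (Fin 3 × Fin 3) := by
    have hd := card_dvd_of_le (inf_le_left : H ≤ F.D.Q2)
    rw [F.D.card_Q2] at hd
    obtain ⟨n, hn, e⟩ := (Nat.dvd_prime_pow Nat.prime_three).1 (show Nat.card H ∣ 3 ^ 3 from hd)
    rw [Nat.card_prod, Nat.card_fin, e]
    have hn3 : n ≠ 3 := fun h => hne (eq_of_le_of_card_ge inf_le_left (by rw [F.D.card_Q2, e, h]; norm_num))
    interval_cases n <;> first | omega | norm_num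
  obtain ⟨p, hp⟩ := (hf.bijective_of_nat_card_le h9).2 ⟨g, hg, F.mem_Cx.2 hx⟩
  exact ⟨p.1, p.2, (congrArg Subtype.val hp).symm⟩

/-- The elementary subgroup of order 27. -/
abbrev Jx : Subgroup (F.Cx ⧸ F.Zx) := (F.Jg.subgroupOf F.Cx).map (QuotientGroup.mk' F.Zx)

theorem mem_Jx {g : G} (hg : g ∈ F.Cx) : F.bx hg ∈ F.Jx ↔ g ∈ F.Jg := by
  constructor
  · rintro ⟨⟨a, ha⟩, haJ, e⟩
    have e' := (F.bx_eq ha hg).1 e
    have := mul_mem (show a ∈ F.Jg from haJ) ((zpowers_le.2 (F.e_mem _) : zpowers F.x4 ≤ F.Jg) e')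
    rwa [mul_inv_cancel_left] at this
  · exact fun h => ⟨⟨g, hg⟩, h, rfl⟩

theorem Jx_forms {y : F.Cx ⧸ F.Zx} (hy : y ∈ F.Jx) : ∃ c, ∃ h : F.e c ∈ F.Cx, y = F.bx h := by
  obtain ⟨⟨a, ha⟩, haJ, rfl⟩ := hy
  obtain ⟨c, rfl⟩ := F.e_surj haJ
  exact ⟨c, ha, rfl⟩

theorem rep4_inj {r r' : ZMod 3 × ZMod 3 × ZMod 3} (h : (F.e (rep4 r))⁻¹ * F.e (rep4 r') ∈ zpowers F.x4) : r = r' := by
  obtain ⟨i, hi⟩ := F.mem_zx.1 h
  rw [inv_mul_eq_iff_eq_mul, ← F.e_add] at hi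
  refine (xmod_facts.2.1 r' r 0 i ?_).symm
  rw [show ((0 : Fin 3).val • xv4) = 0 from zero_smul _ _, add_zero]
  exact F.e_inj hi

theorem card_Jx : Nat.card F.Jx = 27 := by
  let k : (ZMod 3 × ZMod 3 × ZMod 3) → F.Jx := fun r =>
    ⟨F.bx (F.J_le_Cx (F.e_mem (rep4 r))), (F.mem_Jx _).2 (F.e_mem _)⟩
  have hk : Function.Bijective k := by
    refine ⟨fun r r' h => F.rep4_inj ((F.bx_eq _ _).1 (congrArg Subtype.val h)), ?_⟩
    rintro ⟨y, hy⟩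
    obtain ⟨c, hc, rfl⟩ := F.Jx_forms hy
    obtain ⟨r, i, rfl⟩ := xmod_facts.1 c
    refine ⟨r, Subtype.ext ((F.bx_eq _ hc).2 ?_)⟩
    rw [F.e_add, inv_mul_cancel_left, F.x_pow]
    exact pow_mem (mem_zpowers _) _
  rw [← Nat.card_eq_of_bijective k hk, Nat.card_prod, Nat.card_prod, Nat.card_zmod]

theorem kerX_card : Nat.card F.piX.ker = 27 := by
  set B : Subgroup G := F.D.Q ⊓ F.Cx with hB
  have hB81 : Nat.card B = 81 := F.D.card_centQ F.x4_Q F.x4_nZc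
  let f : B →* F.piX.ker :=
    { toFun := fun b => ⟨⟨F.bx b.2.2, F.mem_Cza b.2.2 (F.D.Q_z _ b.2.1)⟩, F.piX_Q _ b.2.2 b.2.1 rfl⟩
      map_one' := rfl
      map_mul' := fun a b => rfl }
  have hf : Function.Surjective f := by
    rintro ⟨y, hy⟩
    obtain ⟨g, hg, hgQ, e⟩ := F.piX_ker hy
    exact ⟨⟨g, hgQ, hg⟩, Subtype.ext (Subtype.ext e.symm)⟩
  have h3 : Nat.card f.ker = 3 := by
    have hz3 : Nat.card (zpowers F.x4) = 3 := by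
      rw [Nat.card_zpowers, orderOf_eq_prime (p := 3) F.x4_cube (F.e_ne xmod_facts.2.2.2.2.2)]
    refine Eq.trans ?_ hz3
    refine Nat.card_congr ⟨fun b => ⟨b.1, ?_⟩,
      fun g => ⟨⟨g.1, (zpowers_le.2 F.x4_Q : zpowers F.x4 ≤ F.D.Q) g.2,
        (zpowers_le.2 (F.mem_Cx.2 rfl) : zpowers F.x4 ≤ F.Cx) g.2⟩, ?_⟩, fun b => rfl, fun g => rfl⟩
    · have h : F.bx b.1.2.2 = 1 :=
        congrArg (fun y : F.piX.ker => ((y : F.Cza) : F.Cx ⧸ F.Zx)) (MonoidHom.mem_ker.1 b.2)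
      exact mem_subgroupOf.1 ((QuotientGroup.eq_one_iff (N := F.Zx) (⟨b.1.1, b.1.2.2⟩ : F.Cx)).1 h)
    · exact MonoidHom.mem_ker.2 (Subtype.ext (Subtype.ext ((QuotientGroup.eq_one_iff _).2 g.2)))
  have h := card_eq_card_quotient_mul_card_subgroup f.ker
  rw [Nat.card_congr (QuotientGroup.quotientKerEquivOfSurjective f hf).toEquiv, h3, hB81] at h
  omega

theorem kerX_cent {y : F.Cza} (hy : F.piX y = 1) (hc : ∀ y' : F.Cza, F.piX y' = 1 → y * y' = y' * y) :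
    (y : F.Cx ⧸ F.Zx) ∈ zpowers F.za := by
  obtain ⟨g, hg, hgQ, e⟩ := F.piX_ker hy
  have hcomm : ∀ d ∈ F.D.Q, d ∈ F.Cx → g * d = d * g := by
    intro d hd hdx
    have h := congrArg Subtype.val (hc ⟨F.bx hdx, F.mem_Cza hdx (F.D.Q_z _ hd)⟩ (F.piX_Q _ hdx hd rfl))
    rw [Subgroup.coe_mul, Subgroup.coe_mul, e] at h
    have h1 := (F.bx_eq (mul_mem hdx hg) (mul_mem hg hdx)).1 h.symm
    have h2 : d * g * ((d * g)⁻¹ * (g * d)) * (d * g)⁻¹ = g * d * g⁻¹ * d⁻¹ := by group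
    have h3 : (d * g)⁻¹ * (g * d) ∈ F.D.Zc := by
      have := F.D.Q_comm g⁻¹ (inv_mem hgQ) d⁻¹ (inv_mem hd)
      rwa [show g⁻¹ * d⁻¹ * g⁻¹⁻¹ * d⁻¹⁻¹ = (d * g)⁻¹ * (g * d) by group] at this
    exact (inv_mul_eq_one.1 (F.zx_inf_Zc h1 h3)).symm
  obtain ⟨b, hb, c, hcQ, hbc⟩ := F.D.exists_decomp hgQ
  have hQ1x : ∀ d ∈ F.D.Q1, d ∈ F.Cx := fun d hd => F.mem_Cx.2 (F.D.Q1_comm_Q2 hd F.x4_Q2)
  have hbZ : b ∈ F.D.Zc := F.D.centre_Q1 hb fun d hd => by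
    have h := hcomm d (F.D.Q1_le hd) (hQ1x d hd)
    rw [hbc, mul_assoc, ← F.D.Q1_comm_Q2 hd hcQ, ← mul_assoc, ← mul_assoc] at h
    exact mul_right_cancel h
  have hcx : c * F.x4 = F.x4 * c := by
    have h := F.mem_Cx.1 (mul_mem (inv_mem (hQ1x b hb)) hg)
    rwa [hbc, inv_mul_cancel_left] at h
  obtain ⟨i, j, hij⟩ := F.Q2_cent_x hcQ hcx
  obtain ⟨n, hn⟩ := (isOfFinOrder_of_finite F.D.z).mem_powers_iff_mem_zpowers.2 hbZ
  have hgz : g = F.D.z ^ (n + i.val) * F.x4 ^ j.val := by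
    rw [hbc, hij, F.e_add, ← F.e_pow, ← F.e_pow, show F.e zv4 = F.D.z from F.e_z, pow_add,
      show F.D.z ^ n = b from hn, mul_assoc]
  rw [e]
  refine mem_zpowers_iff.2 ⟨((n + i.val : ℕ) : ℤ), ?_⟩
  rw [zpow_natCast, ← QuotientGroup.mk_pow]
  refine (F.bx_eq (pow_mem F.z_Cx _) hg).2 ?_
  rw [hgz, inv_mul_cancel_left]
  exact pow_mem (mem_zpowers _) _

theorem kerX_comm {y y' : F.Cza} (hy : F.piX y = 1) (hy' : F.piX y' = 1) :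
    ((y * y' * y⁻¹ * y'⁻¹ : F.Cza) : F.Cx ⧸ F.Zx) ∈ zpowers F.za := by
  obtain ⟨g, hg, hgQ, e⟩ := F.piX_ker hy
  obtain ⟨h, hh, hhQ, e'⟩ := F.piX_ker hy'
  obtain ⟨n, hn⟩ := mem_zpowers_iff.1 (F.D.Q_comm g hgQ h hhQ)
  refine mem_zpowers_iff.2 ⟨n, ?_⟩
  simp only [coe_mul, coe_inv, e, e']
  rw [← QuotientGroup.mk_zpow]
  exact congrArg QuotientGroup.mk (Subtype.ext (by simpa using hn))

theorem sigX {K : Subgroup (F.Cx ⧸ F.Zx)} (hK : (Nat.card K).Coprime 3)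
    (hn : ∀ j ∈ F.Jx, K.map (MulAut.conj j).toMonoidHom = K) : K = ⊥ := by
  classical
  set H : Subgroup F.Cx := K.comap (QuotientGroup.mk' F.Zx) with hH
  have hle : F.Zx ≤ H := fun p hp => by
    show QuotientGroup.mk' F.Zx p ∈ K
    rw [QuotientGroup.mk'_apply, (QuotientGroup.eq_one_iff p).2 hp]; exact one_mem _
  set f : H →* K := ((QuotientGroup.mk' F.Zx).comp H.subtype).codRestrict K (fun h => h.2) with hfd
  have hf : Function.Surjective f := fun k => by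
    obtain ⟨g, hg⟩ := QuotientGroup.mk'_surjective F.Zx k
    exact ⟨⟨g, show QuotientGroup.mk' F.Zx g ∈ K by rw [hg]; exact k.2⟩, Subtype.ext hg⟩
  have hker : ∀ h : H, h ∈ f.ker ↔ ((h : F.Cx) : G) ∈ zpowers F.x4 := fun h => by
    rw [MonoidHom.mem_ker, ← mem_subgroupOf, ← QuotientGroup.eq_one_iff, ← Subtype.coe_inj]; rfl
  have h3 : Nat.card f.ker = 3 := by
    have hz3 : Nat.card (zpowers F.x4) = 3 := by
      rw [Nat.card_zpowers, orderOf_eq_prime (p := 3) F.x4_cube (F.e_ne xmod_facts.2.2.2.2.2)]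
    refine Eq.trans ?_ hz3
    refine Nat.card_congr ⟨fun h => ⟨_, (hker h.1).1 h.2⟩,
      fun g => ⟨⟨⟨g.1, (zpowers_le.2 (F.mem_Cx.2 rfl) : zpowers F.x4 ≤ F.Cx) g.2⟩, hle (mem_subgroupOf.2 g.2)⟩,
        (hker _).2 g.2⟩, fun h => rfl, fun g => rfl⟩
  have hidx : f.ker.index = Nat.card K := by
    rw [index_ker, MonoidHom.range_eq_top.2 hf, card_top]
  obtain ⟨P, hP⟩ := exists_right_complement'_of_coprime (N := f.ker) (by
    rw [h3, hidx]; exact hK.symm)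
  have hPc : Nat.card P = Nat.card K := by
    rw [← hidx]; exact hP.symm.index_eq_card.symm
  set P' : Subgroup G := P.map (F.Cx.subtype.comp H.subtype) with hP'
  have hinj : Function.Injective (F.Cx.subtype.comp H.subtype) := F.Cx.subtype_injective.comp H.subtype_injective
  have hcard : (Nat.card P').Coprime 3 := by
    rw [hP', card_map_of_injective hinj, hPc]; exact hK
  -- the elements of the preimage of order prime to three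
  have key : ∀ h : H, (h : F.Cx) ^ Nat.card K = 1 → h ∈ P := by
    intro h hh
    obtain ⟨⟨c, p⟩, rfl⟩ := hP.2 h
    have hcx := (hker c).1 c.2
    obtain ⟨n, hn⟩ := mem_zpowers_iff.1 hcx
    have hcomm : Commute (c : H) (p : H) := Subtype.ext (Subtype.ext (by
      show (((c : H) : F.Cx) : G) * (((p : H) : F.Cx) : G) = (((p : H) : F.Cx) : G) * (((c : H) : F.Cx) : G)
      rw [← hn]
      exact ((show Commute (((p : H) : F.Cx) : G) F.x4 from F.mem_Cx.1 ((p : H) : F.Cx).2).zpow_right n).symm.eq))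
    have hp1 : (p : H) ^ Nat.card K = 1 := by
      rw [← hPc, ← Subgroup.coe_pow, pow_card_eq_one', Subgroup.coe_one]
    have hc1 : (c : H) ^ Nat.card K = 1 := by
      have h2 : ((c : H) * p) ^ Nat.card K = 1 := Subtype.ext (by simpa using hh)
      rwa [hcomm.mul_pow, hp1, mul_one] at h2
    have hc3 : (c : H) ^ 3 = 1 := by
      rw [← h3, ← Subgroup.coe_pow, pow_card_eq_one', Subgroup.coe_one]
    have h1 : (c : H) = 1 := by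
      rw [← orderOf_eq_one_iff]
      exact Nat.eq_one_of_dvd_coprimes hK (orderOf_dvd_of_pow_eq_one hc1) (orderOf_dvd_of_pow_eq_one hc3)
    show (c : H) * p ∈ P
    rw [h1, one_mul]; exact p.2
  have hJ : F.Jg ≤ normalizer (P' : Set G) := by
    intro a ha
    have hkey : ∀ a ∈ F.Jg, ∀ y ∈ P', a * y * a⁻¹ ∈ P' := by
      rintro a ha _ ⟨p, hp, rfl⟩
      set q : F.Cx := ⟨a, F.J_le_Cx ha⟩ * (p : F.Cx) * ⟨a, F.J_le_Cx ha⟩⁻¹ with hq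
      have hqH : q ∈ H := by
        show QuotientGroup.mk' F.Zx q ∈ K
        rw [← hn _ ((F.mem_Jx (F.J_le_Cx ha)).2 ha)]
        exact ⟨_, p.2, by rw [hq, map_mul, map_mul, map_inv]; rfl⟩
      refine ⟨⟨q, hqH⟩, key _ ?_, rfl⟩
      show q ^ Nat.card K = 1
      rw [hq, conj_pow, show ((p : F.Cx)) ^ Nat.card K = 1 by
        rw [← hPc]
        exact congrArg Subtype.val (congrArg Subtype.val (pow_card_eq_one' (x := (⟨p, hp⟩ : P)))), mul_one,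
        mul_inv_cancel]
    refine mem_normalizer_iff.2 fun y => ⟨hkey a ha y, fun hy => ?_⟩
    have := hkey a⁻¹ (inv_mem ha) _ hy
    rwa [show a⁻¹ * (a * y * a⁻¹) * a⁻¹⁻¹ = y by group] at this
  have h0 := F.sigJ hcard hJ
  rw [hP', map_eq_bot_iff_of_injective _ hinj] at h0
  rw [h0, card_bot] at hPc
  exact card_eq_one.1 hPc.symm

/-- The data of the centralizer of `x` modulo it. -/
noncomputable def xSetup : CfsgPSp43Real.Setup (F.Cx ⧸ F.Zx) where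
  a := F.za
  cube := by
    rw [← QuotientGroup.mk_pow]
    exact congrArg QuotientGroup.mk (Subtype.ext (show F.D.z ^ 3 = ((1 : F.Cx) : G) from F.D.z_cube))
  ne h := by
    rw [QuotientGroup.eq_one_iff, mem_subgroupOf] at h
    exact F.D.z_ne (F.zx_inf_Zc h (mem_zpowers _))
  π := F.piX
  surj := F.piX_surj
  kerCard := F.kerX_card
  kerExp y hy := by
    obtain ⟨g, hg, hgQ, e⟩ := F.piX_ker hy
    refine Subtype.ext ?_
    rw [coe_pow, e, ← QuotientGroup.mk_pow, show (⟨g, hg⟩ : F.Cx) ^ 3 = 1 from Subtype.ext (F.D.Q_exp g hgQ)]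
    rfl
  kerA := F.piX_Q _ F.z_Cx F.D.z_Q rfl
  kerCent _ hy h := F.kerX_cent hy h
  kerComm _ _ hy hy' := F.kerX_comm hy hy'
  J := F.Jx
  J_comm i hi j hj := by
    obtain ⟨c, hc, rfl⟩ := F.Jx_forms hi
    obtain ⟨d, hd, rfl⟩ := F.Jx_forms hj
    exact congrArg QuotientGroup.mk (Subtype.ext (F.e_comm c d))
  J_exp j hj := by
    obtain ⟨c, hc, rfl⟩ := F.Jx_forms hj
    rw [← QuotientGroup.mk_pow, show (⟨F.e c, hc⟩ : F.Cx) ^ 3 = 1 from Subtype.ext (F.e_cube c)]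
    rfl
  J_card := F.card_Jx
  J_le j hj := by
    obtain ⟨c, hc, rfl⟩ := F.Jx_forms hj
    exact F.mem_Cza hc (by rw [← F.e_z]; exact F.e_comm _ _)
  sig _ hK hn := F.sigX hK hn

/-- The normalizer of the elementary subgroup. -/
theorem norm_Jx {g : G} (hg : g ∈ F.Cx) : F.bx hg ∈ normalizer (F.Jx : Set (F.Cx ⧸ F.Zx)) ↔ g ∈ F.N := by
  rw [mem_normalizer_iff]
  constructor
  · intro h
    refine F.mem_N_of_norm fun a ha => ?_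
    exact (F.mem_Jx (mul_mem (mul_mem hg (F.J_le_Cx ha)) (inv_mem hg))).1 ((h _).1 ((F.mem_Jx (F.J_le_Cx ha)).2 ha))
  · intro h y
    obtain ⟨a, ha, rfl⟩ := F.bx_surj y
    rw [F.mem_Jx ha]
    exact ((h a).symm).trans (F.mem_Jx (mul_mem (mul_mem hg ha) (inv_mem hg))).symm

theorem Cx_act {g : G} (hg : g ∈ F.Cx) (hN : g ∈ F.N) :
    ∃ M ∈ stX, F.Act g M ∧ (F.Inner → M ∈ xFix.map Prod.fst) := by
  obtain ⟨M, hM, hA, hin⟩ := F.act_gam hN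
  have hfix : app M xv4 = xv4 := F.e_inj (by rw [← hA, F.mem_Cx.1 hg, mul_inv_cancel_right])
  have h := List.all_eq_true.1 stX_complete M hM
  simp only [decide_eq_true_eq] at h
  refine ⟨M, h hfix, hA, fun hi => ?_⟩
  have h' := List.all_eq_true.1 stX_complete_one M (hin hi)
  simp only [decide_eq_true_eq] at h'
  exact h' hfix

theorem lift_Cx {M : M4} (hfix : app M xv4 = xv4) {n : G} (hn : F.Lift n M) : n ∈ F.Cx :=
  F.mem_Cx.2 (by rw [F.lift_e hn, hfix])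

theorem lift_xFix {M : M4} (h : M ∈ xFix.map Prod.fst) : ∃ n, F.Lift n M ∧ n ∈ F.Cx := by
  obtain ⟨p, hp, rfl⟩ := List.mem_map.1 h
  have hc := List.all_eq_true.1 xFix_check p hp
  simp only [decide_eq_true_eq] at hc
  obtain ⟨c, hn⟩ := F.split (hc.1 ▸ F.act_word p.2)
  exact ⟨_, hn, F.lift_Cx hc.2 hn⟩

theorem lift_stX (hout : ¬ F.Inner) {M : M4} (h : M ∈ stX) : ∃ n, F.Lift n M ∧ n ∈ F.Cx := by
  rcases List.mem_append.1 h with h | h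
  · exact F.lift_xFix h
  · obtain ⟨p, hp, rfl⟩ := List.mem_map.1 h
    have hc := List.all_eq_true.1 xInv_check p hp
    simp only [decide_eq_true_eq] at hc
    unfold Inner at hout
    push Not at hout
    obtain ⟨o, ho, -, -⟩ := F.exists_o hout
    obtain ⟨c, hn⟩ := F.split (F.act_mul (hc.1 ▸ F.act_word p.2) (F.act_of ho p_facts.2.2.2.2.2.2.1))
    exact ⟨_, hn, F.lift_Cx hc.2 hn⟩

theorem card_le_norm {L : List M4} (hL : L.Nodup) (h : ∀ M ∈ L, ∃ n, F.Lift n M ∧ n ∈ F.Cx) :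
    27 * L.length ≤ Nat.card (normalizer (F.Jx : Set (F.Cx ⧸ F.Zx))) := by
  choose n hn hnx using fun i : Fin L.length => h (L.get i) (L.get_mem i)
  let f : Fin L.length × (ZMod 3 × ZMod 3 × ZMod 3) → normalizer (F.Jx : Set (F.Cx ⧸ F.Zx)) := fun p =>
    ⟨F.bx (g := F.e (rep4 p.2) * n p.1) (mul_mem (F.J_le_Cx (F.e_mem _)) (hnx p.1)),
      (F.norm_Jx _).2 (mul_mem (F.J_le_N (F.e_mem _)) (F.mem_N (hn p.1).1))⟩
  have hf : Function.Injective f := by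
    rintro ⟨i, r⟩ ⟨i', r'⟩ e
    obtain ⟨k, hk⟩ := F.mem_zx.1 ((F.bx_eq _ _).1 (congrArg Subtype.val e))
    rw [inv_mul_eq_iff_eq_mul, mul_assoc, F.lift_e (hn i)] at hk
    have hfix : app (L.get i) (k.val • xv4) = k.val • xv4 := F.e_inj (by
      rw [← (hn i).1 (k.val • xv4), F.x_pow,
        ((show Commute (n i) F.x4 from F.mem_Cx.1 (hnx i)).pow_right _).eq, mul_inv_cancel_right])
    rw [hfix, ← mul_assoc, ← F.e_add] at hk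
    obtain ⟨h1, h2, -⟩ := F.aff_unique (hn i') (hn i) hk
    obtain rfl := hL.get_inj_iff.1 h2
    obtain rfl := xmod_facts.2.1 r' r 0 k (by
      rw [show ((0 : Fin 3).val • xv4) = 0 from zero_smul _ _, add_zero]; exact h1)
    rfl
  have := Nat.card_le_card_of_injective f hf
  rw [Nat.card_prod, Nat.card_prod, Nat.card_prod, Nat.card_zmod, Nat.card_fin] at this
  omega

theorem norm_le_card {L : List M4} (h : ∀ g ∈ F.Cx, g ∈ F.N → ∃ M ∈ L, F.Act g M) :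
    Nat.card (normalizer (F.Jx : Set (F.Cx ⧸ F.Zx))) ≤ 27 * L.length := by
  classical
  let D : Type := Fin L.length × (ZMod 3 × ZMod 3 × ZMod 3)
  have hrep : ∀ y : normalizer (F.Jx : Set (F.Cx ⧸ F.Zx)), ∃ p : D, ∃ (g : G) (hg : g ∈ F.Cx) (n : G) (i : Fin 3),
      (y : F.Cx ⧸ F.Zx) = F.bx hg ∧ F.Lift n (L.get p.1) ∧ g = F.e (rep4 p.2 + i.val • xv4) * n := by
    rintro ⟨y, hy⟩
    obtain ⟨g, hg, rfl⟩ := F.bx_surj y
    have hN := (F.norm_Jx hg).1 hy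
    obtain ⟨M, hM, hA⟩ := h g hg hN
    obtain ⟨M', n, c, hn, e, hA'⟩ := F.exists_aff hN
    obtain rfl := F.act_unique hA hA'
    obtain ⟨k, hk⟩ := List.get_of_mem hM
    obtain ⟨r, i, rfl⟩ := xmod_facts.1 c
    exact ⟨(k, r), g, hg, n, i, rfl, hk.symm ▸ hn, e⟩
  choose p g hg n i hy hn he using hrep
  have hp : Function.Injective p := fun y y' e => by
    refine Subtype.ext ((hy y).trans (Eq.trans ((F.bx_eq (hg y) (hg y')).2 ?_) (hy y').symm))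
    have h1 : F.Lift (n y') (L.get (p y).1) := e.symm ▸ hn y'
    have hfix : ∀ m : ℕ, n y * F.x4 ^ m = F.x4 ^ m * n y := by
      intro m
      have h2 : F.e (rep4 (p y).2 + (i y).val • xv4) * n y ∈ F.Cx := he y ▸ hg y
      exact ((show Commute (n y) F.x4 from F.mem_Cx.1 (by
        have := mul_mem (inv_mem (F.J_le_Cx (F.e_mem (rep4 (p y).2 + (i y).val • xv4)))) h2
        rwa [inv_mul_cancel_left] at this)).pow_right m).eq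
    rw [he y, he y', e, F.lift_unique (hn y') (e ▸ hn y : F.Lift (n y) (L.get (p y').1))]
    have : ((F.e (rep4 (p y').2 + (i y).val • xv4) * n y)⁻¹ * (F.e (rep4 (p y').2 + (i y').val • xv4) * n y)) =
        (n y)⁻¹ * (F.x4 ^ (i y).val)⁻¹ * F.x4 ^ (i y').val * n y := by
      rw [F.e_add, F.e_add, F.x_pow, F.x_pow]; group
    rw [this, mul_assoc, ← hfix, mul_assoc, ← mul_assoc (F.x4 ^ (i y).val)⁻¹,
      show (n y)⁻¹ * ((F.x4 ^ (i y).val)⁻¹ * n y * F.x4 ^ (i y').val) =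
        ((n y)⁻¹ * (F.x4 ^ (i y).val) * n y)⁻¹ * F.x4 ^ (i y').val by group,
      mul_assoc (n y)⁻¹, ← hfix, inv_mul_cancel_left]
    exact mul_mem (inv_mem (pow_mem (mem_zpowers _) _)) (pow_mem (mem_zpowers _) _)
  have := Nat.card_le_card_of_injective p hp
  simp only [D, Nat.card_prod, Nat.card_zmod, Nat.card_fin] at this
  omega

theorem exists_xFrame : ∃ E : CfsgPSp43Real.Frame (F.Cx ⧸ F.Zx), E.D = F.xSetup ∧
    (F.Inner → E.k = 2) ∧ (¬ F.Inner → E.k = 3) := by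
  obtain ⟨E, hE⟩ := F.xSetup.exists_frame
  have hc := E.card_N
  have hN : Nat.card E.N = Nat.card (normalizer (F.Jx : Set (F.Cx ⧸ F.Zx))) := by
    show Nat.card (normalizer (E.D.J : Set (F.Cx ⧸ F.Zx))) = _
    rw [hE]; rfl
  rw [hN] at hc
  refine ⟨E, hE, fun hin => (inR_size E.k).1 ?_ ?_, fun hout => (inR_size E.k).2 ?_⟩
  · have := F.card_le_norm stX_len.2.2.2 fun M hM => F.lift_xFix hM
    rw [stX_len.1, hc] at this
    omega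
  · have := F.norm_le_card (L := xFix.map Prod.fst) fun g hg hN =>
      (F.Cx_act hg hN).elim fun M h => ⟨M, h.2.2 hin, h.2.1⟩
    rw [stX_len.1, hc] at this
    omega
  · have := F.card_le_norm stX_len.2.2.1 fun M hM => F.lift_stX hout hM
    rw [stX_len.2.1, hc] at this
    omega

end Frame

end CfsgLib.O8T
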