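import Cfsg.Agent.Lib.OEightPlusThree.XZero

/-!
The symmetries of the frame fix `x₀`.
-/

set_option autoImplicit false
set_option synthInstance.maxSize 4096
set_option maxRecDepth 8000

namespace CfsgLib.O8T

open Subgroup

universe u

theorem three_vec : app pT (0, 0, 1, 0) = (0, 0, 1, 0) ∧ comp (nM 0) pT = comp pT (nM 0) := by decide +kernel

variable {G : Type u} [Group G]

namespace Frame

variable [Finite G] (F : Frame G)

theorem exists_dR : ∃ n, F.Lift n pB :=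
  (F.split (sym_facts.1 ▸ F.act_word [2])).elim fun _ h => ⟨_, h⟩

/-- The triality of the frame. -/
noncomputable def dR : G := F.exists_dR.choose

theorem dR_lift : F.Lift F.dR pB := F.exists_dR.choose_spec

theorem exists_sR : ∃ n, F.Lift n sM :=
  (F.split (sym_facts.2.2.2.2.2.2.2.1 ▸ F.act_word [1, 3, 0, 0, 0])).elim fun _ h => ⟨_, h⟩

/-- The symmetry exchanging the reflections in pairs. -/
noncomputable def sR : G := F.exists_sR.choose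

theorem sR_lift : F.Lift F.sR sM := F.exists_sR.choose_spec

theorem sR_sq : F.sR * F.sR = 1 := F.lift_invol F.sR_lift sym_facts.2.2.2.2.2.2.2.2.1

/-- Conjugation of lifts. -/
theorem lift_conj_eq {p q n : G} {P Q M : M4} (hp : F.Lift p P) (hq : F.Lift q Q) (hn : F.Lift n M)
    (h : comp M P = comp Q M) : n * p * n⁻¹ = q :=
  mul_inv_eq_iff_eq_mul.2 (F.lift_unique (F.lift_mul hn hp) (h ▸ F.lift_mul hq hn))

/-- The triality fixes `x₀`. -/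
theorem x0_dR : F.dR * F.x0 * F.dR⁻¹ = F.x0 := by
  obtain ⟨-, hP, hT, hr, h0, h3, h2, -⟩ := sym_facts
  let k : G ≃* G := MulAut.conj F.dR
  have kT : k F.nT = F.nT := F.lift_conj_eq F.lift_nT F.lift_nT F.dR_lift hT
  have kn : ∀ i j, comp pB (nM i) = comp (nM j) pB → ∀ y, k (F.cR i y) = F.cR j (k y) := fun i j h y => by
    show F.dR * (F.nR i * y * (F.nR i)⁻¹) * F.dR⁻¹ = F.nR j * (F.dR * y * F.dR⁻¹) * (F.nR j)⁻¹
    rw [← F.lift_conj_eq (F.nR_lift i) (F.nR_lift j) F.dR_lift h]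
    group
  have hg : k F.xa ∈ F.Quat := F.Quat_lift F.dR_lift hP F.xa_Quat
  have hρ : k F.rho = F.rho := F.lift_conj_eq F.rho_lift F.rho_lift F.dR_lift hr
  have hgf : F.Triv (F.rho * k F.xa * F.rho⁻¹ * (k F.xa)⁻¹) := .inr (by
    have e : F.rho * F.xa * F.rho⁻¹ * F.xa⁻¹ = F.nT := by
      rw [F.xa_rho, (show Commute F.xa F.nT from F.xa_Quat.2.2.2).eq, mul_inv_cancel_right]
    have := congrArg k e
    rwa [map_mul, map_mul, map_mul, map_inv, map_inv, hρ, kT] at this)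
  obtain ⟨τ, hτ, hτa⟩ : ∃ τ, F.Triv τ ∧ k F.xa = τ * F.xa := by
    rcases F.xa_uniq hg hgf with h | h
    · refine absurd ?_ F.xa_not_triv
      rcases h with h | h
      · exact .inl (k.injective (h.trans (map_one k).symm))
      · exact .inr (k.injective (h.trans kT.symm))
    · exact ⟨_, h, (inv_mul_cancel_right _ _).symm⟩
  have hcτ : ∀ i, F.cR i τ = τ := fun i => by
    rcases hτ with rfl | rfl
    · exact map_one _
    · exact F.cR_nT i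
  show k F.x0 = F.x0
  simp only [x0, wp, xf, Matrix.cons_val_zero, Matrix.cons_val_one, Matrix.cons_val, map_mul, kT, kn 0 3 h0, kn 3 2 h3,
    kn 2 0 h2, hτa, hcτ]
  congr 1
  have hc : ∀ y, Commute y F.nT → Commute τ y := fun y hy => F.triv_comm hτ hy
  have ha : Commute F.xa F.nT := F.xa_Quat.2.2.2
  have hci : ∀ i, Commute τ (F.cR i F.xa) := fun i => hc _ (by
    simpa only [MulEquiv.coe_toMonoidHom, F.cR_nT] using ha.map (F.cR i).toMonoidHom)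
  have hm := F.Qk_comm (show (3 : Fin 4) ≠ 1 by decide) (F.xf_comp 3) (F.xf_comp 1)
  have hm2 := F.Qk_comm (show (2 : Fin 4) ≠ 1 by decide) (F.xf_comp 2) (F.xf_comp 1)
  simp only [xf, Matrix.cons_val_zero, Matrix.cons_val_one, Matrix.cons_val] at hm hm2
  calc τ * F.xa * (τ * F.cR 3 F.xa) * (τ * F.cR 2 F.xa) * (τ * F.cR 0 F.xa)
      = τ * (F.xa * τ) * F.cR 3 F.xa * τ * (F.cR 2 F.xa * τ) * F.cR 0 F.xa := by group
    _ = τ * τ * F.xa * F.cR 3 F.xa * (τ * τ) * F.cR 2 F.xa * F.cR 0 F.xa := by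
        rw [← (hc _ ha).eq, ← (hci 2).eq]; group
    _ = F.xa * (F.cR 3 F.xa * (F.cR 2 F.xa * F.cR 0 F.xa)) := by rw [F.eq_of_triv_sq hτ, one_mul, mul_one]; group
    _ = F.xa * (F.cR 0 F.xa * (F.cR 3 F.xa * F.cR 2 F.xa)) := by
        rw [hm.eq, ← mul_assoc (F.cR 3 F.xa), hm2.eq]; group
    _ = _ := by group

set_option maxHeartbeats 1000000 in
/-- The symmetry exchanging the reflections in pairs fixes `x₀`. -/
theorem x0_sR : F.sR * F.x0 * F.sR⁻¹ = F.x0 := by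
  obtain ⟨-, -, -, -, -, -, -, -, -, h0, h1, h2, h3, hx, h30, hn3, hnx⟩ := sym_facts
  set s := F.sR
  let k : G ≃* G := MulAut.conj s
  have kk : ∀ y, k (k y) = y := fun y => by
    show s * (s * y * s⁻¹) * s⁻¹ = y
    rw [show s * (s * y * s⁻¹) * s⁻¹ = s * s * y * (s * s)⁻¹ by group, F.sR_sq, one_mul, inv_one, mul_one]
  have kn0 : k (F.nR 0) = F.nT := F.lift_conj_eq (F.nR_lift 0) F.lift_nT F.sR_lift h0
  have kT : k F.nT = F.nR 0 := F.lift_conj_eq F.lift_nT (F.nR_lift 0) F.sR_lift h1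
  have kn2 : k (F.nR 2) = F.nR 3 := F.lift_conj_eq (F.nR_lift 2) (F.nR_lift 3) F.sR_lift h2
  have kn3 : k (F.nR 3) = F.nR 2 := F.lift_conj_eq (F.nR_lift 3) (F.nR_lift 2) F.sR_lift h3
  have hsx : k F.x4 = F.x4 := by
    show s * F.e xv4 * s⁻¹ = F.e xv4
    rw [F.sR_lift.1, hx]
  set c := F.e (0, 0, 1, 0) with hc
  have hc3 : k c = c⁻¹ := by
    show s * F.e (0, 0, 1, 0) * s⁻¹ = (F.e (0, 0, 1, 0))⁻¹
    rw [F.sR_lift.1, h30, F.e_neg]
  have hcn : Commute c (F.nR 0) := by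
    show F.e (0, 0, 1, 0) * F.nR 0 = F.nR 0 * F.e (0, 0, 1, 0)
    rw [F.lift_e (F.nR_lift 0), hn3]
  have hcT : Commute c F.nT := (F.nT_fix three_vec.1).symm
  have hcx : Commute c F.x4 := F.e_comm _ _
  have haT : Commute F.xa F.nT := F.xa_Quat.2.2.2
  have ha0 : F.cR 0 F.xa ∈ F.Qk 1 := F.cR_zero_mem F.xa_Quat
  -- the half as a commutator
  obtain ⟨b, hb, hbt⟩ : ∃ b ∈ F.Quat, F.Triv (b * (c * b⁻¹ * c⁻¹) * F.xa⁻¹) := by
    refine ⟨c * F.xa * c⁻¹, F.Quat_e F.xa_Quat three_vec.1, ?_⟩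
    have h := F.Quat_third three_vec.1 frame_facts.2.2.2.2.2.2.2.2.2.2.2.2 F.xa_Quat F.xa_sq
    rw [← hc] at h
    have e : c * F.xa * c⁻¹ * (c * (c * F.xa * c⁻¹)⁻¹ * c⁻¹) * F.xa⁻¹ =
        F.xa⁻¹ * (F.xa * (c * F.xa * c⁻¹) * (c * (c * F.xa * c⁻¹) * c⁻¹)⁻¹) * F.xa⁻¹ := by group
    rw [e, ← (F.triv_comm h haT.inv_left).eq, mul_assoc, ← mul_inv_rev, F.xa_sq, F.nT_inv]
    exact Triv.mul F h (.inr rfl)
  have hbT : Commute b F.nT := hb.2.2.2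
  have hb0 : F.cR 0 b ∈ F.Qk 1 := F.cR_zero_mem hb
  obtain ⟨β, hβ⟩ : ∃ β, β = b * (c * b⁻¹ * c⁻¹) := ⟨_, rfl⟩
  rw [← hβ] at hbt
  have hcQ : c * b⁻¹ * c⁻¹ ∈ F.Qk 0 := F.Qk_zero.symm ▸ F.Quat_e (inv_mem hb) three_vec.1
  have hb0' : b ∈ F.Qk 0 := F.Qk_zero.symm ▸ hb
  obtain ⟨e2, he2⟩ : ∃ e2, e2 = b * F.cR 0 b := ⟨_, rfl⟩
  obtain ⟨e1, he1⟩ : ∃ e1, e1 = F.xa * F.cR 0 F.xa := ⟨_, rfl⟩
  have hcr : ∀ y, F.cR 0 (c * y * c⁻¹) = c * F.cR 0 y * c⁻¹ := fun y => by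
    show F.nR 0 * (c * y * c⁻¹) * (F.nR 0)⁻¹ = c * (F.nR 0 * y * (F.nR 0)⁻¹) * c⁻¹
    rw [show F.nR 0 * (c * y * c⁻¹) * (F.nR 0)⁻¹ = F.nR 0 * c * y * (F.nR 0 * c)⁻¹ by group, ← hcn.eq]
    group
  -- the commutator of a pair of components
  have pair : ∀ g h : G, g ∈ F.Qk 0 → h ∈ F.Qk 1 → ∀ v : V4, app pT v = v →
      g * h * (F.e v * (g * h)⁻¹ * (F.e v)⁻¹) = g * (F.e v * g⁻¹ * (F.e v)⁻¹) * (h * (F.e v * h⁻¹ * (F.e v)⁻¹)) := by
    intro g h hg hh v hv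
    have h1 := F.Qk_comm (show (0 : Fin 4) ≠ 1 by decide) (F.Qk_conj (inv_mem hg) hv)
      (mul_mem hh (F.Qk_conj (inv_mem hh) hv))
    rw [show g * h * (F.e v * (g * h)⁻¹ * (F.e v)⁻¹) =
      g * ((h * (F.e v * h⁻¹ * (F.e v)⁻¹)) * (F.e v * g⁻¹ * (F.e v)⁻¹)) by group, ← h1.eq]
    group
  have he12 : e1 = e2 * (c * e2⁻¹ * c⁻¹) := by
    obtain ⟨τ, hτ, hτe⟩ : ∃ τ, F.Triv τ ∧ β = τ * F.xa := ⟨_, hbt, (inv_mul_cancel_right _ _).symm⟩
    have hβ0 : F.cR 0 β = τ * F.cR 0 F.xa := by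
      rw [hτe, map_mul]
      rcases hτ with rfl | rfl
      · rw [map_one]
      · rw [F.cR_nT]
    rw [he2, pair b _ hb0' hb0 _ three_vec.1, ← hc, ← map_inv, ← hcr, ← map_mul, ← hβ, hβ0, hτe, he1]
    rw [show τ * F.xa * (τ * F.cR 0 F.xa) = τ * (F.xa * τ) * F.cR 0 F.xa by group,
      ← (F.triv_comm hτ haT).eq, ← mul_assoc τ, F.eq_of_triv_sq hτ, one_mul]
  have hcomm0 : ∀ g ∈ F.Quat, Commute (F.nR 0) (g * F.cR 0 g) := fun g hg => by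
    refine mul_inv_eq_iff_eq_mul.1 ?_
    show F.cR 0 (g * F.cR 0 g) = g * F.cR 0 g
    rw [map_mul, F.cR_cR]
    exact (F.Qk_comm (show (0 : Fin 4) ≠ 1 by decide) (F.Qk_zero.symm ▸ hg) (F.cR_zero_mem hg)).eq.symm
  have hQ01 : ∀ g ∈ F.Quat, g * F.cR 0 g ∈ F.Q01 := fun g hg =>
    mul_mem (mem_sup_left (F.Qk_zero.symm ▸ hg)) (mem_sup_right (F.cR_zero_mem hg))
  have he1Q : e1 ∈ F.Q01 := he1 ▸ hQ01 _ F.xa_Quat
  have he2Q : e2 ∈ F.Q01 := he2 ▸ hQ01 _ hb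
  have hWT : ∀ g ∈ F.Q01, Commute g F.nT := fun g hg => F.W_nT (F.Q01_le_W hg)
  -- the image of the commutator
  have hsq : e1 * e1 = 1 := by
    rw [he1, show F.xa * F.cR 0 F.xa * (F.xa * F.cR 0 F.xa) = F.xa * (F.cR 0 F.xa * F.xa) * F.cR 0 F.xa by group,
      ← (F.Qk_comm (show (0 : Fin 4) ≠ 1 by decide) (F.Qk_zero.symm ▸ F.xa_Quat) ha0).eq, ← mul_assoc, F.xa_sq, mul_assoc,
      ← map_mul, F.xa_sq, F.cR_nT, F.nT_sq]
  have hu : k e2 ∈ F.Ux := by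
    refine F.cent_xt (F.mem_Cx.2 ?_) ?_
    · have h := (show Commute e2 F.x4 from F.mem_Cx.1 (F.Q01_Cx he2Q)).map k.toMonoidHom
      rwa [MulEquiv.coe_toMonoidHom, hsx] at h
    · have h := (he2 ▸ hcomm0 b hb : Commute (F.nR 0) e2).symm.map k.toMonoidHom
      rwa [MulEquiv.coe_toMonoidHom, kn0] at h
  obtain ⟨q, hq, n, hn, hqn⟩ := F.mem_Ux hu
  obtain ⟨hnN, hnx', hnT⟩ := F.mem_CNx.1 hn
  obtain ⟨w, hw⟩ := F.e_surj (show n * c⁻¹ * n⁻¹ ∈ F.Jg from (hnN _).2 (inv_mem (F.e_mem _)))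
  have hwT : app pT w = w := by
    obtain ⟨hh, -⟩ := F.aff_nT (c := w) F.lift_one (by
      rw [mul_one, hw]; exact (hnT.mul_left hcT.inv_left).mul_left hnT.inv_left)
    exact hh
  have hke : k e1 = q * (F.e w * q⁻¹ * (F.e w)⁻¹) * (F.e w * c) := by
    rw [he12, map_mul, map_mul, map_mul, map_inv, map_inv, hc3, hqn, hw]
    group
  obtain ⟨q', hq'def⟩ : ∃ q', q' = q * (F.e w * q⁻¹ * (F.e w)⁻¹) := ⟨_, rfl⟩
  have hw01 : ∀ g ∈ F.Q01, F.e w * g * (F.e w)⁻¹ ∈ F.Q01 := by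
    intro g hg
    have h : F.Q01 ≤ F.Q01.comap (MulAut.conj (F.e w)).toMonoidHom :=
      sup_le (fun a ha => mem_sup_left (F.Qk_conj ha hwT)) (fun a ha => mem_sup_right (F.Qk_conj ha hwT))
    exact h hg
  have hq' : q' ∈ F.Q01 := hq'def ▸ mul_mem hq (hw01 _ (inv_mem hq))
  rw [← hq'def] at hke
  have hj1 : w = -(0, 0, 1, 0) := by
    have h1 : q' * (F.e w * c) * (q' * (F.e w * c)) = 1 := by rw [← hke, ← map_mul, hsq, map_one]
    set j := F.e w * c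
    have hjN : j ∈ F.N := mul_mem (F.J_le_N (F.e_mem _)) (F.J_le_N (F.e_mem _))
    have hjJ : j ∈ F.Jg := mul_mem (F.e_mem _) (F.e_mem _)
    have hjW : j * q' * j⁻¹ ∈ F.W := F.W_norm hjN
      ((show Commute (F.e w) F.nT from (F.nT_fix hwT).symm).mul_left hcT) (F.Q01_le_W hq')
    have h2 : q' * (j * q' * j⁻¹) * (j * j) = 1 := by rw [← h1]; group
    have h3 : F.Triv (j * j) := by
      refine F.W_inf_N ?_ (mul_mem hjN hjN)
      rw [eq_inv_of_mul_eq_one_right h2]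
      exact inv_mem (mul_mem (F.Q01_le_W hq') hjW)
    have h4 : (j * j) * (j * j) = 1 := F.eq_of_triv_sq h3
    have h5 : j ^ 3 = 1 := F.adj.J_exp hjJ
    have h6 : j = 1 := by
      have : j ^ 4 = 1 := by rw [← h4, pow_succ, pow_succ, pow_two]; group
      rwa [pow_succ, h5, one_mul] at this
    refine F.e_inj ?_
    rw [F.e_neg]
    exact mul_eq_one_iff_eq_inv.1 h6
  rw [hj1, F.e_neg, ← hc, inv_mul_cancel, mul_one] at hke
  -- the components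
  obtain ⟨g, hg, h, hh, hgh⟩ := F.mem_Q01 hq
  have hgQ : g ∈ F.Quat := F.Qk_zero ▸ hg
  have hfix : F.cR 0 (q * n) = q * n := by
    rw [← hqn]
    refine mul_inv_eq_iff_eq_mul.2 ?_
    have h := ((hWT e2 he2Q).map k.toMonoidHom).symm
    rw [MulEquiv.coe_toMonoidHom, kT] at h
    exact h.eq
  have htriv : F.Triv (q⁻¹ * F.cR 0 q) := by
    refine F.W_inf_N (mul_mem (inv_mem (F.Q01_le_W hq)) (F.W_norm (F.nR_N 0) (F.nR_nT 0) (F.Q01_le_W hq))) ?_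
    rw [map_mul] at hfix
    rw [show q⁻¹ * F.cR 0 q = q⁻¹ * (F.cR 0 q * F.cR 0 n) * (F.cR 0 n)⁻¹ by group, hfix, inv_mul_cancel_left]
    exact mul_mem hnN (inv_mem (mul_mem (mul_mem (F.nR_N 0) hnN) (inv_mem (F.nR_N 0))))
  obtain ⟨τ, hτ, hhτ⟩ : ∃ τ, F.Triv τ ∧ h = τ * F.cR 0 g := by
    have hh0 : F.cR 0 h ∈ F.Qk 0 := by
      obtain ⟨h', hh', e⟩ := (F.Qk_lift (F.nR_lift 0) frame_facts.2.2.2.2.2.2.2.1).ge hh
      have e' : h = F.cR 0 h' := e.symm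
      rw [e', F.cR_cR]; exact hh'
    have hg1 := F.cR_zero_mem hgQ
    refine ⟨h * (F.cR 0 g)⁻¹, ?_, (inv_mul_cancel_right _ _).symm⟩
    have hfc : F.Comp ![g, h, 1, 1] := fun i => by fin_cases i; exacts [hg, hh, one_mem _, one_mem _]
    have hgc : F.Comp ![F.cR 0 h, F.cR 0 g, 1, 1] := fun i => by fin_cases i; exacts [hh0, hg1, one_mem _, one_mem _]
    have h' := F.indep' hfc hgc (by
      have e : F.cR 0 q = F.cR 0 h * F.cR 0 g := by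
        rw [hgh, map_mul]
        exact (F.Qk_comm (show (0 : Fin 4) ≠ 1 by decide) hh0 hg1).symm.eq
      have hh2 : F.Triv (F.cR 0 q * q⁻¹) := by
        rw [show F.cR 0 q * q⁻¹ = q * (q⁻¹ * F.cR 0 q) * q⁻¹ by group, ← (F.triv_comm htriv (hWT q hq)).eq,
          mul_inv_cancel_right]
        exact htriv
      have := Triv.inv F hh2
      rw [mul_inv_rev, inv_inv, e, hgh] at this
      simpa [wp] using this) 1
    exact h'
  obtain ⟨δ, hδ⟩ : ∃ δ, δ = g * (c⁻¹ * g⁻¹ * c) := ⟨_, rfl⟩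
  have hnegT : app pT (-(0, 0, 1, 0)) = -(0, 0, 1, 0) := by decide
  have hδQ : δ ∈ F.Quat := by
    rw [hδ]
    refine mul_mem hgQ ?_
    have := F.Quat_e (inv_mem hgQ) hnegT
    rwa [F.e_neg, ← hc, inv_inv] at this
  have hcri : ∀ y, F.cR 0 (c⁻¹ * y * c) = c⁻¹ * F.cR 0 y * c := fun y => by
    have := hcr (c⁻¹ * y * c)
    rw [show c * (c⁻¹ * y * c) * c⁻¹ = y by group] at this
    rw [this]; group
  have hkeδ : k e1 = δ * F.cR 0 δ := by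
    have e : q' = g * (c⁻¹ * g⁻¹ * c) * (h * (c⁻¹ * h⁻¹ * c)) := by
      have hp := pair g h hg hh _ hnegT
      rw [F.e_neg, ← hc, inv_inv] at hp
      rw [hq'def, hj1, F.e_neg, ← hc, inv_inv, hgh]
      exact hp
    rw [hke, e, ← hδ, hhτ]
    refine congrArg (δ * ·) ?_
    have hτc : Commute τ c := F.triv_comm hτ hcT
    have hτg : Commute τ (F.cR 0 g)⁻¹ := (F.triv_comm hτ (F.Qk_nT (F.cR_zero_mem hgQ))).inv_right
    have e2 : c⁻¹ * (τ * F.cR 0 g)⁻¹ * c = c⁻¹ * (F.cR 0 g)⁻¹ * c * τ⁻¹ := by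
      rw [mul_inv_rev, mul_assoc _ _ c, mul_assoc _ _ c, hτc.inv_left.eq]; group
    rw [e2, show τ * F.cR 0 g * (c⁻¹ * (F.cR 0 g)⁻¹ * c * τ⁻¹) = τ * (F.cR 0 g * (c⁻¹ * (F.cR 0 g)⁻¹ * c)) * τ⁻¹ by group,
      ← map_inv, ← hcri, ← map_mul, ← hδ, (F.triv_comm hτ (F.Qk_nT (F.cR_zero_mem hδQ))).eq, mul_inv_cancel_right]
  -- the image of `x₀`
  have hk0 : k F.x0 = δ * F.cR 0 δ * F.cR 2 (δ * F.cR 0 δ) := by
    rw [F.x0_halves, ← he1, map_mul, hkeδ]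
    refine congrArg (δ * F.cR 0 δ * ·) ?_
    show k (F.nR 3 * e1 * (F.nR 3)⁻¹) = F.nR 2 * (δ * F.cR 0 δ) * (F.nR 2)⁻¹
    rw [map_mul, map_mul, map_inv, kn3, hkeδ]
  have hk3 : F.cR 3 (k F.x0) = k F.x0 := by
    have h := (F.x0_nR 2).map k.toMonoidHom
    rw [MulEquiv.coe_toMonoidHom] at h
    refine mul_inv_eq_iff_eq_mul.2 ?_
    rw [← kn2]
    exact h.eq
  have hδρ : F.Triv (F.rho * δ * F.rho⁻¹ * δ⁻¹) := by
    have hρQ : F.rho * δ * F.rho⁻¹ ∈ F.Qk 0 := F.Qk_zero.symm ▸ F.rho_Quat hδQ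
    have e20 : F.cR 2 (F.cR 0 δ) = F.cR 3 (F.rho * δ * F.rho⁻¹) := by
      rw [← F.cR_rho, F.cR_swap 0 3, F.cR_cR, F.cR_swap 0 2]
    have hd : δ ∈ F.Qk 0 := F.Qk_zero.symm ▸ hδQ
    have hd1 := F.cR_zero_mem hδQ
    have hd2 := F.cR_three_mem (F.rho_Quat hδQ)
    have hd3 := F.cR_two_mem hδQ
    have he : k F.x0 = δ * F.cR 0 δ * F.cR 3 (F.rho * δ * F.rho⁻¹) * F.cR 2 δ := by
      rw [hk0, map_mul, e20, (F.Qk_comm (show (3 : Fin 4) ≠ 2 by decide) hd3 hd2).eq, ← mul_assoc]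
    have hfc : F.Comp ![δ, F.cR 0 δ, F.cR 3 (F.rho * δ * F.rho⁻¹), F.cR 2 δ] := fun i => by
      fin_cases i; exacts [hd, hd1, hd2, hd3]
    have h2 : F.cR 3 (F.cR 0 δ) ∈ F.Qk 3 := by
      have e : F.cR 3 (F.cR 0 δ) = F.cR 2 (F.rho * δ * F.rho⁻¹) := by
        rw [← F.cR_rho, F.cR_swap 3 2, F.cR_swap 0 2, F.cR_cR, F.cR_swap 3 0]
      exact e ▸ F.cR_two_mem (F.rho_Quat hδQ)
    have h3 : F.cR 3 (F.cR 2 δ) ∈ F.Qk 1 := by
      have e : F.cR 3 (F.cR 2 δ) = F.cR 0 (F.rho * δ * F.rho⁻¹) := by rw [← F.cR_rho, F.cR_cR]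
      exact e ▸ F.cR_zero_mem (F.rho_Quat hδQ)
    have hgc : F.Comp ![F.rho * δ * F.rho⁻¹, F.cR 3 (F.cR 2 δ), F.cR 3 δ, F.cR 3 (F.cR 0 δ)] := fun i => by
      fin_cases i; exacts [hρQ, h3, F.cR_three_mem hδQ, h2]
    have h := F.indep' hgc hfc (.inl ?_) 0
    · exact h
    rw [mul_inv_eq_one]
    show F.rho * δ * F.rho⁻¹ * F.cR 3 (F.cR 2 δ) * F.cR 3 δ * F.cR 3 (F.cR 0 δ) =
      δ * F.cR 0 δ * F.cR 3 (F.rho * δ * F.rho⁻¹) * F.cR 2 δ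
    rw [← he]
    conv_rhs => rw [← hk3, he, map_mul, map_mul, map_mul, F.cR_cR]
    exact ((F.wp_move hρQ h3 (F.cR_three_mem hδQ) h2).2.1).symm
  rcases F.xa_uniq hδQ hδρ with hd | hd
  · exfalso
    have h1 : k F.x0 = 1 := by
      rw [hk0]
      rcases hd with rfl | rfl
      · simp only [map_one, mul_one, one_mul]
      · simp only [F.cR_nT, map_mul, map_one, F.nT_sq, mul_one, one_mul]
    exact F.x0_ne (.inl (k.injective (h1.trans (map_one k).symm)))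
  · obtain ⟨τ', hτ', hδ'⟩ : ∃ τ', F.Triv τ' ∧ δ = τ' * F.xa := ⟨_, hd, (inv_mul_cancel_right _ _).symm⟩
    have hh' : δ * F.cR 0 δ = F.xa * F.cR 0 F.xa := by
      have hct : F.cR 0 τ' = τ' := by
        rcases hτ' with rfl | rfl
        · exact map_one _
        · exact F.cR_nT 0
      rw [hδ', map_mul, hct, show τ' * F.xa * (τ' * F.cR 0 F.xa) = τ' * (F.xa * τ') * F.cR 0 F.xa by group,
        ← (F.triv_comm hτ' haT).eq, ← mul_assoc τ', F.eq_of_triv_sq hτ', one_mul]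
    show k F.x0 = F.x0
    rw [hk0, hh']
    have hr := F.cR_xa
    have e30 : F.cR 2 (F.cR 0 F.xa) = F.cR 3 F.xa * F.nT := by
      rw [F.cR_swap 2 0]
      rw [F.cR_swap 0 3] at hr
      have := congrArg (F.cR 3) hr
      rwa [F.cR_cR, map_mul, F.cR_nT] at this
    rw [map_mul, e30]
    simp only [x0, wp, xf, Matrix.cons_val_zero, Matrix.cons_val_one, Matrix.cons_val]
    rw [← mul_assoc (F.cR 2 F.xa), (F.Qk_comm (show (3 : Fin 4) ≠ 2 by decide) (F.cR_two_mem F.xa_Quat)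
      (F.cR_three_mem F.xa_Quat)).eq]
    group

end Frame

end CfsgLib.O8T
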