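import Cfsg.Agent.Lib.OEightPlusThree.CentXT

/-!
The involution `x₀` fixed by the four reflections of the frame, and its symmetries.
-/

set_option autoImplicit false
set_option synthInstance.maxSize 4096
set_option maxRecDepth 8000

namespace CfsgLib.O8T

open Subgroup

universe u

/-- The four orthogonal vectors of the frame. -/
def vv : Fin 4 → V4 := ![(1, 1, 0, 0), (1, 2, 0, 0), (0, 0, 1, 1), (0, 0, 1, 2)]

/-- Their reflections. -/
def nM : Fin 4 → M4 := ![((0, 2, 0, 0), (2, 0, 0, 0), (0, 0, 1, 0), (0, 0, 0, 1)), pT,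
  ((1, 0, 0, 0), (0, 1, 0, 0), (0, 0, 0, 2), (0, 0, 2, 0)), ((1, 0, 0, 0), (0, 1, 0, 0), (0, 0, 0, 1), (0, 0, 1, 0))]

/-- Words for the reflections. -/
def nWord : Fin 4 → List (Fin 4) := ![[1, 0, 0, 0, 1, 1], [3], [3, 0, 2, 2, 0, 0, 0], [0, 1, 0, 1, 0, 1]]

/-- The product of the three reflections commuting with the second. -/
def rM : M4 := comp (nM 0) (comp (nM 3) (nM 2))

/-- The symmetry exchanging the frame in pairs. -/
def sM : M4 := ((2, 0, 0, 0), (0, 1, 0, 0), (0, 0, 2, 0), (0, 0, 0, 1))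

theorem frame_facts : (∀ i, pword (nWord i) = nM i) ∧ (∀ i, comp (nM i) (nM i) = idM) ∧
    (∀ i j, comp (nM i) (nM j) = comp (nM j) (nM i)) ∧ (∀ i, comp (nM i) pT = comp pT (nM i)) ∧
    PlaneFix rM ∧ comp rM pT = comp pT rM ∧ app rM (1, 1, 0, 0) = -(1, 1, 0, 0) ∧
    PlaneFix (comp (vM 1) (comp (nM 0) (vM 0))) ∧ PlaneFix (comp (vM 2) (comp (nM 3) (vM 0))) ∧
    PlaneFix (comp (vM 3) (comp (nM 2) (vM 0))) ∧ app pT (1, 1, 0, 0) = (1, 1, 0, 0) ∧ ¬ InPlane 0 (1, 1, 0, 0) ∧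
    ¬ InPlane 0 (0, 0, 1, 0) := by decide +kernel

theorem sym_facts : pword [2] = pB ∧ PlaneFix pB ∧ comp pB pT = comp pT pB ∧ comp pB rM = comp rM pB ∧
    comp pB (nM 0) = comp (nM 3) pB ∧ comp pB (nM 3) = comp (nM 2) pB ∧ comp pB (nM 2) = comp (nM 0) pB ∧
    pword [1, 3, 0, 0, 0] = sM ∧ comp sM sM = idM ∧ comp sM (nM 0) = comp pT sM ∧ comp sM pT = comp (nM 0) sM ∧
    comp sM (nM 2) = comp (nM 3) sM ∧ comp sM (nM 3) = comp (nM 2) sM ∧ app sM xv4 = xv4 ∧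
    app sM (0, 0, 1, 0) = -(0, 0, 1, 0) ∧ app (nM 0) (0, 0, 1, 0) = (0, 0, 1, 0) ∧
    app (nM 0) xv4 = xv4 := by decide +kernel

variable {G : Type u} [Group G]

namespace Frame

variable [Finite G] (F : Frame G)

theorem exists_nR (i : Fin 4) : ∃ n, F.Lift n (nM i) :=
  (F.split (frame_facts.1 i ▸ F.act_word (nWord i))).elim fun _ h => ⟨_, h⟩

/-- The reflections of the frame. -/
noncomputable def nR (i : Fin 4) : G := (F.exists_nR i).choose

theorem nR_lift (i : Fin 4) : F.Lift (F.nR i) (nM i) := (F.exists_nR i).choose_spec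

theorem nR_one : F.nR 1 = F.nT := F.lift_unique (F.nR_lift 1) F.lift_nT

theorem nR_sq (i : Fin 4) : F.nR i * F.nR i = 1 := F.lift_invol (F.nR_lift i) (frame_facts.2.1 i)

theorem nR_inv (i : Fin 4) : (F.nR i)⁻¹ = F.nR i := inv_eq_of_mul_eq_one_right (F.nR_sq i)

theorem nR_comm (i j : Fin 4) : Commute (F.nR i) (F.nR j) :=
  F.lift_comm (F.nR_lift i) (F.nR_lift j) (frame_facts.2.2.1 i j)

theorem nR_nT (i : Fin 4) : Commute (F.nR i) F.nT := F.lift_nT_comm (F.nR_lift i) (frame_facts.2.2.2.1 i)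

theorem nR_N (i : Fin 4) : F.nR i ∈ F.N := F.mem_N (F.nR_lift i).1

/-- The product of three reflections. -/
noncomputable def rho : G := F.nR 0 * (F.nR 3 * F.nR 2)

theorem rho_lift : F.Lift F.rho rM := F.lift_mul (F.nR_lift 0) (F.lift_mul (F.nR_lift 3) (F.nR_lift 2))

theorem rho_nT : Commute F.rho F.nT := F.lift_nT_comm F.rho_lift frame_facts.2.2.2.2.2.1

theorem Quat_sq {g : G} (hg : g ∈ F.Quat) : F.Triv g ∨ g * g = F.nT := F.Qk_sq (k := 0) (F.Qk_zero.symm ▸ hg)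

theorem Quat_e {g : G} (hg : g ∈ F.Quat) {v : V4} (hv : app pT v = v) : F.e v * g * (F.e v)⁻¹ ∈ F.Quat :=
  F.Quat_norm (by rw [← F.e_z]; exact F.e_comm _ _) (F.e_comm _ _) (F.nT_fix hv).symm hg

theorem Quat_fix_absurd {g : G} (hg : g ∈ F.Quat) (hg2 : g * g = F.nT) {v : V4} (hv : app pT v = v)
    (hn : ¬ InPlane 0 v) : ¬ F.Triv ((F.e v * g * (F.e v)⁻¹) * g⁻¹) := by
  intro h
  have hgT : Commute g F.nT := hg.2.2.2
  rcases F.Qk_fpf (k := 0) (F.Qk_zero.symm ▸ hg) hv hn (by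
    rcases h with h | h
    · exact .inl (mul_inv_eq_one.1 h)
    · exact .inr ((mul_inv_eq_iff_eq_mul.1 h).trans hgT.symm.eq)) with rfl | rfl
  · rw [one_mul] at hg2; exact F.nT_ne hg2.symm
  · rw [F.nT_sq] at hg2; exact F.nT_ne hg2.symm

/-- The three classes of the quaternion group. -/
theorem Quat_classes {v : V4} (hv : app pT v = v) (hn : ¬ InPlane 0 v) {a g : G} (ha : a ∈ F.Quat)
    (ha2 : a * a = F.nT) (hg : g ∈ F.Quat) :
    F.Triv g ∨ F.Triv (g * a⁻¹) ∨ F.Triv (g * (F.e v * a * (F.e v)⁻¹)⁻¹) ∨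
      F.Triv (g * (F.e v * (F.e v * a * (F.e v)⁻¹) * (F.e v)⁻¹)⁻¹) := by
  set c := F.e v
  have hcC : c ∈ F.D.Ct := F.D.mem_Ct.2 (by rw [← F.e_z]; exact F.e_comm _ _)
  obtain ⟨m, hm3, hm1, hmv⟩ := F.exists_m
  set m' := (F.D.ψ ⟨c, hcC⟩).1 with hm'
  have hfour : (app fromP v).2.2.2 ≠ 0 := by
    have := plane_move 0 v hv hn
    rwa [vM_facts.2.2, app_idM] at this
  have hm'eq : m' = m ^ (app fromP v).2.2.2.val := by
    rw [hm', show (⟨c, hcC⟩ : F.D.Ct) = ⟨F.el (app fromP v), F.adj.J_le_Ct (F.el_mem _)⟩ from rfl, F.el_ψ, hmv,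
      Prod.pow_fst]
  have hm'3 : m' * m' * m' = 1 ∧ m' ≠ 1 := by
    have hz : ∀ k : ZMod 3, k ≠ 0 → k.val = 1 ∨ k.val = 2 := by decide
    rcases hz _ hfour with e | e <;> rw [hm'eq, e]
    · rw [pow_one]; exact ⟨hm3, hm1⟩
    · refine ⟨?_, fun h => hm1 ?_⟩
      · rw [pow_two, show m * m * (m * m) * (m * m) = (m * m * m) * (m * m * m) by group, hm3, one_mul]
      · rwa [pow_two, show m * m = m⁻¹ from eq_inv_of_mul_eq_one_left hm3, inv_eq_one] at h
  have conj : ∀ b : F.Quat, F.qimg ⟨c * b * c⁻¹, F.Quat_e b.2 hv⟩ = m' * F.qimg b * m'⁻¹ := fun b => by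
    rw [hm', qimg, qimg, ← Prod.fst_inv, ← Prod.fst_mul, ← Prod.fst_mul, ← map_inv, ← map_mul, ← map_mul]
    rfl
  let A : F.Quat := ⟨a, ha⟩
  let B : F.Quat := ⟨c * a * c⁻¹, F.Quat_e ha hv⟩
  let C : F.Quat := ⟨c * (c * a * c⁻¹) * c⁻¹, F.Quat_e B.2 hv⟩
  have hC : F.qimg C = m' * m' * F.qimg A * (m' * m')⁻¹ := by
    rw [show F.qimg C = m' * F.qimg B * m'⁻¹ from conj B, show F.qimg B = m' * F.qimg A * m'⁻¹ from conj A]
    group
  have hA : F.qimg A * F.qimg A = -1 := by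
    rw [← F.qimg_mul, show A * A = ⟨F.nT, F.nT_Quat⟩ from Subtype.ext ha2, F.qimg_nT]
  have res : ∀ b : F.Quat, F.qimg ⟨g, hg⟩ = F.qimg b ∨ F.qimg ⟨g, hg⟩ = -F.qimg b →
      F.Triv (g * (b : G)⁻¹) := fun b h => by
    rcases h with h | h
    · exact .inl (mul_inv_eq_one.2 (congrArg Subtype.val (F.qimg_inj h)))
    · refine .inr (mul_inv_eq_iff_eq_mul.2 ?_)
      rw [← (show Commute (b : G) F.nT from b.2.2.2.2).eq]
      exact congrArg Subtype.val (F.qimg_inj (h.trans (F.qimg_neg b).symm))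
  rcases sl_classes.1 m' hm'3.1 hm'3.2 _ _ (F.qimg_qt A) (F.qimg_qt ⟨g, hg⟩) hA with h | h | h | h | h | h | h | h
  · left; have := res 1 (.inl (h.trans F.qimg_one.symm)); simpa using this
  · left
    have := res 1 (.inr (by rw [F.qimg_one]; exact h))
    simpa using this
  · exact .inr (.inl (res A (.inl h)))
  · exact .inr (.inl (res A (.inr h)))
  · exact .inr (.inr (.inl (res B (.inl (h.trans (conj A).symm)))))
  · exact .inr (.inr (.inl (res B (.inr (h.trans (congrArg Neg.neg (conj A).symm))))))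
  · exact .inr (.inr (.inr (res C (.inl (h.trans hC.symm)))))
  · exact .inr (.inr (.inr (res C (.inr (h.trans (congrArg Neg.neg hC.symm))))))

/-- Squares of translates. -/
theorem Quat_e_sq {a : G} (ha2 : a * a = F.nT) {v : V4} (hv : app pT v = v) :
    (F.e v * a * (F.e v)⁻¹) * (F.e v * a * (F.e v)⁻¹) = F.nT := by
  rw [show F.e v * a * (F.e v)⁻¹ * (F.e v * a * (F.e v)⁻¹) = F.e v * (a * a) * (F.e v)⁻¹ by group, ha2,
    ← (show Commute F.nT (F.e v) from F.nT_fix hv).eq, mul_inv_cancel_right]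

theorem triv_comm {g : G} (h : F.Triv g) {b : G} (hb : Commute b F.nT) : Commute g b := by
  rcases h with rfl | rfl
  · exact Commute.one_left b
  · exact hb.symm

/-- The product of two of the three classes lies in the third. -/
theorem Quat_third {v : V4} (hv : app pT v = v) (hn : ¬ InPlane 0 v) {a : G} (ha : a ∈ F.Quat)
    (ha2 : a * a = F.nT) :
    F.Triv (a * (F.e v * a * (F.e v)⁻¹) * (F.e v * (F.e v * a * (F.e v)⁻¹) * (F.e v)⁻¹)⁻¹) := by
  have hb := F.Quat_e ha hv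
  have hb2 := F.Quat_e_sq ha2 hv
  have hab := mul_mem ha hb
  have hfix := F.Quat_fix_absurd ha ha2 hv hn
  rcases F.Quat_classes hv hn ha ha2 hab with h | h | h | h
  · refine absurd ?_ hfix
    set b := F.e v * a * (F.e v)⁻¹
    have hbT : Commute b F.nT := hb.2.2.2
    have e : b * a⁻¹ = a⁻¹ * (a * b) * a⁻¹ := by group
    rw [e, ← (F.triv_comm h ((show Commute a F.nT from ha.2.2.2).inv_left)).eq, mul_assoc, ← mul_inv_rev, ha2, F.nT_inv]
    exact Triv.mul F h (.inr rfl)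
  · set b := F.e v * a * (F.e v)⁻¹
    rw [show a * b * a⁻¹ = a * b * a⁻¹ from rfl] at h
    rcases h with h | h
    · rw [mul_inv_eq_one, mul_eq_left] at h
      rw [h, one_mul] at hb2; exact absurd hb2.symm F.nT_ne
    · rw [mul_inv_eq_iff_eq_mul, ← (show Commute a F.nT from ha.2.2.2).eq, mul_right_inj] at h
      rw [h, F.nT_sq] at hb2; exact absurd hb2.symm F.nT_ne
  · set b := F.e v * a * (F.e v)⁻¹
    rw [mul_inv_cancel_right] at h
    rcases h with h | h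
    · rw [h, one_mul] at ha2; exact absurd ha2.symm F.nT_ne
    · rw [h, F.nT_sq] at ha2; exact absurd ha2.symm F.nT_ne
  · exact h

theorem rho_Quat {g : G} (hg : g ∈ F.Quat) : F.rho * g * F.rho⁻¹ ∈ F.Quat :=
  F.Quat_lift F.rho_lift frame_facts.2.2.2.2.1 hg

theorem rho_sq : F.rho * F.rho = 1 := F.lift_invol F.rho_lift (by decide +kernel)

theorem rho_e : F.rho * F.e (1, 1, 0, 0) = (F.e (1, 1, 0, 0))⁻¹ * F.rho := by
  rw [F.lift_e F.rho_lift, frame_facts.2.2.2.2.2.2.1, F.e_neg]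

theorem exists_xa : ∃ a ∈ F.Quat, a * a = F.nT ∧ F.rho * a * F.rho⁻¹ = a * F.nT ∧
    ∀ g ∈ F.Quat, F.Triv (F.rho * g * F.rho⁻¹ * g⁻¹) → F.Triv g ∨ F.Triv (g * a⁻¹) := by
  set c := F.e (1, 1, 0, 0)
  have hv := frame_facts.2.2.2.2.2.2.2.2.2.2.1
  have hn := frame_facts.2.2.2.2.2.2.2.2.2.2.2.1
  have hc3 : c * c * c = 1 := by rw [← pow_two, ← pow_succ]; exact F.e_cube _
  have hci : c⁻¹ = c * c := inv_eq_of_mul_eq_one_right (by rw [← mul_assoc]; exact hc3)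
  have hrT := F.rho_nT
  let f : G ≃* G := MulAut.conj F.rho
  let k : G ≃* G := MulAut.conj c
  have fk : ∀ y, f (k y) = k (k (f y)) := fun y => by
    show F.rho * (c * y * c⁻¹) * F.rho⁻¹ = c * (c * (F.rho * y * F.rho⁻¹) * c⁻¹) * c⁻¹
    rw [show F.rho * (c * y * c⁻¹) * F.rho⁻¹ = F.rho * c * y * (F.rho * c)⁻¹ by group, F.rho_e]
    calc c⁻¹ * F.rho * y * (c⁻¹ * F.rho)⁻¹ = c⁻¹ * (F.rho * y * F.rho⁻¹) * c⁻¹⁻¹ := by group
      _ = (c * c) * (F.rho * y * F.rho⁻¹) * (c * c)⁻¹ := by rw [hci]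
      _ = _ := by group
  have k3 : ∀ y, k (k (k y)) = y := fun y => by
    show c * (c * (c * y * c⁻¹) * c⁻¹) * c⁻¹ = y
    rw [show c * (c * (c * y * c⁻¹) * c⁻¹) * c⁻¹ = (c * c * c) * y * (c * c * c)⁻¹ by group, hc3]
    group
  have fT : ∀ y, F.Triv y → F.Triv (f y) := by
    rintro y (rfl | rfl)
    · exact .inl (map_one f)
    · exact .inr (show F.rho * F.nT * F.rho⁻¹ = F.nT by rw [hrT.eq, mul_inv_cancel_right])
  have kT : ∀ y, F.Triv y → F.Triv (k y) := by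
    rintro y (rfl | rfl)
    · exact .inl (map_one k)
    · exact .inr (show c * F.nT * c⁻¹ = F.nT by
        rw [← (show Commute F.nT c from F.nT_fix hv).eq, mul_inv_cancel_right])
  obtain ⟨b, hb, hb1, hb2⟩ : ∃ b ∈ F.Quat, ¬ F.Triv b ∧ b * b = F.nT := by
    obtain ⟨b, hb, e⟩ := F.exists_quP sl_rels.2.2.2.2.2.2.1
    have e' : F.qimg ⟨b, hb⟩ = mI := e
    refine ⟨b, hb, ?_, hb.sq (by rw [e]; exact sl_rels.1)⟩
    have h2 := hb.sq (by rw [e]; exact sl_rels.1)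
    rintro (rfl | rfl)
    · rw [one_mul] at h2; exact F.nT_ne h2.symm
    · rw [F.nT_sq] at h2; exact F.nT_ne h2.symm
  -- a class fixed by the reflection product
  obtain ⟨a, haQ, ha2, haf⟩ : ∃ a ∈ F.Quat, a * a = F.nT ∧ F.Triv (f a * a⁻¹) := by
    have hfb : f b ∈ F.Quat := F.rho_Quat hb
    rcases F.Quat_classes hv hn hb hb2 hfb with h | h | h | h
    · refine absurd ?_ hb1
      have h2 := fT _ h
      rwa [show f (f b) = b by
        show F.rho * (F.rho * b * F.rho⁻¹) * F.rho⁻¹ = b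
        rw [show F.rho * (F.rho * b * F.rho⁻¹) * F.rho⁻¹ = F.rho * F.rho * b * (F.rho * F.rho)⁻¹ by group, F.rho_sq,
          one_mul, inv_one, mul_one]] at h2
    · exact ⟨b, hb, hb2, h⟩
    · refine ⟨k (k b), F.Quat_e (F.Quat_e hb hv) hv, F.Quat_e_sq (F.Quat_e_sq hb2 hv) hv, ?_⟩
      have h' := kT _ h
      rw [map_mul, map_inv] at h'
      have e : f (k (k b)) = k (f b) := by rw [fk, fk, k3]
      rw [e]
      exact h'
    · refine ⟨k b, F.Quat_e hb hv, F.Quat_e_sq hb2 hv, ?_⟩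
      have h' := kT _ (kT _ h)
      rw [map_mul, map_inv, map_mul, map_inv] at h'
      rw [fk]
      rwa [show k (k (F.e (1, 1, 0, 0) * (F.e (1, 1, 0, 0) * b * (F.e (1, 1, 0, 0))⁻¹) * (F.e (1, 1, 0, 0))⁻¹)) = k b from
        k3 (k b)] at h'
  have haT : Commute a F.nT := haQ.2.2.2
  have hb' := F.Quat_e haQ hv
  have h3 : F.Triv (a * k a * (k (k a))⁻¹) := F.Quat_third hv hn haQ ha2
  -- it is inverted
  have hinv : f a = a * F.nT := by
    rcases haf with h | h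
    · exfalso
      have hfa : f a = a := mul_inv_eq_one.1 h
      have hfk : f (k a) = k (k a) := by rw [fk, hfa]
      have hfkk : f (k (k a)) = k a := by rw [fk, fk, k3, hfa]
      obtain ⟨τ, hτdef⟩ : ∃ τ, τ = a * k a * (k (k a))⁻¹ := ⟨_, rfl⟩
      rw [← hτdef] at h3
      have hfτ : f τ = τ := by
        rcases h3 with e | e <;> rw [e]
        · exact map_one f
        · show F.rho * F.nT * F.rho⁻¹ = F.nT; rw [hrT.eq, mul_inv_cancel_right]
      have e1 : a * k a = τ * k (k a) := by rw [hτdef, inv_mul_cancel_right]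
      have e2 : a * k (k a) = τ * k a := by
        have := congrArg f e1
        rwa [map_mul, map_mul, hfa, hfk, hfkk, hfτ] at this
      have hc : Commute τ a := F.triv_comm h3 haT
      have e3 : a * (a * k a) = τ * τ * k a := by
        rw [e1, ← mul_assoc, ← hc.eq, mul_assoc, e2, ← mul_assoc]
      rw [← mul_assoc, ha2, F.eq_of_triv_sq h3, one_mul, mul_eq_right] at e3
      exact F.nT_ne e3
    · exact (mul_inv_eq_iff_eq_mul.1 h).trans haT.symm.eq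
  refine ⟨a, haQ, ha2, hinv, fun g hg hgf => ?_⟩
  rcases F.Quat_classes hv hn haQ ha2 hg with h | h | h | h
  · exact .inl h
  · exact .inr h
  all_goals exfalso
  · -- the second class
    have hfg := fT _ h
    rw [map_mul, map_inv, show f (F.e (1, 1, 0, 0) * a * (F.e (1, 1, 0, 0))⁻¹) = k (k (f a)) from fk a, hinv] at hfg
    have key : F.Triv (k (k a) * (k a)⁻¹) := by
      have hkT : k (k (a * F.nT)) = k (k a) * F.nT := by
        rw [map_mul, map_mul]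
        congr 1
        have e : k F.nT = F.nT := by
          show c * F.nT * c⁻¹ = F.nT
          rw [← (show Commute F.nT c from F.nT_fix hv).eq, mul_inv_cancel_right]
        rw [e, e]
      rw [hkT, mul_inv_rev, F.nT_inv] at hfg
      have e : k (k a) * (k a)⁻¹ = (f g * (F.nT * (k (k a))⁻¹))⁻¹ * (f g * g⁻¹) * (g * (k a)⁻¹) * F.nT := by
        have hc1 : Commute F.nT (k (k a))⁻¹ := ((show Commute (k (k a)) F.nT from (F.Quat_e hb' hv).2.2.2).symm).inv_right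
        have hc2 : Commute (k (k a) * (k a)⁻¹) F.nT :=
          (show Commute (k (k a)) F.nT from (F.Quat_e hb' hv).2.2.2).mul_left
            (show Commute (k a) F.nT from hb'.2.2.2).inv_left
        rw [mul_inv_rev, mul_inv_rev, inv_inv, F.nT_inv,
          show k (k a) * F.nT * (f g)⁻¹ * (f g * g⁻¹) * (g * (k a)⁻¹) * F.nT = k (k a) * F.nT * (k a)⁻¹ * F.nT by group,
          mul_assoc (k (k a)) F.nT, (show Commute F.nT (k a)⁻¹ from (show Commute (k a) F.nT from hb'.2.2.2).symm.inv_right).eq,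
          ← mul_assoc, mul_assoc, F.nT_sq, mul_one]
      rw [e]
      exact Triv.mul F (Triv.mul F (Triv.mul F (Triv.inv F hfg) hgf) h) (.inr rfl)
    exact F.Quat_fix_absurd hb' (F.Quat_e_sq ha2 hv) hv hn key
  · -- the third class
    have hb'' := F.Quat_e hb' hv
    have hfg := fT _ h
    have e' : f (F.e (1, 1, 0, 0) * (F.e (1, 1, 0, 0) * a * (F.e (1, 1, 0, 0))⁻¹) * (F.e (1, 1, 0, 0))⁻¹) = k (f a) := by
      show f (k (k a)) = _
      rw [fk, fk, k3]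
    rw [map_mul, map_inv, e', hinv, map_mul, show k F.nT = F.nT by
      show c * F.nT * c⁻¹ = F.nT
      rw [← (show Commute F.nT c from F.nT_fix hv).eq, mul_inv_cancel_right]] at hfg
    have key : F.Triv (k (k a) * (k a)⁻¹) := by
      have e : k (k a) * (k a)⁻¹ = (g * (k (k a))⁻¹)⁻¹ * (f g * g⁻¹)⁻¹ * (f g * (k a * F.nT)⁻¹) * F.nT := by
        rw [(show Commute (k a) F.nT from hb'.2.2.2).eq]
        group
      rw [e]
      exact Triv.mul F (Triv.mul F (Triv.mul F (Triv.inv F h) (Triv.inv F hgf)) hfg) (.inr rfl)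
    exact F.Quat_fix_absurd hb' (F.Quat_e_sq ha2 hv) hv hn key

/-- The element of order four inverted by the reflection product. -/
noncomputable def xa : G := F.exists_xa.choose

theorem xa_Quat : F.xa ∈ F.Quat := F.exists_xa.choose_spec.1

theorem xa_sq : F.xa * F.xa = F.nT := F.exists_xa.choose_spec.2.1

theorem xa_rho : F.rho * F.xa * F.rho⁻¹ = F.xa * F.nT := F.exists_xa.choose_spec.2.2.1

theorem xa_uniq {g : G} (hg : g ∈ F.Quat) (h : F.Triv (F.rho * g * F.rho⁻¹ * g⁻¹)) :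
    F.Triv g ∨ F.Triv (g * F.xa⁻¹) := F.exists_xa.choose_spec.2.2.2 g hg h

theorem xa_not_triv : ¬ F.Triv F.xa := fun h => F.nT_ne (F.xa_sq.symm.trans (F.eq_of_triv_sq h))

/-- Conjugation by a reflection. -/
noncomputable abbrev cR (i : Fin 4) : G ≃* G := MulAut.conj (F.nR i)

theorem cR_apply (i : Fin 4) (g : G) : F.cR i g = F.nR i * g * F.nR i := by
  show F.nR i * g * (F.nR i)⁻¹ = _
  rw [F.nR_inv]

theorem cR_cR (i : Fin 4) (g : G) : F.cR i (F.cR i g) = g := by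
  rw [F.cR_apply, F.cR_apply, show F.nR i * (F.nR i * g * F.nR i) * F.nR i = F.nR i * F.nR i * g * (F.nR i * F.nR i) by group,
    F.nR_sq, one_mul, mul_one]

theorem cR_swap (i j : Fin 4) (g : G) : F.cR i (F.cR j g) = F.cR j (F.cR i g) := by
  rw [F.cR_apply, F.cR_apply, F.cR_apply, F.cR_apply,
    show F.nR i * (F.nR j * g * F.nR j) * F.nR i = F.nR i * F.nR j * g * (F.nR j * F.nR i) by group,
    show F.nR j * (F.nR i * g * F.nR i) * F.nR j = F.nR j * F.nR i * g * (F.nR i * F.nR j) by group,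
    (F.nR_comm i j).eq]

theorem cR_nT (i : Fin 4) : F.cR i F.nT = F.nT := by
  rw [F.cR_apply, (F.nR_nT i).eq, mul_assoc, F.nR_sq, mul_one]

theorem cR_rho (g : G) : F.cR 0 (F.cR 3 (F.cR 2 g)) = F.rho * g * F.rho⁻¹ := by
  rw [F.cR_apply, F.cR_apply, F.cR_apply, rho, mul_inv_rev, mul_inv_rev, F.nR_inv, F.nR_inv, F.nR_inv]
  group

theorem cR_xa : F.cR 0 (F.cR 3 (F.cR 2 F.xa)) = F.xa * F.nT := (F.cR_rho _).trans F.xa_rho

theorem cR_zero_mem {g : G} (hg : g ∈ F.Quat) : F.cR 0 g ∈ F.Qk 1 := by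
  rw [← F.Qk_lift (F.nR_lift 0) frame_facts.2.2.2.2.2.2.2.1, F.Qk_zero]; exact ⟨g, hg, rfl⟩

theorem cR_three_mem {g : G} (hg : g ∈ F.Quat) : F.cR 3 g ∈ F.Qk 2 := by
  rw [← F.Qk_lift (F.nR_lift 3) frame_facts.2.2.2.2.2.2.2.2.1, F.Qk_zero]; exact ⟨g, hg, rfl⟩

theorem cR_two_mem {g : G} (hg : g ∈ F.Quat) : F.cR 2 g ∈ F.Qk 3 := by
  rw [← F.Qk_lift (F.nR_lift 2) frame_facts.2.2.2.2.2.2.2.2.2.1, F.Qk_zero]; exact ⟨g, hg, rfl⟩

/-- The components of `x₀`. -/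
noncomputable def xf : Fin 4 → G := ![F.xa, F.cR 0 F.xa, F.cR 3 F.xa, F.cR 2 F.xa]

theorem xf_comp : F.Comp F.xf := fun k => by
  fin_cases k
  · show F.xa ∈ F.Qk 0
    rw [F.Qk_zero]; exact F.xa_Quat
  · exact F.cR_zero_mem F.xa_Quat
  · exact F.cR_three_mem F.xa_Quat
  · exact F.cR_two_mem F.xa_Quat

/-- The involution `x₀`. -/
noncomputable def x0 : G := wp F.xf * F.nT

theorem xf_sq (k : Fin 4) : F.xf k * F.xf k = F.nT := by
  fin_cases k <;> simp only [xf, Fin.zero_eta, Fin.mk_one, Fin.reduceFinMk, Matrix.cons_val_zero, Matrix.cons_val_one,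
    Matrix.cons_val]
  · exact F.xa_sq
  all_goals rw [← map_mul, F.xa_sq, F.cR_nT]

theorem x0_W : F.x0 ∈ F.W := mul_mem ⟨_, F.xf_comp, rfl⟩ F.nT_W

theorem x0_nT : Commute F.x0 F.nT := F.W_nT F.x0_W

theorem x0_sq : F.x0 * F.x0 = 1 := by
  have h : wp F.xf * wp F.xf = 1 := by
    rw [← F.wp_mul F.xf_comp F.xf_comp]
    simp only [wp, Pi.mul_apply, F.xf_sq]
    rw [F.nT_sq, one_mul, F.nT_sq]
  rw [x0, show wp F.xf * F.nT * (wp F.xf * F.nT) = wp F.xf * (F.nT * wp F.xf) * F.nT by group,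
    ← (F.W_nT ⟨_, F.xf_comp, rfl⟩).eq, ← mul_assoc, h, one_mul, F.nT_sq]

theorem x0_inv : F.x0⁻¹ = F.x0 := inv_eq_of_mul_eq_one_right F.x0_sq

theorem x0_ne : ¬ F.Triv F.x0 := fun h => by
  refine F.xa_not_triv (F.indep F.xf_comp ?_ 0)
  have := Triv.mul F h (.inr rfl : F.Triv F.nT)
  rwa [x0, mul_assoc, F.nT_sq, mul_one] at this

theorem wp_move {a b c d : G} (ha : a ∈ F.Qk 0) (hb : b ∈ F.Qk 1) (hc : c ∈ F.Qk 2) (hd : d ∈ F.Qk 3) :
    b * a * d * c = a * b * c * d ∧ c * d * a * b = a * b * c * d ∧ d * c * b * a = a * b * c * d := by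
  have ab := (F.Qk_comm (show (0 : Fin 4) ≠ 1 by decide) ha hb).eq
  have cd := (F.Qk_comm (show (2 : Fin 4) ≠ 3 by decide) hc hd).eq
  have h : Commute (a * b) (c * d) :=
    ((F.Qk_comm (show (0 : Fin 4) ≠ 2 by decide) ha hc).mul_right (F.Qk_comm (show (0 : Fin 4) ≠ 3 by decide) ha hd)).mul_left
      ((F.Qk_comm (show (1 : Fin 4) ≠ 2 by decide) hb hc).mul_right (F.Qk_comm (show (1 : Fin 4) ≠ 3 by decide) hb hd))
  refine ⟨?_, ?_, ?_⟩
  · rw [← ab, mul_assoc _ d, ← cd, ← mul_assoc]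
  · rw [mul_assoc (c * d) a, ← h.eq, ← mul_assoc]
  · rw [← cd, mul_assoc (c * d) b, ← ab, ← h.eq, ← mul_assoc]

theorem x0_cR (i : Fin 4) : F.cR i F.x0 = F.x0 := by
  have hr := F.cR_xa
  have e30 : F.cR 3 (F.cR 2 F.xa) = F.cR 0 F.xa * F.nT := by
    have := congrArg (F.cR 0) hr
    rwa [F.cR_cR, map_mul, F.cR_nT] at this
  have e02 : F.cR 0 (F.cR 2 F.xa) = F.cR 3 F.xa * F.nT := by
    rw [F.cR_swap] at hr
    have := congrArg (F.cR 3) hr
    rwa [F.cR_cR, map_mul, F.cR_nT] at this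
  have e03 : F.cR 0 (F.cR 3 F.xa) = F.cR 2 F.xa * F.nT := by
    rw [F.cR_swap 3 2, F.cR_swap 0 2] at hr
    have := congrArg (F.cR 2) hr
    rwa [F.cR_cR, map_mul, F.cR_nT] at this
  obtain ⟨m1, m2, m3⟩ := F.wp_move (F.xf_comp 0) (F.xf_comp 1) (F.xf_comp 2) (F.xf_comp 3)
  simp only [xf, Matrix.cons_val_zero, Matrix.cons_val_one, Matrix.cons_val] at m1 m2 m3
  have hT : ∀ y ∈ ([F.xa, F.cR 0 F.xa, F.cR 3 F.xa, F.cR 2 F.xa] : List G), Commute y F.nT := by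
    intro y hy
    have ha : Commute F.xa F.nT := F.xa_Quat.2.2.2
    simp only [List.mem_cons, List.not_mem_nil, or_false] at hy
    rcases hy with rfl | rfl | rfl | rfl
    · exact ha
    · simpa only [MulEquiv.coe_toMonoidHom, F.cR_nT] using ha.map (F.cR 0).toMonoidHom
    · simpa only [MulEquiv.coe_toMonoidHom, F.cR_nT] using ha.map (F.cR 3).toMonoidHom
    · simpa only [MulEquiv.coe_toMonoidHom, F.cR_nT] using ha.map (F.cR 2).toMonoidHom
  simp only [List.mem_cons, List.not_mem_nil, or_false, forall_eq_or_imp, forall_eq] at hT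
  obtain ⟨h0, h1, h2, h3⟩ := hT
  show F.cR i (wp F.xf * F.nT) = wp F.xf * F.nT
  simp only [wp, xf, Matrix.cons_val_zero, Matrix.cons_val_one, Matrix.cons_val, map_mul, F.cR_nT]
  fin_cases i
  · show F.cR 0 F.xa * F.cR 0 (F.cR 0 F.xa) * F.cR 0 (F.cR 3 F.xa) * F.cR 0 (F.cR 2 F.xa) * F.nT = _
    rw [F.cR_cR, e03, e02, ← m1]
    calc F.cR 0 F.xa * F.xa * (F.cR 2 F.xa * F.nT) * (F.cR 3 F.xa * F.nT) * F.nT
        = F.cR 0 F.xa * F.xa * F.cR 2 F.xa * (F.nT * F.cR 3 F.xa) * (F.nT * F.nT) := by group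
      _ = _ := by rw [← h2.eq, F.nT_sq, mul_one, ← mul_assoc]
  · show F.cR 1 F.xa * F.cR 1 (F.cR 0 F.xa) * F.cR 1 (F.cR 3 F.xa) * F.cR 1 (F.cR 2 F.xa) * F.nT = _
    have e : ∀ y, Commute y F.nT → F.cR 1 y = y := fun y hy => by
      rw [F.cR_apply, F.nR_one, ← hy.eq, mul_assoc, F.nT_sq, mul_one]
    rw [e _ h0, e _ h1, e _ h2, e _ h3]
  · show F.cR 2 F.xa * F.cR 2 (F.cR 0 F.xa) * F.cR 2 (F.cR 3 F.xa) * F.cR 2 (F.cR 2 F.xa) * F.nT = _
    rw [F.cR_cR, F.cR_swap 2 0, e02, F.cR_swap 2 3, e30, ← m3]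
    calc F.cR 2 F.xa * (F.cR 3 F.xa * F.nT) * (F.cR 0 F.xa * F.nT) * F.xa * F.nT
        = F.cR 2 F.xa * F.cR 3 F.xa * (F.nT * F.cR 0 F.xa) * (F.nT * F.xa) * F.nT := by group
      _ = _ := by
        rw [← h1.eq, ← h0.eq]
        calc F.cR 2 F.xa * F.cR 3 F.xa * (F.cR 0 F.xa * F.nT) * (F.xa * F.nT) * F.nT
            = F.cR 2 F.xa * F.cR 3 F.xa * F.cR 0 F.xa * (F.nT * F.xa) * (F.nT * F.nT) := by group
          _ = _ := by rw [← h0.eq, F.nT_sq, mul_one, ← mul_assoc]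
  · show F.cR 3 F.xa * F.cR 3 (F.cR 0 F.xa) * F.cR 3 (F.cR 3 F.xa) * F.cR 3 (F.cR 2 F.xa) * F.nT = _
    rw [F.cR_cR, F.cR_swap 3 0, e03, e30, ← m2]
    calc F.cR 3 F.xa * (F.cR 2 F.xa * F.nT) * F.xa * (F.cR 0 F.xa * F.nT) * F.nT
        = F.cR 3 F.xa * F.cR 2 F.xa * (F.nT * F.xa) * F.cR 0 F.xa * (F.nT * F.nT) := by group
      _ = F.cR 3 F.xa * F.cR 2 F.xa * F.xa * (F.nT * F.cR 0 F.xa) := by rw [← h0.eq, F.nT_sq, mul_one]; group
      _ = _ := by rw [← h1.eq, ← mul_assoc]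

theorem x0_nR (i : Fin 4) : Commute (F.nR i) F.x0 := mul_inv_eq_iff_eq_mul.1 (F.x0_cR i)

theorem x0_halves : F.x0 = F.xa * F.cR 0 F.xa * (F.cR 3 (F.xa * F.cR 0 F.xa)) := by
  have hr := F.cR_xa
  have e : F.cR 3 (F.cR 0 F.xa) = F.cR 2 F.xa * F.nT := by
    rw [F.cR_swap 3 2, F.cR_swap 0 2, F.cR_swap 0 3] at hr
    have := congrArg (F.cR 2) hr
    rwa [F.cR_cR, map_mul, F.cR_nT] at this
  rw [map_mul, e]
  simp only [x0, wp, xf, Matrix.cons_val_zero, Matrix.cons_val_one, Matrix.cons_val]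
  group

end Frame

end CfsgLib.O8T
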